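import Mathlib

/-!
# Kernel-checkable certificates for coset enumeration (upper bounds for indices)

A certificate is a tree of *names* (words in involutory generators, each name being its parent
followed by one more letter), together with a log of relator traces.  Each log entry traces a
relator (or a subgroup generator, from the root) through the tree and concludes that two names
represent the same coset; the larger name is then *linked* to the smaller one.  At the end every
unlinked name must have all its neighbours, and the unlinked names are listed in a table of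
length `n`.  Soundness: the subgroup has index at most `n`.

The functions are written with explicit recursors and `cond` so that kernel evaluation is cheap.
-/

set_option autoImplicit false

namespace Cfsg.Agent.Lib.Helper98.CosetCert

/-- certificate data; all tables are functions on naturals (implemented by shifts of literals) -/
structure Cert where
  k : ℕ
  M : ℕ
  n : ℕ
  par : ℕ → ℕ
  lab : ℕ → ℕ
  cb : ℕ → ℕ
  link : ℕ → ℕ
  idx : ℕ → ℕ
  rep : ℕ → ℕ
  rwords : List (List (List ℕ))
  swords : List (List ℕ)
  nrw : ℕ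
  nlog : ℕ
  logw : ℕ → ℕ
  logc : ℕ → ℕ
  logb : ℕ → ℕ

/-- binary trees of chunk literals, used to implement the lookup tables without creating large
intermediate numbers during kernel evaluation -/
inductive BT where
  | leaf : ℕ → BT
  | node : BT → BT → BT

/-- lookup in a tree of depth `d` whose leaves hold `cm + 1 = 2 ^ (sh + 1)` entries of `bits` bits
each -/
noncomputable def BT.get (bits msk cm sh : ℕ) (t : BT) (d v : ℕ) : ℕ :=
  BT.rec (motive := fun _ => ℕ → ℕ)
    (fun c _ => Nat.land (Nat.shiftRight c (Nat.mul bits (Nat.land v cm))) msk)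
    (fun _ _ ihl ihr d =>
      cond (Nat.beq (Nat.land (Nat.shiftRight v (Nat.add d sh)) 1) 1) (ihr (Nat.pred d)) (ihl (Nat.pred d)))
    t d

/-- bit test with few reductions -/
def tb (mask u : ℕ) : Bool := Nat.beq (Nat.land (Nat.shiftRight mask u) 1) 1

theorem tb_eq_testBit (mask u : ℕ) : tb mask u = mask.testBit u := by
  unfold tb Nat.testBit
  show Nat.beq ((mask >>> u) &&& 1) 1 = (1 &&& mask >>> u != 0)
  rw [Nat.and_comm 1, Nat.and_one_is_mod]
  rcases Nat.mod_two_eq_zero_or_one (mask >>> u) with h | h <;> rw [h] <;> rfl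

theorem tb_set (mask b j : ℕ) :
    tb (Nat.lor mask (Nat.shiftLeft 1 b)) j = (tb mask j || decide (b = j)) := by
  rw [tb_eq_testBit, tb_eq_testBit]
  show (mask ||| (1 <<< b)).testBit j = _
  rw [Nat.testBit_or, Nat.one_shiftLeft, Nat.testBit_two_pow]

theorem tb_zero (j : ℕ) : tb 0 j = false := by
  rw [tb_eq_testBit]; simp

/-- follow links while the linked bit is set -/
def find (link : ℕ → ℕ) (mask : ℕ) (fuel u : ℕ) : ℕ :=
  Nat.rec (motive := fun _ => ℕ → ℕ) (fun u => u)
    (fun _ ih u => cond (tb mask u) (ih (link u)) u) fuel u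

theorem find_zero (link : ℕ → ℕ) (mask u : ℕ) : find link mask 0 u = u := rfl

theorem find_succ (link : ℕ → ℕ) (mask fuel u : ℕ) :
    find link mask (fuel + 1) u = cond (tb mask u) (find link mask fuel (link u)) u := rfl

/-- the step down from `u'` along `x` -/
def downAt (C : Cert) (u' x : ℕ) : Option ℕ :=
  cond (Nat.blt 0 (C.cb u'))
    (cond (Nat.blt (Nat.add (C.cb u') x) C.M)
      (cond (Nat.beq (C.par (Nat.add (C.cb u') x)) u')
        (cond (Nat.beq (C.lab (Nat.add (C.cb u') x)) x)
          (cond (Nat.blt u' (Nat.add (C.cb u') x)) (some (Nat.add (C.cb u') x)) none) none) none) none) none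

/-- one step from the name `u'` along the letter `x` -/
def stepAt (C : Cert) (u' x : ℕ) : Option ℕ :=
  cond (Nat.blt 0 u')
    (cond (Nat.beq (C.lab u') x)
      (cond (Nat.blt (C.par u') u') (some (C.par u')) none)
      (downAt C u' x))
    (downAt C u' x)

def step (C : Cert) (mask : ℕ) (u x : ℕ) : Option ℕ :=
  stepAt C (find C.link mask 64 u) x

def trace (C : Cert) (mask : ℕ) (w : List ℕ) (u : ℕ) : Option ℕ :=
  List.rec (motive := fun _ => ℕ → Option ℕ) (fun u => some u)
    (fun x _ ih u => Option.rec none (fun v => ih v) (step C mask u x)) w u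

theorem trace_nil (C : Cert) (mask u : ℕ) : trace C mask [] u = some u := rfl

theorem trace_cons (C : Cert) (mask x : ℕ) (w : List ℕ) (u : ℕ) :
    trace C mask (x :: w) u =
      Option.rec none (fun v => trace C mask w v) (step C mask u x) := rfl

/-- the word with index `wi`: relator words first (in chunks of 16), then subgroup words -/
def word (C : Cert) (wi : ℕ) : List ℕ :=
  cond (Nat.blt wi C.nrw) ((C.rwords.getD (Nat.div wi 16) []).getD (Nat.mod wi 16) [])
    (C.swords.getD (Nat.sub wi C.nrw) [])

def mergeOK (C : Cert) (mask : ℕ) (c e b : ℕ) : Bool :=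
  (Nat.beq (find C.link mask 64 c) (C.link b) && Nat.beq (find C.link mask 64 e) b) ||
  (Nat.beq (find C.link mask 64 c) b && Nat.beq (find C.link mask 64 e) (C.link b))

/-- one log entry -/
def runStep (C : Cert) (i mask : ℕ) (ih : ℕ → Option ℕ) : Option ℕ :=
  cond (Nat.blt (C.logw i) C.nrw || Nat.beq (C.logc i) 0)
    (Option.rec none
      (fun e => cond (mergeOK C mask (C.logc i) e (C.logb i))
        (ih (Nat.lor mask (Nat.shiftLeft 1 (C.logb i)))) none)
      (trace C mask (word C (C.logw i)) (C.logc i)))
    none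

/-- process the `fuel` log entries before position `stop` -/
def run (C : Cert) (stop fuel mask : ℕ) : Option ℕ :=
  Nat.rec (motive := fun _ => ℕ → Option ℕ) (fun mask => some mask)
    (fun fuel ih mask => runStep C (Nat.sub stop (Nat.succ fuel)) mask ih) fuel mask

theorem run_zero (C : Cert) (stop mask : ℕ) : run C stop 0 mask = some mask := rfl

theorem run_succ (C : Cert) (stop fuel mask : ℕ) :
    run C stop (fuel + 1) mask = runStep C (Nat.sub stop (Nat.succ fuel)) mask (run C stop fuel) := rfl

/-- one verified segment of the log -/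
def Steps (C : Cert) (mask mask' : ℕ) : Prop := ∃ stop fuel, run C stop fuel mask = some mask'

/-- boolean form of a segment check -/
def runOK (C : Cert) (stop fuel mask mask' : ℕ) : Bool :=
  Option.rec false (fun m => Nat.beq m mask') (run C stop fuel mask)

theorem steps_of_runOK {C : Cert} {stop fuel mask mask' : ℕ}
    (h : runOK C stop fuel mask mask' = true) : Steps C mask mask' := by
  unfold runOK at h
  cases hm : run C stop fuel mask with
  | none => rw [hm] at h; exact absurd h (by simp)
  | some m =>
    rw [hm] at h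
    exact ⟨stop, fuel, by rw [hm, Nat.eq_of_beq_eq_true h]⟩

def finalCheck (C : Cert) (mask : ℕ) : Bool :=
  Nat.blt 0 C.M && !tb mask 0 &&
  (List.range C.M).all fun u =>
    cond (tb mask u) (Nat.blt (C.link u) u)
      (Nat.blt (C.idx u) C.n && Nat.beq (C.rep (C.idx u)) u &&
      (List.range C.k).all fun x => (stepAt C u x).isSome)

def wordsOK (C : Cert) : Bool :=
  C.rwords.all (fun ch => ch.all fun w => w.all fun x => Nat.blt x C.k) &&
  C.swords.all (fun w => w.all fun x => Nat.blt x C.k)

def check (C : Cert) : Bool :=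
  wordsOK C &&
  Option.rec false (fun mask => finalCheck C mask) (run C C.nlog C.nlog 0)

/-! ### Soundness -/

section sound

variable {G : Type*} [Group G] (H : Subgroup G) (gen : ℕ → G) (C : Cert)

/-- action of a word (letters applied in list order) on a coset -/
def actW (w : List ℕ) (q : G ⧸ H) : G ⧸ H := w.foldl (fun q x => gen x • q) q

theorem actW_nil (q : G ⧸ H) : actW H gen [] q = q := rfl

theorem actW_cons (x : ℕ) (w : List ℕ) (q : G ⧸ H) :
    actW H gen (x :: w) q = actW H gen w (gen x • q) := rfl

theorem actW_eq (w : List ℕ) (q : G ⧸ H) : actW H gen w q = (w.reverse.map gen).prod • q := by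
  induction w generalizing q with
  | nil => simp [actW]
  | cons x w ih =>
    rw [actW_cons, ih]
    simp [mul_smul]

/-- the coset of a name -/
noncomputable def f (v : ℕ) : G ⧸ H :=
  if h : 0 < v ∧ C.par v < v then gen (C.lab v) • f (C.par v) else ((1 : G) : G ⧸ H)
termination_by v
decreasing_by exact h.2

theorem f_zero : f H gen C 0 = ((1 : G) : G ⧸ H) := by
  rw [f]; simp

theorem f_succ (v : ℕ) (h0 : 0 < v) (h1 : C.par v < v) :
    f H gen C v = gen (C.lab v) • f H gen C (C.par v) := by
  rw [f]; simp [h0, h1]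

/-- the invariant of the linked bits -/
def Inv (mask : ℕ) : Prop := ∀ b, tb mask b = true → f H gen C (C.link b) = f H gen C b

theorem find_f {mask : ℕ} (hI : Inv H gen C mask) (fuel u : ℕ) :
    f H gen C (find C.link mask fuel u) = f H gen C u := by
  induction fuel generalizing u with
  | zero => rfl
  | succ fuel ih =>
    rw [find_succ]
    cases h : tb mask u
    · rfl
    · show f H gen C (find C.link mask fuel (C.link u)) = _
      rw [ih, hI u h]

theorem downAt_spec {u x v : ℕ} (h : downAt C u x = some v) :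
    v = C.cb u + x ∧ 0 < C.cb u ∧ v < C.M ∧ C.par v = u ∧ C.lab v = x ∧ u < v := by
  unfold downAt at h
  cases h1 : Nat.blt 0 (C.cb u) <;> rw [h1] at h
  · exact absurd h (by simp)
  cases h2 : Nat.blt (Nat.add (C.cb u) x) C.M <;> rw [h2] at h
  · exact absurd h (by simp)
  cases h3 : Nat.beq (C.par (Nat.add (C.cb u) x)) u <;> rw [h3] at h
  · exact absurd h (by simp)
  cases h4 : Nat.beq (C.lab (Nat.add (C.cb u) x)) x <;> rw [h4] at h
  · exact absurd h (by simp)
  cases h5 : Nat.blt u (Nat.add (C.cb u) x) <;> rw [h5] at h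
  · exact absurd h (by simp)
  have hv : Nat.add (C.cb u) x = v := by
    simp only [cond_true] at h
    injection h
  have hv' : v = C.cb u + x := hv.symm
  rw [hv] at h2 h3 h4 h5
  exact ⟨hv', by simpa using h1, by simpa using h2, Nat.eq_of_beq_eq_true h3,
    Nat.eq_of_beq_eq_true h4, by simpa using h5⟩

theorem stepAt_spec {u x v : ℕ} (h : stepAt C u x = some v) :
    (0 < u ∧ C.lab u = x ∧ C.par u < u ∧ v = C.par u) ∨ downAt C u x = some v := by
  unfold stepAt at h
  cases h1 : Nat.blt 0 u <;> rw [h1] at h
  · exact Or.inr h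
  cases h2 : Nat.beq (C.lab u) x <;> rw [h2] at h
  · exact Or.inr h
  cases h3 : Nat.blt (C.par u) u <;> rw [h3] at h
  · exact absurd h (by simp)
  left
  simp only [cond_true] at h
  injection h with h
  exact ⟨by simpa using h1, Nat.eq_of_beq_eq_true h2, by simpa using h3, h.symm⟩

theorem stepAt_lt {u x v : ℕ} (hu : u < C.M) (h : stepAt C u x = some v) : v < C.M := by
  rcases stepAt_spec C h with ⟨_, _, h3, h4⟩ | h
  · omega
  · exact (downAt_spec C h).2.2.1

variable (hinv : ∀ x < C.k, gen x * gen x = 1)
include hinv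

theorem stepAt_f {u x v : ℕ} (hx : x < C.k) (h : stepAt C u x = some v) :
    f H gen C v = gen x • f H gen C u := by
  rcases stepAt_spec C h with ⟨h0, hl, hp, hv⟩ | h
  · rw [hv, f_succ H gen C u h0 hp, hl, ← mul_smul, hinv x hx, one_smul]
  · obtain ⟨_, h0, _, hp, hl, hlt⟩ := downAt_spec C h
    rw [f_succ H gen C v (by omega) (by rw [hp]; exact hlt), hp, hl]

theorem step_f {mask : ℕ} (hI : Inv H gen C mask) {u x v : ℕ} (hx : x < C.k)
    (h : step C mask u x = some v) : f H gen C v = gen x • f H gen C u := by
  unfold step at h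
  rw [stepAt_f H gen C hinv hx h, find_f H gen C hI]

theorem trace_f {mask : ℕ} (hI : Inv H gen C mask) (w : List ℕ) (hw : ∀ x ∈ w, x < C.k)
    {u e : ℕ} (h : trace C mask w u = some e) : f H gen C e = actW H gen w (f H gen C u) := by
  induction w generalizing u with
  | nil =>
    rw [trace_nil] at h
    injection h with h
    rw [← h]; rfl
  | cons x w ih =>
    rw [trace_cons] at h
    cases hs : step C mask u x with
    | none => rw [hs] at h; exact absurd h (by simp)
    | some v =>
      rw [hs] at h
      rw [actW_cons, ← step_f H gen C hinv hI (hw x (by simp)) hs]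
      exact ih (fun y hy => hw y (by simp [hy])) h

end sound

theorem getD_mem_or {α : Type*} (l : List α) (i : ℕ) (d : α) : l.getD i d = d ∨ l.getD i d ∈ l := by
  by_cases h : i < l.length
  · right
    rw [List.getD_eq_getElem _ _ h]
    exact List.getElem_mem h
  · left
    exact List.getD_eq_default _ _ (not_lt.1 h)

section sound2

variable {G : Type*} [Group G] (H : Subgroup G) (gen : ℕ → G) (C : Cert)
variable (hinv : ∀ x < C.k, gen x * gen x = 1)
variable (hrel : ∀ ch ∈ C.rwords, ∀ w ∈ ch, ∀ q : G ⧸ H, actW H gen w q = q)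
variable (hsub : ∀ w ∈ C.swords, actW H gen w ((1 : G) : G ⧸ H) = ((1 : G) : G ⧸ H))
variable (hwok : wordsOK C = true)
include hrel hsub hwok

theorem word_spec (wi c : ℕ) (hc : (Nat.blt wi C.nrw || Nat.beq c 0) = true) :
    (∀ x ∈ word C wi, x < C.k) ∧
      actW H gen (word C wi) (f H gen C c) = f H gen C c := by
  unfold wordsOK at hwok
  rw [Bool.and_eq_true, List.all_eq_true, List.all_eq_true] at hwok
  obtain ⟨hw1, hw2⟩ := hwok
  unfold word
  cases h1 : Nat.blt wi C.nrw
  · simp only [cond_false]
    have hc0 : c = 0 := by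
      rw [h1, Bool.false_or] at hc
      exact Nat.eq_of_beq_eq_true hc
    rcases getD_mem_or C.swords (Nat.sub wi C.nrw) [] with h2 | h2
    · rw [h2]; simp [actW]
    · refine ⟨?_, ?_⟩
      · intro x hx
        have := List.all_eq_true.1 (hw2 _ h2) x hx
        simpa using this
      · rw [hc0, f_zero]
        exact hsub _ h2
  · simp only [cond_true]
    rcases getD_mem_or C.rwords (Nat.div wi 16) [] with h2 | h2
    · rw [h2]
      simp [actW]
    · rcases getD_mem_or (C.rwords.getD (Nat.div wi 16) []) (Nat.mod wi 16) [] with h3 | h3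
      · rw [h3]; simp [actW]
      · refine ⟨?_, hrel _ h2 _ h3 _⟩
        intro x hx
        have := List.all_eq_true.1 (List.all_eq_true.1 (hw1 _ h2) _ h3) x hx
        simpa using this

include hinv

theorem run_inv (stop fuel mask mask' : ℕ) (hI : Inv H gen C mask)
    (h : run C stop fuel mask = some mask') : Inv H gen C mask' := by
  induction fuel generalizing mask with
  | zero =>
    rw [run_zero] at h
    injection h with h
    rw [← h]; exact hI
  | succ fuel ih =>
    rw [run_succ] at h
    generalize Nat.sub stop (Nat.succ fuel) = i at h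
    unfold runStep at h
    cases h1 : (Nat.blt (C.logw i) C.nrw || Nat.beq (C.logc i) 0) <;> rw [h1] at h
    · exact absurd h (by simp)
    simp only [cond_true] at h
    cases he : trace C mask (word C (C.logw i)) (C.logc i) with
    | none => rw [he] at h; exact absurd h (by simp)
    | some e =>
      rw [he] at h
      simp only at h
      cases h2 : mergeOK C mask (C.logc i) e (C.logb i) <;> rw [h2] at h
      · exact absurd h (by simp)
      simp only [cond_true] at h
      refine ih _ ?_ h
      obtain ⟨hlt, hact⟩ := word_spec H gen C hrel hsub hwok (C.logw i) (C.logc i) h1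
      have hfe : f H gen C e = f H gen C (C.logc i) := by
        rw [trace_f H gen C hinv hI _ hlt he, hact]
      intro b hb
      rw [tb_set, Bool.or_eq_true] at hb
      rcases hb with hb | hb
      · exact hI b hb
      · have hbb : C.logb i = b := by simpa using hb
        rw [← hbb]
        unfold mergeOK at h2
        rw [Bool.or_eq_true, Bool.and_eq_true, Bool.and_eq_true] at h2
        have e1 := find_f H gen C hI 64 (C.logc i)
        have e2 := find_f H gen C hI 64 e
        rcases h2 with ⟨h3, h4⟩ | ⟨h3, h4⟩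
        · rw [Nat.eq_of_beq_eq_true h3] at e1
          rw [Nat.eq_of_beq_eq_true h4] at e2
          rw [e1, e2, hfe]
        · rw [Nat.eq_of_beq_eq_true h3] at e1
          rw [Nat.eq_of_beq_eq_true h4] at e2
          rw [e1, e2, hfe]

theorem reach_inv {mask mask' : ℕ} (hr : Relation.ReflTransGen (Steps C) mask mask')
    (hI : Inv H gen C mask) : Inv H gen C mask' := by
  induction hr with
  | refl => exact hI
  | tail _ hs ih =>
    obtain ⟨stop, fuel, h⟩ := hs
    exact run_inv H gen C hinv hrel hsub hwok stop fuel _ _ ih h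

theorem exists_rep_of_final (hgen : Subgroup.closure {g : G | ∃ x < C.k, gen x = g} = ⊤)
    {mask : ℕ} (hI : Inv H gen C mask) (hcheck : finalCheck C mask = true) :
    ∀ q : G ⧸ H, ∃ i < C.n, f H gen C (C.rep i) = q := by
  unfold finalCheck at hcheck
  rw [Bool.and_eq_true, Bool.and_eq_true, List.all_eq_true] at hcheck
  obtain ⟨⟨hM, h0⟩, hall⟩ := hcheck
  have hM' : 0 < C.M := by simpa using hM
  have h0' : tb mask 0 = false := by simpa using h0
  -- every name has an unlinked equivalent
  have hunl : ∀ u, u < C.M → ∃ u', u' < C.M ∧ tb mask u' = false ∧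
      f H gen C u' = f H gen C u := by
    intro u
    induction u using Nat.strong_induction_on with
    | _ u ih =>
      intro hu
      cases hb : tb mask u
      · exact ⟨u, hu, hb, rfl⟩
      · have := hall u (List.mem_range.2 hu)
        rw [hb] at this
        have hlt : C.link u < u := by simpa using this
        obtain ⟨u', h1, h2, h3⟩ := ih _ hlt (lt_trans hlt hu)
        exact ⟨u', h1, h2, by rw [h3, hI u hb]⟩
  -- the set of cosets of unlinked names
  let S : Set (G ⧸ H) := {q | ∃ u, u < C.M ∧ tb mask u = false ∧ f H gen C u = q}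
  have hbase : ((1 : G) : G ⧸ H) ∈ S := ⟨0, hM', h0', f_zero H gen C⟩
  have hclosed : ∀ x < C.k, ∀ q ∈ S, gen x • q ∈ S := by
    rintro x hx q ⟨u, hu, hub, rfl⟩
    have := hall u (List.mem_range.2 hu)
    rw [hub] at this
    simp only [cond_false, Bool.and_eq_true, List.all_eq_true] at this
    have hs := this.2 x (List.mem_range.2 hx)
    rw [Option.isSome_iff_exists] at hs
    obtain ⟨v, hv⟩ := hs
    obtain ⟨u', h1, h2, h3⟩ := hunl v (stepAt_lt C hu hv)
    exact ⟨u', h1, h2, by rw [h3, stepAt_f H gen C hinv hx hv]⟩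
  -- closed under the whole group
  let K : Subgroup G :=
    { carrier := {g | ∀ q ∈ S, g • q ∈ S ∧ g⁻¹ • q ∈ S}
      one_mem' := fun q hq => by simpa using hq
      mul_mem' := fun {a b} ha hb q hq => by
        refine ⟨?_, ?_⟩
        · rw [mul_smul]; exact (ha _ (hb q hq).1).1
        · rw [mul_inv_rev, mul_smul]; exact (hb _ (ha q hq).2).2
      inv_mem' := fun {a} ha q hq => by
        rw [inv_inv]; exact ⟨(ha q hq).2, (ha q hq).1⟩ }
  have hK : K = ⊤ := by
    rw [eq_top_iff, ← hgen, Subgroup.closure_le]
    rintro g ⟨x, hx, rfl⟩ q hq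
    have hinv' : (gen x)⁻¹ = gen x := inv_eq_of_mul_eq_one_right (hinv x hx)
    rw [hinv']
    exact ⟨hclosed x hx q hq, hclosed x hx q hq⟩
  intro q
  obtain ⟨g, rfl⟩ := QuotientGroup.mk_surjective q
  have hg : g ∈ K := by rw [hK]; trivial
  have hq : g • ((1 : G) : G ⧸ H) ∈ S := (hg _ hbase).1
  obtain ⟨u, hu, hub, hfu⟩ := hq
  have := hall u (List.mem_range.2 hu)
  rw [hub] at this
  simp only [cond_false, Bool.and_eq_true] at this
  obtain ⟨⟨hi1, hi2⟩, -⟩ := this
  refine ⟨C.idx u, by simpa using hi1, ?_⟩
  rw [Nat.eq_of_beq_eq_true hi2, hfu]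
  show g • ((1 : G) : G ⧸ H) = (g : G ⧸ H)
  rw [MulAction.Quotient.smul_mk, smul_eq_mul, mul_one]

theorem index_le_of_final (hgen : Subgroup.closure {g : G | ∃ x < C.k, gen x = g} = ⊤)
    {mask : ℕ} (hI : Inv H gen C mask) (hcheck : finalCheck C mask = true) :
    H.index ≤ C.n ∧ H.index ≠ 0 := by
  have hsurj := exists_rep_of_final H gen C hinv hrel hsub hwok hgen hI hcheck
  have hs : Function.Surjective (fun i : Fin C.n => f H gen C (C.rep i.val)) := by
    intro q
    obtain ⟨i, hi, h⟩ := hsurj q
    exact ⟨⟨i, hi⟩, h⟩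
  have hfin : Finite (G ⧸ H) := Finite.of_surjective _ hs
  refine ⟨?_, ?_⟩
  · have := Nat.card_le_card_of_surjective _ hs
    rw [Nat.card_fin] at this
    exact this
  · have : H.FiniteIndex := Subgroup.finiteIndex_of_finite_quotient
    exact Subgroup.FiniteIndex.index_ne_zero

omit hinv hrel hsub hwok in
theorem inv_zero : Inv H gen C 0 :=
  fun b hb => by rw [tb_zero] at hb; exact absurd hb (by simp)

theorem index_le_of_reach (hgen : Subgroup.closure {g : G | ∃ x < C.k, gen x = g} = ⊤)
    {mask : ℕ} (hr : Relation.ReflTransGen (Steps C) 0 mask) (hcheck : finalCheck C mask = true) :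
    H.index ≤ C.n ∧ H.index ≠ 0 :=
  index_le_of_final H gen C hinv hrel hsub hwok hgen
    (reach_inv H gen C hinv hrel hsub hwok hr (inv_zero H gen C)) hcheck

end sound2

/-! ### The form used for chains of subgroups generated by initial segments of the generators -/

section chain

variable {G : Type*} [Group G] (genP : ℕ → G)

/-- the subgroup generated by the first `k` generators -/
def Hk (k : ℕ) : Subgroup G := Subgroup.closure {g | ∃ x < k, genP x = g}

theorem Hk_mono {k k' : ℕ} (h : k' ≤ k) : Hk genP k' ≤ Hk genP k :=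
  Subgroup.closure_mono fun _ ⟨x, hx, hg⟩ => ⟨x, lt_of_lt_of_le hx h, hg⟩

theorem gen_mem_Hk {k x : ℕ} (h : x < k) : genP x ∈ Hk genP k :=
  Subgroup.subset_closure ⟨x, h, rfl⟩

theorem prod_mem_Hk {k : ℕ} (w : List ℕ) (hw : ∀ x ∈ w, x < k) :
    (w.map genP).prod ∈ Hk genP k := by
  apply Subgroup.list_prod_mem
  intro g hg
  obtain ⟨x, hx, rfl⟩ := List.mem_map.1 hg
  exact gen_mem_Hk genP (hw x hx)

theorem Hk_zero : Hk genP 0 = ⊥ := by
  rw [Hk, Subgroup.closure_eq_bot_iff]
  rintro g ⟨x, hx, -⟩
  exact absurd hx (Nat.not_lt_zero _)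

theorem card_le_of_reach (C : Cert) (k' : ℕ) (hk' : k' ≤ C.k)
    (hinv : ∀ x < C.k, genP x * genP x = 1)
    (hrel : ∀ ch ∈ C.rwords, ∀ w ∈ ch, (w.reverse.map genP).prod = 1)
    (hsub : ∀ w ∈ C.swords, (w.reverse.map genP).prod ∈ Hk genP k')
    (hwok : wordsOK C = true) {mask : ℕ} (hr : Relation.ReflTransGen (Steps C) 0 mask)
    (hfc : finalCheck C mask = true) (hfin : Finite (Hk genP k')) :
    Finite (Hk genP C.k) ∧ Nat.card (Hk genP C.k) ≤ C.n * Nat.card (Hk genP k') := by
  have hwok' := hwok
  unfold wordsOK at hwok'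
  rw [Bool.and_eq_true, List.all_eq_true, List.all_eq_true] at hwok'
  obtain ⟨hw1, hw2⟩ := hwok'
  have hle : Hk genP k' ≤ Hk genP C.k := Hk_mono genP hk'
  -- generators inside the subgroup
  let gen' : ℕ → Hk genP C.k := fun x =>
    if h : x < C.k then ⟨genP x, gen_mem_Hk genP h⟩ else 1
  have hgen'_coe : ∀ x < C.k, ((gen' x : Hk genP C.k) : G) = genP x := by
    intro x hx
    simp only [gen', dif_pos hx]
  have hprod : ∀ w : List ℕ, (∀ x ∈ w, x < C.k) →
      (((w.map gen').prod : Hk genP C.k) : G) = (w.map genP).prod := by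
    intro w hw
    induction w with
    | nil => simp
    | cons x w ih =>
      rw [List.map_cons, List.prod_cons, List.map_cons, List.prod_cons, Subgroup.coe_mul,
        hgen'_coe x (hw x (by simp)), ih fun y hy => hw y (by simp [hy])]
  have hinv' : ∀ x < C.k, gen' x * gen' x = 1 := by
    intro x hx
    apply Subtype.ext
    rw [Subgroup.coe_mul, hgen'_coe x hx, hinv x hx]
    rfl
  have hgen : Subgroup.closure {g : Hk genP C.k | ∃ x < C.k, gen' x = g} = ⊤ := by
    have h1 := Subgroup.closure_closure_coe_preimage (k := {g : G | ∃ x < C.k, genP x = g})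
    have h2 : {g : Hk genP C.k | ∃ x < C.k, gen' x = g} =
        (Subtype.val ⁻¹' {g : G | ∃ x < C.k, genP x = g}) := by
      ext g
      constructor
      · rintro ⟨x, hx, rfl⟩
        exact ⟨x, hx, (hgen'_coe x hx).symm⟩
      · rintro ⟨x, hx, hg⟩
        exact ⟨x, hx, Subtype.ext (by rw [hgen'_coe x hx]; exact hg)⟩
    rw [h2]
    exact h1
  let H' : Subgroup (Hk genP C.k) := (Hk genP k').subgroupOf (Hk genP C.k)
  have hrel' : ∀ ch ∈ C.rwords, ∀ w ∈ ch, ∀ q : Hk genP C.k ⧸ H', actW H' gen' w q = q := by
    intro ch hch w hw q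
    rw [actW_eq]
    have hlt : ∀ x ∈ w.reverse, x < C.k := by
      intro x hx
      have := List.all_eq_true.1 (List.all_eq_true.1 (hw1 _ hch) _ hw) x (List.mem_reverse.1 hx)
      simpa using this
    have : (w.reverse.map gen').prod = 1 := by
      apply Subtype.ext
      rw [hprod _ hlt, hrel ch hch w hw]
      rfl
    rw [this, one_smul]
  have hsub' : ∀ w ∈ C.swords,
      actW H' gen' w ((1 : Hk genP C.k) : Hk genP C.k ⧸ H') = ((1 : Hk genP C.k) : Hk genP C.k ⧸ H') := by
    intro w hw
    rw [actW_eq]
    have hlt : ∀ x ∈ w.reverse, x < C.k := by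
      intro x hx
      have := List.all_eq_true.1 (hw2 _ hw) x (List.mem_reverse.1 hx)
      simpa using this
    rw [MulAction.Quotient.smul_mk, smul_eq_mul, mul_one, QuotientGroup.eq]
    apply H'.mul_mem (H'.inv_mem _) H'.one_mem
    show (((w.reverse.map gen').prod : Hk genP C.k) : G) ∈ Hk genP k'
    rw [hprod _ hlt]
    exact hsub w hw
  obtain ⟨hidx, hidx0⟩ := index_le_of_reach H' gen' C hinv' hrel' hsub' hwok hgen hr hfc
  have hcardH : Nat.card H' = Nat.card (Hk genP k') :=
    Nat.card_congr (Subgroup.subgroupOfEquivOfLe hle).toEquiv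
  have hmul := H'.index_mul_card
  rw [hcardH] at hmul
  have hpos : 0 < Nat.card (Hk genP k') := Nat.card_pos
  refine ⟨?_, ?_⟩
  · apply Nat.finite_of_card_ne_zero
    rw [← hmul]
    exact Nat.mul_ne_zero hidx0 (Nat.pos_iff_ne_zero.1 hpos)
  · rw [← hmul]
    exact Nat.mul_le_mul_right _ hidx

theorem card_le_of_check (C : Cert) (k' : ℕ) (hk' : k' ≤ C.k)
    (hinv : ∀ x < C.k, genP x * genP x = 1)
    (hrel : ∀ ch ∈ C.rwords, ∀ w ∈ ch, (w.reverse.map genP).prod = 1)
    (hsub : ∀ w ∈ C.swords, (w.reverse.map genP).prod ∈ Hk genP k')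
    (hcheck : check C = true) (hfin : Finite (Hk genP k')) :
    Finite (Hk genP C.k) ∧ Nat.card (Hk genP C.k) ≤ C.n * Nat.card (Hk genP k') := by
  unfold check at hcheck
  rw [Bool.and_eq_true] at hcheck
  obtain ⟨hwok, hrun⟩ := hcheck
  cases hm : run C C.nlog C.nlog 0 with
  | none => rw [hm] at hrun; exact absurd hrun (by simp)
  | some mask =>
    rw [hm] at hrun
    exact card_le_of_reach genP C k' hk' hinv hrel hsub hwok
      (Relation.ReflTransGen.single ⟨C.nlog, C.nlog, hm⟩) hrun hfin

end chain

end Cfsg.Agent.Lib.Helper98.CosetCert
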