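import Mathlib
import Cfsg.Agent.Lib.Helper98.CosetCert

/-!
# Coset enumeration certificates with time stamps

A variant of `CosetCert` in which the set of linked names is not carried along as a bit mask:
instead every name records the position of the log entry that links it (`lt1 u` is that position
plus one, or zero if the name is never linked).  The check of a log entry then only depends on the
static tables, so that the log can be checked in independent pieces.
-/

set_option autoImplicit false

namespace Cfsg.Agent.Lib.Helper98.CosetCert2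

open Cfsg.Agent.Lib.Helper98.CosetCert

/-- a certificate with time stamps -/
structure TCert extends Cert where
  lt1 : ℕ → ℕ

/-- the name `u` is linked before the log entry at position `t` is processed -/
def linked (C : TCert) (t u : ℕ) : Bool :=
  Nat.blt u C.M && (Nat.blt 0 (C.lt1 u) && Nat.ble (C.lt1 u) t)

/-- follow links -/
def find (C : TCert) (t fuel u : ℕ) : ℕ :=
  Nat.rec (motive := fun _ => ℕ → ℕ) (fun u => u)
    (fun _ ih u => cond (linked C t u) (ih (C.link u)) u) fuel u

theorem find_zero (C : TCert) (t u : ℕ) : find C t 0 u = u := rfl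

theorem find_succ (C : TCert) (t fuel u : ℕ) :
    find C t (fuel + 1) u = cond (linked C t u) (find C t fuel (C.link u)) u := rfl

def step (C : TCert) (t u x : ℕ) : Option ℕ := stepAt C.toCert (find C t 64 u) x

def trace (C : TCert) (t : ℕ) (w : List ℕ) (u : ℕ) : Option ℕ :=
  List.rec (motive := fun _ => ℕ → Option ℕ) (fun u => some u)
    (fun x _ ih u => Option.rec none (fun v => ih v) (step C t u x)) w u

theorem trace_nil (C : TCert) (t u : ℕ) : trace C t [] u = some u := rfl

theorem trace_cons (C : TCert) (t x : ℕ) (w : List ℕ) (u : ℕ) :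
    trace C t (x :: w) u = Option.rec none (fun v => trace C t w v) (step C t u x) := rfl

def mergeOK (C : TCert) (t c e b : ℕ) : Bool :=
  (Nat.beq (find C t 64 c) (C.link b) && Nat.beq (find C t 64 e) b) ||
  (Nat.beq (find C t 64 c) b && Nat.beq (find C t 64 e) (C.link b))

/-- the log entry at position `i` -/
def entryOK (C : TCert) (i : ℕ) : Bool :=
  (Nat.blt (C.logw i) C.nrw || Nat.beq (C.logc i) 0) &&
  Option.rec false (fun e => mergeOK C i (C.logc i) e (C.logb i))
    (trace C i (word C.toCert (C.logw i)) (C.logc i))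

/-- the log entries at positions `lo, …, lo + n - 1` -/
def rangeOK (C : TCert) (lo n : ℕ) : Bool :=
  Nat.rec (motive := fun _ => Bool) true
    (fun j ih => cond (entryOK C (Nat.add lo j)) ih false) n

theorem rangeOK_iff (C : TCert) (lo n : ℕ) :
    rangeOK C lo n = true ↔ ∀ j < n, entryOK C (lo + j) = true := by
  induction n with
  | zero => simp [rangeOK]
  | succ n ih =>
    have : rangeOK C lo (n + 1) = cond (entryOK C (lo + n)) (rangeOK C lo n) false := rfl
    rw [this]
    constructor
    · intro h j hj
      cases hp : entryOK C (lo + n)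
      · rw [hp] at h; exact absurd h (by simp)
      · rw [hp] at h
        rcases Nat.lt_succ_iff_lt_or_eq.1 hj with h' | h'
        · exact ih.1 h j h'
        · rw [h']; exact hp
    · intro h
      rw [h n (Nat.lt_succ_self n)]
      exact ih.2 fun j hj => h j (Nat.lt_succ_of_lt hj)

/-- the check of one name: linked names point downwards and are the targets of their log entries;
the other names are listed and have all their neighbours -/
def nameOK (C : TCert) (u : ℕ) : Bool :=
  cond (Nat.blt 0 (C.lt1 u))
    (Nat.blt (C.link u) u && Nat.ble (C.lt1 u) C.nlog && Nat.beq (C.logb (Nat.pred (C.lt1 u))) u)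
    (Nat.blt (C.idx u) C.n && Nat.beq (C.rep (C.idx u)) u &&
    (List.range C.k).all fun x => (stepAt C.toCert u x).isSome)

/-- the names at positions `lo, …, lo + n - 1` -/
def nameRangeOK (C : TCert) (lo n : ℕ) : Bool :=
  Nat.rec (motive := fun _ => Bool) true
    (fun j ih => cond (nameOK C (Nat.add lo j)) ih false) n

theorem nameRangeOK_iff (C : TCert) (lo n : ℕ) :
    nameRangeOK C lo n = true ↔ ∀ j < n, nameOK C (lo + j) = true := by
  induction n with
  | zero => simp [nameRangeOK]
  | succ n ih =>
    have : nameRangeOK C lo (n + 1) = cond (nameOK C (lo + n)) (nameRangeOK C lo n) false := rfl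
    rw [this]
    constructor
    · intro h j hj
      cases hp : nameOK C (lo + n)
      · rw [hp] at h; exact absurd h (by simp)
      · rw [hp] at h
        rcases Nat.lt_succ_iff_lt_or_eq.1 hj with h' | h'
        · exact ih.1 h j h'
        · rw [h']; exact hp
    · intro h
      rw [h n (Nat.lt_succ_self n)]
      exact ih.2 fun j hj => h j (Nat.lt_succ_of_lt hj)

/-- all log entries before position `t` are verified -/
def LogUpTo (C : TCert) (t : ℕ) : Prop := ∀ i < t, entryOK C i = true

theorem logUpTo_zero (C : TCert) : LogUpTo C 0 := fun _ hi => absurd hi (Nat.not_lt_zero _)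

theorem LogUpTo.add {C : TCert} {lo : ℕ} (h : LogUpTo C lo) {n hi : ℕ}
    (hr : rangeOK C lo n = true) (hhi : hi = lo + n) : LogUpTo C hi := by
  intro i hlt
  rcases Nat.lt_or_ge i lo with h1 | h1
  · exact h i h1
  · have := (rangeOK_iff C lo n).1 hr (i - lo) (by omega)
    rwa [Nat.add_sub_cancel' h1] at this

/-- all names before position `t` are verified -/
def NamesUpTo (C : TCert) (t : ℕ) : Prop := ∀ u < t, nameOK C u = true

theorem namesUpTo_zero (C : TCert) : NamesUpTo C 0 := fun _ hi => absurd hi (Nat.not_lt_zero _)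

theorem NamesUpTo.add {C : TCert} {lo : ℕ} (h : NamesUpTo C lo) {n hi : ℕ}
    (hr : nameRangeOK C lo n = true) (hhi : hi = lo + n) : NamesUpTo C hi := by
  intro i hlt
  rcases Nat.lt_or_ge i lo with h1 | h1
  · exact h i h1
  · have := (nameRangeOK_iff C lo n).1 hr (i - lo) (by omega)
    rwa [Nat.add_sub_cancel' h1] at this

/-- the root is a name and is not linked -/
def headOK (C : TCert) : Bool := Nat.blt 0 C.M && !linked C C.nlog 0

/-! ### Fast versions

The same functions written with `Bool.rec` (cheaper than `cond`, `&&`, `||` in the kernel) and with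
`strict` applications, which force an argument to a numeral so that the kernel's cache of weak head
normal forms acts as a memo table. -/

/-- strict application -/
def strict {α : Type} (f : ℕ → α) (c : ℕ) : α :=
  Nat.rec (motive := fun _ => α) (f 0) (fun n _ => f (Nat.succ n)) c

theorem strict_eq {α : Type} (f : ℕ → α) (c : ℕ) : strict f c = f c := by
  cases c <;> rfl

theorem brec_eq_cond {α : Type} (b : Bool) (x y : α) :
    Bool.rec (motive := fun _ => α) y x b = cond b x y := by
  cases b <;> rfl

theorem brec_and (a b : Bool) : Bool.rec (motive := fun _ => Bool) false b a = (a && b) := by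
  cases a <;> rfl

theorem brec_or (a b : Bool) : Bool.rec (motive := fun _ => Bool) b true a = (a || b) := by
  cases a <;> rfl

theorem brec_not (a : Bool) : Bool.rec (motive := fun _ => Bool) true false a = !a := by
  cases a <;> rfl

def linkedF (C : TCert) (t u : ℕ) : Bool :=
  Bool.rec (motive := fun _ => Bool) false
    (Bool.rec (motive := fun _ => Bool) false (Nat.ble (C.lt1 u) t) (Nat.ble 1 (C.lt1 u)))
    (Nat.ble (Nat.succ u) C.M)

theorem linkedF_eq (C : TCert) (t u : ℕ) : linkedF C t u = linked C t u := by
  unfold linkedF linked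
  rw [brec_and, brec_and]
  rfl

def findF (C : TCert) (t fuel u : ℕ) : ℕ :=
  Nat.rec (motive := fun _ => ℕ → ℕ) (fun u => u)
    (fun _ ih u => Bool.rec (motive := fun _ => ℕ) u (ih (C.link u)) (linkedF C t u)) fuel u

theorem findF_eq (C : TCert) (t fuel u : ℕ) : findF C t fuel u = find C t fuel u := by
  induction fuel generalizing u with
  | zero => rfl
  | succ fuel ih =>
    show Bool.rec (motive := fun _ => ℕ) u (findF C t fuel (C.link u)) (linkedF C t u) = _
    rw [find_succ, brec_eq_cond, linkedF_eq, ih]

def downAtF (C : Cert) (u' x : ℕ) : Option ℕ :=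
  Bool.rec (motive := fun _ => Option ℕ) none
    (Bool.rec (motive := fun _ => Option ℕ) none
      (Bool.rec (motive := fun _ => Option ℕ) none
        (Bool.rec (motive := fun _ => Option ℕ) none
          (Bool.rec (motive := fun _ => Option ℕ) none (some (Nat.add (C.cb u') x))
            (Nat.blt u' (Nat.add (C.cb u') x)))
          (Nat.beq (C.lab (Nat.add (C.cb u') x)) x))
        (Nat.beq (C.par (Nat.add (C.cb u') x)) u'))
      (Nat.blt (Nat.add (C.cb u') x) C.M))
    (Nat.blt 0 (C.cb u'))

theorem downAtF_eq (C : Cert) (u' x : ℕ) : downAtF C u' x = downAt C u' x := by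
  unfold downAtF downAt
  simp only [brec_eq_cond]

def stepAtF (C : Cert) (u' x : ℕ) : Option ℕ :=
  Bool.rec (motive := fun _ => Option ℕ) (downAtF C u' x)
    (Bool.rec (motive := fun _ => Option ℕ) (downAtF C u' x)
      (Bool.rec (motive := fun _ => Option ℕ) none (some (C.par u')) (Nat.blt (C.par u') u'))
      (Nat.beq (C.lab u') x))
    (Nat.blt 0 u')

theorem stepAtF_eq (C : Cert) (u' x : ℕ) : stepAtF C u' x = stepAt C u' x := by
  unfold stepAtF stepAt
  simp only [brec_eq_cond, downAtF_eq]

def stepF (C : TCert) (t u x : ℕ) : Option ℕ :=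
  strict (fun u' => stepAtF C.toCert u' x) (findF C t 64 u)

theorem stepF_eq (C : TCert) (t u x : ℕ) : stepF C t u x = step C t u x := by
  unfold stepF step
  rw [strict_eq, stepAtF_eq, findF_eq]

def traceF (C : TCert) (t : ℕ) (w : List ℕ) (u : ℕ) : Option ℕ :=
  List.rec (motive := fun _ => ℕ → Option ℕ) (fun u => some u)
    (fun x _ ih u => Option.rec none (fun v => ih v) (stepF C t u x)) w u

theorem traceF_eq (C : TCert) (t : ℕ) (w : List ℕ) (u : ℕ) : traceF C t w u = trace C t w u := by
  induction w generalizing u with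
  | nil => rfl
  | cons x w ih =>
    have h1 : traceF C t (x :: w) u =
        Option.rec (motive := fun _ => Option ℕ) none (fun v => traceF C t w v) (stepF C t u x) := rfl
    rw [h1, trace_cons, stepF_eq]
    cases step C t u x with
    | none => rfl
    | some v => exact ih v

/-- list lookup with explicit recursors -/
def nthF {α : Type} (d : α) (l : List α) (i : ℕ) : α :=
  List.rec (motive := fun _ => ℕ → α) (fun _ => d)
    (fun a _ ih i => Nat.rec (motive := fun _ => α) a (fun n _ => ih n) i) l i

theorem nthF_eq {α : Type} (d : α) (l : List α) (i : ℕ) : nthF d l i = l.getD i d := by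
  induction l generalizing i with
  | nil => rfl
  | cons a l ih =>
    cases i with
    | zero => rfl
    | succ n =>
      show nthF d l n = _
      rw [ih]
      rfl

def wordF (C : Cert) (wi : ℕ) : List ℕ :=
  strict (fun wi => Bool.rec (motive := fun _ => List ℕ)
    (nthF [] C.swords (Nat.sub wi C.nrw))
    (nthF [] (nthF [] C.rwords (Nat.div wi 16)) (Nat.mod wi 16))
    (Nat.blt wi C.nrw)) wi

theorem wordF_eq (C : Cert) (wi : ℕ) : wordF C wi = word C wi := by
  unfold wordF word
  rw [strict_eq, brec_eq_cond, nthF_eq, nthF_eq, nthF_eq]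

def mergeOKF (C : TCert) (t c e b : ℕ) : Bool :=
  Bool.rec (motive := fun _ => Bool)
    (Bool.rec (motive := fun _ => Bool) false (Nat.beq (findF C t 64 e) (C.link b))
      (Nat.beq (findF C t 64 c) b))
    true
    (Bool.rec (motive := fun _ => Bool) false (Nat.beq (findF C t 64 e) b)
      (Nat.beq (findF C t 64 c) (C.link b)))

theorem mergeOKF_eq (C : TCert) (t c e b : ℕ) : mergeOKF C t c e b = mergeOK C t c e b := by
  unfold mergeOKF mergeOK
  rw [brec_or, brec_and, brec_and, findF_eq, findF_eq]

def entryOKF (C : TCert) (i : ℕ) : Bool :=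
  Bool.rec (motive := fun _ => Bool) false
    (Option.rec false (fun e => mergeOKF C i (C.logc i) e (C.logb i))
      (traceF C i (wordF C.toCert (C.logw i)) (C.logc i)))
    (Bool.rec (motive := fun _ => Bool) (Nat.beq (C.logc i) 0) true (Nat.blt (C.logw i) C.nrw))

theorem entryOKF_eq (C : TCert) (i : ℕ) : entryOKF C i = entryOK C i := by
  unfold entryOKF entryOK
  rw [brec_and, brec_or, traceF_eq, wordF_eq]
  congr 1
  cases trace C i (word C.toCert (C.logw i)) (C.logc i) with
  | none => rfl
  | some e => exact mergeOKF_eq C i _ e _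

/-- the log entries at positions `lo, …, lo + n - 1`, fast version -/
def rangeOKF (C : TCert) (lo n : ℕ) : Bool :=
  Nat.rec (motive := fun _ => Bool) true
    (fun j ih => Bool.rec (motive := fun _ => Bool) false ih (entryOKF C (Nat.add lo j))) n

theorem rangeOKF_eq (C : TCert) (lo n : ℕ) : rangeOKF C lo n = rangeOK C lo n := by
  induction n with
  | zero => rfl
  | succ n ih =>
    show Bool.rec (motive := fun _ => Bool) false (rangeOKF C lo n) (entryOKF C (Nat.add lo n)) = _
    rw [brec_eq_cond, ih, entryOKF_eq]
    rfl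

def allRangeF (k : ℕ) (p : ℕ → Bool) : Bool :=
  Nat.rec (motive := fun _ => Bool) true
    (fun j ih => Bool.rec (motive := fun _ => Bool) false ih (p j)) k

theorem allRangeF_eq (k : ℕ) (p : ℕ → Bool) : allRangeF k p = (List.range k).all p := by
  induction k with
  | zero => rfl
  | succ k ih =>
    show Bool.rec (motive := fun _ => Bool) false (allRangeF k p) (p k) = _
    rw [brec_and, ih, List.range_succ, List.all_append]
    simp [Bool.and_comm]

def nameOKF (C : TCert) (u : ℕ) : Bool :=
  Bool.rec (motive := fun _ => Bool)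
    (Bool.rec (motive := fun _ => Bool) false
      (Bool.rec (motive := fun _ => Bool) false
        (allRangeF C.k fun x => Option.rec false (fun _ => true) (stepAtF C.toCert u x))
        (Nat.beq (C.rep (C.idx u)) u))
      (Nat.blt (C.idx u) C.n))
    (Bool.rec (motive := fun _ => Bool) false
      (Bool.rec (motive := fun _ => Bool) false
        (Nat.beq (C.logb (Nat.pred (C.lt1 u))) u)
        (Nat.ble (C.lt1 u) C.nlog))
      (Nat.blt (C.link u) u))
    (Nat.blt 0 (C.lt1 u))

theorem nameOKF_eq (C : TCert) (u : ℕ) : nameOKF C u = nameOK C u := by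
  unfold nameOKF nameOK
  rw [brec_eq_cond, brec_and, brec_and, brec_and, brec_and, allRangeF_eq]
  congr 1
  · rw [Bool.and_assoc]
  · rw [Bool.and_assoc]
    congr 2
    apply List.all_congr rfl
    intro x
    rw [stepAtF_eq]
    cases stepAt C.toCert u x <;> rfl

def nameRangeOKF (C : TCert) (lo n : ℕ) : Bool :=
  Nat.rec (motive := fun _ => Bool) true
    (fun j ih => Bool.rec (motive := fun _ => Bool) false ih
      (strict (nameOKF C) (Nat.add lo j))) n

theorem nameRangeOKF_eq (C : TCert) (lo n : ℕ) : nameRangeOKF C lo n = nameRangeOK C lo n := by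
  induction n with
  | zero => rfl
  | succ n ih =>
    show Bool.rec (motive := fun _ => Bool) false (nameRangeOKF C lo n)
      (strict (nameOKF C) (Nat.add lo n)) = _
    rw [brec_eq_cond, ih, strict_eq, nameOKF_eq]
    rfl

theorem LogUpTo.addF {C : TCert} {lo : ℕ} (h : LogUpTo C lo) {n hi : ℕ}
    (hr : rangeOKF C lo n = true) (hhi : hi = lo + n) : LogUpTo C hi :=
  h.add (by rw [← rangeOKF_eq]; exact hr) hhi

theorem NamesUpTo.addF {C : TCert} {lo : ℕ} (h : NamesUpTo C lo) {n hi : ℕ}
    (hr : nameRangeOKF C lo n = true) (hhi : hi = lo + n) : NamesUpTo C hi :=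
  h.add (by rw [← nameRangeOKF_eq]; exact hr) hhi

section sound

variable {G : Type*} [Group G] (H : Subgroup G) (gen : ℕ → G) (C : TCert)

/-- the invariant: names linked before position `t` represent the same coset as their links -/
def Inv (t : ℕ) : Prop :=
  ∀ b, linked C t b = true → f H gen C.toCert (C.link b) = f H gen C.toCert b

theorem find_f {t : ℕ} (hI : Inv H gen C t) (fuel u : ℕ) :
    f H gen C.toCert (find C t fuel u) = f H gen C.toCert u := by
  induction fuel generalizing u with
  | zero => rfl
  | succ fuel ih =>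
    rw [find_succ]
    cases h : linked C t u
    · rfl
    · show f H gen C.toCert (find C t fuel (C.link u)) = _
      rw [ih, hI u h]

variable (hinv : ∀ x < C.k, gen x * gen x = 1)
include hinv

theorem step_f {t : ℕ} (hI : Inv H gen C t) {u x v : ℕ} (hx : x < C.k)
    (h : step C t u x = some v) : f H gen C.toCert v = gen x • f H gen C.toCert u := by
  unfold step at h
  rw [stepAt_f H gen C.toCert hinv hx h, find_f H gen C hI]

theorem trace_f {t : ℕ} (hI : Inv H gen C t) (w : List ℕ) (hw : ∀ x ∈ w, x < C.k)
    {u e : ℕ} (h : trace C t w u = some e) :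
    f H gen C.toCert e = actW H gen w (f H gen C.toCert u) := by
  induction w generalizing u with
  | nil =>
    rw [trace_nil] at h
    injection h with h
    rw [← h]; rfl
  | cons x w ih =>
    rw [trace_cons] at h
    cases hs : step C t u x with
    | none => rw [hs] at h; exact absurd h (by simp)
    | some v =>
      rw [hs] at h
      rw [actW_cons, ← step_f H gen C hinv hI (hw x (by simp)) hs]
      exact ih (fun y hy => hw y (by simp [hy])) h

variable (hrel : ∀ ch ∈ C.rwords, ∀ w ∈ ch, ∀ q : G ⧸ H, actW H gen w q = q)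
variable (hsub : ∀ w ∈ C.swords, actW H gen w ((1 : G) : G ⧸ H) = ((1 : G) : G ⧸ H))
variable (hwok : wordsOK C.toCert = true)
include hrel hsub hwok

/-- one log entry preserves the invariant -/
theorem inv_succ (huniq : ∀ b, b < C.M → 0 < C.lt1 b → C.lt1 b ≤ C.nlog →
      C.logb (Nat.pred (C.lt1 b)) = b)
    (i : ℕ) (hi : i < C.nlog) (hI : Inv H gen C i) (he : entryOK C i = true) :
    Inv H gen C (i + 1) := by
  unfold entryOK at he
  rw [Bool.and_eq_true] at he
  obtain ⟨h1, h2⟩ := he
  cases htr : trace C i (word C.toCert (C.logw i)) (C.logc i) with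
  | none => rw [htr] at h2; exact absurd h2 (by simp)
  | some e =>
    rw [htr] at h2
    simp only at h2
    obtain ⟨hlt, hact⟩ := word_spec H gen C.toCert hrel hsub hwok (C.logw i) (C.logc i) h1
    have hfe : f H gen C.toCert e = f H gen C.toCert (C.logc i) := by
      rw [trace_f H gen C hinv hI _ hlt htr, hact]
    intro b hb
    unfold linked at hb
    rw [Bool.and_eq_true, Bool.and_eq_true] at hb
    obtain ⟨hbM, hb0, hbt⟩ := hb
    have hbM' : b < C.M := by simpa using hbM
    have hb0' : 0 < C.lt1 b := by simpa using hb0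
    have hbt' : C.lt1 b ≤ i + 1 := Nat.le_of_ble_eq_true hbt
    rcases Nat.lt_or_ge (C.lt1 b) (i + 1) with hlt' | hge
    · apply hI b
      unfold linked
      rw [Bool.and_eq_true, Bool.and_eq_true]
      exact ⟨hbM, hb0, Nat.ble_eq_true_of_le (Nat.lt_succ_iff.1 hlt')⟩
    · have heq : C.lt1 b = i + 1 := le_antisymm hbt' hge
      have hbb : C.logb i = b := by
        have := huniq b hbM' hb0' (by rw [heq]; exact hi)
        rw [heq] at this
        exact this
      rw [← hbb]
      unfold mergeOK at h2
      rw [Bool.or_eq_true, Bool.and_eq_true, Bool.and_eq_true] at h2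
      have e1 := find_f H gen C hI 64 (C.logc i)
      have e2 := find_f H gen C hI 64 e
      rcases h2 with ⟨h3, h4⟩ | ⟨h3, h4⟩
      · rw [Nat.eq_of_beq_eq_true h3] at e1
        rw [Nat.eq_of_beq_eq_true h4] at e2
        rw [e1, e2, hfe]
      · rw [Nat.eq_of_beq_eq_true h3] at e1
        rw [Nat.eq_of_beq_eq_true h4] at e2
        rw [e1, e2, hfe]

theorem inv_zero' : Inv H gen C 0 := by
  intro b hb
  unfold linked at hb
  rw [Bool.and_eq_true, Bool.and_eq_true] at hb
  obtain ⟨_, hb0, hbt⟩ := hb
  have h1 : 0 < C.lt1 b := by simpa using hb0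
  have h2 : C.lt1 b ≤ 0 := Nat.le_of_ble_eq_true hbt
  omega

/-- soundness: the index is at most `n` -/
theorem index_le (hgen : Subgroup.closure {g : G | ∃ x < C.k, gen x = g} = ⊤)
    (hlog : LogUpTo C C.nlog) (hnames : NamesUpTo C C.M) (hhead : headOK C = true) :
    H.index ≤ C.n ∧ H.index ≠ 0 := by
  unfold headOK at hhead
  rw [Bool.and_eq_true] at hhead
  obtain ⟨hM, h0⟩ := hhead
  have hall : ∀ u, u < C.M → nameOK C u = true := hnames
  have hM' : 0 < C.M := by simpa using hM
  have h0' : linked C C.nlog 0 = false := by simpa using h0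
  have huniq : ∀ b, b < C.M → 0 < C.lt1 b → C.lt1 b ≤ C.nlog →
      C.logb (Nat.pred (C.lt1 b)) = b := by
    intro b hb hb0 _
    have := hall b hb
    unfold nameOK at this
    have hb0' : Nat.blt 0 (C.lt1 b) = true := by simpa using hb0
    rw [hb0'] at this
    simp only [cond_true, Bool.and_eq_true] at this
    exact Nat.eq_of_beq_eq_true this.2
  have hInv : ∀ i ≤ C.nlog, Inv H gen C i := by
    intro i
    induction i with
    | zero => intro _; exact inv_zero' H gen C hinv hrel hsub hwok
    | succ i ih =>
      intro hi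
      exact inv_succ H gen C hinv hrel hsub hwok huniq i hi (ih (Nat.le_of_succ_le hi))
        (hlog i hi)
  have hI := hInv C.nlog le_rfl
  -- linked names: description
  have hlinked : ∀ u, u < C.M → linked C C.nlog u = true → C.link u < u := by
    intro u hu hl
    unfold linked at hl
    rw [Bool.and_eq_true, Bool.and_eq_true] at hl
    have := hall u hu
    unfold nameOK at this
    rw [hl.2.1] at this
    simp only [cond_true, Bool.and_eq_true] at this
    simpa using this.1.1
  have hunlinked : ∀ u, u < C.M → linked C C.nlog u = false →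
      (C.idx u < C.n ∧ C.rep (C.idx u) = u ∧ ∀ x < C.k, (stepAt C.toCert u x).isSome = true) := by
    intro u hu hl
    have := hall u hu
    unfold nameOK at this
    cases hb : Nat.blt 0 (C.lt1 u)
    · rw [hb] at this
      simp only [cond_false, Bool.and_eq_true, List.all_eq_true] at this
      exact ⟨by simpa using this.1.1, Nat.eq_of_beq_eq_true this.1.2,
        fun x hx => this.2 x (List.mem_range.2 hx)⟩
    · exfalso
      rw [hb] at this
      simp only [cond_true, Bool.and_eq_true] at this
      have : linked C C.nlog u = true := by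
        unfold linked
        rw [Bool.and_eq_true, Bool.and_eq_true]
        exact ⟨by simpa using hu, hb, this.1.2⟩
      rw [this] at hl
      exact Bool.noConfusion hl
  -- every name has an unlinked equivalent
  have hunl : ∀ u, u < C.M → ∃ u', u' < C.M ∧ linked C C.nlog u' = false ∧
      f H gen C.toCert u' = f H gen C.toCert u := by
    intro u
    induction u using Nat.strong_induction_on with
    | _ u ih =>
      intro hu
      cases hb : linked C C.nlog u
      · exact ⟨u, hu, hb, rfl⟩
      · have hlt := hlinked u hu hb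
        obtain ⟨u', h1, h2, h3⟩ := ih _ hlt (lt_trans hlt hu)
        exact ⟨u', h1, h2, by rw [h3, hI u hb]⟩
  let S : Set (G ⧸ H) :=
    {q | ∃ u, u < C.M ∧ linked C C.nlog u = false ∧ f H gen C.toCert u = q}
  have hbase : ((1 : G) : G ⧸ H) ∈ S := ⟨0, hM', h0', f_zero H gen C.toCert⟩
  have hclosed : ∀ x < C.k, ∀ q ∈ S, gen x • q ∈ S := by
    rintro x hx q ⟨u, hu, hub, rfl⟩
    have hs := (hunlinked u hu hub).2.2 x hx
    rw [Option.isSome_iff_exists] at hs
    obtain ⟨v, hv⟩ := hs
    obtain ⟨u', h1, h2, h3⟩ := hunl v (stepAt_lt C.toCert hu hv)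
    exact ⟨u', h1, h2, by rw [h3, stepAt_f H gen C.toCert hinv hx hv]⟩
  let K : Subgroup G :=
    { carrier := {g | ∀ q ∈ S, g • q ∈ S ∧ g⁻¹ • q ∈ S}
      one_mem' := fun q hq => by simpa using hq
      mul_mem' := fun {a b} ha hb q hq => by
        refine ⟨?_, ?_⟩
        · rw [mul_smul]; exact (ha _ (hb q hq).1).1
        · rw [mul_inv_rev, mul_smul]; exact (hb _ (ha q hq).2).2
      inv_mem' := fun {a} ha q hq => by
        rw [inv_inv]; exact ⟨(ha q hq).2, (ha q hq).1⟩ }
  have hK : K = ⊤ := by
    rw [eq_top_iff, ← hgen, Subgroup.closure_le]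
    rintro g ⟨x, hx, rfl⟩ q hq
    have hinv' : (gen x)⁻¹ = gen x := inv_eq_of_mul_eq_one_right (hinv x hx)
    rw [hinv']
    exact ⟨hclosed x hx q hq, hclosed x hx q hq⟩
  have hsurj : ∀ q : G ⧸ H, ∃ i < C.n, f H gen C.toCert (C.rep i) = q := by
    intro q
    obtain ⟨g, rfl⟩ := QuotientGroup.mk_surjective q
    have hg : g ∈ K := by rw [hK]; trivial
    have hq : g • ((1 : G) : G ⧸ H) ∈ S := (hg _ hbase).1
    obtain ⟨u, hu, hub, hfu⟩ := hq
    obtain ⟨hi1, hi2, -⟩ := hunlinked u hu hub
    refine ⟨C.idx u, hi1, ?_⟩
    rw [hi2, hfu]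
    show g • ((1 : G) : G ⧸ H) = (g : G ⧸ H)
    rw [MulAction.Quotient.smul_mk, smul_eq_mul, mul_one]
  have hs : Function.Surjective (fun i : Fin C.n => f H gen C.toCert (C.rep i.val)) := by
    intro q
    obtain ⟨i, hi, h⟩ := hsurj q
    exact ⟨⟨i, hi⟩, h⟩
  have hfin : Finite (G ⧸ H) := Finite.of_surjective _ hs
  refine ⟨?_, ?_⟩
  · have := Nat.card_le_card_of_surjective _ hs
    rw [Nat.card_fin] at this
    exact this
  · have : H.FiniteIndex := Subgroup.finiteIndex_of_finite_quotient
    exact Subgroup.FiniteIndex.index_ne_zero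

end sound

/-! ### The form used for chains of subgroups generated by initial segments of the generators -/

section chain

variable {G : Type*} [Group G] (genP : ℕ → G)

theorem card_le_of_log (C : TCert) (k' : ℕ) (hk' : k' ≤ C.k)
    (hinv : ∀ x < C.k, genP x * genP x = 1)
    (hrel : ∀ ch ∈ C.rwords, ∀ w ∈ ch, (w.reverse.map genP).prod = 1)
    (hsub : ∀ w ∈ C.swords, (w.reverse.map genP).prod ∈ Hk genP k')
    (hwok : wordsOK C.toCert = true) (hlog : LogUpTo C C.nlog) (hnames : NamesUpTo C C.M)
    (hhead : headOK C = true) (hfin : Finite (Hk genP k')) :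
    Finite (Hk genP C.k) ∧ Nat.card (Hk genP C.k) ≤ C.n * Nat.card (Hk genP k') := by
  have hwok' := hwok
  unfold wordsOK at hwok'
  rw [Bool.and_eq_true, List.all_eq_true, List.all_eq_true] at hwok'
  obtain ⟨hw1, hw2⟩ := hwok'
  have hle : Hk genP k' ≤ Hk genP C.k := Hk_mono genP hk'
  let gen' : ℕ → Hk genP C.k := fun x =>
    if h : x < C.k then ⟨genP x, gen_mem_Hk genP h⟩ else 1
  have hgen'_coe : ∀ x < C.k, ((gen' x : Hk genP C.k) : G) = genP x := by
    intro x hx
    simp only [gen', dif_pos hx]
  have hprod : ∀ w : List ℕ, (∀ x ∈ w, x < C.k) →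
      (((w.map gen').prod : Hk genP C.k) : G) = (w.map genP).prod := by
    intro w hw
    induction w with
    | nil => simp
    | cons x w ih =>
      rw [List.map_cons, List.prod_cons, List.map_cons, List.prod_cons, Subgroup.coe_mul,
        hgen'_coe x (hw x (by simp)), ih fun y hy => hw y (by simp [hy])]
  have hinv' : ∀ x < C.k, gen' x * gen' x = 1 := by
    intro x hx
    apply Subtype.ext
    rw [Subgroup.coe_mul, hgen'_coe x hx, hinv x hx]
    rfl
  have hgen : Subgroup.closure {g : Hk genP C.k | ∃ x < C.k, gen' x = g} = ⊤ := by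
    have h1 := Subgroup.closure_closure_coe_preimage (k := {g : G | ∃ x < C.k, genP x = g})
    have h2 : {g : Hk genP C.k | ∃ x < C.k, gen' x = g} =
        (Subtype.val ⁻¹' {g : G | ∃ x < C.k, genP x = g}) := by
      ext g
      constructor
      · rintro ⟨x, hx, rfl⟩
        exact ⟨x, hx, (hgen'_coe x hx).symm⟩
      · rintro ⟨x, hx, hg⟩
        exact ⟨x, hx, Subtype.ext (by rw [hgen'_coe x hx]; exact hg)⟩
    rw [h2]
    exact h1
  let H' : Subgroup (Hk genP C.k) := (Hk genP k').subgroupOf (Hk genP C.k)
  have hrel' : ∀ ch ∈ C.rwords, ∀ w ∈ ch, ∀ q : Hk genP C.k ⧸ H', actW H' gen' w q = q := by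
    intro ch hch w hw q
    rw [actW_eq]
    have hlt : ∀ x ∈ w.reverse, x < C.k := by
      intro x hx
      have := List.all_eq_true.1 (List.all_eq_true.1 (hw1 _ hch) _ hw) x (List.mem_reverse.1 hx)
      simpa using this
    have : (w.reverse.map gen').prod = 1 := by
      apply Subtype.ext
      rw [hprod _ hlt, hrel ch hch w hw]
      rfl
    rw [this, one_smul]
  have hsub' : ∀ w ∈ C.swords,
      actW H' gen' w ((1 : Hk genP C.k) : Hk genP C.k ⧸ H') =
        ((1 : Hk genP C.k) : Hk genP C.k ⧸ H') := by
    intro w hw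
    rw [actW_eq]
    have hlt : ∀ x ∈ w.reverse, x < C.k := by
      intro x hx
      have := List.all_eq_true.1 (hw2 _ hw) x (List.mem_reverse.1 hx)
      simpa using this
    rw [MulAction.Quotient.smul_mk, smul_eq_mul, mul_one, QuotientGroup.eq]
    apply H'.mul_mem (H'.inv_mem _) H'.one_mem
    show (((w.reverse.map gen').prod : Hk genP C.k) : G) ∈ Hk genP k'
    rw [hprod _ hlt]
    exact hsub w hw
  obtain ⟨hidx, hidx0⟩ := index_le H' gen' C hinv' hrel' hsub' hwok hgen hlog hnames hhead
  have hcardH : Nat.card H' = Nat.card (Hk genP k') :=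
    Nat.card_congr (Subgroup.subgroupOfEquivOfLe hle).toEquiv
  have hmul := H'.index_mul_card
  rw [hcardH] at hmul
  have hpos : 0 < Nat.card (Hk genP k') := Nat.card_pos
  refine ⟨?_, ?_⟩
  · apply Nat.finite_of_card_ne_zero
    rw [← hmul]
    exact Nat.mul_ne_zero hidx0 (Nat.pos_iff_ne_zero.1 hpos)
  · rw [← hmul]
    exact Nat.mul_le_mul_right _ hidx

end chain

end Cfsg.Agent.Lib.Helper98.CosetCert2
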