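import Mathlib
import Cfsg.Agent.Lib.Helper89.TableChain2

/-!
# Lower bounds for the order of a table-driven group from orbit certificates

`SG` is a list of words (strong generators, deepest first).  `KS D SG k` is the subgroup generated
by the first `k` of them.  If the first `k'` fix the point `b` and the words in `T` (lists of
indices into `SG.take k`) send `b` to pairwise different points, then
`|T| * |KS k'| ≤ |KS k|`.
-/

set_option autoImplicit false

namespace Cfsg.Agent.Lib.Helper98.OrbitLower

open Cfsg.Agent.Lib.Helper89 Cfsg.Agent.Lib.Helper89.TableChain2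

/-- the letter word of a list of indices into `S` -/
def expand (S : List (List ℕ)) (t : List ℕ) : List ℕ := (t.map fun i => S.getD i []).flatten

def lowerCheck (tab : ℕ → ℕ → ℕ) (m N : ℕ) (SG : List (List ℕ)) (k k' b : ℕ)
    (T : List (List ℕ)) : Bool :=
  Nat.ble k' k && Nat.blt b N && (SG.take k).all (fun w => w.all fun c => Nat.blt c m) &&
  (SG.take k').all (fun w => Nat.beq (act tab w b) b) &&
  nodupB (T.map fun t => act tab (expand (SG.take k) t) b)

variable {G : Type*} [Group G] {α : Type*} [MulAction G α] (D : Data G α)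

/-- the subgroup generated by the first `k` words -/
def KS (SG : List (List ℕ)) (k : ℕ) : Subgroup G :=
  Subgroup.closure {g | ∃ w ∈ SG.take k, D.ev w = g}

theorem KS_mono (SG : List (List ℕ)) {k k' : ℕ} (h : k' ≤ k) : KS D SG k' ≤ KS D SG k := by
  apply Subgroup.closure_mono
  rintro g ⟨w, hw, rfl⟩
  refine ⟨w, ?_, rfl⟩
  have : SG.take k' = (SG.take k).take k' := by
    rw [List.take_take, min_eq_left h]
  rw [this] at hw
  exact List.mem_of_mem_take hw

theorem KS_zero (SG : List (List ℕ)) : KS D SG 0 = ⊥ := by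
  rw [KS, Subgroup.closure_eq_bot_iff]
  rintro g ⟨w, hw, -⟩
  simp at hw

theorem ev_expand_mem (S : List (List ℕ)) (K : Subgroup G) (hK : ∀ w ∈ S, D.ev w ∈ K)
    (t : List ℕ) : D.ev (expand S t) ∈ K := by
  induction t with
  | nil => exact K.one_mem
  | cons i t ih =>
    have : expand S (i :: t) = S.getD i [] ++ expand S t := by
      simp [expand]
    rw [this, Data.ev_append]
    refine K.mul_mem ?_ ih
    by_cases hi : i < S.length
    · rw [List.getD_eq_getElem _ _ hi]
      exact hK _ (List.getElem_mem hi)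
    · rw [List.getD_eq_default _ _ (not_lt.1 hi)]
      exact K.one_mem

theorem expand_lt (S : List (List ℕ)) (m : ℕ) (hS : ∀ w ∈ S, ∀ c ∈ w, c < m) (t : List ℕ) :
    ∀ c ∈ expand S t, c < m := by
  intro c hc
  unfold expand at hc
  rw [List.mem_flatten] at hc
  obtain ⟨l, hl, hcl⟩ := hc
  obtain ⟨i, _, rfl⟩ := List.mem_map.1 hl
  by_cases hi : i < S.length
  · rw [List.getD_eq_getElem _ _ hi] at hcl
    exact hS _ (List.getElem_mem hi) c hcl
  · rw [List.getD_eq_default _ _ (not_lt.1 hi)] at hcl
    simp at hcl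

theorem card_mul_le [Finite G] (SG : List (List ℕ)) (k k' b : ℕ) (T : List (List ℕ))
    (h : lowerCheck D.tab D.m D.N SG k k' b T = true) :
    T.length * Nat.card (KS D SG k') ≤ Nat.card (KS D SG k) := by
  unfold lowerCheck at h
  simp only [Bool.and_eq_true] at h
  obtain ⟨⟨⟨⟨h1, h2⟩, h3⟩, h4⟩, h5⟩ := h
  have hk : k' ≤ k := Nat.le_of_ble_eq_true h1
  have hb : b < D.N := by simpa using h2
  have hlt : ∀ w ∈ SG.take k, ∀ c ∈ w, c < D.m := by
    intro w hw c hc
    have := List.all_eq_true.1 (List.all_eq_true.1 h3 w hw) c hc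
    simpa using this
  have hlt' : ∀ w ∈ SG.take k', ∀ c ∈ w, c < D.m := by
    intro w hw
    apply hlt w
    have : SG.take k' = (SG.take k).take k' := by rw [List.take_take, min_eq_left hk]
    rw [this] at hw
    exact List.mem_of_mem_take hw
  have hfix : KS D SG k' ≤ MulAction.stabilizer G (D.pt b) := by
    rw [KS, Subgroup.closure_le]
    rintro g ⟨w, hw, rfl⟩
    show D.ev w • D.pt b = D.pt b
    rw [D.ev_smul w (hlt' w hw) b hb, Nat.eq_of_beq_eq_true (List.all_eq_true.1 h4 w hw)]
  have hnd := (nodupB_iff _).1 h5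
  let u : Fin T.length → G := fun i => D.ev (expand (SG.take k) (T.get i))
  have hu : ∀ i, u i ∈ KS D SG k := fun i =>
    ev_expand_mem D (SG.take k) (KS D SG k)
      (fun w hw => Subgroup.subset_closure (show D.ev w ∈ {g | ∃ w ∈ SG.take k, D.ev w = g} from
        ⟨w, hw, rfl⟩)) _
  have hub : ∀ i, u i • D.pt b = D.pt (act D.tab (expand (SG.take k) (T.get i)) b) := fun i =>
    D.ev_smul _ (expand_lt _ _ hlt _) b hb
  rw [← Nat.card_fin T.length, ← Nat.card_prod]
  refine Nat.card_le_card_of_injective
    (fun p : Fin T.length × KS D SG k' =>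
      (⟨u p.1 * p.2.1, (KS D SG k).mul_mem (hu p.1) (KS_mono D SG hk p.2.2)⟩ : KS D SG k)) ?_
  rintro ⟨i, g⟩ ⟨i', g'⟩ heq
  have heq' : u i * g.1 = u i' * g'.1 := congrArg Subtype.val heq
  have hg : (g.1 : G) • D.pt b = D.pt b := hfix g.2
  have hg' : (g'.1 : G) • D.pt b = D.pt b := hfix g'.2
  have hpt : u i • D.pt b = u i' • D.pt b := by
    have := congrArg (fun x : G => x • D.pt b) heq'
    simpa [mul_smul, hg, hg'] using this
  rw [hub, hub] at hpt
  have hidx := D.pt_inj _ (D.act_lt _ (expand_lt _ _ hlt _) b hb) _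
    (D.act_lt _ (expand_lt _ _ hlt _) b hb) hpt
  have hii : i = i' := by
    have h1' : i.val < (T.map fun t => act D.tab (expand (SG.take k) t) b).length := by simp
    have h2' : i'.val < (T.map fun t => act D.tab (expand (SG.take k) t) b).length := by simp
    have := (List.Nodup.getElem_inj_iff hnd (hi := h1') (hj := h2')).1 (by
      simpa using hidx)
    exact Fin.ext this
  subst hii
  have : g.1 = g'.1 := mul_left_cancel heq'
  exact Prod.ext rfl (Subtype.ext this)

end Cfsg.Agent.Lib.Helper98.OrbitLower
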