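import Mathlib

/-!
# Simplicity of primitive permutation groups from a coprimality criterion

* `mem_of_pow_mem_of_coprime`: `x ∈ N` if `x ^ a ∈ N`, `x ^ b ∈ N`, `a`, `b` coprime.
* `isPreprimitive_of_rank_three`: a transitive action in which a point stabiliser has (at most)
  two further orbits `O1`, `O2` with `|O1| + 1`, `|O2| + 1` not dividing the degree is primitive.
* `isSimpleGroup_of_primitive`: a primitive subgroup `G` of `Perm (Fin n)` of order `n * r`
  generated by elements of order dividing `p`, with `p` coprime to `r`, is simple.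
-/

set_option autoImplicit false

namespace Cfsg.Agent.Lib.Helper98.PrimSimple

open MulAction
open scoped Pointwise

theorem mem_of_pow_mem_of_coprime {G : Type*} [Group G] (N : Subgroup G) (x : G) {a b : ℕ}
    (hab : Nat.Coprime a b) (ha : x ^ a ∈ N) (hb : x ^ b ∈ N) : x ∈ N := by
  have h := Nat.gcd_eq_gcd_ab a b
  rw [hab.gcd_eq_one] at h
  have hx : x = (x ^ a) ^ (Nat.gcdA a b) * (x ^ b) ^ (Nat.gcdB a b) := by
    rw [← zpow_natCast, ← zpow_natCast, ← zpow_mul, ← zpow_mul, ← zpow_add, ← h]
    simp
  rw [hx]
  exact N.mul_mem (N.zpow_mem ha _) (N.zpow_mem hb _)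

theorem isPreprimitive_of_rank_three {G X : Type*} [Group G] [MulAction G X] [Fintype X]
    [DecidableEq X] [IsPretransitive G X] (a : X) (O1 O2 : Finset X)
    (hcover : ∀ x, x = a ∨ x ∈ O1 ∨ x ∈ O2)
    (h1 : ∀ x ∈ O1, ∀ y ∈ O1, ∃ g : G, g • a = a ∧ g • x = y)
    (h2 : ∀ x ∈ O2, ∀ y ∈ O2, ∃ g : G, g • a = a ∧ g • x = y)
    (ha1 : a ∉ O1) (ha2 : a ∉ O2)
    (hd1 : ¬ (O1.card + 1) ∣ Fintype.card X) (hd2 : ¬ (O2.card + 1) ∣ Fintype.card X) :
    IsPreprimitive G X := by
  refine IsPreprimitive.of_isTrivialBlock_base a ?_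
  intro B haB hB
  have key : ∀ g : G, g • a = a → g • B = B := fun g hg => hB.stabilizer_le haB hg
  have closed : ∀ x y : X, (∃ g : G, g • a = a ∧ g • x = y) → x ∈ B → y ∈ B := by
    rintro x y ⟨g, hga, rfl⟩ hxB
    rw [← key g hga]
    exact Set.smul_mem_smul_set hxB
  have hdvd : B.ncard ∣ Fintype.card X := by
    have := hB.ncard_dvd_card ⟨a, haB⟩
    rwa [Nat.card_eq_fintype_card] at this
  by_cases e1 : ∃ x ∈ O1, x ∈ B
  · obtain ⟨x1, hx1, hx1B⟩ := e1
    have c1 : ∀ y ∈ O1, y ∈ B := fun y hy => closed x1 y (h1 x1 hx1 y hy) hx1B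
    by_cases e2 : ∃ x ∈ O2, x ∈ B
    · obtain ⟨x2, hx2, hx2B⟩ := e2
      have c2 : ∀ y ∈ O2, y ∈ B := fun y hy => closed x2 y (h2 x2 hx2 y hy) hx2B
      right
      refine Set.eq_univ_of_forall fun x => ?_
      rcases hcover x with rfl | h | h
      · exact haB
      · exact c1 x h
      · exact c2 x h
    · exfalso
      push Not at e2
      have hBeq : B = ↑(insert a O1) := by
        ext x
        simp only [Finset.coe_insert, Set.mem_insert_iff, Finset.mem_coe]
        constructor
        · intro hx
          rcases hcover x with rfl | h | h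
          · exact Or.inl rfl
          · exact Or.inr h
          · exact absurd hx (e2 x h)
        · rintro (rfl | h)
          · exact haB
          · exact c1 x h
      rw [hBeq, Set.ncard_coe_finset, Finset.card_insert_of_notMem ha1] at hdvd
      exact hd1 hdvd
  · push Not at e1
    by_cases e2 : ∃ x ∈ O2, x ∈ B
    · exfalso
      obtain ⟨x2, hx2, hx2B⟩ := e2
      have c2 : ∀ y ∈ O2, y ∈ B := fun y hy => closed x2 y (h2 x2 hx2 y hy) hx2B
      have hBeq : B = ↑(insert a O2) := by
        ext x
        simp only [Finset.coe_insert, Set.mem_insert_iff, Finset.mem_coe]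
        constructor
        · intro hx
          rcases hcover x with rfl | h | h
          · exact Or.inl rfl
          · exact absurd hx (e1 x h)
          · exact Or.inr h
        · rintro (rfl | h)
          · exact haB
          · exact c2 x h
      rw [hBeq, Set.ncard_coe_finset, Finset.card_insert_of_notMem ha2] at hdvd
      exact hd2 hdvd
    · left
      push Not at e2
      intro x hx y hy
      have hxa : x = a := by
        rcases hcover x with h | h | h
        · exact h
        · exact absurd hx (e1 x h)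
        · exact absurd hx (e2 x h)
      have hya : y = a := by
        rcases hcover y with h | h | h
        · exact h
        · exact absurd hy (e1 y h)
        · exact absurd hy (e2 y h)
      rw [hxa, hya]

theorem isSimpleGroup_of_primitive {n : ℕ} (G : Subgroup (Equiv.Perm (Fin n)))
    [IsPreprimitive G (Fin n)] (a : Fin n) (p r : ℕ) (hcard : Nat.card G = n * r)
    (h1 : 1 < n * r) (hpr : Nat.Coprime p r)
    (S : Set (Equiv.Perm (Fin n))) (hS : G = Subgroup.closure S) (hSp : ∀ s ∈ S, s ^ p = 1) :
    IsSimpleGroup G := by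
  have hfin : Finite G := Nat.finite_of_card_ne_zero (by rw [hcard]; omega)
  have hnt : Nontrivial G := Finite.one_lt_card_iff_nontrivial.1 (by rw [hcard]; exact h1)
  refine { toNontrivial := hnt, eq_bot_or_eq_top_of_normal := fun N hN => ?_ }
  by_cases hbot : N = ⊥
  · exact Or.inl hbot
  right
  have hfix : fixedPoints N (Fin n) ≠ Set.univ := by
    obtain ⟨g, hg⟩ := (Subgroup.ne_bot_iff_exists_ne_one).1 hbot
    have hg' : ((g : G) : Equiv.Perm (Fin n)) ≠ 1 := by
      intro h
      apply hg
      apply Subtype.ext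
      apply Subtype.ext
      exact h
    obtain ⟨b, hb⟩ : ∃ b, ((g : G) : Equiv.Perm (Fin n)) b ≠ b := by
      by_contra hcon
      push Not at hcon
      exact hg' (Equiv.ext hcon)
    intro huniv
    have : b ∈ fixedPoints N (Fin n) := by rw [huniv]; exact Set.mem_univ b
    exact hb (this g)
  have hpre : IsPretransitive N (Fin n) :=
    IsQuasiPreprimitive.isPretransitive_of_normal (G := G) (X := Fin n) hfix
  have hdvd : n ∣ Nat.card N := by
    have h2 := index_stabilizer_of_transitive N a
    rw [Nat.card_eq_fintype_card, Fintype.card_fin] at h2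
    have h3 : (stabilizer N a).index ∣ Nat.card N := Subgroup.index_dvd_card _
    rw [h2] at h3
    exact h3
  have hidx : N.index ∣ r := by
    obtain ⟨c, hc⟩ := hdvd
    have h3 := N.index_mul_card
    rw [hcard, hc] at h3
    have hn : 0 < n := by
      rcases Nat.eq_zero_or_pos n with h | h
      · rw [h] at h1; omega
      · exact h
    have : n * (N.index * c) = n * r := by rw [← h3]; ring
    have := Nat.eq_of_mul_eq_mul_left hn this
    exact Dvd.intro _ this
  have hcop : Nat.Coprime p N.index := Nat.Coprime.coprime_dvd_right hidx hpr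
  have hmem : ∀ s ∈ S, ∃ hs : s ∈ G, (⟨s, hs⟩ : G) ∈ N := by
    intro s hs
    have hsG : s ∈ G := by rw [hS]; exact Subgroup.subset_closure hs
    refine ⟨hsG, ?_⟩
    apply mem_of_pow_mem_of_coprime N _ hcop
    · have : (⟨s, hsG⟩ : G) ^ p = 1 := by
        apply Subtype.ext
        simpa using hSp s hs
      rw [this]; exact N.one_mem
    · exact Subgroup.pow_index_mem N _
  have hle : G ≤ N.map G.subtype := by
    conv_lhs => rw [hS]
    rw [Subgroup.closure_le]
    intro s hs
    obtain ⟨hsG, hsN⟩ := hmem s hs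
    exact ⟨⟨s, hsG⟩, hsN, rfl⟩
  rw [eq_top_iff]
  intro g _
  obtain ⟨g', hg', he⟩ := hle g.2
  have : g' = g := Subtype.ext he
  rw [← this]; exact hg'

end Cfsg.Agent.Lib.Helper98.PrimSimple
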