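import Mathlib
import Cfsg.Agent.Lib.Helper89.NormChain
import Cfsg.Agent.Lib.Helper98.PrimSimple

/-!
# Table-driven permutation groups on `Fin N`: order and simplicity from certificates

Builds the `TableChain2.Data` of a list of permutations of `Fin N` given by lookup tables, and proves
that the generated group is simple once a rank three orbit certificate for the point stabiliser and
a generation certificate by elements of order `p` are available.
-/

set_option autoImplicit false

namespace Cfsg.Agent.Lib.Helper98.PermChain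

open Cfsg.Agent.Lib.Helper89 Cfsg.Agent.Lib.Helper89.TableChain2 Cfsg.Agent.Lib.Helper89.NormChain
open MulAction

/-- the tables `tab`, `tabI` describe `m` mutually inverse pairs of maps of `{0,…,N-1}` -/
structure TabOK (N m : ℕ) (tab tabI : ℕ → ℕ → ℕ) : Prop where
  tab_lt : ∀ j < m, ∀ x < N, tab j x < N
  tabI_lt : ∀ j < m, ∀ x < N, tabI j x < N
  tab_tabI : ∀ j < m, ∀ x < N, tab j (tabI j x) = x
  tabI_tab : ∀ j < m, ∀ x < N, tabI j (tab j x) = x

/-- Boolean certificate for `TabOK` -/
def tabCheck (N m : ℕ) (tab tabI : ℕ → ℕ → ℕ) : Bool :=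
  (List.range m).all fun j => (List.range N).all fun x =>
    Nat.blt (tab j x) N && Nat.blt (tabI j x) N && Nat.beq (tab j (tabI j x)) x &&
      Nat.beq (tabI j (tab j x)) x

theorem tabOK_of_check {N m : ℕ} {tab tabI : ℕ → ℕ → ℕ} (h : tabCheck N m tab tabI = true) :
    TabOK N m tab tabI := by
  unfold tabCheck at h
  rw [List.all_eq_true] at h
  have h' : ∀ j < m, ∀ x < N, (tab j x < N ∧ tabI j x < N ∧ tab j (tabI j x) = x ∧
      tabI j (tab j x) = x) := by
    intro j hj x hx
    have := List.all_eq_true.1 (h j (List.mem_range.2 hj)) x (List.mem_range.2 hx)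
    simp only [Bool.and_eq_true, Nat.blt_eq] at this
    obtain ⟨⟨⟨a, b⟩, c⟩, d⟩ := this
    exact ⟨a, b, Nat.eq_of_beq_eq_true c, Nat.eq_of_beq_eq_true d⟩
  exact ⟨fun j hj x hx => (h' j hj x hx).1, fun j hj x hx => (h' j hj x hx).2.1,
    fun j hj x hx => (h' j hj x hx).2.2.1, fun j hj x hx => (h' j hj x hx).2.2.2⟩

section
variable {N m : ℕ} {tab tabI : ℕ → ℕ → ℕ} (h : TabOK N m tab tabI)

/-- the permutation with table `tab j` -/
def genOf (j : ℕ) : Equiv.Perm (Fin N) :=
  if hj : j < m then
    { toFun := fun x => ⟨tab j x.val, h.tab_lt j hj x.val x.isLt⟩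
      invFun := fun x => ⟨tabI j x.val, h.tabI_lt j hj x.val x.isLt⟩
      left_inv := fun x => Fin.ext (h.tabI_tab j hj x.val x.isLt)
      right_inv := fun x => Fin.ext (h.tab_tabI j hj x.val x.isLt) }
  else 1

theorem genOf_apply (j : ℕ) (hj : j < m) (x : Fin N) : (genOf h j x).val = tab j x.val := by
  rw [genOf, dif_pos hj]
  rfl

variable [NeZero N]

theorem val_ofNat (x : ℕ) (hx : x < N) : (Fin.ofNat N x).val = x := by
  simp [Fin.ofNat, Nat.mod_eq_of_lt hx]

theorem ofNat_val (a : Fin N) : Fin.ofNat N a.val = a :=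
  Fin.ext (val_ofNat a.val a.isLt)

/-- the chain data of the tables -/
def data : Data (Equiv.Perm (Fin N)) (Fin N) where
  m := m
  N := N
  gen := genOf h
  pt := Fin.ofNat N
  tab := tab
  chk := List.range N
  gen_smul := by
    intro j hj x hx
    apply Fin.ext
    show (genOf h j (Fin.ofNat N x)).val = _
    rw [genOf_apply h j hj, val_ofNat x hx, val_ofNat _ (h.tab_lt j hj x hx)]
  tab_lt := h.tab_lt
  chk_lt := fun x hx => List.mem_range.1 hx
  faithful := by
    intro g g' hgg
    apply Equiv.ext
    intro a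
    have := hgg a.val (List.mem_range.2 a.isLt)
    rwa [ofNat_val] at this
  pt_inj := by
    intro x hx y hy hxy
    have := congrArg Fin.val hxy
    rwa [val_ofNat x hx, val_ofNat y hy] at this

theorem ev_mem_closure (S : Set (Equiv.Perm (Fin N))) (top : List ℕ)
    (hS : ∀ j ∈ top, (data h).gen j ∈ Subgroup.closure S) (l : List ℕ) (hl : ∀ c ∈ l, c ∈ top) :
    (data h).ev l ∈ Subgroup.closure S := by
  induction l with
  | nil => exact Subgroup.one_mem _
  | cons j l ih =>
    rw [Data.ev_cons]
    exact Subgroup.mul_mem _ (hS j (hl j (by simp))) (ih fun c hc => hl c (by simp [hc]))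

/-- Boolean certificate: every generator is a word in the generators listed in `top`, which
have order dividing `p`. -/
def genCheck (N m p : ℕ) (tab : ℕ → ℕ → ℕ) (top : List ℕ) (GW : ℕ → List ℕ) : Bool :=
  top.all (fun j => Nat.blt j m &&
    (List.range N).all fun x => Nat.beq (act tab (List.replicate p j) x) x) &&
  (List.range m).all fun j => (GW j).all (fun c => elemB c top) &&
    (List.range N).all fun x => Nat.beq (tab j x) (act tab (GW j) x)

/-- simplicity and order of the group generated by the tables, from certificates -/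
theorem isSimpleGroup_of_certs (k1 : ℕ) {T0 : List (List ℕ)} {E0 : List (List (ℕ × List ℕ))}
    (lv0 : Data.LevelOK (data h) m k1 0 T0 E0)
    {W0 : ℕ → List ℕ} (orb0 : OrbOK (data h) m (fun _ => 0) W0)
    {lab : ℕ → ℕ} {W : ℕ → List ℕ} (orb1 : OrbOK (data h) k1 lab W) (r1 r2 : ℕ)
    (hcover : ∀ x < N, x = 0 ∨ lab x = r1 ∨ lab x = r2) (h01 : lab 0 ≠ r1) (h02 : lab 0 ≠ r2)
    (hd1 : ¬ ((Finset.univ.filter fun a : Fin N => lab a.val = r1).card + 1) ∣ N)
    (hd2 : ¬ ((Finset.univ.filter fun a : Fin N => lab a.val = r2).card + 1) ∣ N)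
    (p r : ℕ) (hcard : Nat.card ((data h).H m) = N * r) (hNr : 1 < N * r) (hpr : Nat.Coprime p r)
    (top : List ℕ) (GW : ℕ → List ℕ) (hgen : genCheck N m p tab top GW = true) :
    IsSimpleGroup ((data h).H m) := by
  have hfin : Finite (Equiv.Perm (Fin N)) := inferInstance
  have hix : ∀ a : Fin N, a.val < (data h).N := fun a => a.isLt
  have hpt : ∀ a : Fin N, (data h).pt a.val = a := ofNat_val
  have hN0 : 0 < N := Nat.pos_of_ne_zero (NeZero.ne N)
  have hpt0 : (data h).pt 0 = (0 : Fin N) := by
    apply Fin.ext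
    show (Fin.ofNat N 0).val = _
    rw [val_ofNat 0 hN0]
    rfl
  -- transitivity
  have htrans : IsPretransitive ((data h).H m) (Fin N) := by
    refine ⟨fun a a' => ?_⟩
    obtain ⟨g, hg, hga⟩ := (orb0.orbit_iff (fun a : Fin N => a.val) hix hpt a a').2 rfl
    exact ⟨⟨g, hg⟩, hga⟩
  -- the point stabiliser
  have hstab := lv0.inf_stabilizer
  rw [hpt0] at hstab
  have horb : ∀ a a' : Fin N, lab a.val = lab a'.val →
      ∃ g : (data h).H m, g • (0 : Fin N) = 0 ∧ g • a = a' := by
    intro a a' haa
    obtain ⟨g, hg, hga⟩ := (orb1.orbit_iff (fun a : Fin N => a.val) hix hpt a a').2 haa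
    have hg' : g ∈ (data h).H m ⊓ stabilizer (Equiv.Perm (Fin N)) (0 : Fin N) := by
      rw [hstab]; exact hg
    exact ⟨⟨g, hg'.1⟩, hg'.2, hga⟩
  have hprim : IsPreprimitive ((data h).H m) (Fin N) := by
    refine PrimSimple.isPreprimitive_of_rank_three (0 : Fin N)
      (Finset.univ.filter fun a : Fin N => lab a.val = r1)
      (Finset.univ.filter fun a : Fin N => lab a.val = r2) ?_ ?_ ?_ ?_ ?_ ?_ ?_
    · intro x
      rcases hcover x.val x.isLt with h0 | h1 | h2
      · left; exact Fin.ext h0
      · right; left; simpa using h1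
      · right; right; simpa using h2
    · intro x hx y hy
      simp only [Finset.mem_filter, Finset.mem_univ, true_and] at hx hy
      exact horb x y (by rw [hx, hy])
    · intro x hx y hy
      simp only [Finset.mem_filter, Finset.mem_univ, true_and] at hx hy
      exact horb x y (by rw [hx, hy])
    · simp only [Finset.mem_filter, Finset.mem_univ, true_and]
      exact h01
    · simp only [Finset.mem_filter, Finset.mem_univ, true_and]
      exact h02
    · rwa [Fintype.card_fin]
    · rwa [Fintype.card_fin]
  -- generation by elements of order dividing `p`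
  unfold genCheck at hgen
  rw [Bool.and_eq_true, List.all_eq_true, List.all_eq_true] at hgen
  obtain ⟨htop, hgw⟩ := hgen
  have htop' : ∀ j ∈ top, j < m ∧ (data h).gen j ^ p = 1 := by
    intro j hj
    have := htop j hj
    rw [Bool.and_eq_true, List.all_eq_true] at this
    obtain ⟨h1, h2⟩ := this
    have hjm : j < m := by simpa using h1
    refine ⟨hjm, ?_⟩
    have hrep : (data h).ev (List.replicate p j) = (data h).gen j ^ p := by
      simp [Data.ev]
    rw [← hrep, ← (data h).ev_nil]
    apply (data h).ev_eq_of_act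
    · intro c hc
      rw [List.eq_of_mem_replicate hc]; exact hjm
    · intro c hc; simp at hc
    · intro x hx
      exact Nat.eq_of_beq_eq_true (h2 x hx)
  have hgw' : ∀ j < m, (∀ c ∈ GW j, c ∈ top) ∧ (data h).gen j = (data h).ev (GW j) := by
    intro j hj
    have := hgw j (List.mem_range.2 hj)
    rw [Bool.and_eq_true, List.all_eq_true, List.all_eq_true] at this
    obtain ⟨h1, h2⟩ := this
    have hc : ∀ c ∈ GW j, c ∈ top := fun c hc => (elemB_iff c top).1 (h1 c hc)
    refine ⟨hc, ?_⟩
    have h3 : (data h).ev [j] = (data h).ev (GW j) := by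
      apply (data h).ev_eq_of_act
      · intro c hc'
        simp only [List.mem_singleton] at hc'
        rw [hc']; exact hj
      · intro c hc'
        exact (htop' c (hc c hc')).1
      · intro x hx
        exact Nat.eq_of_beq_eq_true (h2 x hx)
    simpa [Data.ev] using h3
  let S : Set (Equiv.Perm (Fin N)) := {g | ∃ j ∈ top, (data h).gen j = g}
  have hS : (data h).H m = Subgroup.closure S := by
    apply le_antisymm
    · rw [Data.H, Subgroup.closure_le]
      rintro g ⟨j, hj, rfl⟩
      rw [(hgw' j hj).2]
      exact ev_mem_closure h S top (fun j hj => Subgroup.subset_closure ⟨j, hj, rfl⟩) _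
        (hgw' j hj).1
    · rw [Subgroup.closure_le]
      rintro g ⟨j, hj, rfl⟩
      exact (data h).gen_mem j (htop' j hj).1
  exact PrimSimple.isSimpleGroup_of_primitive ((data h).H m) (0 : Fin N) p r hcard hNr hpr S hS
    (by rintro s ⟨j, hj, rfl⟩; exact (htop' j hj).2)

end

end Cfsg.Agent.Lib.Helper98.PermChain
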