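import Mathlib
import Cfsg.Agent.Lib.Helper98.OrbitLower
import Cfsg.Agent.Lib.Helper98.PermChain

/-!
# Cheap kernel checks for table-driven permutation groups

Versions of the checks of `TableChain2` written with explicit recursors (cheap in the kernel), and
orbit certificates given by parent pointers: every point `x` other than its label `lab x` is the image
of a point `par x` of smaller rank under the strong generator with index `pg x`.
-/

set_option autoImplicit false

namespace Cfsg.Agent.Lib.Helper98.PermCert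

open Cfsg.Agent.Lib.Helper89 Cfsg.Agent.Lib.Helper89.TableChain2
open Cfsg.Agent.Lib.Helper98.OrbitLower

/-- bounded universal quantifier -/
def allBelow (n : ℕ) (p : ℕ → Bool) : Bool :=
  Nat.rec (motive := fun _ => Bool) true (fun i ih => cond (p i) ih false) n

theorem allBelow_iff (n : ℕ) (p : ℕ → Bool) : allBelow n p = true ↔ ∀ i < n, p i = true := by
  induction n with
  | zero => simp [allBelow]
  | succ n ih =>
    have : allBelow (n + 1) p = cond (p n) (allBelow n p) false := rfl
    rw [this]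
    constructor
    · intro h i hi
      cases hp : p n
      · rw [hp] at h; exact absurd h (by simp)
      · rw [hp] at h
        rcases Nat.lt_succ_iff_lt_or_eq.1 hi with h' | h'
        · exact ih.1 h i h'
        · rw [h']; exact hp
    · intro h
      rw [h n (Nat.lt_succ_self n)]
      exact ih.2 fun i hi => h i (Nat.lt_succ_of_lt hi)

/-- `act` with an explicit recursor -/
def actF (tab : ℕ → ℕ → ℕ) (l : List ℕ) (x : ℕ) : ℕ :=
  List.rec (motive := fun _ => ℕ) x (fun j _ ih => tab j ih) l

theorem actF_eq (tab : ℕ → ℕ → ℕ) (l : List ℕ) (x : ℕ) : actF tab l x = act tab l x := by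
  induction l with
  | nil => rfl
  | cons j l ih =>
    rw [act_cons, ← ih]
    rfl

/-- the word fixes every point below `N` -/
def fixAll (tab : ℕ → ℕ → ℕ) (N : ℕ) (w : List ℕ) : Bool :=
  allBelow N fun x => Nat.beq (actF tab w x) x

theorem fixAll_spec {tab : ℕ → ℕ → ℕ} {N : ℕ} {w : List ℕ} (h : fixAll tab N w = true) :
    ∀ x < N, act tab w x = x := by
  intro x hx
  have := (allBelow_iff _ _).1 h x hx
  rw [← actF_eq]
  exact Nat.eq_of_beq_eq_true this

/-- the tables are involutions of `{0,…,N-1}` -/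
def invOK (tab : ℕ → ℕ → ℕ) (N m : ℕ) : Bool :=
  allBelow m fun j => allBelow N fun x => Nat.blt (tab j x) N && Nat.beq (tab j (tab j x)) x

theorem tabOK_of_invOK {tab : ℕ → ℕ → ℕ} {N m : ℕ} (h : invOK tab N m = true) :
    Cfsg.Agent.Lib.Helper98.PermChain.TabOK N m tab tab := by
  have h' : ∀ j < m, ∀ x < N, tab j x < N ∧ tab j (tab j x) = x := by
    intro j hj x hx
    have := (allBelow_iff _ _).1 ((allBelow_iff _ _).1 h j hj) x hx
    rw [Bool.and_eq_true] at this
    exact ⟨by simpa using this.1, Nat.eq_of_beq_eq_true this.2⟩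
  exact ⟨fun j hj x hx => (h' j hj x hx).1, fun j hj x hx => (h' j hj x hx).1,
    fun j hj x hx => (h' j hj x hx).2, fun j hj x hx => (h' j hj x hx).2⟩

/-- one point of a parent-pointer orbit certificate -/
def orbStepOK (tab : ℕ → ℕ → ℕ) (N : ℕ) (SG : List (List ℕ)) (k : ℕ) (lab par pg rk : ℕ → ℕ)
    (x : ℕ) : Bool :=
  Nat.beq x (lab x) ||
  (Nat.blt (par x) N && Nat.blt (pg x) k &&
    Nat.beq (actF tab (SG.getD (pg x) []) (par x)) x &&
    Nat.blt (rk (par x)) (rk x) && Nat.beq (lab (par x)) (lab x))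

def orbOK (tab : ℕ → ℕ → ℕ) (N : ℕ) (SG : List (List ℕ)) (k : ℕ) (lab par pg rk : ℕ → ℕ) : Bool :=
  allBelow N (orbStepOK tab N SG k lab par pg rk)

theorem getD_take_mem (SG : List (List ℕ)) (k i : ℕ) (hi : i < k) :
    SG.getD i [] = [] ∨ SG.getD i [] ∈ SG.take k := by
  by_cases h : i < SG.length
  · right
    rw [List.getD_eq_getElem _ _ h]
    have h' : i < (SG.take k).length := by
      rw [List.length_take]; exact lt_min hi h
    have : (SG.take k)[i] = SG[i] := List.getElem_take
    rw [← this]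
    exact List.getElem_mem h'
  · left
    exact List.getD_eq_default _ _ (not_lt.1 h)

section

variable {G : Type*} [Group G] {α : Type*} [MulAction G α] (D : Data G α)

theorem ev_mem_KS (SG : List (List ℕ)) (k : ℕ) {w : List ℕ} (hw : w ∈ SG.take k) :
    D.ev w ∈ KS D SG k :=
  Subgroup.subset_closure ⟨w, hw, rfl⟩

/-- soundness of the orbit certificate: every point is in the orbit of its label -/
theorem exists_of_orbOK (SG : List (List ℕ)) (k : ℕ) {lab par pg rk : ℕ → ℕ}
    (hSG : ∀ w ∈ SG.take k, ∀ c ∈ w, c < D.m)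
    (h : orbOK D.tab D.N SG k lab par pg rk = true) :
    ∀ x < D.N, lab x < D.N ∧ ∃ g ∈ KS D SG k, g • D.pt (lab x) = D.pt x := by
  have hall := (allBelow_iff _ _).1 h
  intro x
  induction hr : rk x using Nat.strong_induction_on generalizing x with
  | _ n ih =>
    intro hx
    have hs := hall x hx
    unfold orbStepOK at hs
    rw [Bool.or_eq_true] at hs
    rcases hs with hs | hs
    · have hxl : x = lab x := Nat.eq_of_beq_eq_true hs
      refine ⟨by rw [← hxl]; exact hx, 1, Subgroup.one_mem _, ?_⟩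
      rw [one_smul, ← hxl]
    · simp only [Bool.and_eq_true] at hs
      obtain ⟨⟨⟨⟨h1, h2⟩, h3⟩, h4⟩, h5⟩ := hs
      have hpar : par x < D.N := by simpa using h1
      have hpg : pg x < k := by simpa using h2
      have hact : act D.tab (SG.getD (pg x) []) (par x) = x := by
        rw [← actF_eq]; exact Nat.eq_of_beq_eq_true h3
      have hrk : rk (par x) < n := by rw [← hr]; simpa using h4
      have hlab : lab (par x) = lab x := Nat.eq_of_beq_eq_true h5
      obtain ⟨hl, g', hg', hgp⟩ := ih _ hrk (par x) rfl hpar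
      rw [hlab] at hl hgp
      refine ⟨hl, ?_⟩
      rcases getD_take_mem SG k (pg x) hpg with hw | hw
      · rw [hw, act_nil] at hact
        exact ⟨g', hg', by rw [hgp, hact]⟩
      · refine ⟨D.ev (SG.getD (pg x) []) * g', Subgroup.mul_mem _ (ev_mem_KS D SG k hw) hg', ?_⟩
        rw [mul_smul, hgp, D.ev_smul _ (hSG _ hw) _ hpar, hact]

theorem KS_le_stabilizer (SG : List (List ℕ)) (k b : ℕ) (hb : b < D.N)
    (hSG : ∀ w ∈ SG.take k, ∀ c ∈ w, c < D.m) (hfix : ∀ w ∈ SG.take k, act D.tab w b = b) :
    KS D SG k ≤ MulAction.stabilizer G (D.pt b) := by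
  rw [KS, Subgroup.closure_le]
  rintro g ⟨w, hw, rfl⟩
  show D.ev w • D.pt b = D.pt b
  rw [D.ev_smul w (hSG w hw) b hb, hfix w hw]

theorem KS_le_H (SG : List (List ℕ)) (k : ℕ) (hSG : ∀ w ∈ SG.take k, ∀ c ∈ w, c < D.m) :
    KS D SG k ≤ D.H D.m := by
  rw [KS, Subgroup.closure_le]
  rintro g ⟨w, hw, rfl⟩
  exact D.ev_mem _ w (hSG w hw)

/-- lower bound for a level of a stabiliser chain from an orbit of known size -/
theorem card_mul_le_of_orb [Finite G] (SG : List (List ℕ)) (k k' b n : ℕ) {lab : ℕ → ℕ}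
    (hk : k' ≤ k) (hb : b < D.N)
    (hSG : ∀ w ∈ SG.take k, ∀ c ∈ w, c < D.m)
    (hfix : ∀ w ∈ SG.take k', act D.tab w b = b)
    (horb : ∀ x < D.N, lab x = b → ∃ g ∈ KS D SG k, g • D.pt b = D.pt x)
    (hcount : n ≤ ((List.range D.N).filter fun x => Nat.beq (lab x) b).length) :
    n * Nat.card (KS D SG k') ≤ Nat.card (KS D SG k) := by
  have hlt' : ∀ w ∈ SG.take k', ∀ c ∈ w, c < D.m := by
    intro w hw
    apply hSG w
    have : SG.take k' = (SG.take k).take k' := by rw [List.take_take, min_eq_left hk]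
    rw [this] at hw
    exact List.mem_of_mem_take hw
  have hfix' : KS D SG k' ≤ MulAction.stabilizer G (D.pt b) := by
    rw [KS, Subgroup.closure_le]
    rintro g ⟨w, hw, rfl⟩
    show D.ev w • D.pt b = D.pt b
    rw [D.ev_smul w (hlt' w hw) b hb, hfix w hw]
  set S := (List.range D.N).filter fun x => Nat.beq (lab x) b with hS
  have hnd : S.Nodup := List.Nodup.filter _ List.nodup_range
  have hmemS : ∀ y ∈ S, y < D.N ∧ lab y = b := by
    intro y hy
    rw [hS, List.mem_filter, List.mem_range] at hy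
    exact ⟨hy.1, Nat.eq_of_beq_eq_true hy.2⟩
  have hmem : ∀ i : Fin S.length, S.get i < D.N ∧ lab (S.get i) = b :=
    fun i => hmemS _ (List.get_mem _ _)
  choose u hu hub using fun i : Fin S.length => horb (S.get i) (hmem i).1 (hmem i).2
  refine le_trans (Nat.mul_le_mul_right _ hcount) ?_
  rw [← Nat.card_fin S.length, ← Nat.card_prod]
  refine Nat.card_le_card_of_injective
    (fun p : Fin S.length × KS D SG k' =>
      (⟨u p.1 * p.2.1, (KS D SG k).mul_mem (hu p.1) (KS_mono D SG hk p.2.2)⟩ : KS D SG k)) ?_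
  rintro ⟨i, g⟩ ⟨i', g'⟩ heq
  have heq' : u i * g.1 = u i' * g'.1 := congrArg Subtype.val heq
  have hg : (g.1 : G) • D.pt b = D.pt b := hfix' g.2
  have hg' : (g'.1 : G) • D.pt b = D.pt b := hfix' g'.2
  have hpt : u i • D.pt b = u i' • D.pt b := by
    have := congrArg (fun x : G => x • D.pt b) heq'
    simpa [mul_smul, hg, hg'] using this
  rw [hub, hub] at hpt
  have hidx := D.pt_inj _ (hmem i).1 _ (hmem i').1 hpt
  have hii : i = i' := by
    apply Fin.ext
    exact (List.Nodup.getElem_inj_iff hnd).1 (by simpa using hidx)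
  subst hii
  have : g.1 = g'.1 := mul_left_cancel heq'
  exact Prod.ext rfl (Subtype.ext this)

end

end Cfsg.Agent.Lib.Helper98.PermCert
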