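import Mathlib
import Cfsg.Agent.Lib.Helper98.PrimSimple

/-!
# A variant of the simplicity criterion for primitive groups

A primitive permutation group of degree `n` and order `n * r` is simple as soon as every normal
subgroup containing all elements of order dividing `p` (where `p` is prime to `r`) is the whole group.
-/

set_option autoImplicit false

namespace Cfsg.Agent.Lib.Helper98.PrimSimple

open MulAction

theorem isSimpleGroup_of_primitive' {n : ℕ} (G : Subgroup (Equiv.Perm (Fin n)))
    [IsPreprimitive G (Fin n)] (a : Fin n) (p r : ℕ) (hcard : Nat.card G = n * r)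
    (h1 : 1 < n * r) (hpr : Nat.Coprime p r)
    (hN : ∀ N : Subgroup G, N.Normal → (∀ s : G, s ^ p = 1 → s ∈ N) → N = ⊤) :
    IsSimpleGroup G := by
  have hfin : Finite G := Nat.finite_of_card_ne_zero (by rw [hcard]; omega)
  have hnt : Nontrivial G := Finite.one_lt_card_iff_nontrivial.1 (by rw [hcard]; exact h1)
  refine { toNontrivial := hnt, eq_bot_or_eq_top_of_normal := fun N hN' => ?_ }
  by_cases hbot : N = ⊥
  · exact Or.inl hbot
  right
  have hfix : fixedPoints N (Fin n) ≠ Set.univ := by
    obtain ⟨g, hg⟩ := (Subgroup.ne_bot_iff_exists_ne_one).1 hbot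
    have hg' : ((g : G) : Equiv.Perm (Fin n)) ≠ 1 := by
      intro h
      apply hg
      apply Subtype.ext
      apply Subtype.ext
      exact h
    obtain ⟨b, hb⟩ : ∃ b, ((g : G) : Equiv.Perm (Fin n)) b ≠ b := by
      by_contra hcon
      push Not at hcon
      exact hg' (Equiv.ext hcon)
    intro huniv
    have : b ∈ fixedPoints N (Fin n) := by rw [huniv]; exact Set.mem_univ b
    exact hb (this g)
  have hpre : IsPretransitive N (Fin n) :=
    IsQuasiPreprimitive.isPretransitive_of_normal (G := G) (X := Fin n) hfix
  have hdvd : n ∣ Nat.card N := by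
    have h2 := index_stabilizer_of_transitive N a
    rw [Nat.card_eq_fintype_card, Fintype.card_fin] at h2
    have h3 : (stabilizer N a).index ∣ Nat.card N := Subgroup.index_dvd_card _
    rw [h2] at h3
    exact h3
  have hidx : N.index ∣ r := by
    obtain ⟨c, hc⟩ := hdvd
    have h3 := N.index_mul_card
    rw [hcard, hc] at h3
    have hn : 0 < n := by
      rcases Nat.eq_zero_or_pos n with h | h
      · rw [h] at h1; omega
      · exact h
    have : n * (N.index * c) = n * r := by rw [← h3]; ring
    have := Nat.eq_of_mul_eq_mul_left hn this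
    exact Dvd.intro _ this
  have hcop : Nat.Coprime p N.index := Nat.Coprime.coprime_dvd_right hidx hpr
  apply hN N hN'
  intro s hs
  apply mem_of_pow_mem_of_coprime N _ hcop
  · rw [hs]; exact N.one_mem
  · exact Subgroup.pow_index_mem N _

end Cfsg.Agent.Lib.Helper98.PrimSimple
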