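import Mathlib
import Cfsg.Prelude.Def_SporCoxeter
import Cfsg.Agent.Lib.Helper98.CosetCert
import Cfsg.Agent.Lib.Helper98.PermCert
import Cfsg.Agent.Lib.Helper98.PrimSimple2

/-!
# Groups presented on involutions by a labelled graph and further relators

Generic machinery: relations as statements about a family `g : ℕ → G`, the words of the relators,
the link with `Cfsg.Spor.CoxPresented`, and the final assembly: a presented group with a verified
upper bound for its order and a primitive permutation model of at least that order is simple.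
-/

set_option autoImplicit false

namespace Cfsg.Agent.Lib.Helper98.CoxPres

open Cfsg Cfsg.Spor
open Cfsg.Agent.Lib.Helper98.CosetCert

/-- word expressions in generators indexed by natural numbers -/
inductive WExp where
  | gen : ℕ → WExp
  | mul : WExp → WExp → WExp
  | pow : WExp → ℕ → WExp
  | inv : WExp → WExp

namespace WExp

/-- value of an expression -/
def eval {G : Type*} [Group G] (g : ℕ → G) : WExp → G
  | gen i => g i
  | mul a b => a.eval g * b.eval g
  | pow a n => a.eval g ^ n
  | inv a => (a.eval g)⁻¹

/-- the word of an expression, for involutory generators -/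
def word : WExp → List ℕ
  | gen i => [i]
  | mul a b => a.word ++ b.word
  | pow a n => (List.replicate n a.word).flatten
  | inv a => a.word.reverse

theorem eval_map {G H : Type*} [Group G] [Group H] (f : G →* H) (g : ℕ → G) (e : WExp) :
    f (e.eval g) = e.eval (fun i => f (g i)) := by
  induction e with
  | gen i => rfl
  | mul a b iha ihb => simp only [eval, map_mul, iha, ihb]
  | pow a n ih => simp only [eval, map_pow, ih]
  | inv a ih => simp only [eval, map_inv, ih]

theorem eval_congr {G : Type*} [Group G] (g g' : ℕ → G) (e : WExp)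
    (h : ∀ i ∈ e.word, g i = g' i) : e.eval g = e.eval g' := by
  induction e with
  | gen i => exact h i (by simp [word])
  | mul a b iha ihb =>
    simp only [eval]
    rw [iha fun i hi => h i (by simp [word, hi]), ihb fun i hi => h i (by simp [word, hi])]
  | pow a n ih =>
    simp only [eval]
    rcases Nat.eq_zero_or_pos n with hn | hn
    · rw [hn, pow_zero, pow_zero]
    · rw [ih fun i hi => h i (by
        simp only [word, List.mem_flatten, List.mem_replicate]
        exact ⟨a.word, ⟨Nat.pos_iff_ne_zero.1 hn, rfl⟩, hi⟩)]
  | inv a ih =>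
    simp only [eval]
    rw [ih fun i hi => h i (by simp [word, hi])]

end WExp

theorem prod_replicate_flatten {G : Type*} [Group G] (g : ℕ → G) (w : List ℕ) (m : ℕ) :
    (((List.replicate m w).flatten).map g).prod = ((w.map g).prod) ^ m := by
  induction m with
  | zero => simp
  | succ m ih =>
    rw [List.replicate_succ, List.flatten_cons, List.map_append, List.prod_append, ih, pow_succ']

theorem prod_reverse_of_sq {G : Type*} [Group G] {g : ℕ → G} (w : List ℕ)
    (hw : ∀ x ∈ w, g x * g x = 1) : (w.reverse.map g).prod = ((w.map g).prod)⁻¹ := by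
  rw [List.prod_inv_reverse, List.map_map, List.map_reverse]
  congr 2
  apply List.map_congr_left
  intro x hx
  exact (inv_eq_of_mul_eq_one_right (hw x hx)).symm

theorem WExp.eval_eq_prod {G : Type*} [Group G] {g : ℕ → G} (e : WExp)
    (hsq : ∀ i ∈ e.word, g i * g i = 1) : e.eval g = (e.word.map g).prod := by
  induction e with
  | gen i => simp [WExp.eval, WExp.word]
  | mul a b iha ihb =>
    simp only [WExp.eval, WExp.word, List.map_append, List.prod_append]
    rw [iha fun i hi => hsq i (by simp [WExp.word, hi]),
      ihb fun i hi => hsq i (by simp [WExp.word, hi])]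
  | pow a n ih =>
    simp only [WExp.eval, WExp.word]
    rw [prod_replicate_flatten]
    rcases Nat.eq_zero_or_pos n with hn | hn
    · rw [hn, pow_zero, pow_zero]
    · rw [ih fun i hi => hsq i (by
        simp only [WExp.word, List.mem_flatten, List.mem_replicate]
        exact ⟨a.word, ⟨Nat.pos_iff_ne_zero.1 hn, rfl⟩, hi⟩)]
  | inv a ih =>
    simp only [WExp.eval, WExp.word]
    have h' : ∀ i ∈ a.word, g i * g i = 1 := fun i hi => hsq i (by simp [WExp.word, hi])
    rw [prod_reverse_of_sq _ h', ih h']

/-- a presentation on `n` involutions -/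
structure Pres where
  n : ℕ
  lab : ℕ → ℕ → ℕ
  extras : List WExp

namespace Pres

variable (P : Pres)

/-- the relations, for a family of group elements -/
structure Rel {G : Type*} [Group G] (g : ℕ → G) : Prop where
  cox : ∀ x < P.n, ∀ y < P.n, (g x * g y) ^ P.lab x y = 1
  ext : ∀ e ∈ P.extras, e.eval g = 1

/-- well-formedness: diagonal labels are `1` and the letters of the extra relators are generators -/
def WF : Prop := (∀ x < P.n, P.lab x x = 1) ∧ ∀ e ∈ P.extras, ∀ i ∈ e.word, i < P.n

def coxWords : List (List ℕ) :=
  (List.range P.n).flatMap fun x => (List.range P.n).map fun y =>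
    (List.replicate (P.lab x y) [x, y]).flatten

/-- the base relator words -/
def baseWords : List (List ℕ) := P.coxWords ++ P.extras.map WExp.word

variable {P}

theorem baseWords_lt (hwf : P.WF) : ∀ w ∈ P.baseWords, ∀ x ∈ w, x < P.n := by
  intro w hw x hx
  unfold baseWords at hw
  rcases List.mem_append.1 hw with hw | hw
  · unfold coxWords at hw
    obtain ⟨a, ha, hw⟩ := List.mem_flatMap.1 hw
    obtain ⟨b, hb, rfl⟩ := List.mem_map.1 hw
    simp only [List.mem_flatten, List.mem_replicate] at hx
    obtain ⟨l, ⟨_, rfl⟩, hx⟩ := hx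
    simp only [List.mem_cons, List.not_mem_nil, or_false] at hx
    rcases hx with rfl | rfl
    · exact List.mem_range.1 ha
    · exact List.mem_range.1 hb
  · obtain ⟨e, he, rfl⟩ := List.mem_map.1 hw
    exact hwf.2 e he x hx

section rel

variable {G : Type*} [Group G] {g : ℕ → G}

theorem Rel.sq (hwf : P.WF) (h : P.Rel g) (x : ℕ) (hx : x < P.n) : g x * g x = 1 := by
  have := h.cox x hx x hx
  rwa [hwf.1 x hx, pow_one] at this

theorem Rel.base (hwf : P.WF) (h : P.Rel g) : ∀ w ∈ P.baseWords, (w.map g).prod = 1 := by
  intro w hw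
  unfold baseWords at hw
  rcases List.mem_append.1 hw with hw | hw
  · unfold coxWords at hw
    obtain ⟨x, hx, hw⟩ := List.mem_flatMap.1 hw
    obtain ⟨y, hy, rfl⟩ := List.mem_map.1 hw
    rw [prod_replicate_flatten]
    simpa using h.cox x (List.mem_range.1 hx) y (List.mem_range.1 hy)
  · obtain ⟨e, he, rfl⟩ := List.mem_map.1 hw
    rw [← WExp.eval_eq_prod e fun i hi => h.sq hwf i (hwf.2 e he i hi)]
    exact h.ext e he

theorem rel_of_base (hwf : P.WF) (hb : ∀ w ∈ P.baseWords, (w.map g).prod = 1) : P.Rel g := by
  have hcox : ∀ x < P.n, ∀ y < P.n, (g x * g y) ^ P.lab x y = 1 := by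
    intro x hx y hy
    have hm : (List.replicate (P.lab x y) [x, y]).flatten ∈ P.baseWords := by
      unfold baseWords coxWords
      exact List.mem_append_left _ (List.mem_flatMap.2
        ⟨x, List.mem_range.2 hx, List.mem_map.2 ⟨y, List.mem_range.2 hy, rfl⟩⟩)
    have := hb _ hm
    rw [prod_replicate_flatten] at this
    simpa using this
  have hsq : ∀ x < P.n, g x * g x = 1 := by
    intro x hx
    have := hcox x hx x hx
    rwa [hwf.1 x hx, pow_one] at this
  refine ⟨hcox, ?_⟩
  intro e he
  rw [WExp.eval_eq_prod e fun i hi => hsq i (hwf.2 e he i hi)]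
  exact hb _ (List.mem_append_right _ (List.mem_map.2 ⟨e, he, rfl⟩))

theorem Rel.map {H : Type*} [Group H] (h : P.Rel g) (f : G →* H) : P.Rel (fun x => f (g x)) := by
  refine ⟨?_, ?_⟩
  · intro x hx y hy
    rw [← map_mul, ← map_pow, h.cox x hx y hy, map_one]
  · intro e he
    rw [← WExp.eval_map, h.ext e he, map_one]

/-- the word given by a source description: base word, rotation, reversal -/
def srcWord (P : Pres) (s : ℕ × ℕ × Bool) : List ℕ :=
  cond s.2.2 ((P.baseWords.getD s.1 []).reverse.rotate s.2.1)
    ((P.baseWords.getD s.1 []).rotate s.2.1)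

theorem Rel.src (hwf : P.WF) (h : P.Rel g) (s : ℕ × ℕ × Bool) :
    ((srcWord P s).reverse.map g).prod = 1 := by
  have key : ∀ w : List ℕ, (∀ x ∈ w, x < P.n) → (w.map g).prod = 1 →
      ∀ i, (((w.rotate i).reverse).map g).prod = 1 := by
    intro w hlt hw i
    have hsq : ∀ x ∈ w.rotate i, g x * g x = 1 := fun x hx =>
      h.sq hwf x (hlt x (List.mem_rotate.1 hx))
    rw [prod_reverse_of_sq _ hsq, List.map_rotate,
      List.prod_rotate_eq_one_of_prod_eq_one (by simpa using hw), inv_one]
  rcases getD_mem_or P.baseWords s.1 [] with h0 | h0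
  · unfold srcWord
    rw [h0]
    cases s.2.2 <;> simp
  · have hlt := baseWords_lt hwf _ h0
    have hw := h.base hwf _ h0
    unfold srcWord
    cases s.2.2
    · exact key _ hlt hw _
    · refine key _ (fun x hx => hlt x (List.mem_reverse.1 hx)) ?_ _
      rw [prod_reverse_of_sq _ (fun x hx => h.sq hwf x (hlt x hx)), hw, inv_one]

/-! ### Spanning trees of odd labels: one trivial generator makes all trivial -/

/-- process a list of pairs `(x, y)`: `x` is known to be trivial, the label of `x, y` is odd,
so `y` becomes known -/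
def treeKnown (P : Pres) : List (ℕ × ℕ) → List ℕ → Option (List ℕ)
  | [], known => some known
  | (x, y) :: t, known =>
    if x ∈ known ∧ x < P.n ∧ y < P.n ∧ P.lab x y % 2 = 1 then treeKnown P t (y :: known) else none

def treeOK (P : Pres) (tree : List (ℕ × ℕ)) : Bool :=
  match treeKnown P tree [0] with
  | some known => (List.range P.n).all fun x => decide (x ∈ known)
  | none => false

theorem eq_one_of_sq_of_odd_pow {x : G} (h2 : x * x = 1) {m : ℕ} (hm : m % 2 = 1)
    (h : x ^ m = 1) : x = 1 := by
  have hm' : m = 2 * (m / 2) + 1 := by omega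
  rw [hm', pow_succ, pow_mul, pow_two, h2, one_pow, one_mul] at h
  exact h

theorem treeKnown_spec (hwf : P.WF) (h : P.Rel g) (tree : List (ℕ × ℕ)) (known known' : List ℕ)
    (hk : ∀ z ∈ known, g z = 1) (ht : treeKnown P tree known = some known') :
    ∀ z ∈ known', g z = 1 := by
  induction tree generalizing known with
  | nil =>
    simp only [treeKnown, Option.some.injEq] at ht
    rw [← ht]; exact hk
  | cons p t ih =>
    obtain ⟨x, y⟩ := p
    simp only [treeKnown] at ht
    split_ifs at ht with hc
    obtain ⟨hx, hxn, hyn, hodd⟩ := hc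
    apply ih (y :: known) _ ht
    intro z hz
    rcases List.mem_cons.1 hz with rfl | hz
    · have := h.cox x hxn z hyn
      rw [hk x hx, one_mul] at this
      exact eq_one_of_sq_of_odd_pow (h.sq hwf z hyn) hodd this
    · exact hk z hz

theorem Rel.all_one (hwf : P.WF) (h : P.Rel g) (tree : List (ℕ × ℕ)) (ht : treeOK P tree = true)
    (h0 : g 0 = 1) : ∀ x < P.n, g x = 1 := by
  unfold treeOK at ht
  cases hk : treeKnown P tree [0] with
  | none => rw [hk] at ht; exact absurd ht (by simp)
  | some known =>
    rw [hk] at ht
    simp only [List.all_eq_true, List.mem_range, decide_eq_true_eq] at ht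
    have := treeKnown_spec hwf h tree [0] known (by simpa using h0) hk
    intro x hx
    exact this x (ht x hx)

end rel

end Pres

/-! ### The link with `CoxPresented` -/

section link

variable {Gen : Type} [DecidableEq Gen] (edges : List (Gen × ℕ × Gen))
  (extra : List (FreeGroup Gen)) (genOfNat : ℕ → Gen) (natOfGen : Gen → ℕ) (P : Pres)

/-- the compatibility of the presentation data with the frozen definitions -/
structure Link : Prop where
  gn : ∀ s, genOfNat (natOfGen s) = s
  lt : ∀ s, natOfGen s < P.n
  ng : ∀ x < P.n, natOfGen (genOfNat x) = x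
  nodes : ∀ s, s ∈ coxNodes edges
  lab : ∀ x y, P.lab x y = coxLabel edges (genOfNat x) (genOfNat y)
  extra : extra = P.extras.map fun e => e.eval fun i => FreeGroup.of (genOfNat i)

variable {edges extra genOfNat natOfGen P}

/-- the generators of the presented group -/
noncomputable def genP (edges : List (Gen × ℕ × Gen)) (extra : List (FreeGroup Gen))
    (genOfNat : ℕ → Gen) (x : ℕ) : CoxPresented Gen edges extra :=
  PresentedGroup.of (genOfNat x)

theorem Link.rel_genP (L : Link edges extra genOfNat natOfGen P) :
    P.Rel (genP edges extra genOfNat) := by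
  have hmk : ∀ r ∈ (coxRelators edges ∪ {r | r ∈ extra}),
      PresentedGroup.mk (coxRelators edges ∪ {r | r ∈ extra}) r = 1 :=
    fun r hr => PresentedGroup.one_of_mem hr
  refine ⟨?_, ?_⟩
  · intro x _ y _
    have := hmk ((FreeGroup.of (genOfNat x) * FreeGroup.of (genOfNat y)) ^ P.lab x y)
      (Or.inl ⟨genOfNat x, L.nodes _, genOfNat y, L.nodes _, by rw [L.lab]⟩)
    simpa [genP, PresentedGroup.of] using this
  · intro e he
    have hmem : (e.eval fun i => FreeGroup.of (genOfNat i)) ∈ extra := by
      rw [L.extra]
      exact List.mem_map.2 ⟨e, he, rfl⟩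
    have := hmk _ (Or.inr hmem)
    rw [WExp.eval_map] at this
    exact this

theorem Link.lift_rel (L : Link edges extra genOfNat natOfGen P) {G : Type*} [Group G]
    {g : ℕ → G} (hwf : P.WF) (h : P.Rel g) :
    ∀ r ∈ (coxRelators edges ∪ {r | r ∈ extra}),
      FreeGroup.lift (fun s => g (natOfGen s)) r = 1 := by
  intro r hr
  rcases hr with ⟨x, _, y, _, rfl⟩ | hr
  · rw [map_pow, map_mul, FreeGroup.lift_apply_of, FreeGroup.lift_apply_of]
    have := h.cox (natOfGen x) (L.lt x) (natOfGen y) (L.lt y)
    rw [L.lab, L.gn, L.gn] at this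
    exact this
  · have hr' : r ∈ extra := hr
    rw [L.extra] at hr'
    obtain ⟨e, he, rfl⟩ := List.mem_map.1 hr'
    rw [WExp.eval_map]
    have := h.ext e he
    rw [← this]
    apply WExp.eval_congr
    intro i hi
    rw [FreeGroup.lift_apply_of, L.ng i (hwf.2 e he i hi)]

theorem Link.Hk_top (L : Link edges extra genOfNat natOfGen P) :
    Hk (genP edges extra genOfNat) P.n = ⊤ := by
  rw [eq_top_iff]
  intro x _
  have hx : x ∈ Subgroup.closure (Set.range
      (PresentedGroup.of (rels := coxRelators edges ∪ {r | r ∈ extra}))) := by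
    rw [PresentedGroup.closure_range_of]; trivial
  refine (Subgroup.closure_le _).2 ?_ hx
  rintro _ ⟨a, rfl⟩
  apply Subgroup.subset_closure
  exact ⟨natOfGen a, L.lt a, by rw [genP, L.gn]⟩

end link

end Cfsg.Agent.Lib.Helper98.CoxPres
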