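import Mathlib
import Cfsg.Agent.Lib.Helper98.CoxPres
import Cfsg.Agent.Lib.Helper98.CosetCert2

/-!
# Assembly: upper bounds from coset enumeration certificates, and simplicity

For a group presented on involutions (`CoxPres`), the certificates of `CosetCert` / `CosetCert2`
bound the orders of the subgroups generated by initial segments of the generators; together with a
primitive permutation model of at least that order this gives simplicity and the order.
-/

set_option autoImplicit false

namespace Cfsg.Agent.Lib.Helper98.CoxMain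

open Cfsg Cfsg.Spor MulAction
open Cfsg.Agent.Lib.Helper89 Cfsg.Agent.Lib.Helper89.TableChain2
open Cfsg.Agent.Lib.Helper98.CosetCert Cfsg.Agent.Lib.Helper98.CoxPres

variable {Gen : Type} [DecidableEq Gen] {edges : List (Gen × ℕ × Gen)}
  {extra : List (FreeGroup Gen)} {genOfNat : ℕ → Gen} {natOfGen : Gen → ℕ} {P : Pres}

section upper

variable (L : Link edges extra genOfNat natOfGen P) (hwf : P.WF)
include L hwf

theorem level_bound (C : Cert) (k' : ℕ) (srcs : List (ℕ × ℕ × Bool)) (hk' : k' ≤ C.k)
    (hkn : C.k ≤ P.n) (hsrc : C.rwords.flatten = srcs.map P.srcWord)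
    (hsw : C.swords.all (fun w => w.all fun x => Nat.blt x k') = true)
    (hwok : wordsOK C = true) {mask : ℕ} (hr : Relation.ReflTransGen (Steps C) 0 mask)
    (hfc : finalCheck C mask = true) (hfin : Finite (Hk (genP edges extra genOfNat) k')) :
    Finite (Hk (genP edges extra genOfNat) C.k) ∧
      Nat.card (Hk (genP edges extra genOfNat) C.k) ≤
        C.n * Nat.card (Hk (genP edges extra genOfNat) k') := by
  have hrel := L.rel_genP
  refine card_le_of_reach _ C k' hk' ?_ ?_ ?_ hwok hr hfc hfin
  · intro x hx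
    exact hrel.sq hwf x (lt_of_lt_of_le hx hkn)
  · intro ch hch w hw
    have hmem : w ∈ C.rwords.flatten := List.mem_flatten.2 ⟨ch, hch, hw⟩
    rw [hsrc] at hmem
    obtain ⟨s, _, rfl⟩ := List.mem_map.1 hmem
    exact hrel.src hwf s
  · intro w hw
    apply prod_mem_Hk
    intro x hx
    have := List.all_eq_true.1 (List.all_eq_true.1 hsw w hw) x (List.mem_reverse.1 hx)
    simpa using this

theorem level_bound2 (C : CosetCert2.TCert) (k' : ℕ) (srcs : List (ℕ × ℕ × Bool)) (hk' : k' ≤ C.k)
    (hkn : C.k ≤ P.n) (hsrc : C.rwords.flatten = srcs.map P.srcWord)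
    (hsw : C.swords.all (fun w => w.all fun x => Nat.blt x k') = true)
    (hwok : wordsOK C.toCert = true) (hlog : CosetCert2.LogUpTo C C.nlog)
    (hnames : CosetCert2.NamesUpTo C C.M) (hhead : CosetCert2.headOK C = true)
    (hfin : Finite (Hk (genP edges extra genOfNat) k')) :
    Finite (Hk (genP edges extra genOfNat) C.k) ∧
      Nat.card (Hk (genP edges extra genOfNat) C.k) ≤
        C.n * Nat.card (Hk (genP edges extra genOfNat) k') := by
  have hrel := L.rel_genP
  refine CosetCert2.card_le_of_log _ C k' hk' ?_ ?_ ?_ hwok hlog hnames hhead hfin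
  · intro x hx
    exact hrel.sq hwf x (lt_of_lt_of_le hx hkn)
  · intro ch hch w hw
    have hmem : w ∈ C.rwords.flatten := List.mem_flatten.2 ⟨ch, hch, hw⟩
    rw [hsrc] at hmem
    obtain ⟨s, _, rfl⟩ := List.mem_map.1 hmem
    exact hrel.src hwf s
  · intro w hw
    apply prod_mem_Hk
    intro x hx
    have := List.all_eq_true.1 (List.all_eq_true.1 hsw w hw) x (List.mem_reverse.1 hx)
    simpa using this

omit hwf in
theorem finite_of_top (h : Finite (Hk (genP edges extra genOfNat) P.n)) :
    Finite (CoxPresented Gen edges extra) := by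
  rw [L.Hk_top] at h
  exact Finite.of_equiv _ Subgroup.topEquiv.toEquiv

omit hwf in
theorem card_le_of_top {Ω : ℕ} (h : Nat.card (Hk (genP edges extra genOfNat) P.n) ≤ Ω) :
    Nat.card (CoxPresented Gen edges extra) ≤ Ω := by
  rw [L.Hk_top] at h
  rwa [Nat.card_congr Subgroup.topEquiv.toEquiv] at h

end upper

section main

variable (L : Link edges extra genOfNat natOfGen P) (hwf : P.WF)
variable {N : ℕ} (D : Data (Equiv.Perm (Fin N)) (Fin N)) (hm : D.m = P.n)
include L hwf hm

/-- the presented group with a verified upper bound `Ω = N * r` for its order and a primitive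
permutation model of degree `N` with at least `Ω` elements is simple of order `Ω` -/
theorem simple_and_card (hrelM : P.Rel D.gen) (Ω r p : ℕ) (hΩ : Ω = N * r) (h1 : 1 < Ω)
    (hfin : Finite (CoxPresented Gen edges extra))
    (hup : Nat.card (CoxPresented Gen edges extra) ≤ Ω) (hlow : Ω ≤ Nat.card (D.H D.m))
    [hprim : IsPreprimitive (D.H D.m) (Fin N)] (hpr : Nat.Coprime p r)
    (y : List ℕ) (hy : ∀ c ∈ y, c < D.m) (h0m : 0 < D.m)
    (hyp : D.ev y ^ p = 1) (hayp : D.ev (0 :: y) ^ p = 1)
    (tree : List (ℕ × ℕ)) (htree : P.treeOK tree = true) :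
    IsSimpleGroup (CoxPresented Gen edges extra) ∧ Nat.card (CoxPresented Gen edges extra) = Ω := by
  let X := CoxPresented Gen edges extra
  let gP := genP edges extra genOfNat
  let M : Subgroup (Equiv.Perm (Fin N)) := D.H D.m
  -- the homomorphism to the model
  let phi : X →* Equiv.Perm (Fin N) :=
    PresentedGroup.toGroup (f := fun s => D.gen (natOfGen s)) (L.lift_rel hwf hrelM)
  have phi_of : ∀ s : Gen, phi (PresentedGroup.of s) = D.gen (natOfGen s) :=
    fun s => PresentedGroup.toGroup.of _
  have phi_gP : ∀ x < P.n, phi (gP x) = D.gen x := by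
    intro x hx
    show phi (PresentedGroup.of (genOfNat x)) = _
    rw [phi_of, L.ng x hx]
  have range_le : phi.range ≤ M := by
    rw [MonoidHom.range_eq_map, ← PresentedGroup.closure_range_of, MonoidHom.map_closure,
      Subgroup.closure_le]
    rintro _ ⟨_, ⟨s, rfl⟩, rfl⟩
    rw [phi_of]
    exact D.gen_mem _ (by rw [hm]; exact L.lt s)
  have le_range : M ≤ phi.range := by
    show D.H D.m ≤ phi.range
    rw [Data.H, Subgroup.closure_le]
    rintro g ⟨j, hj, rfl⟩
    exact ⟨gP j, phi_gP j (by rw [← hm]; exact hj)⟩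
  have phi_mem : ∀ s : X, phi s ∈ M := fun s => range_le ⟨s, rfl⟩
  let phiM : X →* M := phi.codRestrict M phi_mem
  have phiM_surj : Function.Surjective phiM := by
    rintro ⟨g, hg⟩
    obtain ⟨s, hs⟩ := le_range hg
    exact ⟨s, Subtype.ext hs⟩
  have card_M_le : Nat.card M ≤ Nat.card X := Nat.card_le_card_of_surjective _ phiM_surj
  have card_X : Nat.card X = Ω := le_antisymm hup (le_trans hlow card_M_le)
  have card_M : Nat.card M = Ω := le_antisymm (le_trans card_M_le hup) hlow
  have phiM_bij : Function.Bijective phiM :=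
    phiM_surj.bijective_of_nat_card_le (by rw [card_X, card_M])
  let equivM : X ≃* M := MulEquiv.ofBijective phiM phiM_bij
  -- normal subgroups containing the elements of order dividing `p`
  have normal_top : ∀ K : Subgroup M, K.Normal → (∀ s : M, s ^ p = 1 → s ∈ K) → K = ⊤ := by
    intro K hK hp
    have hyM : D.ev y ∈ M := D.ev_mem _ y hy
    have hayM : D.ev (0 :: y) ∈ M := D.ev_mem _ (0 :: y) (by
      intro c hc
      rcases List.mem_cons.1 hc with rfl | hc
      · exact h0m
      · exact hy c hc)
    have h1' : (⟨D.ev y, hyM⟩ : M) ∈ K := hp _ (Subtype.ext (by simpa using hyp))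
    have h2' : (⟨D.ev (0 :: y), hayM⟩ : M) ∈ K := hp _ (Subtype.ext (by simpa using hayp))
    have ha : (⟨D.gen 0, D.gen_mem 0 h0m⟩ : M) ∈ K := by
      have : (⟨D.gen 0, D.gen_mem 0 h0m⟩ : M) =
          (⟨D.ev (0 :: y), hayM⟩ : M) * (⟨D.ev y, hyM⟩ : M)⁻¹ := by
        apply Subtype.ext
        simp [Data.ev_cons]
      rw [this]
      exact K.mul_mem h2' (K.inv_mem h1')
    let f : X →* M ⧸ K := (QuotientGroup.mk' K).comp phiM
    have hrel : P.Rel (fun x => f (gP x)) := L.rel_genP.map f
    have hn0 : 0 < P.n := by rw [← hm]; exact h0m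
    have h0 : f (gP 0) = 1 := by
      show QuotientGroup.mk' K (phiM (gP 0)) = 1
      rw [QuotientGroup.mk'_apply, QuotientGroup.eq_one_iff]
      have : phiM (gP 0) = ⟨D.gen 0, D.gen_mem 0 h0m⟩ := Subtype.ext (phi_gP 0 hn0)
      rw [this]
      exact ha
    have hall := hrel.all_one hwf tree htree h0
    have hker : f.ker = ⊤ := by
      rw [eq_top_iff, ← L.Hk_top, Hk, Subgroup.closure_le]
      rintro _ ⟨x, hx, rfl⟩
      exact hall x hx
    rw [eq_top_iff]
    intro g _
    obtain ⟨s, rfl⟩ := phiM_surj g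
    have hs : s ∈ f.ker := by rw [hker]; trivial
    have : (QuotientGroup.mk' K) (phiM s) = 1 := hs
    rwa [QuotientGroup.mk'_apply, QuotientGroup.eq_one_iff] at this
  have hN0 : 0 < N := by
    rcases Nat.eq_zero_or_pos N with h | h
    · rw [hΩ, h] at h1; omega
    · exact h
  have simple_M : IsSimpleGroup M :=
    PrimSimple.isSimpleGroup_of_primitive' M (⟨0, hN0⟩ : Fin N) p r (by rw [card_M, hΩ])
      (by rw [← hΩ]; exact h1) hpr normal_top
  exact ⟨equivM.isSimpleGroup, card_X⟩

end main

end Cfsg.Agent.Lib.Helper98.CoxMain
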