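import Mathlib
import Cfsg.Prelude.Def_Spor_Fi22
import Cfsg.Agent.Lib.Helper98.CoxPres

/-! The presentation of `Fi22` in the form used by `CoxPres`. -/

set_option autoImplicit false
set_option maxRecDepth 100000

namespace Cfsg.Agent.Lib.Helper98.Fi22Pres

open Cfsg Cfsg.Spor Cfsg.Agent.Lib.Helper98.CoxPres

/-- the generator with a given index -/
def genOfNat : ℕ → Fi22.Gen
  | 0 => .h
  | 1 => .d
  | 2 => .c
  | 3 => .e
  | 4 => .b
  | 5 => .f
  | 6 => .g
  | 7 => .i
  | _ => .a

/-- the index of a generator -/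
def natOfGen : Fi22.Gen → ℕ
  | .a => 8
  | .b => 4
  | .c => 2
  | .d => 1
  | .e => 3
  | .f => 5
  | .g => 6
  | .h => 0
  | .i => 7

/-- the presentation -/
def pres : Pres where
  n := 9
  lab := fun x y => coxLabel Fi22.edges (genOfNat x) (genOfNat y)
  extras := [
    (.pow (.mul (.mul (.mul (.mul (.mul (.mul (.mul (.mul (.gen 1) (.gen 2)) (.gen 4)) (.gen 1)) (.gen 3)) (.gen 5)) (.gen 1)) (.gen 0)) (.gen 7)) 10),
    (.pow (.mul (.mul (.mul (.mul (.mul (.mul (.gen 8) (.gen 4)) (.gen 2)) (.gen 1)) (.gen 3)) (.gen 5)) (.gen 0)) 9),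
    (.pow (.mul (.mul (.mul (.mul (.mul (.mul (.gen 4) (.gen 2)) (.gen 1)) (.gen 3)) (.gen 5)) (.gen 6)) (.gen 0)) 9)]

theorem wf : pres.WF := by
  refine ⟨fun x _ => ?_, ?_⟩
  · show coxLabel Fi22.edges (genOfNat x) (genOfNat x) = 1
    simp [coxLabel]
  · decide

theorem link : Link Fi22.edges Fi22.extra genOfNat natOfGen pres where
  gn := fun s => by cases s <;> rfl
  lt := fun s => by cases s <;> decide
  ng := fun x hx => by
    have hx' : x < 9 := hx
    interval_cases x <;> rfl
  nodes := fun s => by cases s <;> decide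
  lab := fun _ _ => rfl
  extra := rfl

/-- the generators of the presented group -/
noncomputable abbrev gP : ℕ → Cfsg.Spor.Fi22 := genP Fi22.edges Fi22.extra genOfNat

end Cfsg.Agent.Lib.Helper98.Fi22Pres
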