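import Mathlib

/-! chunk literals of the coset enumeration certificate Fi22TC2 -/

namespace Cfsg.Agent.Lib.Helper98.Fi22TC2D

def entC0 : ℕ := 0x30000300000100003000000040000200000000003000000020000000000100002000000000000200005000002000000000000100003100000000000010000000000000000000000000000000001200000

def lgeC0 : ℕ := 0x5000050000000000600003000100000040000400030000001000000004

def repC0 : ℕ := 0x30000200000

end Cfsg.Agent.Lib.Helper98.Fi22TC2D
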