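import Mathlib

/-! chunk literals of the coset enumeration certificate Fi22TC3 -/

namespace Cfsg.Agent.Lib.Helper98.Fi22TC3D

def entC0 : ℕ := 0x8000070000020000700000007000070000010000700000009000050000000000700000005000050000020000500000006000030000010000500000000000030000a000005000000040000000000200003000000000000200007100003000000030000300000000003000000000000100004200000000000020000000000100000000000010000000000000000000000000000000001300000

def lgeC0 : ℕ := 0xa0000a0000000000c000070003000000b0000700010000008000080005000000900005000600000060000600040000004000030004000000200000000a0000001000000009

def repC0 : ℕ := 0x7000050000300000

end Cfsg.Agent.Lib.Helper98.Fi22TC3D
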