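import Mathlib

/-! chunk literals of the coset enumeration certificate Fi22TC5 -/

namespace Cfsg.Agent.Lib.Helper98.Fi22TC5D

def entC0 : ℕ := 0x29000260000040002d000000280002d0000030002d000000270002d0000020002d000000260002d0000010002d000000250002d0000000002d00000000000090002e4000260000002300026000003000260000002400020000002000260000002200026000001000260000002100026000000000260000001f00020000004000200000001e00020000003000200000000000008000292000200000002000018000001000200000001d00020000000000200000001b00018000004000180000001c00010000003000180000001a0001800000200018000000000000700024100018000000190001300000000018000000160001300000400013000000180000c0000030001300000015000130000020001300000014000130000010001300000017000180000000001300000012000100000040001000000000000060001f300010000000110001000000200010000000100001000000100010000000130000c000000000100000000e0000c0000040000c00000000000050001a30000c0000000d0000c0000020000c0000000f000080000010000c00000000000040001500000c0000000b00008000004000080000000a00008000003000080000000c000050000020000800000000000030001010000800000009000080000000000800000008000000000040000500000007000050000030000500000000000020000b200005000000060000500000100005000000050000500000000005000000000000100006400000000000040000000000300000000000030000000000200000000000020000000000100000000000010000000000000000000000000000000001500000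

def lgeC0 : ℕ := 0x3200032000800000310002d001700000300002d0014000002f0002d000f000002e0002d0008000002b0002b0004000002c000260011000002a00026000b00000290002600040000025000250002000002800020000e000002700020000c0000024000200002000002200022000600000230001800070000021000180003000001f000130006000001d0001d0006000001a000180006000001e000130016000001c000130012000001b00013000d0000015000150000000001900010000700000170001000030000016000100001000001100011000900000140000c000e00000120000c000a000000d0000d0004000000f000080013000000e000080011000000b000080004000000a0000a00080000009000050017000000700005000f0000006000050008000000400000001c000000300000001b000000200000001a0000001000000019

def repC0 : ℕ := 0x2d00026000200001800013000100000c000080000500000

end Cfsg.Agent.Lib.Helper98.Fi22TC5D
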