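import Mathlib
import Cfsg.Agent.Lib.Helper98.Fi22TC8D

/-! Coset enumeration certificate Fi22TC8: checks, part 0. -/

set_option autoImplicit false
set_option maxRecDepth 1000000

namespace Cfsg.Agent.Lib.Helper98.Fi22TC8S0

open Cfsg.Agent.Lib.Helper98.CosetCert Cfsg.Agent.Lib.Helper98.CosetCert2

open Cfsg.Agent.Lib.Helper98.Fi22TC8D

theorem seg0 : rangeOKF cert 0 4837 = true := by decide +kernel

theorem seg1 : rangeOKF cert 4837 4685 = true := by decide +kernel

theorem seg2 : rangeOKF cert 9522 4819 = true := by decide +kernel

theorem seg3 : rangeOKF cert 14341 4803 = true := by decide +kernel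

theorem seg4 : rangeOKF cert 19144 4815 = true := by decide +kernel

theorem seg5 : rangeOKF cert 23959 4815 = true := by decide +kernel

theorem seg6 : rangeOKF cert 28774 4814 = true := by decide +kernel

theorem seg7 : rangeOKF cert 33588 4821 = true := by decide +kernel

theorem seg8 : rangeOKF cert 38409 4812 = true := by decide +kernel

theorem seg9 : rangeOKF cert 43221 4816 = true := by decide +kernel

theorem seg10 : rangeOKF cert 48037 4823 = true := by decide +kernel

theorem seg11 : rangeOKF cert 52860 4812 = true := by decide +kernel

end Cfsg.Agent.Lib.Helper98.Fi22TC8S0
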