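import Mathlib
import Cfsg.Agent.Lib.Helper98.Fi22TC8D

/-! Coset enumeration certificate Fi22TC8: checks, part 2. -/

set_option autoImplicit false
set_option maxRecDepth 1000000

namespace Cfsg.Agent.Lib.Helper98.Fi22TC8S2

open Cfsg.Agent.Lib.Helper98.CosetCert Cfsg.Agent.Lib.Helper98.CosetCert2

open Cfsg.Agent.Lib.Helper98.Fi22TC8D

theorem seg24 : rangeOKF cert 105629 1613 = true := by decide +kernel

theorem seg25 : rangeOKF cert 107242 979 = true := by decide +kernel

theorem seg26 : rangeOKF cert 108221 1337 = true := by decide +kernel

theorem seg27 : rangeOKF cert 109558 1045 = true := by decide +kernel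

theorem seg28 : rangeOKF cert 110603 966 = true := by decide +kernel

theorem seg29 : rangeOKF cert 111569 858 = true := by decide +kernel

theorem seg30 : rangeOKF cert 112427 1101 = true := by decide +kernel

theorem seg31 : rangeOKF cert 113528 1153 = true := by decide +kernel

theorem seg32 : rangeOKF cert 114681 1105 = true := by decide +kernel

theorem seg33 : rangeOKF cert 115786 1187 = true := by decide +kernel

theorem seg34 : rangeOKF cert 116973 1436 = true := by decide +kernel

theorem seg35 : rangeOKF cert 118409 1481 = true := by decide +kernel

end Cfsg.Agent.Lib.Helper98.Fi22TC8S2
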