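import Mathlib
import Cfsg.Agent.Lib.Helper98.Fi22TC8D

/-! Coset enumeration certificate Fi22TC8: checks, part 3. -/

set_option autoImplicit false
set_option maxRecDepth 1000000

namespace Cfsg.Agent.Lib.Helper98.Fi22TC8S3

open Cfsg.Agent.Lib.Helper98.CosetCert Cfsg.Agent.Lib.Helper98.CosetCert2

open Cfsg.Agent.Lib.Helper98.Fi22TC8D

theorem nseg0 : nameRangeOKF cert 0 9992 = true := by decide +kernel

theorem nseg1 : nameRangeOKF cert 9992 11528 = true := by decide +kernel

theorem nseg2 : nameRangeOKF cert 21520 11876 = true := by decide +kernel

theorem nseg3 : nameRangeOKF cert 33396 12527 = true := by decide +kernel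

theorem nseg4 : nameRangeOKF cert 45923 12614 = true := by decide +kernel

theorem nseg5 : nameRangeOKF cert 58537 12752 = true := by decide +kernel

theorem nseg6 : nameRangeOKF cert 71289 13058 = true := by decide +kernel

theorem nseg7 : nameRangeOKF cert 84347 13160 = true := by decide +kernel

theorem nseg8 : nameRangeOKF cert 97507 13127 = true := by decide +kernel

theorem nseg9 : nameRangeOKF cert 110634 12415 = true := by decide +kernel

end Cfsg.Agent.Lib.Helper98.Fi22TC8S3
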