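import Mathlib
import Cfsg.Agent.Lib.Helper98.Fi22TC8D
import Cfsg.Agent.Lib.Helper98.Fi22TC8S0
import Cfsg.Agent.Lib.Helper98.Fi22TC8S1
import Cfsg.Agent.Lib.Helper98.Fi22TC8S2
import Cfsg.Agent.Lib.Helper98.Fi22TC8S3

/-! Coset enumeration certificate, level 8: index at most 3159. -/

set_option autoImplicit false
set_option maxRecDepth 1000000

namespace Cfsg.Agent.Lib.Helper98.Fi22TC8

open Cfsg.Agent.Lib.Helper98.CosetCert Cfsg.Agent.Lib.Helper98.CosetCert2

open Cfsg.Agent.Lib.Helper98.Fi22TC8D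

theorem log_ok : LogUpTo cert cert.nlog :=
  ((((((((((((((((((((((((((((((((((((logUpTo_zero cert).addF Fi22TC8S0.seg0 (by decide : 4837 = 0 + 4837)).addF Fi22TC8S0.seg1 (by decide : 9522 = 4837 + 4685)).addF Fi22TC8S0.seg2 (by decide : 14341 = 9522 + 4819)).addF Fi22TC8S0.seg3 (by decide : 19144 = 14341 + 4803)).addF Fi22TC8S0.seg4 (by decide : 23959 = 19144 + 4815)).addF Fi22TC8S0.seg5 (by decide : 28774 = 23959 + 4815)).addF Fi22TC8S0.seg6 (by decide : 33588 = 28774 + 4814)).addF Fi22TC8S0.seg7 (by decide : 38409 = 33588 + 4821)).addF Fi22TC8S0.seg8 (by decide : 43221 = 38409 + 4812)).addF Fi22TC8S0.seg9 (by decide : 48037 = 43221 + 4816)).addF Fi22TC8S0.seg10 (by decide : 52860 = 48037 + 4823)).addF Fi22TC8S0.seg11 (by decide : 57672 = 52860 + 4812)).addF Fi22TC8S1.seg12 (by decide : 62486 = 57672 + 4814)).addF Fi22TC8S1.seg13 (by decide : 67313 = 62486 + 4827)).addF Fi22TC8S1.seg14 (by decide : 72138 = 67313 + 4825)).addF Fi22TC8S1.seg15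 (by decide : 76952 = 72138 + 4814)).addF Fi22TC8S1.seg16 (by decide : 81777 = 76952 + 4825)).addF Fi22TC8S1.seg17 (by decide : 86617 = 81777 + 4840)).addF Fi22TC8S1.seg18 (by decide : 91446 = 86617 + 4829)).addF Fi22TC8S1.seg19 (by decide : 96260 = 91446 + 4814)).addF Fi22TC8S1.seg20 (by decide : 101090 = 96260 + 4830)).addF Fi22TC8S1.seg21 (by decide : 103624 = 101090 + 2534)).addF Fi22TC8S1.seg22 (by decide : 104539 = 103624 + 915)).addF Fi22TC8S1.seg23 (by decide : 105629 = 104539 + 1090)).addF Fi22TC8S2.seg24 (by decide : 107242 = 105629 + 1613)).addF Fi22TC8S2.seg25 (by decide : 108221 = 107242 + 979)).addF Fi22TC8S2.seg26 (by decide : 109558 = 108221 + 1337)).addF Fi22TC8S2.seg27 (by decide : 110603 = 109558 + 1045)).addF Fi22TC8S2.seg28 (by decide : 111569 = 110603 + 966)).addF Fi22TC8S2.seg29 (by decide : 112427 = 111569 + 858)).addF Fi22TC8S2.seg30 (by decide : 113528 = 112427 + 1101)).addF Fi22TC8S2.seg31 (by decide : 114681 = 113528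 + 1153)).addF Fi22TC8S2.seg32 (by decide : 115786 = 114681 + 1105)).addF Fi22TC8S2.seg33 (by decide : 116973 = 115786 + 1187)).addF Fi22TC8S2.seg34 (by decide : 118409 = 116973 + 1436)).addF Fi22TC8S2.seg35 (by decide : 119890 = 118409 + 1481)

theorem names_ok : NamesUpTo cert cert.M :=
  ((((((((((namesUpTo_zero cert).addF Fi22TC8S3.nseg0 (by decide : 9992 = 0 + 9992)).addF Fi22TC8S3.nseg1 (by decide : 21520 = 9992 + 11528)).addF Fi22TC8S3.nseg2 (by decide : 33396 = 21520 + 11876)).addF Fi22TC8S3.nseg3 (by decide : 45923 = 33396 + 12527)).addF Fi22TC8S3.nseg4 (by decide : 58537 = 45923 + 12614)).addF Fi22TC8S3.nseg5 (by decide : 71289 = 58537 + 12752)).addF Fi22TC8S3.nseg6 (by decide : 84347 = 71289 + 13058)).addF Fi22TC8S3.nseg7 (by decide : 97507 = 84347 + 13160)).addF Fi22TC8S3.nseg8 (by decide : 110634 = 97507 + 13127)).addF Fi22TC8S3.nseg9 (by decide : 123049 = 110634 + 12415)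

end Cfsg.Agent.Lib.Helper98.Fi22TC8
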