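import Mathlib
import Cfsg.Agent.Lib.Helper98.Fi22TC9D

/-! Coset enumeration certificate Fi22TC9: checks, part 0. -/

set_option autoImplicit false
set_option maxRecDepth 1000000

namespace Cfsg.Agent.Lib.Helper98.Fi22TC9S0

open Cfsg.Agent.Lib.Helper98.CosetCert Cfsg.Agent.Lib.Helper98.CosetCert2

open Cfsg.Agent.Lib.Helper98.Fi22TC9D

theorem seg0 : rangeOKF cert 0 4818 = true := by decide +kernel

theorem seg1 : rangeOKF cert 4818 4849 = true := by decide +kernel

theorem seg2 : rangeOKF cert 9667 4840 = true := by decide +kernel

theorem seg3 : rangeOKF cert 14507 4843 = true := by decide +kernel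

theorem seg4 : rangeOKF cert 19350 4857 = true := by decide +kernel

theorem seg5 : rangeOKF cert 24207 4852 = true := by decide +kernel

theorem seg6 : rangeOKF cert 29059 4854 = true := by decide +kernel

theorem seg7 : rangeOKF cert 33913 4856 = true := by decide +kernel

theorem seg8 : rangeOKF cert 38769 4859 = true := by decide +kernel

theorem seg9 : rangeOKF cert 43628 4867 = true := by decide +kernel

theorem seg10 : rangeOKF cert 48495 4860 = true := by decide +kernel

theorem seg11 : rangeOKF cert 53355 4776 = true := by decide +kernel

end Cfsg.Agent.Lib.Helper98.Fi22TC9S0
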