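import Mathlib
import Cfsg.Agent.Lib.Helper98.Fi22TC9D

/-! Coset enumeration certificate Fi22TC9: checks, part 1. -/

set_option autoImplicit false
set_option maxRecDepth 1000000

namespace Cfsg.Agent.Lib.Helper98.Fi22TC9S1

open Cfsg.Agent.Lib.Helper98.CosetCert Cfsg.Agent.Lib.Helper98.CosetCert2

open Cfsg.Agent.Lib.Helper98.Fi22TC9D

theorem seg12 : rangeOKF cert 58131 4836 = true := by decide +kernel

theorem seg13 : rangeOKF cert 62967 971 = true := by decide +kernel

theorem seg14 : rangeOKF cert 63938 1180 = true := by decide +kernel

theorem seg15 : rangeOKF cert 65118 1756 = true := by decide +kernel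

theorem seg16 : rangeOKF cert 66874 2309 = true := by decide +kernel

theorem seg17 : rangeOKF cert 69183 4743 = true := by decide +kernel

theorem seg18 : rangeOKF cert 73926 4805 = true := by decide +kernel

theorem seg19 : rangeOKF cert 78731 4687 = true := by decide +kernel

theorem seg20 : rangeOKF cert 83418 4715 = true := by decide +kernel

theorem seg21 : rangeOKF cert 88133 4714 = true := by decide +kernel

theorem seg22 : rangeOKF cert 92847 4700 = true := by decide +kernel

theorem seg23 : rangeOKF cert 97547 4743 = true := by decide +kernel

end Cfsg.Agent.Lib.Helper98.Fi22TC9S1
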