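import Mathlib
import Cfsg.Agent.Lib.Helper98.Fi22TC9D

/-! Coset enumeration certificate Fi22TC9: checks, part 2. -/

set_option autoImplicit false
set_option maxRecDepth 1000000

namespace Cfsg.Agent.Lib.Helper98.Fi22TC9S2

open Cfsg.Agent.Lib.Helper98.CosetCert Cfsg.Agent.Lib.Helper98.CosetCert2

open Cfsg.Agent.Lib.Helper98.Fi22TC9D

theorem seg24 : rangeOKF cert 102290 4569 = true := by decide +kernel

theorem seg25 : rangeOKF cert 106859 4594 = true := by decide +kernel

theorem seg26 : rangeOKF cert 111453 4616 = true := by decide +kernel

theorem seg27 : rangeOKF cert 116069 4500 = true := by decide +kernel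

theorem seg28 : rangeOKF cert 120569 4769 = true := by decide +kernel

theorem seg29 : rangeOKF cert 125338 4757 = true := by decide +kernel

theorem seg30 : rangeOKF cert 130095 4756 = true := by decide +kernel

theorem seg31 : rangeOKF cert 134851 4756 = true := by decide +kernel

theorem seg32 : rangeOKF cert 139607 4761 = true := by decide +kernel

theorem seg33 : rangeOKF cert 144368 4706 = true := by decide +kernel

theorem seg34 : rangeOKF cert 149074 4655 = true := by decide +kernel

theorem seg35 : rangeOKF cert 153729 1275 = true := by decide +kernel

end Cfsg.Agent.Lib.Helper98.Fi22TC9S2
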