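import Mathlib
import Cfsg.Agent.Lib.Helper98.Fi22TC9D
import Cfsg.Agent.Lib.Helper98.Fi22TC9S0
import Cfsg.Agent.Lib.Helper98.Fi22TC9S1
import Cfsg.Agent.Lib.Helper98.Fi22TC9S2
import Cfsg.Agent.Lib.Helper98.Fi22TC9S3
import Cfsg.Agent.Lib.Helper98.Fi22TC9S4

/-! Coset enumeration certificate, level 9: index at most 14080. -/

set_option autoImplicit false
set_option maxRecDepth 1000000

namespace Cfsg.Agent.Lib.Helper98.Fi22TC9

open Cfsg.Agent.Lib.Helper98.CosetCert Cfsg.Agent.Lib.Helper98.CosetCert2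

open Cfsg.Agent.Lib.Helper98.Fi22TC9D

theorem log_ok : LogUpTo cert cert.nlog :=
  ((((((((((((((((((((((((((((((((((((logUpTo_zero cert).addF Fi22TC9S0.seg0 (by decide : 4818 = 0 + 4818)).addF Fi22TC9S0.seg1 (by decide : 9667 = 4818 + 4849)).addF Fi22TC9S0.seg2 (by decide : 14507 = 9667 + 4840)).addF Fi22TC9S0.seg3 (by decide : 19350 = 14507 + 4843)).addF Fi22TC9S0.seg4 (by decide : 24207 = 19350 + 4857)).addF Fi22TC9S0.seg5 (by decide : 29059 = 24207 + 4852)).addF Fi22TC9S0.seg6 (by decide : 33913 = 29059 + 4854)).addF Fi22TC9S0.seg7 (by decide : 38769 = 33913 + 4856)).addF Fi22TC9S0.seg8 (by decide : 43628 = 38769 + 4859)).addF Fi22TC9S0.seg9 (by decide : 48495 = 43628 + 4867)).addF Fi22TC9S0.seg10 (by decide : 53355 = 48495 + 4860)).addF Fi22TC9S0.seg11 (by decide : 58131 = 53355 + 4776)).addF Fi22TC9S1.seg12 (by decide : 62967 = 58131 + 4836)).addF Fi22TC9S1.seg13 (by decide : 63938 = 62967 + 971)).addF Fi22TC9S1.seg14 (by decide : 65118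 = 63938 + 1180)).addF Fi22TC9S1.seg15 (by decide : 66874 = 65118 + 1756)).addF Fi22TC9S1.seg16 (by decide : 69183 = 66874 + 2309)).addF Fi22TC9S1.seg17 (by decide : 73926 = 69183 + 4743)).addF Fi22TC9S1.seg18 (by decide : 78731 = 73926 + 4805)).addF Fi22TC9S1.seg19 (by decide : 83418 = 78731 + 4687)).addF Fi22TC9S1.seg20 (by decide : 88133 = 83418 + 4715)).addF Fi22TC9S1.seg21 (by decide : 92847 = 88133 + 4714)).addF Fi22TC9S1.seg22 (by decide : 97547 = 92847 + 4700)).addF Fi22TC9S1.seg23 (by decide : 102290 = 97547 + 4743)).addF Fi22TC9S2.seg24 (by decide : 106859 = 102290 + 4569)).addF Fi22TC9S2.seg25 (by decide : 111453 = 106859 + 4594)).addF Fi22TC9S2.seg26 (by decide : 116069 = 111453 + 4616)).addF Fi22TC9S2.seg27 (by decide : 120569 = 116069 + 4500)).addF Fi22TC9S2.seg28 (by decide : 125338 = 120569 + 4769)).addF Fi22TC9S2.seg29 (by decide : 130095 = 125338 + 4757)).addF Fi22TC9S2.seg30 (by decide : 134851 = 130095 + 4756)).addF Fi22TC9S2.seg31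 (by decide : 139607 = 134851 + 4756)).addF Fi22TC9S2.seg32 (by decide : 144368 = 139607 + 4761)).addF Fi22TC9S2.seg33 (by decide : 149074 = 144368 + 4706)).addF Fi22TC9S2.seg34 (by decide : 153729 = 149074 + 4655)).addF Fi22TC9S2.seg35 (by decide : 155004 = 153729 + 1275)

theorem names_ok : NamesUpTo cert cert.M :=
  (((((((((((((((((namesUpTo_zero cert).addF Fi22TC9S3.nseg0 (by decide : 9894 = 0 + 9894)).addF Fi22TC9S3.nseg1 (by decide : 20515 = 9894 + 10621)).addF Fi22TC9S3.nseg2 (by decide : 31686 = 20515 + 11171)).addF Fi22TC9S3.nseg3 (by decide : 43177 = 31686 + 11491)).addF Fi22TC9S3.nseg4 (by decide : 54827 = 43177 + 11650)).addF Fi22TC9S3.nseg5 (by decide : 67187 = 54827 + 12360)).addF Fi22TC9S3.nseg6 (by decide : 77527 = 67187 + 10340)).addF Fi22TC9S3.nseg7 (by decide : 86971 = 77527 + 9444)).addF Fi22TC9S3.nseg8 (by decide : 96675 = 86971 + 9704)).addF Fi22TC9S3.nseg9 (by decide : 106499 = 96675 + 9824)).addF Fi22TC9S3.nseg10 (by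 decide : 116503 = 106499 + 10004)).addF Fi22TC9S3.nseg11 (by decide : 126567 = 116503 + 10064)).addF Fi22TC9S4.nseg12 (by decide : 136497 = 126567 + 9930)).addF Fi22TC9S4.nseg13 (by decide : 146201 = 136497 + 9704)).addF Fi22TC9S4.nseg14 (by decide : 156281 = 146201 + 10080)).addF Fi22TC9S4.nseg15 (by decide : 166791 = 156281 + 10510)).addF Fi22TC9S4.nseg16 (by decide : 169084 = 166791 + 2293)

end Cfsg.Agent.Lib.Helper98.Fi22TC9
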