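import Mathlib
import Cfsg.Agent.Lib.Helper98.CoxMain

/-!
# The presented group embeds in its permutation model

Under the hypotheses of `CoxMain.simple_and_card` (without primitivity), the homomorphism from the
presented group to the permutation model is injective; so identities between words can be checked
in the model.
-/

set_option autoImplicit false

namespace Cfsg.Agent.Lib.Helper98.CoxMain

open Cfsg Cfsg.Spor MulAction
open Cfsg.Agent.Lib.Helper89 Cfsg.Agent.Lib.Helper89.TableChain2
open Cfsg.Agent.Lib.Helper98.CosetCert Cfsg.Agent.Lib.Helper98.CoxPres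

variable {Gen : Type} [DecidableEq Gen] {edges : List (Gen × ℕ × Gen)}
  {extra : List (FreeGroup Gen)} {genOfNat : ℕ → Gen} {natOfGen : Gen → ℕ} {P : Pres}

theorem exists_embedding (L : Link edges extra genOfNat natOfGen P) (hwf : P.WF)
    {N : ℕ} (D : Data (Equiv.Perm (Fin N)) (Fin N)) (hm : D.m = P.n)
    (hrelM : P.Rel D.gen) (Ω : ℕ)
    (hfin : Finite (CoxPresented Gen edges extra))
    (hup : Nat.card (CoxPresented Gen edges extra) ≤ Ω) (hlow : Ω ≤ Nat.card (D.H D.m)) :
    ∃ φ : CoxPresented Gen edges extra →* Equiv.Perm (Fin N),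
      Function.Injective φ ∧ (∀ x < P.n, φ (genP edges extra genOfNat x) = D.gen x) ∧
      φ.range = D.H D.m := by
  let X := CoxPresented Gen edges extra
  let gP := genP edges extra genOfNat
  let M : Subgroup (Equiv.Perm (Fin N)) := D.H D.m
  let phi : X →* Equiv.Perm (Fin N) :=
    PresentedGroup.toGroup (f := fun s => D.gen (natOfGen s)) (L.lift_rel hwf hrelM)
  have phi_of : ∀ s : Gen, phi (PresentedGroup.of s) = D.gen (natOfGen s) :=
    fun s => PresentedGroup.toGroup.of _
  have phi_gP : ∀ x < P.n, phi (gP x) = D.gen x := by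
    intro x hx
    show phi (PresentedGroup.of (genOfNat x)) = _
    rw [phi_of, L.ng x hx]
  have range_le : phi.range ≤ M := by
    rw [MonoidHom.range_eq_map, ← PresentedGroup.closure_range_of, MonoidHom.map_closure,
      Subgroup.closure_le]
    rintro _ ⟨_, ⟨s, rfl⟩, rfl⟩
    rw [phi_of]
    exact D.gen_mem _ (by rw [hm]; exact L.lt s)
  have le_range : M ≤ phi.range := by
    show D.H D.m ≤ phi.range
    rw [Data.H, Subgroup.closure_le]
    rintro g ⟨j, hj, rfl⟩
    exact ⟨gP j, phi_gP j (by rw [← hm]; exact hj)⟩
  have hrange : phi.range = M := le_antisymm range_le le_range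
  refine ⟨phi, ?_, phi_gP, hrange⟩
  -- injectivity by counting
  have hsurj : Function.Surjective phi.rangeRestrict := phi.rangeRestrict_surjective
  have hcard : Nat.card X ≤ Nat.card phi.range := by
    rw [hrange]
    exact le_trans hup hlow
  have hbij := hsurj.bijective_of_nat_card_le hcard
  intro a b hab
  apply hbij.1
  exact Subtype.ext hab

end Cfsg.Agent.Lib.Helper98.CoxMain
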