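import Mathlib
import Cfsg.Prelude.Def_SporadicB
import Cfsg.Agent.Lib.Helper98.CoxPres

/-!
# Non-split double covers

Abstract criteria: a group with a central subgroup of order two, whose quotient is a non-commutative
simple group, and which has no subgroup of index two, is a non-split double cover of that quotient.
A group generated by involutions subject to a connected odd Coxeter diagram and a further relator of
odd length has no subgroup of index two.
-/

set_option autoImplicit false

namespace Cfsg.Agent.Lib.Helper98.DoubleCover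

open Cfsg Cfsg.Agent.Lib.Helper98.CoxPres

section center

variable {H K : Type*} [Group H] [Group K]

theorem center_eq_bot_of_simple [IsSimpleGroup K] (hnc : ∃ a b : K, a * b ≠ b * a) :
    Subgroup.center K = ⊥ := by
  rcases (inferInstance : (Subgroup.center K).Normal).eq_bot_or_eq_top with h | h
  · exact h
  · exfalso
    obtain ⟨a, b, hab⟩ := hnc
    apply hab
    have ha : a ∈ Subgroup.center K := by rw [h]; trivial
    exact ((Subgroup.mem_center_iff.1 ha) b).symm

theorem center_eq_of_simple_quotient (N : Subgroup H) [N.Normal] (hN : N ≤ Subgroup.center H)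
    (e : H ⧸ N ≃* K) [IsSimpleGroup K] (hnc : ∃ a b : K, a * b ≠ b * a) :
    Subgroup.center H = N := by
  apply le_antisymm _ hN
  intro x hx
  have hc : e (QuotientGroup.mk x) ∈ Subgroup.center K := by
    rw [Subgroup.mem_center_iff]
    intro k
    obtain ⟨q, rfl⟩ := e.surjective k
    obtain ⟨y, rfl⟩ := QuotientGroup.mk_surjective q
    rw [← map_mul, ← map_mul, ← QuotientGroup.mk_mul, ← QuotientGroup.mk_mul,
      (Subgroup.mem_center_iff.1 hx) y]
  rw [center_eq_bot_of_simple hnc, Subgroup.mem_bot] at hc
  have h1 : (QuotientGroup.mk x : H ⧸ N) = 1 := by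
    apply e.injective
    rw [hc, map_one]
  exact (QuotientGroup.eq_one_iff x).1 h1

theorem not_commutative_of_simple_of_not_prime [IsSimpleGroup K]
    (hp : ¬ (Nat.card K).Prime) : ∃ a b : K, a * b ≠ b * a := by
  by_contra hcon
  push Not at hcon
  let _ : CommGroup K := { (inferInstance : Group K) with mul_comm := hcon }
  exact hp (IsSimpleGroup.prime_card (α := K))

/-- the criterion for non-split double covers -/
theorem nonsplit_of (N : Subgroup H) [N.Normal] (hN : N ≤ Subgroup.center H)
    (hcard : Nat.card N = 2) (e : H ⧸ N ≃* K) [IsSimpleGroup K]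
    (hnc : ∃ a b : K, a * b ≠ b * a) (hperf : ∀ L : Subgroup H, L.index ≠ 2) :
    IsNonsplitDoubleCover H K := by
  have hc : Subgroup.center H = N := center_eq_of_simple_quotient N hN e hnc
  refine ⟨by rw [hc, hcard], ⟨(QuotientGroup.quotientMulEquivOfEq hc).trans e⟩, ?_⟩
  intro L hL
  apply hperf L
  rw [hL.index_eq_card, hc, hcard]

end center

section index_two

variable {Q : Type*} [CommGroup Q] {P : Pres} {g : ℕ → Q}

/-- in a commutative group, involutions subject to an odd connected diagram are all equal -/
theorem all_eq_of_comm (hwf : P.WF) (h : P.Rel g) (tree : List (ℕ × ℕ))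
    (ht : P.treeOK tree = true) (h0 : 0 < P.n) : ∀ x < P.n, g x = g 0 := by
  let P' : Pres := { n := P.n, lab := P.lab, extras := [] }
  have hwf' : P'.WF := ⟨hwf.1, by intro e he; simp [P'] at he⟩
  have h00 : g 0 * g 0 = 1 := h.sq hwf 0 h0
  have h' : P'.Rel (fun x => g 0 * g x) := by
    refine ⟨?_, ?_⟩
    · intro x hx y hy
      show (g 0 * g x * (g 0 * g y)) ^ P.lab x y = 1
      rw [mul_mul_mul_comm, h00, one_mul]
      exact h.cox x hx y hy
    · intro e he; simp [P'] at he
  have hk : ∀ (t : List (ℕ × ℕ)) (known : List ℕ),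
      Pres.treeKnown P' t known = Pres.treeKnown P t known := by
    intro t
    induction t with
    | nil => intro known; rfl
    | cons p t ih =>
      intro known
      obtain ⟨x, y⟩ := p
      simp only [Pres.treeKnown]
      rw [ih]
  have ht' : P'.treeOK tree = true := by
    unfold Pres.treeOK at ht ⊢
    rw [hk]
    exact ht
  have := h'.all_one hwf' tree ht' h00
  intro x hx
  have hx1 : g 0 * g x = 1 := this x hx
  calc g x = g 0 * g 0 * g x := by rw [h00, one_mul]
    _ = g 0 := by rw [mul_assoc, hx1, mul_one]

theorem prod_eq_pow_of_all_eq (hall : ∀ x < P.n, g x = g 0) (w : List ℕ)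
    (hw : ∀ x ∈ w, x < P.n) : (w.map g).prod = g 0 ^ w.length := by
  induction w with
  | nil => simp
  | cons a t ih =>
    rw [List.map_cons, List.prod_cons, List.length_cons, pow_succ',
      ih (fun x hx => hw x (List.mem_cons_of_mem _ hx)), hall a (hw a List.mem_cons_self)]

/-- with a further relator of odd length, they are all trivial -/
theorem all_one_of_comm (hwf : P.WF) (h : P.Rel g) (tree : List (ℕ × ℕ))
    (ht : P.treeOK tree = true) (h0 : 0 < P.n) (e : WExp) (he : e ∈ P.extras)
    (hodd : e.word.length % 2 = 1) : ∀ x < P.n, g x = 1 := by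
  have hall := all_eq_of_comm hwf h tree ht h0
  have h00 : g 0 * g 0 = 1 := h.sq hwf 0 h0
  have hsq : ∀ i ∈ e.word, g i * g i = 1 := fun i hi => h.sq hwf i (hwf.2 e he i hi)
  have h1 : g 0 ^ e.word.length = 1 := by
    rw [← prod_eq_pow_of_all_eq hall e.word (hwf.2 e he), ← WExp.eval_eq_prod e hsq]
    exact h.ext e he
  have h01 : g 0 = 1 := Pres.eq_one_of_sq_of_odd_pow h00 hodd h1
  intro x hx
  rw [hall x hx, h01]

end index_two

section index_two'

variable {H : Type*} [Group H] {P : Pres} {g : ℕ → H}

/-- a group generated by involutions subject to an odd connected diagram and a relator of odd length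
has no subgroup of index two -/
theorem index_ne_two (hwf : P.WF) (h : P.Rel g)
    (hgen : Subgroup.closure {x | ∃ i < P.n, g i = x} = ⊤)
    (tree : List (ℕ × ℕ)) (ht : P.treeOK tree = true) (h0 : 0 < P.n) (e : WExp)
    (he : e ∈ P.extras) (hodd : e.word.length % 2 = 1) (L : Subgroup H) : L.index ≠ 2 := by
  intro hL
  have : L.Normal := Subgroup.normal_of_index_eq_two hL
  have hcard : Nat.card (H ⧸ L) = 2 := hL
  have : Fact (Nat.Prime 2) := ⟨Nat.prime_two⟩
  have : IsCyclic (H ⧸ L) := isCyclic_of_prime_card hcard
  let _ : CommGroup (H ⧸ L) := IsCyclic.commGroup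
  have hrel : P.Rel (fun x => (QuotientGroup.mk' L) (g x)) := h.map (QuotientGroup.mk' L)
  have hall := all_one_of_comm hwf hrel tree ht h0 e he hodd
  have hle : (⊤ : Subgroup H) ≤ L := by
    rw [← hgen, Subgroup.closure_le]
    rintro _ ⟨i, hi, rfl⟩
    exact (QuotientGroup.eq_one_iff (g i)).1 (hall i hi)
  rw [top_le_iff] at hle
  rw [hle, Subgroup.index_top] at hL
  exact absurd hL (by norm_num)

end index_two'

end Cfsg.Agent.Lib.Helper98.DoubleCover
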