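import Mathlib
import Cfsg.Prelude.Def_Spor_Fi23
import Cfsg.Agent.Lib.Helper98.CoxPres

/-! The presentation of `Fi23` in the form used by `CoxPres`. -/

set_option autoImplicit false
set_option maxRecDepth 100000

namespace Cfsg.Agent.Lib.Helper98.Fi23Pres

open Cfsg Cfsg.Spor Cfsg.Agent.Lib.Helper98.CoxPres

/-- the generator with a given index -/
def genOfNat : ℕ → Fi23.Gen
  | 0 => .h
  | 1 => .d
  | 2 => .c
  | 3 => .e
  | 4 => .b
  | 5 => .f
  | 6 => .g
  | 7 => .i
  | 8 => .a
  | _ => .j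

/-- the index of a generator -/
def natOfGen : Fi23.Gen → ℕ
  | .a => 8
  | .b => 4
  | .c => 2
  | .d => 1
  | .e => 3
  | .f => 5
  | .g => 6
  | .h => 0
  | .i => 7
  | .j => 9

/-- the presentation -/
def pres : Pres where
  n := 10
  lab := fun x y => coxLabel Fi23.edges (genOfNat x) (genOfNat y)
  extras := [
    (.pow (.mul (.mul (.mul (.mul (.mul (.mul (.mul (.mul (.gen 1) (.gen 2)) (.gen 4)) (.gen 1)) (.gen 3)) (.gen 5)) (.gen 1)) (.gen 0)) (.gen 7)) 10),
    (.pow (.mul (.mul (.mul (.mul (.mul (.mul (.gen 8) (.gen 4)) (.gen 2)) (.gen 1)) (.gen 3)) (.gen 5)) (.gen 0)) 9)]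

theorem wf : pres.WF := by
  refine ⟨fun x _ => ?_, ?_⟩
  · show coxLabel Fi23.edges (genOfNat x) (genOfNat x) = 1
    simp [coxLabel]
  · decide

theorem link : Link Fi23.edges Fi23.extra genOfNat natOfGen pres where
  gn := fun s => by cases s <;> rfl
  lt := fun s => by cases s <;> decide
  ng := fun x hx => by
    have hx' : x < 10 := hx
    interval_cases x <;> rfl
  nodes := fun s => by cases s <;> decide
  lab := fun _ _ => rfl
  extra := rfl

/-- the generators of the presented group -/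
noncomputable abbrev gP : ℕ → Cfsg.Spor.Fi23 := genP Fi23.edges Fi23.extra genOfNat

end Cfsg.Agent.Lib.Helper98.Fi23Pres
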