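import Mathlib
import Cfsg.Prelude.Def_SporadicB
import Cfsg.Agent.Lib.Helper98.DoubleCover
import Cfsg.Agent.Lib.Helper98.Fi22Main
import Cfsg.Agent.Lib.Helper98.Fi23Pres

/-!
# The subgroup `⟨a, …, i⟩` of the presented `Fi23` is a non-split double cover of `Fi22`

This file reduces the claim to the order of the subgroup and three facts about the word
`(b c d e f g h)^9`, which are verified in the permutation model elsewhere.
-/

set_option autoImplicit false
set_option maxRecDepth 100000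

namespace Cfsg.Agent.Lib.Helper98.Fi23Cover

open Cfsg Cfsg.Spor
open Cfsg.Agent.Lib.Helper98.CosetCert Cfsg.Agent.Lib.Helper98.CoxPres
open Cfsg.Agent.Lib.Helper98.DoubleCover
open Cfsg.Agent.Lib.Helper98.Fi23Pres

/-- the subgroup generated by the first nine generators -/
noncomputable abbrev H9 : Subgroup Cfsg.Spor.Fi23 := Hk gP 9

theorem gP_mem (i : ℕ) (hi : i < 9) : gP i ∈ H9 := Subgroup.subset_closure ⟨i, hi, rfl⟩

/-- the generators inside the subgroup -/
noncomputable def gH (i : ℕ) : H9 := if h : i < 9 then ⟨gP i, gP_mem i h⟩ else 1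

theorem gH_coe (i : ℕ) (hi : i < 9) : (gH i : Cfsg.Spor.Fi23) = gP i := by
  rw [gH, dif_pos hi]

/-- the presentation restricted to the first nine generators -/
def pres9 : Pres where
  n := 9
  lab := pres.lab
  extras := pres.extras

theorem wf9 : pres9.WF := by
  refine ⟨fun x hx => wf.1 x (lt_trans hx (by decide)), ?_⟩
  decide

theorem eval_gH (e : WExp) (he : ∀ i ∈ e.word, i < 9) :
    ((e.eval gH : H9) : Cfsg.Spor.Fi23) = e.eval gP := by
  have := WExp.eval_map H9.subtype gH e
  rw [Subgroup.coe_subtype] at this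
  rw [this]
  apply WExp.eval_congr
  intro i hi
  exact gH_coe i (he i hi)

theorem rel9 : pres9.Rel gH := by
  have hrel := link.rel_genP
  refine ⟨?_, ?_⟩
  · intro x hx y hy
    apply Subtype.ext
    rw [Subgroup.coe_pow, Subgroup.coe_mul, gH_coe x hx, gH_coe y hy, Subgroup.coe_one]
    exact hrel.cox x (lt_trans hx (by decide)) y (lt_trans hy (by decide))
  · intro e he
    apply Subtype.ext
    rw [eval_gH e (wf9.2 e he), Subgroup.coe_one]
    exact hrel.ext e he

theorem gen9 : Subgroup.closure {x : H9 | ∃ i < pres9.n, gH i = x} = ⊤ := by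
  have h := Subgroup.closure_closure_coe_preimage (k := {g | ∃ x < 9, gP x = g})
  have hset : {x : H9 | ∃ i < pres9.n, gH i = x} =
      ((↑) ⁻¹' {g | ∃ x < 9, gP x = g} : Set H9) := by
    ext x
    constructor
    · rintro ⟨i, hi, rfl⟩
      exact ⟨i, hi, (gH_coe i hi).symm⟩
    · rintro ⟨i, hi, h⟩
      exact ⟨i, hi, Subtype.ext (by rw [gH_coe i hi]; exact h)⟩
  rw [hset]
  exact h

theorem index_ne_two9 (L : Subgroup H9) : L.index ≠ 2 :=
  index_ne_two wf9 rel9 gen9 [(0, 1), (0, 7), (1, 2), (1, 3), (3, 5), (5, 6), (2, 4), (4, 8)]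
    (by decide) (by decide)
    (.pow (.mul (.mul (.mul (.mul (.mul (.mul (.gen 8) (.gen 4)) (.gen 2)) (.gen 1)) (.gen 3)) (.gen 5)) (.gen 0)) 9)
    (by simp [pres9, pres]) (by decide) L

/-- the word `(b c d e f g h)^9` -/
def ze : WExp :=
  .pow (.mul (.mul (.mul (.mul (.mul (.mul (.gen 4) (.gen 2)) (.gen 1)) (.gen 3)) (.gen 5)) (.gen 6)) (.gen 0)) 9

/-- the same as a list of letters -/
def zw : List ℕ := (List.replicate 9 [4, 2, 1, 3, 5, 6, 0]).flatten

theorem ze_word : ze.word = zw := by decide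

theorem ze_lt : ∀ i ∈ ze.word, i < 9 := by decide

/-- the central element -/
noncomputable def z : H9 := ze.eval gH

theorem z_coe : (z : Cfsg.Spor.Fi23) = (zw.map gP).prod := by
  have hrel := link.rel_genP
  rw [z, eval_gH ze ze_lt, ← ze_word]
  apply WExp.eval_eq_prod
  intro i hi
  exact hrel.sq wf i (lt_trans (ze_lt i hi) (by decide))

theorem lab_eq : ∀ x < 9, ∀ y < 9, Fi22Pres.pres.lab x y = pres.lab x y := by decide

section core

variable (hzc : ∀ i < 9, gP i * (zw.map gP).prod = (zw.map gP).prod * gP i)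
  (hz2 : (zw.map gP).prod * (zw.map gP).prod = 1) (hz1 : (zw.map gP).prod ≠ 1)
  (hcard : Nat.card H9 = 129123503308800)

include hzc in
theorem z_central : z ∈ Subgroup.center H9 := by
  rw [Subgroup.mem_center_iff]
  have hle : (⊤ : Subgroup H9) ≤ Subgroup.centralizer {z} := by
    rw [← gen9, Subgroup.closure_le]
    rintro _ ⟨i, hi, rfl⟩
    rw [SetLike.mem_coe, Subgroup.mem_centralizer_iff]
    intro h hh
    rw [Set.mem_singleton_iff] at hh
    subst hh
    apply Subtype.ext
    rw [Subgroup.coe_mul, Subgroup.coe_mul, z_coe, gH_coe i hi]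
    exact (hzc i hi).symm
  intro g
  have hg : g ∈ Subgroup.centralizer {z} := hle (Subgroup.mem_top g)
  rw [Subgroup.mem_centralizer_iff] at hg
  exact (hg z rfl).symm

include hz2 in
theorem z_sq : z * z = 1 := by
  apply Subtype.ext
  rw [Subgroup.coe_mul, z_coe, Subgroup.coe_one]
  exact hz2

include hz1 in
theorem z_ne : z ≠ 1 := by
  intro h
  apply hz1
  rw [← z_coe, h, Subgroup.coe_one]

include hzc hz2 hz1 hcard in
theorem cover : IsNonsplitDoubleCover H9 Cfsg.Spor.Fi22 := by
  have hzcen := z_central hzc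
  have hzsq := z_sq hz2
  have hzne := z_ne hz1
  let N : Subgroup H9 := Subgroup.zpowers z
  have hN : N ≤ Subgroup.center H9 := by
    rw [Subgroup.zpowers_le]
    exact hzcen
  have hnorm : N.Normal := by
    refine ⟨fun n hn g => ?_⟩
    have hc := hN hn
    rw [Subgroup.mem_center_iff] at hc
    rw [hc g, mul_inv_cancel_right]
    exact hn
  have hord : orderOf z = 2 := by
    have : Fact (Nat.Prime 2) := ⟨Nat.prime_two⟩
    exact orderOf_eq_prime (by rw [pow_two]; exact hzsq) hzne
  have hcardN : Nat.card N = 2 := by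
    rw [Nat.card_zpowers, hord]
  have hfin : Finite H9 := Nat.finite_of_card_ne_zero (by rw [hcard]; norm_num)
  have hcardQ : Nat.card (H9 ⧸ N) = 64561751654400 := by
    have := Subgroup.card_eq_card_quotient_mul_card_subgroup N
    rw [hcard, hcardN] at this
    omega
  -- the generators of the quotient
  let gQ : ℕ → H9 ⧸ N := fun i => QuotientGroup.mk' N (gH i)
  have hzQ : QuotientGroup.mk' N z = 1 := by
    rw [QuotientGroup.mk'_apply, QuotientGroup.eq_one_iff]
    exact Subgroup.mem_zpowers z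
  have hrelQ9 : pres9.Rel gQ := rel9.map (QuotientGroup.mk' N)
  have hrelQ : Fi22Pres.pres.Rel gQ := by
    refine ⟨?_, ?_⟩
    · intro x hx y hy
      rw [lab_eq x hx y hy]
      exact hrelQ9.cox x hx y hy
    · intro e he
      have he' : e ∈ pres9.extras ∨ e = ze := by
        simp only [Fi22Pres.pres, List.mem_cons, List.not_mem_nil, or_false] at he
        rcases he with rfl | rfl | rfl
        · left; simp [pres9, pres]
        · left; simp [pres9, pres]
        · right; rfl
      rcases he' with he' | rfl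
      · exact hrelQ9.ext e he'
      · rw [← WExp.eval_map]
        exact hzQ
  let θ : Cfsg.Spor.Fi22 →* H9 ⧸ N :=
    PresentedGroup.toGroup (f := fun s => gQ (Fi22Pres.natOfGen s))
      (Fi22Pres.link.lift_rel Fi22Pres.wf hrelQ)
  have hθ : ∀ i < 9, θ (PresentedGroup.of (Fi22Pres.genOfNat i)) = gQ i := by
    intro i hi
    show PresentedGroup.toGroup _ (PresentedGroup.of _) = _
    rw [PresentedGroup.toGroup.of, Fi22Pres.link.ng i hi]
  have hsurj : Function.Surjective θ := by
    rw [← MonoidHom.range_eq_top, eq_top_iff,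
      ← MonoidHom.range_eq_top.2 (QuotientGroup.mk'_surjective N), MonoidHom.range_eq_map,
      ← gen9, MonoidHom.map_closure, Subgroup.closure_le]
    rintro _ ⟨_, ⟨i, hi, rfl⟩, rfl⟩
    exact ⟨PresentedGroup.of (Fi22Pres.genOfNat i), hθ i hi⟩
  have hfin22 : Finite Cfsg.Spor.Fi22 := Fi22Main.finite_X
  have hbij : Function.Bijective θ :=
    hsurj.bijective_of_nat_card_le (by rw [hcardQ, Fi22Main.main.2])
  let e : H9 ⧸ N ≃* Cfsg.Spor.Fi22 := (MulEquiv.ofBijective θ hbij).symm
  have hsimple : IsSimpleGroup Cfsg.Spor.Fi22 := Fi22Main.main.1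
  have hnc : ∃ a b : Cfsg.Spor.Fi22, a * b ≠ b * a :=
    not_commutative_of_simple_of_not_prime (by rw [Fi22Main.main.2]; norm_num)
  exact nonsplit_of N hN hcardN e hnc index_ne_two9

end core

theorem closure_eq : ((Subgroup.closure ({Cfsg.Spor.Fi23.a, Cfsg.Spor.Fi23.b, Cfsg.Spor.Fi23.c, Cfsg.Spor.Fi23.d, Cfsg.Spor.Fi23.e, Cfsg.Spor.Fi23.f, Cfsg.Spor.Fi23.g, Cfsg.Spor.Fi23.h, Cfsg.Spor.Fi23.i} : Set (FreeGroup Cfsg.Spor.Fi23.Gen))).map (PresentedGroup.mk (Cfsg.Spor.coxRelators Cfsg.Spor.Fi23.edges ∪ {r | r ∈ Cfsg.Spor.Fi23.extra}))) = H9 := by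
  rw [MonoidHom.map_closure]
  show _ = Subgroup.closure {g | ∃ x < 9, gP x = g}
  congr 1
  ext x
  constructor
  · rintro ⟨_, (rfl | rfl | rfl | rfl | rfl | rfl | rfl | rfl | rfl), rfl⟩
    · exact ⟨8, by decide, rfl⟩
    · exact ⟨4, by decide, rfl⟩
    · exact ⟨2, by decide, rfl⟩
    · exact ⟨1, by decide, rfl⟩
    · exact ⟨3, by decide, rfl⟩
    · exact ⟨5, by decide, rfl⟩
    · exact ⟨6, by decide, rfl⟩
    · exact ⟨0, by decide, rfl⟩
    · exact ⟨7, by decide, rfl⟩
  · rintro ⟨i, hi, rfl⟩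
    interval_cases i
    · exact ⟨Fi23.h, by simp, rfl⟩
    · exact ⟨Fi23.d, by simp, rfl⟩
    · exact ⟨Fi23.c, by simp, rfl⟩
    · exact ⟨Fi23.e, by simp, rfl⟩
    · exact ⟨Fi23.b, by simp, rfl⟩
    · exact ⟨Fi23.f, by simp, rfl⟩
    · exact ⟨Fi23.g, by simp, rfl⟩
    · exact ⟨Fi23.i, by simp, rfl⟩
    · exact ⟨Fi23.a, by simp, rfl⟩

end Cfsg.Agent.Lib.Helper98.Fi23Cover
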