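import Mathlib
import Cfsg.Agent.Lib.Helper98.Fi23TC10C0
import Cfsg.Agent.Lib.Helper98.Fi23TC10C1
import Cfsg.Agent.Lib.Helper98.Fi23TC10C2
import Cfsg.Agent.Lib.Helper98.Fi23TC10C3
import Cfsg.Agent.Lib.Helper98.Fi23TC10C4
import Cfsg.Agent.Lib.Helper98.Fi23TC10C5
import Cfsg.Agent.Lib.Helper98.Fi23TC10C6
import Cfsg.Agent.Lib.Helper98.CosetCert2
import Cfsg.Agent.Lib.Helper98.Fi23Pres

/-! Coset enumeration certificate, level 10: index at most 31671; data. -/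

set_option autoImplicit false
set_option maxRecDepth 1000000

namespace Cfsg.Agent.Lib.Helper98.Fi23TC10D

open Cfsg.Agent.Lib.Helper98.CosetCert Cfsg.Agent.Lib.Helper98.CosetCert2

open Cfsg.Agent.Lib.Helper98.Fi23Pres

def entN0 (c : ℕ) : ℕ := (Bool.rec (motive := fun _ => ℕ) entC0 (Bool.rec (motive := fun _ => ℕ) entC1 entC2 (Nat.ble 2 c)) (Nat.ble 1 c))

def entN1 (c : ℕ) : ℕ := (Bool.rec (motive := fun _ => ℕ) entC3 (Bool.rec (motive := fun _ => ℕ) entC4 entC5 (Nat.ble 5 c)) (Nat.ble 4 c))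

def entN2 (c : ℕ) : ℕ := (Bool.rec (motive := fun _ => ℕ) entC6 (Bool.rec (motive := fun _ => ℕ) entC7 entC8 (Nat.ble 8 c)) (Nat.ble 7 c))

def entN3 (c : ℕ) : ℕ := (Bool.rec (motive := fun _ => ℕ) entC9 entC10 (Nat.ble 10 c))

def entN4 (c : ℕ) : ℕ := (Bool.rec (motive := fun _ => ℕ) (Bool.rec (motive := fun _ => ℕ) (entN0 c) (entN1 c) (Nat.ble 3 c)) (Bool.rec (motive := fun _ => ℕ) (entN2 c) (entN3 c) (Nat.ble 9 c)) (Nat.ble 6 c))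

def entN5 (c : ℕ) : ℕ := (Bool.rec (motive := fun _ => ℕ) entC11 (Bool.rec (motive := fun _ => ℕ) entC12 entC13 (Nat.ble 13 c)) (Nat.ble 12 c))

def entN6 (c : ℕ) : ℕ := (Bool.rec (motive := fun _ => ℕ) entC14 (Bool.rec (motive := fun _ => ℕ) entC15 entC16 (Nat.ble 16 c)) (Nat.ble 15 c))

def entN7 (c : ℕ) : ℕ := (Bool.rec (motive := fun _ => ℕ) entC17 (Bool.rec (motive := fun _ => ℕ) entC18 entC19 (Nat.ble 19 c)) (Nat.ble 18 c))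

def entN8 (c : ℕ) : ℕ := (Bool.rec (motive := fun _ => ℕ) entC20 entC21 (Nat.ble 21 c))

def entN9 (c : ℕ) : ℕ := (Bool.rec (motive := fun _ => ℕ) (Bool.rec (motive := fun _ => ℕ) (entN5 c) (entN6 c) (Nat.ble 14 c)) (Bool.rec (motive := fun _ => ℕ) (entN7 c) (entN8 c) (Nat.ble 20 c)) (Nat.ble 17 c))

def entN10 (c : ℕ) : ℕ := (Bool.rec (motive := fun _ => ℕ) entC22 (Bool.rec (motive := fun _ => ℕ) entC23 entC24 (Nat.ble 24 c)) (Nat.ble 23 c))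

def entN11 (c : ℕ) : ℕ := (Bool.rec (motive := fun _ => ℕ) entC25 (Bool.rec (motive := fun _ => ℕ) entC26 entC27 (Nat.ble 27 c)) (Nat.ble 26 c))

def entN12 (c : ℕ) : ℕ := (Bool.rec (motive := fun _ => ℕ) entC28 (Bool.rec (motive := fun _ => ℕ) entC29 entC30 (Nat.ble 30 c)) (Nat.ble 29 c))

def entN13 (c : ℕ) : ℕ := (Bool.rec (motive := fun _ => ℕ) entC31 entC32 (Nat.ble 32 c))

def entN14 (c : ℕ) : ℕ := (Bool.rec (motive := fun _ => ℕ) (Bool.rec (motive := fun _ => ℕ) (entN10 c) (entN11 c) (Nat.ble 25 c)) (Bool.rec (motive := fun _ => ℕ) (entN12 c) (entN13 c) (Nat.ble 31 c)) (Nat.ble 28 c))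

def entN15 (c : ℕ) : ℕ := (Bool.rec (motive := fun _ => ℕ) entC33 (Bool.rec (motive := fun _ => ℕ) entC34 entC35 (Nat.ble 35 c)) (Nat.ble 34 c))

def entN16 (c : ℕ) : ℕ := (Bool.rec (motive := fun _ => ℕ) entC36 (Bool.rec (motive := fun _ => ℕ) entC37 entC38 (Nat.ble 38 c)) (Nat.ble 37 c))

def entN17 (c : ℕ) : ℕ := (Bool.rec (motive := fun _ => ℕ) entC39 (Bool.rec (motive := fun _ => ℕ) entC40 entC41 (Nat.ble 41 c)) (Nat.ble 40 c))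

def entN18 (c : ℕ) : ℕ := (Bool.rec (motive := fun _ => ℕ) (entN15 c) (Bool.rec (motive := fun _ => ℕ) (entN16 c) (entN17 c) (Nat.ble 39 c)) (Nat.ble 36 c))

def entN19 (c : ℕ) : ℕ := (Bool.rec (motive := fun _ => ℕ) (Bool.rec (motive := fun _ => ℕ) (entN4 c) (entN9 c) (Nat.ble 11 c)) (Bool.rec (motive := fun _ => ℕ) (entN14 c) (entN18 c) (Nat.ble 33 c)) (Nat.ble 22 c))

def entN20 (c : ℕ) : ℕ := (Bool.rec (motive := fun _ => ℕ) entC42 (Bool.rec (motive := fun _ => ℕ) entC43 entC44 (Nat.ble 44 c)) (Nat.ble 43 c))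

def entN21 (c : ℕ) : ℕ := (Bool.rec (motive := fun _ => ℕ) entC45 (Bool.rec (motive := fun _ => ℕ) entC46 entC47 (Nat.ble 47 c)) (Nat.ble 46 c))

def entN22 (c : ℕ) : ℕ := (Bool.rec (motive := fun _ => ℕ) entC48 (Bool.rec (motive := fun _ => ℕ) entC49 entC50 (Nat.ble 50 c)) (Nat.ble 49 c))

def entN23 (c : ℕ) : ℕ := (Bool.rec (motive := fun _ => ℕ) entC51 entC52 (Nat.ble 52 c))

def entN24 (c : ℕ) : ℕ := (Bool.rec (motive := fun _ => ℕ) (Bool.rec (motive := fun _ => ℕ) (entN20 c) (entN21 c) (Nat.ble 45 c)) (Bool.rec (motive := fun _ => ℕ) (entN22 c) (entN23 c) (Nat.ble 51 c)) (Nat.ble 48 c))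

def entN25 (c : ℕ) : ℕ := (Bool.rec (motive := fun _ => ℕ) entC53 (Bool.rec (motive := fun _ => ℕ) entC54 entC55 (Nat.ble 55 c)) (Nat.ble 54 c))

def entN26 (c : ℕ) : ℕ := (Bool.rec (motive := fun _ => ℕ) entC56 (Bool.rec (motive := fun _ => ℕ) entC57 entC58 (Nat.ble 58 c)) (Nat.ble 57 c))

def entN27 (c : ℕ) : ℕ := (Bool.rec (motive := fun _ => ℕ) entC59 (Bool.rec (motive := fun _ => ℕ) entC60 entC61 (Nat.ble 61 c)) (Nat.ble 60 c))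

def entN28 (c : ℕ) : ℕ := (Bool.rec (motive := fun _ => ℕ) entC62 entC63 (Nat.ble 63 c))

def entN29 (c : ℕ) : ℕ := (Bool.rec (motive := fun _ => ℕ) (Bool.rec (motive := fun _ => ℕ) (entN25 c) (entN26 c) (Nat.ble 56 c)) (Bool.rec (motive := fun _ => ℕ) (entN27 c) (entN28 c) (Nat.ble 62 c)) (Nat.ble 59 c))

def entN30 (c : ℕ) : ℕ := (Bool.rec (motive := fun _ => ℕ) entC64 (Bool.rec (motive := fun _ => ℕ) entC65 entC66 (Nat.ble 66 c)) (Nat.ble 65 c))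

def entN31 (c : ℕ) : ℕ := (Bool.rec (motive := fun _ => ℕ) entC67 (Bool.rec (motive := fun _ => ℕ) entC68 entC69 (Nat.ble 69 c)) (Nat.ble 68 c))

def entN32 (c : ℕ) : ℕ := (Bool.rec (motive := fun _ => ℕ) entC70 (Bool.rec (motive := fun _ => ℕ) entC71 entC72 (Nat.ble 72 c)) (Nat.ble 71 c))

def entN33 (c : ℕ) : ℕ := (Bool.rec (motive := fun _ => ℕ) entC73 entC74 (Nat.ble 74 c))

def entN34 (c : ℕ) : ℕ := (Bool.rec (motive := fun _ => ℕ) (Bool.rec (motive := fun _ => ℕ) (entN30 c) (entN31 c) (Nat.ble 67 c)) (Bool.rec (motive := fun _ => ℕ) (entN32 c) (entN33 c) (Nat.ble 73 c)) (Nat.ble 70 c))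

def entN35 (c : ℕ) : ℕ := (Bool.rec (motive := fun _ => ℕ) entC75 (Bool.rec (motive := fun _ => ℕ) entC76 entC77 (Nat.ble 77 c)) (Nat.ble 76 c))

def entN36 (c : ℕ) : ℕ := (Bool.rec (motive := fun _ => ℕ) entC78 (Bool.rec (motive := fun _ => ℕ) entC79 entC80 (Nat.ble 80 c)) (Nat.ble 79 c))

def entN37 (c : ℕ) : ℕ := (Bool.rec (motive := fun _ => ℕ) entC81 (Bool.rec (motive := fun _ => ℕ) entC82 entC83 (Nat.ble 83 c)) (Nat.ble 82 c))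

def entN38 (c : ℕ) : ℕ := (Bool.rec (motive := fun _ => ℕ) (entN35 c) (Bool.rec (motive := fun _ => ℕ) (entN36 c) (entN37 c) (Nat.ble 81 c)) (Nat.ble 78 c))

def entN39 (c : ℕ) : ℕ := (Bool.rec (motive := fun _ => ℕ) (Bool.rec (motive := fun _ => ℕ) (entN24 c) (entN29 c) (Nat.ble 53 c)) (Bool.rec (motive := fun _ => ℕ) (entN34 c) (entN38 c) (Nat.ble 75 c)) (Nat.ble 64 c))

def entN40 (c : ℕ) : ℕ := (Bool.rec (motive := fun _ => ℕ) entC84 (Bool.rec (motive := fun _ => ℕ) entC85 entC86 (Nat.ble 86 c)) (Nat.ble 85 c))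

def entN41 (c : ℕ) : ℕ := (Bool.rec (motive := fun _ => ℕ) entC87 (Bool.rec (motive := fun _ => ℕ) entC88 entC89 (Nat.ble 89 c)) (Nat.ble 88 c))

def entN42 (c : ℕ) : ℕ := (Bool.rec (motive := fun _ => ℕ) entC90 (Bool.rec (motive := fun _ => ℕ) entC91 entC92 (Nat.ble 92 c)) (Nat.ble 91 c))

def entN43 (c : ℕ) : ℕ := (Bool.rec (motive := fun _ => ℕ) entC93 entC94 (Nat.ble 94 c))

def entN44 (c : ℕ) : ℕ := (Bool.rec (motive := fun _ => ℕ) (Bool.rec (motive := fun _ => ℕ) (entN40 c) (entN41 c) (Nat.ble 87 c)) (Bool.rec (motive := fun _ => ℕ) (entN42 c) (entN43 c) (Nat.ble 93 c)) (Nat.ble 90 c))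

def entN45 (c : ℕ) : ℕ := (Bool.rec (motive := fun _ => ℕ) entC95 (Bool.rec (motive := fun _ => ℕ) entC96 entC97 (Nat.ble 97 c)) (Nat.ble 96 c))

def entN46 (c : ℕ) : ℕ := (Bool.rec (motive := fun _ => ℕ) entC98 (Bool.rec (motive := fun _ => ℕ) entC99 entC100 (Nat.ble 100 c)) (Nat.ble 99 c))

def entN47 (c : ℕ) : ℕ := (Bool.rec (motive := fun _ => ℕ) entC101 (Bool.rec (motive := fun _ => ℕ) entC102 entC103 (Nat.ble 103 c)) (Nat.ble 102 c))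

def entN48 (c : ℕ) : ℕ := (Bool.rec (motive := fun _ => ℕ) entC104 entC105 (Nat.ble 105 c))

def entN49 (c : ℕ) : ℕ := (Bool.rec (motive := fun _ => ℕ) (Bool.rec (motive := fun _ => ℕ) (entN45 c) (entN46 c) (Nat.ble 98 c)) (Bool.rec (motive := fun _ => ℕ) (entN47 c) (entN48 c) (Nat.ble 104 c)) (Nat.ble 101 c))

def entN50 (c : ℕ) : ℕ := (Bool.rec (motive := fun _ => ℕ) entC106 (Bool.rec (motive := fun _ => ℕ) entC107 entC108 (Nat.ble 108 c)) (Nat.ble 107 c))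

def entN51 (c : ℕ) : ℕ := (Bool.rec (motive := fun _ => ℕ) entC109 (Bool.rec (motive := fun _ => ℕ) entC110 entC111 (Nat.ble 111 c)) (Nat.ble 110 c))

def entN52 (c : ℕ) : ℕ := (Bool.rec (motive := fun _ => ℕ) entC112 (Bool.rec (motive := fun _ => ℕ) entC113 entC114 (Nat.ble 114 c)) (Nat.ble 113 c))

def entN53 (c : ℕ) : ℕ := (Bool.rec (motive := fun _ => ℕ) entC115 entC116 (Nat.ble 116 c))

def entN54 (c : ℕ) : ℕ := (Bool.rec (motive := fun _ => ℕ) (Bool.rec (motive := fun _ => ℕ) (entN50 c) (entN51 c) (Nat.ble 109 c)) (Bool.rec (motive := fun _ => ℕ) (entN52 c) (entN53 c) (Nat.ble 115 c)) (Nat.ble 112 c))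

def entN55 (c : ℕ) : ℕ := (Bool.rec (motive := fun _ => ℕ) entC117 (Bool.rec (motive := fun _ => ℕ) entC118 entC119 (Nat.ble 119 c)) (Nat.ble 118 c))

def entN56 (c : ℕ) : ℕ := (Bool.rec (motive := fun _ => ℕ) entC120 (Bool.rec (motive := fun _ => ℕ) entC121 entC122 (Nat.ble 122 c)) (Nat.ble 121 c))

def entN57 (c : ℕ) : ℕ := (Bool.rec (motive := fun _ => ℕ) entC123 (Bool.rec (motive := fun _ => ℕ) entC124 entC125 (Nat.ble 125 c)) (Nat.ble 124 c))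

def entN58 (c : ℕ) : ℕ := (Bool.rec (motive := fun _ => ℕ) (entN55 c) (Bool.rec (motive := fun _ => ℕ) (entN56 c) (entN57 c) (Nat.ble 123 c)) (Nat.ble 120 c))

def entN59 (c : ℕ) : ℕ := (Bool.rec (motive := fun _ => ℕ) (Bool.rec (motive := fun _ => ℕ) (entN44 c) (entN49 c) (Nat.ble 95 c)) (Bool.rec (motive := fun _ => ℕ) (entN54 c) (entN58 c) (Nat.ble 117 c)) (Nat.ble 106 c))

def entN60 (c : ℕ) : ℕ := (Bool.rec (motive := fun _ => ℕ) entC126 (Bool.rec (motive := fun _ => ℕ) entC127 entC128 (Nat.ble 128 c)) (Nat.ble 127 c))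

def entN61 (c : ℕ) : ℕ := (Bool.rec (motive := fun _ => ℕ) entC129 (Bool.rec (motive := fun _ => ℕ) entC130 entC131 (Nat.ble 131 c)) (Nat.ble 130 c))

def entN62 (c : ℕ) : ℕ := (Bool.rec (motive := fun _ => ℕ) entC132 (Bool.rec (motive := fun _ => ℕ) entC133 entC134 (Nat.ble 134 c)) (Nat.ble 133 c))

def entN63 (c : ℕ) : ℕ := (Bool.rec (motive := fun _ => ℕ) entC135 entC136 (Nat.ble 136 c))

def entN64 (c : ℕ) : ℕ := (Bool.rec (motive := fun _ => ℕ) (Bool.rec (motive := fun _ => ℕ) (entN60 c) (entN61 c) (Nat.ble 129 c)) (Bool.rec (motive := fun _ => ℕ) (entN62 c) (entN63 c) (Nat.ble 135 c)) (Nat.ble 132 c))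

def entN65 (c : ℕ) : ℕ := (Bool.rec (motive := fun _ => ℕ) entC137 (Bool.rec (motive := fun _ => ℕ) entC138 entC139 (Nat.ble 139 c)) (Nat.ble 138 c))

def entN66 (c : ℕ) : ℕ := (Bool.rec (motive := fun _ => ℕ) entC140 (Bool.rec (motive := fun _ => ℕ) entC141 entC142 (Nat.ble 142 c)) (Nat.ble 141 c))

def entN67 (c : ℕ) : ℕ := (Bool.rec (motive := fun _ => ℕ) entC143 (Bool.rec (motive := fun _ => ℕ) entC144 entC145 (Nat.ble 145 c)) (Nat.ble 144 c))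

def entN68 (c : ℕ) : ℕ := (Bool.rec (motive := fun _ => ℕ) entC146 entC147 (Nat.ble 147 c))

def entN69 (c : ℕ) : ℕ := (Bool.rec (motive := fun _ => ℕ) (Bool.rec (motive := fun _ => ℕ) (entN65 c) (entN66 c) (Nat.ble 140 c)) (Bool.rec (motive := fun _ => ℕ) (entN67 c) (entN68 c) (Nat.ble 146 c)) (Nat.ble 143 c))

def entN70 (c : ℕ) : ℕ := (Bool.rec (motive := fun _ => ℕ) entC148 (Bool.rec (motive := fun _ => ℕ) entC149 entC150 (Nat.ble 150 c)) (Nat.ble 149 c))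

def entN71 (c : ℕ) : ℕ := (Bool.rec (motive := fun _ => ℕ) entC151 (Bool.rec (motive := fun _ => ℕ) entC152 entC153 (Nat.ble 153 c)) (Nat.ble 152 c))

def entN72 (c : ℕ) : ℕ := (Bool.rec (motive := fun _ => ℕ) entC154 (Bool.rec (motive := fun _ => ℕ) entC155 entC156 (Nat.ble 156 c)) (Nat.ble 155 c))

def entN73 (c : ℕ) : ℕ := (Bool.rec (motive := fun _ => ℕ) entC157 entC158 (Nat.ble 158 c))

def entN74 (c : ℕ) : ℕ := (Bool.rec (motive := fun _ => ℕ) (Bool.rec (motive := fun _ => ℕ) (entN70 c) (entN71 c) (Nat.ble 151 c)) (Bool.rec (motive := fun _ => ℕ) (entN72 c) (entN73 c) (Nat.ble 157 c)) (Nat.ble 154 c))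

def entN75 (c : ℕ) : ℕ := (Bool.rec (motive := fun _ => ℕ) entC159 (Bool.rec (motive := fun _ => ℕ) entC160 entC161 (Nat.ble 161 c)) (Nat.ble 160 c))

def entN76 (c : ℕ) : ℕ := (Bool.rec (motive := fun _ => ℕ) entC162 (Bool.rec (motive := fun _ => ℕ) entC163 entC164 (Nat.ble 164 c)) (Nat.ble 163 c))

def entN77 (c : ℕ) : ℕ := (Bool.rec (motive := fun _ => ℕ) entC165 (Bool.rec (motive := fun _ => ℕ) entC166 entC167 (Nat.ble 167 c)) (Nat.ble 166 c))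

def entN78 (c : ℕ) : ℕ := (Bool.rec (motive := fun _ => ℕ) (entN75 c) (Bool.rec (motive := fun _ => ℕ) (entN76 c) (entN77 c) (Nat.ble 165 c)) (Nat.ble 162 c))

def entN79 (c : ℕ) : ℕ := (Bool.rec (motive := fun _ => ℕ) (Bool.rec (motive := fun _ => ℕ) (entN64 c) (entN69 c) (Nat.ble 137 c)) (Bool.rec (motive := fun _ => ℕ) (entN74 c) (entN78 c) (Nat.ble 159 c)) (Nat.ble 148 c))

def entN80 (c : ℕ) : ℕ := (Bool.rec (motive := fun _ => ℕ) (Bool.rec (motive := fun _ => ℕ) (entN19 c) (entN39 c) (Nat.ble 42 c)) (Bool.rec (motive := fun _ => ℕ) (entN59 c) (entN79 c) (Nat.ble 126 c)) (Nat.ble 84 c))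

def entN81 (c : ℕ) : ℕ := (Bool.rec (motive := fun _ => ℕ) entC168 (Bool.rec (motive := fun _ => ℕ) entC169 entC170 (Nat.ble 170 c)) (Nat.ble 169 c))

def entN82 (c : ℕ) : ℕ := (Bool.rec (motive := fun _ => ℕ) entC171 (Bool.rec (motive := fun _ => ℕ) entC172 entC173 (Nat.ble 173 c)) (Nat.ble 172 c))

def entN83 (c : ℕ) : ℕ := (Bool.rec (motive := fun _ => ℕ) entC174 (Bool.rec (motive := fun _ => ℕ) entC175 entC176 (Nat.ble 176 c)) (Nat.ble 175 c))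

def entN84 (c : ℕ) : ℕ := (Bool.rec (motive := fun _ => ℕ) entC177 entC178 (Nat.ble 178 c))

def entN85 (c : ℕ) : ℕ := (Bool.rec (motive := fun _ => ℕ) (Bool.rec (motive := fun _ => ℕ) (entN81 c) (entN82 c) (Nat.ble 171 c)) (Bool.rec (motive := fun _ => ℕ) (entN83 c) (entN84 c) (Nat.ble 177 c)) (Nat.ble 174 c))

def entN86 (c : ℕ) : ℕ := (Bool.rec (motive := fun _ => ℕ) entC179 (Bool.rec (motive := fun _ => ℕ) entC180 entC181 (Nat.ble 181 c)) (Nat.ble 180 c))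

def entN87 (c : ℕ) : ℕ := (Bool.rec (motive := fun _ => ℕ) entC182 (Bool.rec (motive := fun _ => ℕ) entC183 entC184 (Nat.ble 184 c)) (Nat.ble 183 c))

def entN88 (c : ℕ) : ℕ := (Bool.rec (motive := fun _ => ℕ) entC185 (Bool.rec (motive := fun _ => ℕ) entC186 entC187 (Nat.ble 187 c)) (Nat.ble 186 c))

def entN89 (c : ℕ) : ℕ := (Bool.rec (motive := fun _ => ℕ) entC188 entC189 (Nat.ble 189 c))

def entN90 (c : ℕ) : ℕ := (Bool.rec (motive := fun _ => ℕ) (Bool.rec (motive := fun _ => ℕ) (entN86 c) (entN87 c) (Nat.ble 182 c)) (Bool.rec (motive := fun _ => ℕ) (entN88 c) (entN89 c) (Nat.ble 188 c)) (Nat.ble 185 c))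

def entN91 (c : ℕ) : ℕ := (Bool.rec (motive := fun _ => ℕ) entC190 (Bool.rec (motive := fun _ => ℕ) entC191 entC192 (Nat.ble 192 c)) (Nat.ble 191 c))

def entN92 (c : ℕ) : ℕ := (Bool.rec (motive := fun _ => ℕ) entC193 (Bool.rec (motive := fun _ => ℕ) entC194 entC195 (Nat.ble 195 c)) (Nat.ble 194 c))

def entN93 (c : ℕ) : ℕ := (Bool.rec (motive := fun _ => ℕ) entC196 (Bool.rec (motive := fun _ => ℕ) entC197 entC198 (Nat.ble 198 c)) (Nat.ble 197 c))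

def entN94 (c : ℕ) : ℕ := (Bool.rec (motive := fun _ => ℕ) entC199 entC200 (Nat.ble 200 c))

def entN95 (c : ℕ) : ℕ := (Bool.rec (motive := fun _ => ℕ) (Bool.rec (motive := fun _ => ℕ) (entN91 c) (entN92 c) (Nat.ble 193 c)) (Bool.rec (motive := fun _ => ℕ) (entN93 c) (entN94 c) (Nat.ble 199 c)) (Nat.ble 196 c))

def entN96 (c : ℕ) : ℕ := (Bool.rec (motive := fun _ => ℕ) entC201 (Bool.rec (motive := fun _ => ℕ) entC202 entC203 (Nat.ble 203 c)) (Nat.ble 202 c))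

def entN97 (c : ℕ) : ℕ := (Bool.rec (motive := fun _ => ℕ) entC204 (Bool.rec (motive := fun _ => ℕ) entC205 entC206 (Nat.ble 206 c)) (Nat.ble 205 c))

def entN98 (c : ℕ) : ℕ := (Bool.rec (motive := fun _ => ℕ) entC207 (Bool.rec (motive := fun _ => ℕ) entC208 entC209 (Nat.ble 209 c)) (Nat.ble 208 c))

def entN99 (c : ℕ) : ℕ := (Bool.rec (motive := fun _ => ℕ) (entN96 c) (Bool.rec (motive := fun _ => ℕ) (entN97 c) (entN98 c) (Nat.ble 207 c)) (Nat.ble 204 c))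

def entN100 (c : ℕ) : ℕ := (Bool.rec (motive := fun _ => ℕ) (Bool.rec (motive := fun _ => ℕ) (entN85 c) (entN90 c) (Nat.ble 179 c)) (Bool.rec (motive := fun _ => ℕ) (entN95 c) (entN99 c) (Nat.ble 201 c)) (Nat.ble 190 c))

def entN101 (c : ℕ) : ℕ := (Bool.rec (motive := fun _ => ℕ) entC210 (Bool.rec (motive := fun _ => ℕ) entC211 entC212 (Nat.ble 212 c)) (Nat.ble 211 c))

def entN102 (c : ℕ) : ℕ := (Bool.rec (motive := fun _ => ℕ) entC213 (Bool.rec (motive := fun _ => ℕ) entC214 entC215 (Nat.ble 215 c)) (Nat.ble 214 c))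

def entN103 (c : ℕ) : ℕ := (Bool.rec (motive := fun _ => ℕ) entC216 (Bool.rec (motive := fun _ => ℕ) entC217 entC218 (Nat.ble 218 c)) (Nat.ble 217 c))

def entN104 (c : ℕ) : ℕ := (Bool.rec (motive := fun _ => ℕ) entC219 entC220 (Nat.ble 220 c))

def entN105 (c : ℕ) : ℕ := (Bool.rec (motive := fun _ => ℕ) (Bool.rec (motive := fun _ => ℕ) (entN101 c) (entN102 c) (Nat.ble 213 c)) (Bool.rec (motive := fun _ => ℕ) (entN103 c) (entN104 c) (Nat.ble 219 c)) (Nat.ble 216 c))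

def entN106 (c : ℕ) : ℕ := (Bool.rec (motive := fun _ => ℕ) entC221 (Bool.rec (motive := fun _ => ℕ) entC222 entC223 (Nat.ble 223 c)) (Nat.ble 222 c))

def entN107 (c : ℕ) : ℕ := (Bool.rec (motive := fun _ => ℕ) entC224 (Bool.rec (motive := fun _ => ℕ) entC225 entC226 (Nat.ble 226 c)) (Nat.ble 225 c))

def entN108 (c : ℕ) : ℕ := (Bool.rec (motive := fun _ => ℕ) entC227 (Bool.rec (motive := fun _ => ℕ) entC228 entC229 (Nat.ble 229 c)) (Nat.ble 228 c))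

def entN109 (c : ℕ) : ℕ := (Bool.rec (motive := fun _ => ℕ) entC230 entC231 (Nat.ble 231 c))

def entN110 (c : ℕ) : ℕ := (Bool.rec (motive := fun _ => ℕ) (Bool.rec (motive := fun _ => ℕ) (entN106 c) (entN107 c) (Nat.ble 224 c)) (Bool.rec (motive := fun _ => ℕ) (entN108 c) (entN109 c) (Nat.ble 230 c)) (Nat.ble 227 c))

def entN111 (c : ℕ) : ℕ := (Bool.rec (motive := fun _ => ℕ) entC232 (Bool.rec (motive := fun _ => ℕ) entC233 entC234 (Nat.ble 234 c)) (Nat.ble 233 c))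

def entN112 (c : ℕ) : ℕ := (Bool.rec (motive := fun _ => ℕ) entC235 (Bool.rec (motive := fun _ => ℕ) entC236 entC237 (Nat.ble 237 c)) (Nat.ble 236 c))

def entN113 (c : ℕ) : ℕ := (Bool.rec (motive := fun _ => ℕ) entC238 (Bool.rec (motive := fun _ => ℕ) entC239 entC240 (Nat.ble 240 c)) (Nat.ble 239 c))

def entN114 (c : ℕ) : ℕ := (Bool.rec (motive := fun _ => ℕ) entC241 entC242 (Nat.ble 242 c))

def entN115 (c : ℕ) : ℕ := (Bool.rec (motive := fun _ => ℕ) (Bool.rec (motive := fun _ => ℕ) (entN111 c) (entN112 c) (Nat.ble 235 c)) (Bool.rec (motive := fun _ => ℕ) (entN113 c) (entN114 c) (Nat.ble 241 c)) (Nat.ble 238 c))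

def entN116 (c : ℕ) : ℕ := (Bool.rec (motive := fun _ => ℕ) entC243 (Bool.rec (motive := fun _ => ℕ) entC244 entC245 (Nat.ble 245 c)) (Nat.ble 244 c))

def entN117 (c : ℕ) : ℕ := (Bool.rec (motive := fun _ => ℕ) entC246 (Bool.rec (motive := fun _ => ℕ) entC247 entC248 (Nat.ble 248 c)) (Nat.ble 247 c))

def entN118 (c : ℕ) : ℕ := (Bool.rec (motive := fun _ => ℕ) entC249 (Bool.rec (motive := fun _ => ℕ) entC250 entC251 (Nat.ble 251 c)) (Nat.ble 250 c))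

def entN119 (c : ℕ) : ℕ := (Bool.rec (motive := fun _ => ℕ) (entN116 c) (Bool.rec (motive := fun _ => ℕ) (entN117 c) (entN118 c) (Nat.ble 249 c)) (Nat.ble 246 c))

def entN120 (c : ℕ) : ℕ := (Bool.rec (motive := fun _ => ℕ) (Bool.rec (motive := fun _ => ℕ) (entN105 c) (entN110 c) (Nat.ble 221 c)) (Bool.rec (motive := fun _ => ℕ) (entN115 c) (entN119 c) (Nat.ble 243 c)) (Nat.ble 232 c))

def entN121 (c : ℕ) : ℕ := (Bool.rec (motive := fun _ => ℕ) entC252 (Bool.rec (motive := fun _ => ℕ) entC253 entC254 (Nat.ble 254 c)) (Nat.ble 253 c))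

def entN122 (c : ℕ) : ℕ := (Bool.rec (motive := fun _ => ℕ) entC255 (Bool.rec (motive := fun _ => ℕ) entC256 entC257 (Nat.ble 257 c)) (Nat.ble 256 c))

def entN123 (c : ℕ) : ℕ := (Bool.rec (motive := fun _ => ℕ) entC258 (Bool.rec (motive := fun _ => ℕ) entC259 entC260 (Nat.ble 260 c)) (Nat.ble 259 c))

def entN124 (c : ℕ) : ℕ := (Bool.rec (motive := fun _ => ℕ) entC261 entC262 (Nat.ble 262 c))

def entN125 (c : ℕ) : ℕ := (Bool.rec (motive := fun _ => ℕ) (Bool.rec (motive := fun _ => ℕ) (entN121 c) (entN122 c) (Nat.ble 255 c)) (Bool.rec (motive := fun _ => ℕ) (entN123 c) (entN124 c) (Nat.ble 261 c)) (Nat.ble 258 c))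

def entN126 (c : ℕ) : ℕ := (Bool.rec (motive := fun _ => ℕ) entC263 (Bool.rec (motive := fun _ => ℕ) entC264 entC265 (Nat.ble 265 c)) (Nat.ble 264 c))

def entN127 (c : ℕ) : ℕ := (Bool.rec (motive := fun _ => ℕ) entC266 (Bool.rec (motive := fun _ => ℕ) entC267 entC268 (Nat.ble 268 c)) (Nat.ble 267 c))

def entN128 (c : ℕ) : ℕ := (Bool.rec (motive := fun _ => ℕ) entC269 (Bool.rec (motive := fun _ => ℕ) entC270 entC271 (Nat.ble 271 c)) (Nat.ble 270 c))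

def entN129 (c : ℕ) : ℕ := (Bool.rec (motive := fun _ => ℕ) entC272 entC273 (Nat.ble 273 c))

def entN130 (c : ℕ) : ℕ := (Bool.rec (motive := fun _ => ℕ) (Bool.rec (motive := fun _ => ℕ) (entN126 c) (entN127 c) (Nat.ble 266 c)) (Bool.rec (motive := fun _ => ℕ) (entN128 c) (entN129 c) (Nat.ble 272 c)) (Nat.ble 269 c))

def entN131 (c : ℕ) : ℕ := (Bool.rec (motive := fun _ => ℕ) entC274 (Bool.rec (motive := fun _ => ℕ) entC275 entC276 (Nat.ble 276 c)) (Nat.ble 275 c))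

def entN132 (c : ℕ) : ℕ := (Bool.rec (motive := fun _ => ℕ) entC277 (Bool.rec (motive := fun _ => ℕ) entC278 entC279 (Nat.ble 279 c)) (Nat.ble 278 c))

def entN133 (c : ℕ) : ℕ := (Bool.rec (motive := fun _ => ℕ) entC280 (Bool.rec (motive := fun _ => ℕ) entC281 entC282 (Nat.ble 282 c)) (Nat.ble 281 c))

def entN134 (c : ℕ) : ℕ := (Bool.rec (motive := fun _ => ℕ) entC283 entC284 (Nat.ble 284 c))

def entN135 (c : ℕ) : ℕ := (Bool.rec (motive := fun _ => ℕ) (Bool.rec (motive := fun _ => ℕ) (entN131 c) (entN132 c) (Nat.ble 277 c)) (Bool.rec (motive := fun _ => ℕ) (entN133 c) (entN134 c) (Nat.ble 283 c)) (Nat.ble 280 c))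

def entN136 (c : ℕ) : ℕ := (Bool.rec (motive := fun _ => ℕ) entC285 (Bool.rec (motive := fun _ => ℕ) entC286 entC287 (Nat.ble 287 c)) (Nat.ble 286 c))

def entN137 (c : ℕ) : ℕ := (Bool.rec (motive := fun _ => ℕ) entC288 (Bool.rec (motive := fun _ => ℕ) entC289 entC290 (Nat.ble 290 c)) (Nat.ble 289 c))

def entN138 (c : ℕ) : ℕ := (Bool.rec (motive := fun _ => ℕ) entC291 (Bool.rec (motive := fun _ => ℕ) entC292 entC293 (Nat.ble 293 c)) (Nat.ble 292 c))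

def entN139 (c : ℕ) : ℕ := (Bool.rec (motive := fun _ => ℕ) (entN136 c) (Bool.rec (motive := fun _ => ℕ) (entN137 c) (entN138 c) (Nat.ble 291 c)) (Nat.ble 288 c))

def entN140 (c : ℕ) : ℕ := (Bool.rec (motive := fun _ => ℕ) (Bool.rec (motive := fun _ => ℕ) (entN125 c) (entN130 c) (Nat.ble 263 c)) (Bool.rec (motive := fun _ => ℕ) (entN135 c) (entN139 c) (Nat.ble 285 c)) (Nat.ble 274 c))

def entN141 (c : ℕ) : ℕ := (Bool.rec (motive := fun _ => ℕ) entC294 (Bool.rec (motive := fun _ => ℕ) entC295 entC296 (Nat.ble 296 c)) (Nat.ble 295 c))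

def entN142 (c : ℕ) : ℕ := (Bool.rec (motive := fun _ => ℕ) entC297 (Bool.rec (motive := fun _ => ℕ) entC298 entC299 (Nat.ble 299 c)) (Nat.ble 298 c))

def entN143 (c : ℕ) : ℕ := (Bool.rec (motive := fun _ => ℕ) entC300 (Bool.rec (motive := fun _ => ℕ) entC301 entC302 (Nat.ble 302 c)) (Nat.ble 301 c))

def entN144 (c : ℕ) : ℕ := (Bool.rec (motive := fun _ => ℕ) entC303 entC304 (Nat.ble 304 c))

def entN145 (c : ℕ) : ℕ := (Bool.rec (motive := fun _ => ℕ) (Bool.rec (motive := fun _ => ℕ) (entN141 c) (entN142 c) (Nat.ble 297 c)) (Bool.rec (motive := fun _ => ℕ) (entN143 c) (entN144 c) (Nat.ble 303 c)) (Nat.ble 300 c))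

def entN146 (c : ℕ) : ℕ := (Bool.rec (motive := fun _ => ℕ) entC305 (Bool.rec (motive := fun _ => ℕ) entC306 entC307 (Nat.ble 307 c)) (Nat.ble 306 c))

def entN147 (c : ℕ) : ℕ := (Bool.rec (motive := fun _ => ℕ) entC308 (Bool.rec (motive := fun _ => ℕ) entC309 entC310 (Nat.ble 310 c)) (Nat.ble 309 c))

def entN148 (c : ℕ) : ℕ := (Bool.rec (motive := fun _ => ℕ) entC311 (Bool.rec (motive := fun _ => ℕ) entC312 entC313 (Nat.ble 313 c)) (Nat.ble 312 c))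

def entN149 (c : ℕ) : ℕ := (Bool.rec (motive := fun _ => ℕ) entC314 entC315 (Nat.ble 315 c))

def entN150 (c : ℕ) : ℕ := (Bool.rec (motive := fun _ => ℕ) (Bool.rec (motive := fun _ => ℕ) (entN146 c) (entN147 c) (Nat.ble 308 c)) (Bool.rec (motive := fun _ => ℕ) (entN148 c) (entN149 c) (Nat.ble 314 c)) (Nat.ble 311 c))

def entN151 (c : ℕ) : ℕ := (Bool.rec (motive := fun _ => ℕ) entC316 (Bool.rec (motive := fun _ => ℕ) entC317 entC318 (Nat.ble 318 c)) (Nat.ble 317 c))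

def entN152 (c : ℕ) : ℕ := (Bool.rec (motive := fun _ => ℕ) entC319 (Bool.rec (motive := fun _ => ℕ) entC320 entC321 (Nat.ble 321 c)) (Nat.ble 320 c))

def entN153 (c : ℕ) : ℕ := (Bool.rec (motive := fun _ => ℕ) entC322 (Bool.rec (motive := fun _ => ℕ) entC323 entC324 (Nat.ble 324 c)) (Nat.ble 323 c))

def entN154 (c : ℕ) : ℕ := (Bool.rec (motive := fun _ => ℕ) entC325 entC326 (Nat.ble 326 c))

def entN155 (c : ℕ) : ℕ := (Bool.rec (motive := fun _ => ℕ) (Bool.rec (motive := fun _ => ℕ) (entN151 c) (entN152 c) (Nat.ble 319 c)) (Bool.rec (motive := fun _ => ℕ) (entN153 c) (entN154 c) (Nat.ble 325 c)) (Nat.ble 322 c))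

def entN156 (c : ℕ) : ℕ := (Bool.rec (motive := fun _ => ℕ) entC327 (Bool.rec (motive := fun _ => ℕ) entC328 entC329 (Nat.ble 329 c)) (Nat.ble 328 c))

def entN157 (c : ℕ) : ℕ := (Bool.rec (motive := fun _ => ℕ) entC330 (Bool.rec (motive := fun _ => ℕ) entC331 entC332 (Nat.ble 332 c)) (Nat.ble 331 c))

def entN158 (c : ℕ) : ℕ := (Bool.rec (motive := fun _ => ℕ) entC333 (Bool.rec (motive := fun _ => ℕ) entC334 entC335 (Nat.ble 335 c)) (Nat.ble 334 c))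

def entN159 (c : ℕ) : ℕ := (Bool.rec (motive := fun _ => ℕ) (entN156 c) (Bool.rec (motive := fun _ => ℕ) (entN157 c) (entN158 c) (Nat.ble 333 c)) (Nat.ble 330 c))

def entN160 (c : ℕ) : ℕ := (Bool.rec (motive := fun _ => ℕ) (Bool.rec (motive := fun _ => ℕ) (entN145 c) (entN150 c) (Nat.ble 305 c)) (Bool.rec (motive := fun _ => ℕ) (entN155 c) (entN159 c) (Nat.ble 327 c)) (Nat.ble 316 c))

def entN161 (c : ℕ) : ℕ := (Bool.rec (motive := fun _ => ℕ) (Bool.rec (motive := fun _ => ℕ) (entN100 c) (entN120 c) (Nat.ble 210 c)) (Bool.rec (motive := fun _ => ℕ) (entN140 c) (entN160 c) (Nat.ble 294 c)) (Nat.ble 252 c))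

def entN162 (c : ℕ) : ℕ := (Bool.rec (motive := fun _ => ℕ) entC336 (Bool.rec (motive := fun _ => ℕ) entC337 entC338 (Nat.ble 338 c)) (Nat.ble 337 c))

def entN163 (c : ℕ) : ℕ := (Bool.rec (motive := fun _ => ℕ) entC339 (Bool.rec (motive := fun _ => ℕ) entC340 entC341 (Nat.ble 341 c)) (Nat.ble 340 c))

def entN164 (c : ℕ) : ℕ := (Bool.rec (motive := fun _ => ℕ) entC342 (Bool.rec (motive := fun _ => ℕ) entC343 entC344 (Nat.ble 344 c)) (Nat.ble 343 c))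

def entN165 (c : ℕ) : ℕ := (Bool.rec (motive := fun _ => ℕ) entC345 entC346 (Nat.ble 346 c))

def entN166 (c : ℕ) : ℕ := (Bool.rec (motive := fun _ => ℕ) (Bool.rec (motive := fun _ => ℕ) (entN162 c) (entN163 c) (Nat.ble 339 c)) (Bool.rec (motive := fun _ => ℕ) (entN164 c) (entN165 c) (Nat.ble 345 c)) (Nat.ble 342 c))

def entN167 (c : ℕ) : ℕ := (Bool.rec (motive := fun _ => ℕ) entC347 (Bool.rec (motive := fun _ => ℕ) entC348 entC349 (Nat.ble 349 c)) (Nat.ble 348 c))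

def entN168 (c : ℕ) : ℕ := (Bool.rec (motive := fun _ => ℕ) entC350 (Bool.rec (motive := fun _ => ℕ) entC351 entC352 (Nat.ble 352 c)) (Nat.ble 351 c))

def entN169 (c : ℕ) : ℕ := (Bool.rec (motive := fun _ => ℕ) entC353 (Bool.rec (motive := fun _ => ℕ) entC354 entC355 (Nat.ble 355 c)) (Nat.ble 354 c))

def entN170 (c : ℕ) : ℕ := (Bool.rec (motive := fun _ => ℕ) entC356 entC357 (Nat.ble 357 c))

def entN171 (c : ℕ) : ℕ := (Bool.rec (motive := fun _ => ℕ) (Bool.rec (motive := fun _ => ℕ) (entN167 c) (entN168 c) (Nat.ble 350 c)) (Bool.rec (motive := fun _ => ℕ) (entN169 c) (entN170 c) (Nat.ble 356 c)) (Nat.ble 353 c))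

def entN172 (c : ℕ) : ℕ := (Bool.rec (motive := fun _ => ℕ) entC358 (Bool.rec (motive := fun _ => ℕ) entC359 entC360 (Nat.ble 360 c)) (Nat.ble 359 c))

def entN173 (c : ℕ) : ℕ := (Bool.rec (motive := fun _ => ℕ) entC361 (Bool.rec (motive := fun _ => ℕ) entC362 entC363 (Nat.ble 363 c)) (Nat.ble 362 c))

def entN174 (c : ℕ) : ℕ := (Bool.rec (motive := fun _ => ℕ) entC364 (Bool.rec (motive := fun _ => ℕ) entC365 entC366 (Nat.ble 366 c)) (Nat.ble 365 c))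

def entN175 (c : ℕ) : ℕ := (Bool.rec (motive := fun _ => ℕ) entC367 entC368 (Nat.ble 368 c))

def entN176 (c : ℕ) : ℕ := (Bool.rec (motive := fun _ => ℕ) (Bool.rec (motive := fun _ => ℕ) (entN172 c) (entN173 c) (Nat.ble 361 c)) (Bool.rec (motive := fun _ => ℕ) (entN174 c) (entN175 c) (Nat.ble 367 c)) (Nat.ble 364 c))

def entN177 (c : ℕ) : ℕ := (Bool.rec (motive := fun _ => ℕ) entC369 (Bool.rec (motive := fun _ => ℕ) entC370 entC371 (Nat.ble 371 c)) (Nat.ble 370 c))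

def entN178 (c : ℕ) : ℕ := (Bool.rec (motive := fun _ => ℕ) entC372 (Bool.rec (motive := fun _ => ℕ) entC373 entC374 (Nat.ble 374 c)) (Nat.ble 373 c))

def entN179 (c : ℕ) : ℕ := (Bool.rec (motive := fun _ => ℕ) entC375 (Bool.rec (motive := fun _ => ℕ) entC376 entC377 (Nat.ble 377 c)) (Nat.ble 376 c))

def entN180 (c : ℕ) : ℕ := (Bool.rec (motive := fun _ => ℕ) (entN177 c) (Bool.rec (motive := fun _ => ℕ) (entN178 c) (entN179 c) (Nat.ble 375 c)) (Nat.ble 372 c))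

def entN181 (c : ℕ) : ℕ := (Bool.rec (motive := fun _ => ℕ) (Bool.rec (motive := fun _ => ℕ) (entN166 c) (entN171 c) (Nat.ble 347 c)) (Bool.rec (motive := fun _ => ℕ) (entN176 c) (entN180 c) (Nat.ble 369 c)) (Nat.ble 358 c))

def entN182 (c : ℕ) : ℕ := (Bool.rec (motive := fun _ => ℕ) entC378 (Bool.rec (motive := fun _ => ℕ) entC379 entC380 (Nat.ble 380 c)) (Nat.ble 379 c))

def entN183 (c : ℕ) : ℕ := (Bool.rec (motive := fun _ => ℕ) entC381 (Bool.rec (motive := fun _ => ℕ) entC382 entC383 (Nat.ble 383 c)) (Nat.ble 382 c))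

def entN184 (c : ℕ) : ℕ := (Bool.rec (motive := fun _ => ℕ) entC384 (Bool.rec (motive := fun _ => ℕ) entC385 entC386 (Nat.ble 386 c)) (Nat.ble 385 c))

def entN185 (c : ℕ) : ℕ := (Bool.rec (motive := fun _ => ℕ) entC387 entC388 (Nat.ble 388 c))

def entN186 (c : ℕ) : ℕ := (Bool.rec (motive := fun _ => ℕ) (Bool.rec (motive := fun _ => ℕ) (entN182 c) (entN183 c) (Nat.ble 381 c)) (Bool.rec (motive := fun _ => ℕ) (entN184 c) (entN185 c) (Nat.ble 387 c)) (Nat.ble 384 c))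

def entN187 (c : ℕ) : ℕ := (Bool.rec (motive := fun _ => ℕ) entC389 (Bool.rec (motive := fun _ => ℕ) entC390 entC391 (Nat.ble 391 c)) (Nat.ble 390 c))

def entN188 (c : ℕ) : ℕ := (Bool.rec (motive := fun _ => ℕ) entC392 (Bool.rec (motive := fun _ => ℕ) entC393 entC394 (Nat.ble 394 c)) (Nat.ble 393 c))

def entN189 (c : ℕ) : ℕ := (Bool.rec (motive := fun _ => ℕ) entC395 (Bool.rec (motive := fun _ => ℕ) entC396 entC397 (Nat.ble 397 c)) (Nat.ble 396 c))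

def entN190 (c : ℕ) : ℕ := (Bool.rec (motive := fun _ => ℕ) entC398 entC399 (Nat.ble 399 c))

def entN191 (c : ℕ) : ℕ := (Bool.rec (motive := fun _ => ℕ) (Bool.rec (motive := fun _ => ℕ) (entN187 c) (entN188 c) (Nat.ble 392 c)) (Bool.rec (motive := fun _ => ℕ) (entN189 c) (entN190 c) (Nat.ble 398 c)) (Nat.ble 395 c))

def entN192 (c : ℕ) : ℕ := (Bool.rec (motive := fun _ => ℕ) entC400 (Bool.rec (motive := fun _ => ℕ) entC401 entC402 (Nat.ble 402 c)) (Nat.ble 401 c))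

def entN193 (c : ℕ) : ℕ := (Bool.rec (motive := fun _ => ℕ) entC403 (Bool.rec (motive := fun _ => ℕ) entC404 entC405 (Nat.ble 405 c)) (Nat.ble 404 c))

def entN194 (c : ℕ) : ℕ := (Bool.rec (motive := fun _ => ℕ) entC406 (Bool.rec (motive := fun _ => ℕ) entC407 entC408 (Nat.ble 408 c)) (Nat.ble 407 c))

def entN195 (c : ℕ) : ℕ := (Bool.rec (motive := fun _ => ℕ) entC409 entC410 (Nat.ble 410 c))

def entN196 (c : ℕ) : ℕ := (Bool.rec (motive := fun _ => ℕ) (Bool.rec (motive := fun _ => ℕ) (entN192 c) (entN193 c) (Nat.ble 403 c)) (Bool.rec (motive := fun _ => ℕ) (entN194 c) (entN195 c) (Nat.ble 409 c)) (Nat.ble 406 c))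

def entN197 (c : ℕ) : ℕ := (Bool.rec (motive := fun _ => ℕ) entC411 (Bool.rec (motive := fun _ => ℕ) entC412 entC413 (Nat.ble 413 c)) (Nat.ble 412 c))

def entN198 (c : ℕ) : ℕ := (Bool.rec (motive := fun _ => ℕ) entC414 (Bool.rec (motive := fun _ => ℕ) entC415 entC416 (Nat.ble 416 c)) (Nat.ble 415 c))

def entN199 (c : ℕ) : ℕ := (Bool.rec (motive := fun _ => ℕ) entC417 (Bool.rec (motive := fun _ => ℕ) entC418 entC419 (Nat.ble 419 c)) (Nat.ble 418 c))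

def entN200 (c : ℕ) : ℕ := (Bool.rec (motive := fun _ => ℕ) (entN197 c) (Bool.rec (motive := fun _ => ℕ) (entN198 c) (entN199 c) (Nat.ble 417 c)) (Nat.ble 414 c))

def entN201 (c : ℕ) : ℕ := (Bool.rec (motive := fun _ => ℕ) (Bool.rec (motive := fun _ => ℕ) (entN186 c) (entN191 c) (Nat.ble 389 c)) (Bool.rec (motive := fun _ => ℕ) (entN196 c) (entN200 c) (Nat.ble 411 c)) (Nat.ble 400 c))

def entN202 (c : ℕ) : ℕ := (Bool.rec (motive := fun _ => ℕ) entC420 (Bool.rec (motive := fun _ => ℕ) entC421 entC422 (Nat.ble 422 c)) (Nat.ble 421 c))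

def entN203 (c : ℕ) : ℕ := (Bool.rec (motive := fun _ => ℕ) entC423 (Bool.rec (motive := fun _ => ℕ) entC424 entC425 (Nat.ble 425 c)) (Nat.ble 424 c))

def entN204 (c : ℕ) : ℕ := (Bool.rec (motive := fun _ => ℕ) entC426 (Bool.rec (motive := fun _ => ℕ) entC427 entC428 (Nat.ble 428 c)) (Nat.ble 427 c))

def entN205 (c : ℕ) : ℕ := (Bool.rec (motive := fun _ => ℕ) entC429 entC430 (Nat.ble 430 c))

def entN206 (c : ℕ) : ℕ := (Bool.rec (motive := fun _ => ℕ) (Bool.rec (motive := fun _ => ℕ) (entN202 c) (entN203 c) (Nat.ble 423 c)) (Bool.rec (motive := fun _ => ℕ) (entN204 c) (entN205 c) (Nat.ble 429 c)) (Nat.ble 426 c))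

def entN207 (c : ℕ) : ℕ := (Bool.rec (motive := fun _ => ℕ) entC431 (Bool.rec (motive := fun _ => ℕ) entC432 entC433 (Nat.ble 433 c)) (Nat.ble 432 c))

def entN208 (c : ℕ) : ℕ := (Bool.rec (motive := fun _ => ℕ) entC434 (Bool.rec (motive := fun _ => ℕ) entC435 entC436 (Nat.ble 436 c)) (Nat.ble 435 c))

def entN209 (c : ℕ) : ℕ := (Bool.rec (motive := fun _ => ℕ) entC437 (Bool.rec (motive := fun _ => ℕ) entC438 entC439 (Nat.ble 439 c)) (Nat.ble 438 c))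

def entN210 (c : ℕ) : ℕ := (Bool.rec (motive := fun _ => ℕ) entC440 entC441 (Nat.ble 441 c))

def entN211 (c : ℕ) : ℕ := (Bool.rec (motive := fun _ => ℕ) (Bool.rec (motive := fun _ => ℕ) (entN207 c) (entN208 c) (Nat.ble 434 c)) (Bool.rec (motive := fun _ => ℕ) (entN209 c) (entN210 c) (Nat.ble 440 c)) (Nat.ble 437 c))

def entN212 (c : ℕ) : ℕ := (Bool.rec (motive := fun _ => ℕ) entC442 (Bool.rec (motive := fun _ => ℕ) entC443 entC444 (Nat.ble 444 c)) (Nat.ble 443 c))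

def entN213 (c : ℕ) : ℕ := (Bool.rec (motive := fun _ => ℕ) entC445 (Bool.rec (motive := fun _ => ℕ) entC446 entC447 (Nat.ble 447 c)) (Nat.ble 446 c))

def entN214 (c : ℕ) : ℕ := (Bool.rec (motive := fun _ => ℕ) entC448 (Bool.rec (motive := fun _ => ℕ) entC449 entC450 (Nat.ble 450 c)) (Nat.ble 449 c))

def entN215 (c : ℕ) : ℕ := (Bool.rec (motive := fun _ => ℕ) entC451 entC452 (Nat.ble 452 c))

def entN216 (c : ℕ) : ℕ := (Bool.rec (motive := fun _ => ℕ) (Bool.rec (motive := fun _ => ℕ) (entN212 c) (entN213 c) (Nat.ble 445 c)) (Bool.rec (motive := fun _ => ℕ) (entN214 c) (entN215 c) (Nat.ble 451 c)) (Nat.ble 448 c))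

def entN217 (c : ℕ) : ℕ := (Bool.rec (motive := fun _ => ℕ) entC453 (Bool.rec (motive := fun _ => ℕ) entC454 entC455 (Nat.ble 455 c)) (Nat.ble 454 c))

def entN218 (c : ℕ) : ℕ := (Bool.rec (motive := fun _ => ℕ) entC456 (Bool.rec (motive := fun _ => ℕ) entC457 entC458 (Nat.ble 458 c)) (Nat.ble 457 c))

def entN219 (c : ℕ) : ℕ := (Bool.rec (motive := fun _ => ℕ) entC459 (Bool.rec (motive := fun _ => ℕ) entC460 entC461 (Nat.ble 461 c)) (Nat.ble 460 c))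

def entN220 (c : ℕ) : ℕ := (Bool.rec (motive := fun _ => ℕ) (entN217 c) (Bool.rec (motive := fun _ => ℕ) (entN218 c) (entN219 c) (Nat.ble 459 c)) (Nat.ble 456 c))

def entN221 (c : ℕ) : ℕ := (Bool.rec (motive := fun _ => ℕ) (Bool.rec (motive := fun _ => ℕ) (entN206 c) (entN211 c) (Nat.ble 431 c)) (Bool.rec (motive := fun _ => ℕ) (entN216 c) (entN220 c) (Nat.ble 453 c)) (Nat.ble 442 c))

def entN222 (c : ℕ) : ℕ := (Bool.rec (motive := fun _ => ℕ) entC462 (Bool.rec (motive := fun _ => ℕ) entC463 entC464 (Nat.ble 464 c)) (Nat.ble 463 c))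

def entN223 (c : ℕ) : ℕ := (Bool.rec (motive := fun _ => ℕ) entC465 (Bool.rec (motive := fun _ => ℕ) entC466 entC467 (Nat.ble 467 c)) (Nat.ble 466 c))

def entN224 (c : ℕ) : ℕ := (Bool.rec (motive := fun _ => ℕ) entC468 (Bool.rec (motive := fun _ => ℕ) entC469 entC470 (Nat.ble 470 c)) (Nat.ble 469 c))

def entN225 (c : ℕ) : ℕ := (Bool.rec (motive := fun _ => ℕ) entC471 entC472 (Nat.ble 472 c))

def entN226 (c : ℕ) : ℕ := (Bool.rec (motive := fun _ => ℕ) (Bool.rec (motive := fun _ => ℕ) (entN222 c) (entN223 c) (Nat.ble 465 c)) (Bool.rec (motive := fun _ => ℕ) (entN224 c) (entN225 c) (Nat.ble 471 c)) (Nat.ble 468 c))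

def entN227 (c : ℕ) : ℕ := (Bool.rec (motive := fun _ => ℕ) entC473 (Bool.rec (motive := fun _ => ℕ) entC474 entC475 (Nat.ble 475 c)) (Nat.ble 474 c))

def entN228 (c : ℕ) : ℕ := (Bool.rec (motive := fun _ => ℕ) entC476 (Bool.rec (motive := fun _ => ℕ) entC477 entC478 (Nat.ble 478 c)) (Nat.ble 477 c))

def entN229 (c : ℕ) : ℕ := (Bool.rec (motive := fun _ => ℕ) entC479 (Bool.rec (motive := fun _ => ℕ) entC480 entC481 (Nat.ble 481 c)) (Nat.ble 480 c))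

def entN230 (c : ℕ) : ℕ := (Bool.rec (motive := fun _ => ℕ) entC482 entC483 (Nat.ble 483 c))

def entN231 (c : ℕ) : ℕ := (Bool.rec (motive := fun _ => ℕ) (Bool.rec (motive := fun _ => ℕ) (entN227 c) (entN228 c) (Nat.ble 476 c)) (Bool.rec (motive := fun _ => ℕ) (entN229 c) (entN230 c) (Nat.ble 482 c)) (Nat.ble 479 c))

def entN232 (c : ℕ) : ℕ := (Bool.rec (motive := fun _ => ℕ) entC484 (Bool.rec (motive := fun _ => ℕ) entC485 entC486 (Nat.ble 486 c)) (Nat.ble 485 c))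

def entN233 (c : ℕ) : ℕ := (Bool.rec (motive := fun _ => ℕ) entC487 (Bool.rec (motive := fun _ => ℕ) entC488 entC489 (Nat.ble 489 c)) (Nat.ble 488 c))

def entN234 (c : ℕ) : ℕ := (Bool.rec (motive := fun _ => ℕ) entC490 (Bool.rec (motive := fun _ => ℕ) entC491 entC492 (Nat.ble 492 c)) (Nat.ble 491 c))

def entN235 (c : ℕ) : ℕ := (Bool.rec (motive := fun _ => ℕ) entC493 entC494 (Nat.ble 494 c))

def entN236 (c : ℕ) : ℕ := (Bool.rec (motive := fun _ => ℕ) (Bool.rec (motive := fun _ => ℕ) (entN232 c) (entN233 c) (Nat.ble 487 c)) (Bool.rec (motive := fun _ => ℕ) (entN234 c) (entN235 c) (Nat.ble 493 c)) (Nat.ble 490 c))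

def entN237 (c : ℕ) : ℕ := (Bool.rec (motive := fun _ => ℕ) entC495 (Bool.rec (motive := fun _ => ℕ) entC496 entC497 (Nat.ble 497 c)) (Nat.ble 496 c))

def entN238 (c : ℕ) : ℕ := (Bool.rec (motive := fun _ => ℕ) entC498 (Bool.rec (motive := fun _ => ℕ) entC499 entC500 (Nat.ble 500 c)) (Nat.ble 499 c))

def entN239 (c : ℕ) : ℕ := (Bool.rec (motive := fun _ => ℕ) entC501 (Bool.rec (motive := fun _ => ℕ) entC502 entC503 (Nat.ble 503 c)) (Nat.ble 502 c))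

def entN240 (c : ℕ) : ℕ := (Bool.rec (motive := fun _ => ℕ) (entN237 c) (Bool.rec (motive := fun _ => ℕ) (entN238 c) (entN239 c) (Nat.ble 501 c)) (Nat.ble 498 c))

def entN241 (c : ℕ) : ℕ := (Bool.rec (motive := fun _ => ℕ) (Bool.rec (motive := fun _ => ℕ) (entN226 c) (entN231 c) (Nat.ble 473 c)) (Bool.rec (motive := fun _ => ℕ) (entN236 c) (entN240 c) (Nat.ble 495 c)) (Nat.ble 484 c))

def entN242 (c : ℕ) : ℕ := (Bool.rec (motive := fun _ => ℕ) (Bool.rec (motive := fun _ => ℕ) (entN181 c) (entN201 c) (Nat.ble 378 c)) (Bool.rec (motive := fun _ => ℕ) (entN221 c) (entN241 c) (Nat.ble 462 c)) (Nat.ble 420 c))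

def entN243 (c : ℕ) : ℕ := (Bool.rec (motive := fun _ => ℕ) entC504 (Bool.rec (motive := fun _ => ℕ) entC505 entC506 (Nat.ble 506 c)) (Nat.ble 505 c))

def entN244 (c : ℕ) : ℕ := (Bool.rec (motive := fun _ => ℕ) entC507 (Bool.rec (motive := fun _ => ℕ) entC508 entC509 (Nat.ble 509 c)) (Nat.ble 508 c))

def entN245 (c : ℕ) : ℕ := (Bool.rec (motive := fun _ => ℕ) entC510 (Bool.rec (motive := fun _ => ℕ) entC511 entC512 (Nat.ble 512 c)) (Nat.ble 511 c))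

def entN246 (c : ℕ) : ℕ := (Bool.rec (motive := fun _ => ℕ) entC513 entC514 (Nat.ble 514 c))

def entN247 (c : ℕ) : ℕ := (Bool.rec (motive := fun _ => ℕ) (Bool.rec (motive := fun _ => ℕ) (entN243 c) (entN244 c) (Nat.ble 507 c)) (Bool.rec (motive := fun _ => ℕ) (entN245 c) (entN246 c) (Nat.ble 513 c)) (Nat.ble 510 c))

def entN248 (c : ℕ) : ℕ := (Bool.rec (motive := fun _ => ℕ) entC515 (Bool.rec (motive := fun _ => ℕ) entC516 entC517 (Nat.ble 517 c)) (Nat.ble 516 c))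

def entN249 (c : ℕ) : ℕ := (Bool.rec (motive := fun _ => ℕ) entC518 (Bool.rec (motive := fun _ => ℕ) entC519 entC520 (Nat.ble 520 c)) (Nat.ble 519 c))

def entN250 (c : ℕ) : ℕ := (Bool.rec (motive := fun _ => ℕ) entC521 (Bool.rec (motive := fun _ => ℕ) entC522 entC523 (Nat.ble 523 c)) (Nat.ble 522 c))

def entN251 (c : ℕ) : ℕ := (Bool.rec (motive := fun _ => ℕ) entC524 entC525 (Nat.ble 525 c))

def entN252 (c : ℕ) : ℕ := (Bool.rec (motive := fun _ => ℕ) (Bool.rec (motive := fun _ => ℕ) (entN248 c) (entN249 c) (Nat.ble 518 c)) (Bool.rec (motive := fun _ => ℕ) (entN250 c) (entN251 c) (Nat.ble 524 c)) (Nat.ble 521 c))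

def entN253 (c : ℕ) : ℕ := (Bool.rec (motive := fun _ => ℕ) entC526 (Bool.rec (motive := fun _ => ℕ) entC527 entC528 (Nat.ble 528 c)) (Nat.ble 527 c))

def entN254 (c : ℕ) : ℕ := (Bool.rec (motive := fun _ => ℕ) entC529 (Bool.rec (motive := fun _ => ℕ) entC530 entC531 (Nat.ble 531 c)) (Nat.ble 530 c))

def entN255 (c : ℕ) : ℕ := (Bool.rec (motive := fun _ => ℕ) entC532 (Bool.rec (motive := fun _ => ℕ) entC533 entC534 (Nat.ble 534 c)) (Nat.ble 533 c))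

def entN256 (c : ℕ) : ℕ := (Bool.rec (motive := fun _ => ℕ) entC535 entC536 (Nat.ble 536 c))

def entN257 (c : ℕ) : ℕ := (Bool.rec (motive := fun _ => ℕ) (Bool.rec (motive := fun _ => ℕ) (entN253 c) (entN254 c) (Nat.ble 529 c)) (Bool.rec (motive := fun _ => ℕ) (entN255 c) (entN256 c) (Nat.ble 535 c)) (Nat.ble 532 c))

def entN258 (c : ℕ) : ℕ := (Bool.rec (motive := fun _ => ℕ) entC537 (Bool.rec (motive := fun _ => ℕ) entC538 entC539 (Nat.ble 539 c)) (Nat.ble 538 c))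

def entN259 (c : ℕ) : ℕ := (Bool.rec (motive := fun _ => ℕ) entC540 (Bool.rec (motive := fun _ => ℕ) entC541 entC542 (Nat.ble 542 c)) (Nat.ble 541 c))

def entN260 (c : ℕ) : ℕ := (Bool.rec (motive := fun _ => ℕ) entC543 (Bool.rec (motive := fun _ => ℕ) entC544 entC545 (Nat.ble 545 c)) (Nat.ble 544 c))

def entN261 (c : ℕ) : ℕ := (Bool.rec (motive := fun _ => ℕ) (entN258 c) (Bool.rec (motive := fun _ => ℕ) (entN259 c) (entN260 c) (Nat.ble 543 c)) (Nat.ble 540 c))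

def entN262 (c : ℕ) : ℕ := (Bool.rec (motive := fun _ => ℕ) (Bool.rec (motive := fun _ => ℕ) (entN247 c) (entN252 c) (Nat.ble 515 c)) (Bool.rec (motive := fun _ => ℕ) (entN257 c) (entN261 c) (Nat.ble 537 c)) (Nat.ble 526 c))

def entN263 (c : ℕ) : ℕ := (Bool.rec (motive := fun _ => ℕ) entC546 (Bool.rec (motive := fun _ => ℕ) entC547 entC548 (Nat.ble 548 c)) (Nat.ble 547 c))

def entN264 (c : ℕ) : ℕ := (Bool.rec (motive := fun _ => ℕ) entC549 (Bool.rec (motive := fun _ => ℕ) entC550 entC551 (Nat.ble 551 c)) (Nat.ble 550 c))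

def entN265 (c : ℕ) : ℕ := (Bool.rec (motive := fun _ => ℕ) entC552 (Bool.rec (motive := fun _ => ℕ) entC553 entC554 (Nat.ble 554 c)) (Nat.ble 553 c))

def entN266 (c : ℕ) : ℕ := (Bool.rec (motive := fun _ => ℕ) entC555 entC556 (Nat.ble 556 c))

def entN267 (c : ℕ) : ℕ := (Bool.rec (motive := fun _ => ℕ) (Bool.rec (motive := fun _ => ℕ) (entN263 c) (entN264 c) (Nat.ble 549 c)) (Bool.rec (motive := fun _ => ℕ) (entN265 c) (entN266 c) (Nat.ble 555 c)) (Nat.ble 552 c))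

def entN268 (c : ℕ) : ℕ := (Bool.rec (motive := fun _ => ℕ) entC557 (Bool.rec (motive := fun _ => ℕ) entC558 entC559 (Nat.ble 559 c)) (Nat.ble 558 c))

def entN269 (c : ℕ) : ℕ := (Bool.rec (motive := fun _ => ℕ) entC560 (Bool.rec (motive := fun _ => ℕ) entC561 entC562 (Nat.ble 562 c)) (Nat.ble 561 c))

def entN270 (c : ℕ) : ℕ := (Bool.rec (motive := fun _ => ℕ) entC563 (Bool.rec (motive := fun _ => ℕ) entC564 entC565 (Nat.ble 565 c)) (Nat.ble 564 c))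

def entN271 (c : ℕ) : ℕ := (Bool.rec (motive := fun _ => ℕ) entC566 entC567 (Nat.ble 567 c))

def entN272 (c : ℕ) : ℕ := (Bool.rec (motive := fun _ => ℕ) (Bool.rec (motive := fun _ => ℕ) (entN268 c) (entN269 c) (Nat.ble 560 c)) (Bool.rec (motive := fun _ => ℕ) (entN270 c) (entN271 c) (Nat.ble 566 c)) (Nat.ble 563 c))

def entN273 (c : ℕ) : ℕ := (Bool.rec (motive := fun _ => ℕ) entC568 (Bool.rec (motive := fun _ => ℕ) entC569 entC570 (Nat.ble 570 c)) (Nat.ble 569 c))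

def entN274 (c : ℕ) : ℕ := (Bool.rec (motive := fun _ => ℕ) entC571 (Bool.rec (motive := fun _ => ℕ) entC572 entC573 (Nat.ble 573 c)) (Nat.ble 572 c))

def entN275 (c : ℕ) : ℕ := (Bool.rec (motive := fun _ => ℕ) entC574 (Bool.rec (motive := fun _ => ℕ) entC575 entC576 (Nat.ble 576 c)) (Nat.ble 575 c))

def entN276 (c : ℕ) : ℕ := (Bool.rec (motive := fun _ => ℕ) entC577 entC578 (Nat.ble 578 c))

def entN277 (c : ℕ) : ℕ := (Bool.rec (motive := fun _ => ℕ) (Bool.rec (motive := fun _ => ℕ) (entN273 c) (entN274 c) (Nat.ble 571 c)) (Bool.rec (motive := fun _ => ℕ) (entN275 c) (entN276 c) (Nat.ble 577 c)) (Nat.ble 574 c))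

def entN278 (c : ℕ) : ℕ := (Bool.rec (motive := fun _ => ℕ) entC579 (Bool.rec (motive := fun _ => ℕ) entC580 entC581 (Nat.ble 581 c)) (Nat.ble 580 c))

def entN279 (c : ℕ) : ℕ := (Bool.rec (motive := fun _ => ℕ) entC582 (Bool.rec (motive := fun _ => ℕ) entC583 entC584 (Nat.ble 584 c)) (Nat.ble 583 c))

def entN280 (c : ℕ) : ℕ := (Bool.rec (motive := fun _ => ℕ) entC585 (Bool.rec (motive := fun _ => ℕ) entC586 entC587 (Nat.ble 587 c)) (Nat.ble 586 c))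

def entN281 (c : ℕ) : ℕ := (Bool.rec (motive := fun _ => ℕ) (entN278 c) (Bool.rec (motive := fun _ => ℕ) (entN279 c) (entN280 c) (Nat.ble 585 c)) (Nat.ble 582 c))

def entN282 (c : ℕ) : ℕ := (Bool.rec (motive := fun _ => ℕ) (Bool.rec (motive := fun _ => ℕ) (entN267 c) (entN272 c) (Nat.ble 557 c)) (Bool.rec (motive := fun _ => ℕ) (entN277 c) (entN281 c) (Nat.ble 579 c)) (Nat.ble 568 c))

def entN283 (c : ℕ) : ℕ := (Bool.rec (motive := fun _ => ℕ) entC588 (Bool.rec (motive := fun _ => ℕ) entC589 entC590 (Nat.ble 590 c)) (Nat.ble 589 c))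

def entN284 (c : ℕ) : ℕ := (Bool.rec (motive := fun _ => ℕ) entC591 (Bool.rec (motive := fun _ => ℕ) entC592 entC593 (Nat.ble 593 c)) (Nat.ble 592 c))

def entN285 (c : ℕ) : ℕ := (Bool.rec (motive := fun _ => ℕ) entC594 (Bool.rec (motive := fun _ => ℕ) entC595 entC596 (Nat.ble 596 c)) (Nat.ble 595 c))

def entN286 (c : ℕ) : ℕ := (Bool.rec (motive := fun _ => ℕ) entC597 entC598 (Nat.ble 598 c))

def entN287 (c : ℕ) : ℕ := (Bool.rec (motive := fun _ => ℕ) (Bool.rec (motive := fun _ => ℕ) (entN283 c) (entN284 c) (Nat.ble 591 c)) (Bool.rec (motive := fun _ => ℕ) (entN285 c) (entN286 c) (Nat.ble 597 c)) (Nat.ble 594 c))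

def entN288 (c : ℕ) : ℕ := (Bool.rec (motive := fun _ => ℕ) entC599 (Bool.rec (motive := fun _ => ℕ) entC600 entC601 (Nat.ble 601 c)) (Nat.ble 600 c))

def entN289 (c : ℕ) : ℕ := (Bool.rec (motive := fun _ => ℕ) entC602 (Bool.rec (motive := fun _ => ℕ) entC603 entC604 (Nat.ble 604 c)) (Nat.ble 603 c))

def entN290 (c : ℕ) : ℕ := (Bool.rec (motive := fun _ => ℕ) entC605 (Bool.rec (motive := fun _ => ℕ) entC606 entC607 (Nat.ble 607 c)) (Nat.ble 606 c))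

def entN291 (c : ℕ) : ℕ := (Bool.rec (motive := fun _ => ℕ) entC608 entC609 (Nat.ble 609 c))

def entN292 (c : ℕ) : ℕ := (Bool.rec (motive := fun _ => ℕ) (Bool.rec (motive := fun _ => ℕ) (entN288 c) (entN289 c) (Nat.ble 602 c)) (Bool.rec (motive := fun _ => ℕ) (entN290 c) (entN291 c) (Nat.ble 608 c)) (Nat.ble 605 c))

def entN293 (c : ℕ) : ℕ := (Bool.rec (motive := fun _ => ℕ) entC610 (Bool.rec (motive := fun _ => ℕ) entC611 entC612 (Nat.ble 612 c)) (Nat.ble 611 c))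

def entN294 (c : ℕ) : ℕ := (Bool.rec (motive := fun _ => ℕ) entC613 (Bool.rec (motive := fun _ => ℕ) entC614 entC615 (Nat.ble 615 c)) (Nat.ble 614 c))

def entN295 (c : ℕ) : ℕ := (Bool.rec (motive := fun _ => ℕ) entC616 (Bool.rec (motive := fun _ => ℕ) entC617 entC618 (Nat.ble 618 c)) (Nat.ble 617 c))

def entN296 (c : ℕ) : ℕ := (Bool.rec (motive := fun _ => ℕ) entC619 entC620 (Nat.ble 620 c))

def entN297 (c : ℕ) : ℕ := (Bool.rec (motive := fun _ => ℕ) (Bool.rec (motive := fun _ => ℕ) (entN293 c) (entN294 c) (Nat.ble 613 c)) (Bool.rec (motive := fun _ => ℕ) (entN295 c) (entN296 c) (Nat.ble 619 c)) (Nat.ble 616 c))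

def entN298 (c : ℕ) : ℕ := (Bool.rec (motive := fun _ => ℕ) entC621 (Bool.rec (motive := fun _ => ℕ) entC622 entC623 (Nat.ble 623 c)) (Nat.ble 622 c))

def entN299 (c : ℕ) : ℕ := (Bool.rec (motive := fun _ => ℕ) entC624 (Bool.rec (motive := fun _ => ℕ) entC625 entC626 (Nat.ble 626 c)) (Nat.ble 625 c))

def entN300 (c : ℕ) : ℕ := (Bool.rec (motive := fun _ => ℕ) entC627 (Bool.rec (motive := fun _ => ℕ) entC628 entC629 (Nat.ble 629 c)) (Nat.ble 628 c))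

def entN301 (c : ℕ) : ℕ := (Bool.rec (motive := fun _ => ℕ) (entN298 c) (Bool.rec (motive := fun _ => ℕ) (entN299 c) (entN300 c) (Nat.ble 627 c)) (Nat.ble 624 c))

def entN302 (c : ℕ) : ℕ := (Bool.rec (motive := fun _ => ℕ) (Bool.rec (motive := fun _ => ℕ) (entN287 c) (entN292 c) (Nat.ble 599 c)) (Bool.rec (motive := fun _ => ℕ) (entN297 c) (entN301 c) (Nat.ble 621 c)) (Nat.ble 610 c))

def entN303 (c : ℕ) : ℕ := (Bool.rec (motive := fun _ => ℕ) entC630 (Bool.rec (motive := fun _ => ℕ) entC631 entC632 (Nat.ble 632 c)) (Nat.ble 631 c))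

def entN304 (c : ℕ) : ℕ := (Bool.rec (motive := fun _ => ℕ) entC633 (Bool.rec (motive := fun _ => ℕ) entC634 entC635 (Nat.ble 635 c)) (Nat.ble 634 c))

def entN305 (c : ℕ) : ℕ := (Bool.rec (motive := fun _ => ℕ) entC636 (Bool.rec (motive := fun _ => ℕ) entC637 entC638 (Nat.ble 638 c)) (Nat.ble 637 c))

def entN306 (c : ℕ) : ℕ := (Bool.rec (motive := fun _ => ℕ) (Bool.rec (motive := fun _ => ℕ) (entN303 c) (entN304 c) (Nat.ble 633 c)) (Bool.rec (motive := fun _ => ℕ) (entN305 c) entC639 (Nat.ble 639 c)) (Nat.ble 636 c))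

def entN307 (c : ℕ) : ℕ := (Bool.rec (motive := fun _ => ℕ) entC640 (Bool.rec (motive := fun _ => ℕ) entC641 entC642 (Nat.ble 642 c)) (Nat.ble 641 c))

def entN308 (c : ℕ) : ℕ := (Bool.rec (motive := fun _ => ℕ) entC643 (Bool.rec (motive := fun _ => ℕ) entC644 entC645 (Nat.ble 645 c)) (Nat.ble 644 c))

def entN309 (c : ℕ) : ℕ := (Bool.rec (motive := fun _ => ℕ) entC646 (Bool.rec (motive := fun _ => ℕ) entC647 entC648 (Nat.ble 648 c)) (Nat.ble 647 c))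

def entN310 (c : ℕ) : ℕ := (Bool.rec (motive := fun _ => ℕ) (Bool.rec (motive := fun _ => ℕ) (entN307 c) (entN308 c) (Nat.ble 643 c)) (Bool.rec (motive := fun _ => ℕ) (entN309 c) entC649 (Nat.ble 649 c)) (Nat.ble 646 c))

def entN311 (c : ℕ) : ℕ := (Bool.rec (motive := fun _ => ℕ) entC650 (Bool.rec (motive := fun _ => ℕ) entC651 entC652 (Nat.ble 652 c)) (Nat.ble 651 c))

def entN312 (c : ℕ) : ℕ := (Bool.rec (motive := fun _ => ℕ) entC653 (Bool.rec (motive := fun _ => ℕ) entC654 entC655 (Nat.ble 655 c)) (Nat.ble 654 c))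

def entN313 (c : ℕ) : ℕ := (Bool.rec (motive := fun _ => ℕ) entC656 (Bool.rec (motive := fun _ => ℕ) entC657 entC658 (Nat.ble 658 c)) (Nat.ble 657 c))

def entN314 (c : ℕ) : ℕ := (Bool.rec (motive := fun _ => ℕ) (Bool.rec (motive := fun _ => ℕ) (entN311 c) (entN312 c) (Nat.ble 653 c)) (Bool.rec (motive := fun _ => ℕ) (entN313 c) entC659 (Nat.ble 659 c)) (Nat.ble 656 c))

def entN315 (c : ℕ) : ℕ := (Bool.rec (motive := fun _ => ℕ) entC660 (Bool.rec (motive := fun _ => ℕ) entC661 entC662 (Nat.ble 662 c)) (Nat.ble 661 c))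

def entN316 (c : ℕ) : ℕ := (Bool.rec (motive := fun _ => ℕ) entC663 (Bool.rec (motive := fun _ => ℕ) entC664 entC665 (Nat.ble 665 c)) (Nat.ble 664 c))

def entN317 (c : ℕ) : ℕ := (Bool.rec (motive := fun _ => ℕ) entC666 (Bool.rec (motive := fun _ => ℕ) entC667 entC668 (Nat.ble 668 c)) (Nat.ble 667 c))

def entN318 (c : ℕ) : ℕ := (Bool.rec (motive := fun _ => ℕ) (Bool.rec (motive := fun _ => ℕ) (entN315 c) (entN316 c) (Nat.ble 663 c)) (Bool.rec (motive := fun _ => ℕ) (entN317 c) entC669 (Nat.ble 669 c)) (Nat.ble 666 c))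

def entN319 (c : ℕ) : ℕ := (Bool.rec (motive := fun _ => ℕ) (Bool.rec (motive := fun _ => ℕ) (entN306 c) (entN310 c) (Nat.ble 640 c)) (Bool.rec (motive := fun _ => ℕ) (entN314 c) (entN318 c) (Nat.ble 660 c)) (Nat.ble 650 c))

def entN320 (c : ℕ) : ℕ := (Bool.rec (motive := fun _ => ℕ) (Bool.rec (motive := fun _ => ℕ) (entN262 c) (entN282 c) (Nat.ble 546 c)) (Bool.rec (motive := fun _ => ℕ) (entN302 c) (entN319 c) (Nat.ble 630 c)) (Nat.ble 588 c))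

def entN321 (c : ℕ) : ℕ := (Bool.rec (motive := fun _ => ℕ) (Bool.rec (motive := fun _ => ℕ) (entN80 c) (entN161 c) (Nat.ble 168 c)) (Bool.rec (motive := fun _ => ℕ) (entN242 c) (entN320 c) (Nat.ble 504 c)) (Nat.ble 336 c))

def entSel (c : ℕ) : ℕ := (entN321 c)

def entRaw (u : ℕ) : ℕ :=
  Nat.land (Nat.shiftRight (strict entSel (Nat.shiftRight u 10)) (Nat.mul 96 (Nat.land u 1023))) 79228162514264337593543950335

def ent (u : ℕ) : ℕ := strict entRaw u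

def lgeN0 (c : ℕ) : ℕ := (Bool.rec (motive := fun _ => ℕ) lgeC0 (Bool.rec (motive := fun _ => ℕ) lgeC1 lgeC2 (Nat.ble 2 c)) (Nat.ble 1 c))

def lgeN1 (c : ℕ) : ℕ := (Bool.rec (motive := fun _ => ℕ) lgeC3 (Bool.rec (motive := fun _ => ℕ) lgeC4 lgeC5 (Nat.ble 5 c)) (Nat.ble 4 c))

def lgeN2 (c : ℕ) : ℕ := (Bool.rec (motive := fun _ => ℕ) lgeC6 (Bool.rec (motive := fun _ => ℕ) lgeC7 lgeC8 (Nat.ble 8 c)) (Nat.ble 7 c))

def lgeN3 (c : ℕ) : ℕ := (Bool.rec (motive := fun _ => ℕ) (Bool.rec (motive := fun _ => ℕ) (lgeN0 c) (lgeN1 c) (Nat.ble 3 c)) (Bool.rec (motive := fun _ => ℕ) (lgeN2 c) lgeC9 (Nat.ble 9 c)) (Nat.ble 6 c))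

def lgeN4 (c : ℕ) : ℕ := (Bool.rec (motive := fun _ => ℕ) lgeC10 (Bool.rec (motive := fun _ => ℕ) lgeC11 lgeC12 (Nat.ble 12 c)) (Nat.ble 11 c))

def lgeN5 (c : ℕ) : ℕ := (Bool.rec (motive := fun _ => ℕ) lgeC13 (Bool.rec (motive := fun _ => ℕ) lgeC14 lgeC15 (Nat.ble 15 c)) (Nat.ble 14 c))

def lgeN6 (c : ℕ) : ℕ := (Bool.rec (motive := fun _ => ℕ) lgeC16 (Bool.rec (motive := fun _ => ℕ) lgeC17 lgeC18 (Nat.ble 18 c)) (Nat.ble 17 c))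

def lgeN7 (c : ℕ) : ℕ := (Bool.rec (motive := fun _ => ℕ) (Bool.rec (motive := fun _ => ℕ) (lgeN4 c) (lgeN5 c) (Nat.ble 13 c)) (Bool.rec (motive := fun _ => ℕ) (lgeN6 c) lgeC19 (Nat.ble 19 c)) (Nat.ble 16 c))

def lgeN8 (c : ℕ) : ℕ := (Bool.rec (motive := fun _ => ℕ) lgeC20 (Bool.rec (motive := fun _ => ℕ) lgeC21 lgeC22 (Nat.ble 22 c)) (Nat.ble 21 c))

def lgeN9 (c : ℕ) : ℕ := (Bool.rec (motive := fun _ => ℕ) lgeC23 (Bool.rec (motive := fun _ => ℕ) lgeC24 lgeC25 (Nat.ble 25 c)) (Nat.ble 24 c))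

def lgeN10 (c : ℕ) : ℕ := (Bool.rec (motive := fun _ => ℕ) lgeC26 (Bool.rec (motive := fun _ => ℕ) lgeC27 lgeC28 (Nat.ble 28 c)) (Nat.ble 27 c))

def lgeN11 (c : ℕ) : ℕ := (Bool.rec (motive := fun _ => ℕ) (Bool.rec (motive := fun _ => ℕ) (lgeN8 c) (lgeN9 c) (Nat.ble 23 c)) (Bool.rec (motive := fun _ => ℕ) (lgeN10 c) lgeC29 (Nat.ble 29 c)) (Nat.ble 26 c))

def lgeN12 (c : ℕ) : ℕ := (Bool.rec (motive := fun _ => ℕ) lgeC30 (Bool.rec (motive := fun _ => ℕ) lgeC31 lgeC32 (Nat.ble 32 c)) (Nat.ble 31 c))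

def lgeN13 (c : ℕ) : ℕ := (Bool.rec (motive := fun _ => ℕ) lgeC33 (Bool.rec (motive := fun _ => ℕ) lgeC34 lgeC35 (Nat.ble 35 c)) (Nat.ble 34 c))

def lgeN14 (c : ℕ) : ℕ := (Bool.rec (motive := fun _ => ℕ) lgeC36 (Bool.rec (motive := fun _ => ℕ) lgeC37 lgeC38 (Nat.ble 38 c)) (Nat.ble 37 c))

def lgeN15 (c : ℕ) : ℕ := (Bool.rec (motive := fun _ => ℕ) (Bool.rec (motive := fun _ => ℕ) (lgeN12 c) (lgeN13 c) (Nat.ble 33 c)) (Bool.rec (motive := fun _ => ℕ) (lgeN14 c) lgeC39 (Nat.ble 39 c)) (Nat.ble 36 c))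

def lgeN16 (c : ℕ) : ℕ := (Bool.rec (motive := fun _ => ℕ) (Bool.rec (motive := fun _ => ℕ) (lgeN3 c) (lgeN7 c) (Nat.ble 10 c)) (Bool.rec (motive := fun _ => ℕ) (lgeN11 c) (lgeN15 c) (Nat.ble 30 c)) (Nat.ble 20 c))

def lgeN17 (c : ℕ) : ℕ := (Bool.rec (motive := fun _ => ℕ) lgeC40 (Bool.rec (motive := fun _ => ℕ) lgeC41 lgeC42 (Nat.ble 42 c)) (Nat.ble 41 c))

def lgeN18 (c : ℕ) : ℕ := (Bool.rec (motive := fun _ => ℕ) lgeC43 (Bool.rec (motive := fun _ => ℕ) lgeC44 lgeC45 (Nat.ble 45 c)) (Nat.ble 44 c))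

def lgeN19 (c : ℕ) : ℕ := (Bool.rec (motive := fun _ => ℕ) lgeC46 (Bool.rec (motive := fun _ => ℕ) lgeC47 lgeC48 (Nat.ble 48 c)) (Nat.ble 47 c))

def lgeN20 (c : ℕ) : ℕ := (Bool.rec (motive := fun _ => ℕ) (Bool.rec (motive := fun _ => ℕ) (lgeN17 c) (lgeN18 c) (Nat.ble 43 c)) (Bool.rec (motive := fun _ => ℕ) (lgeN19 c) lgeC49 (Nat.ble 49 c)) (Nat.ble 46 c))

def lgeN21 (c : ℕ) : ℕ := (Bool.rec (motive := fun _ => ℕ) lgeC50 (Bool.rec (motive := fun _ => ℕ) lgeC51 lgeC52 (Nat.ble 52 c)) (Nat.ble 51 c))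

def lgeN22 (c : ℕ) : ℕ := (Bool.rec (motive := fun _ => ℕ) lgeC53 (Bool.rec (motive := fun _ => ℕ) lgeC54 lgeC55 (Nat.ble 55 c)) (Nat.ble 54 c))

def lgeN23 (c : ℕ) : ℕ := (Bool.rec (motive := fun _ => ℕ) lgeC56 (Bool.rec (motive := fun _ => ℕ) lgeC57 lgeC58 (Nat.ble 58 c)) (Nat.ble 57 c))

def lgeN24 (c : ℕ) : ℕ := (Bool.rec (motive := fun _ => ℕ) (Bool.rec (motive := fun _ => ℕ) (lgeN21 c) (lgeN22 c) (Nat.ble 53 c)) (Bool.rec (motive := fun _ => ℕ) (lgeN23 c) lgeC59 (Nat.ble 59 c)) (Nat.ble 56 c))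

def lgeN25 (c : ℕ) : ℕ := (Bool.rec (motive := fun _ => ℕ) lgeC60 (Bool.rec (motive := fun _ => ℕ) lgeC61 lgeC62 (Nat.ble 62 c)) (Nat.ble 61 c))

def lgeN26 (c : ℕ) : ℕ := (Bool.rec (motive := fun _ => ℕ) lgeC63 (Bool.rec (motive := fun _ => ℕ) lgeC64 lgeC65 (Nat.ble 65 c)) (Nat.ble 64 c))

def lgeN27 (c : ℕ) : ℕ := (Bool.rec (motive := fun _ => ℕ) lgeC66 (Bool.rec (motive := fun _ => ℕ) lgeC67 lgeC68 (Nat.ble 68 c)) (Nat.ble 67 c))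

def lgeN28 (c : ℕ) : ℕ := (Bool.rec (motive := fun _ => ℕ) (Bool.rec (motive := fun _ => ℕ) (lgeN25 c) (lgeN26 c) (Nat.ble 63 c)) (Bool.rec (motive := fun _ => ℕ) (lgeN27 c) lgeC69 (Nat.ble 69 c)) (Nat.ble 66 c))

def lgeN29 (c : ℕ) : ℕ := (Bool.rec (motive := fun _ => ℕ) lgeC70 (Bool.rec (motive := fun _ => ℕ) lgeC71 lgeC72 (Nat.ble 72 c)) (Nat.ble 71 c))

def lgeN30 (c : ℕ) : ℕ := (Bool.rec (motive := fun _ => ℕ) lgeC73 (Bool.rec (motive := fun _ => ℕ) lgeC74 lgeC75 (Nat.ble 75 c)) (Nat.ble 74 c))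

def lgeN31 (c : ℕ) : ℕ := (Bool.rec (motive := fun _ => ℕ) lgeC76 (Bool.rec (motive := fun _ => ℕ) lgeC77 lgeC78 (Nat.ble 78 c)) (Nat.ble 77 c))

def lgeN32 (c : ℕ) : ℕ := (Bool.rec (motive := fun _ => ℕ) (Bool.rec (motive := fun _ => ℕ) (lgeN29 c) (lgeN30 c) (Nat.ble 73 c)) (Bool.rec (motive := fun _ => ℕ) (lgeN31 c) lgeC79 (Nat.ble 79 c)) (Nat.ble 76 c))

def lgeN33 (c : ℕ) : ℕ := (Bool.rec (motive := fun _ => ℕ) (Bool.rec (motive := fun _ => ℕ) (lgeN20 c) (lgeN24 c) (Nat.ble 50 c)) (Bool.rec (motive := fun _ => ℕ) (lgeN28 c) (lgeN32 c) (Nat.ble 70 c)) (Nat.ble 60 c))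

def lgeN34 (c : ℕ) : ℕ := (Bool.rec (motive := fun _ => ℕ) lgeC80 (Bool.rec (motive := fun _ => ℕ) lgeC81 lgeC82 (Nat.ble 82 c)) (Nat.ble 81 c))

def lgeN35 (c : ℕ) : ℕ := (Bool.rec (motive := fun _ => ℕ) lgeC83 (Bool.rec (motive := fun _ => ℕ) lgeC84 lgeC85 (Nat.ble 85 c)) (Nat.ble 84 c))

def lgeN36 (c : ℕ) : ℕ := (Bool.rec (motive := fun _ => ℕ) lgeC86 (Bool.rec (motive := fun _ => ℕ) lgeC87 lgeC88 (Nat.ble 88 c)) (Nat.ble 87 c))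

def lgeN37 (c : ℕ) : ℕ := (Bool.rec (motive := fun _ => ℕ) (Bool.rec (motive := fun _ => ℕ) (lgeN34 c) (lgeN35 c) (Nat.ble 83 c)) (Bool.rec (motive := fun _ => ℕ) (lgeN36 c) lgeC89 (Nat.ble 89 c)) (Nat.ble 86 c))

def lgeN38 (c : ℕ) : ℕ := (Bool.rec (motive := fun _ => ℕ) lgeC90 (Bool.rec (motive := fun _ => ℕ) lgeC91 lgeC92 (Nat.ble 92 c)) (Nat.ble 91 c))

def lgeN39 (c : ℕ) : ℕ := (Bool.rec (motive := fun _ => ℕ) lgeC93 (Bool.rec (motive := fun _ => ℕ) lgeC94 lgeC95 (Nat.ble 95 c)) (Nat.ble 94 c))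

def lgeN40 (c : ℕ) : ℕ := (Bool.rec (motive := fun _ => ℕ) lgeC96 (Bool.rec (motive := fun _ => ℕ) lgeC97 lgeC98 (Nat.ble 98 c)) (Nat.ble 97 c))

def lgeN41 (c : ℕ) : ℕ := (Bool.rec (motive := fun _ => ℕ) (Bool.rec (motive := fun _ => ℕ) (lgeN38 c) (lgeN39 c) (Nat.ble 93 c)) (Bool.rec (motive := fun _ => ℕ) (lgeN40 c) lgeC99 (Nat.ble 99 c)) (Nat.ble 96 c))

def lgeN42 (c : ℕ) : ℕ := (Bool.rec (motive := fun _ => ℕ) lgeC100 (Bool.rec (motive := fun _ => ℕ) lgeC101 lgeC102 (Nat.ble 102 c)) (Nat.ble 101 c))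

def lgeN43 (c : ℕ) : ℕ := (Bool.rec (motive := fun _ => ℕ) lgeC103 (Bool.rec (motive := fun _ => ℕ) lgeC104 lgeC105 (Nat.ble 105 c)) (Nat.ble 104 c))

def lgeN44 (c : ℕ) : ℕ := (Bool.rec (motive := fun _ => ℕ) lgeC106 (Bool.rec (motive := fun _ => ℕ) lgeC107 lgeC108 (Nat.ble 108 c)) (Nat.ble 107 c))

def lgeN45 (c : ℕ) : ℕ := (Bool.rec (motive := fun _ => ℕ) (Bool.rec (motive := fun _ => ℕ) (lgeN42 c) (lgeN43 c) (Nat.ble 103 c)) (Bool.rec (motive := fun _ => ℕ) (lgeN44 c) lgeC109 (Nat.ble 109 c)) (Nat.ble 106 c))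

def lgeN46 (c : ℕ) : ℕ := (Bool.rec (motive := fun _ => ℕ) lgeC110 (Bool.rec (motive := fun _ => ℕ) lgeC111 lgeC112 (Nat.ble 112 c)) (Nat.ble 111 c))

def lgeN47 (c : ℕ) : ℕ := (Bool.rec (motive := fun _ => ℕ) lgeC113 (Bool.rec (motive := fun _ => ℕ) lgeC114 lgeC115 (Nat.ble 115 c)) (Nat.ble 114 c))

def lgeN48 (c : ℕ) : ℕ := (Bool.rec (motive := fun _ => ℕ) lgeC116 (Bool.rec (motive := fun _ => ℕ) lgeC117 lgeC118 (Nat.ble 118 c)) (Nat.ble 117 c))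

def lgeN49 (c : ℕ) : ℕ := (Bool.rec (motive := fun _ => ℕ) (Bool.rec (motive := fun _ => ℕ) (lgeN46 c) (lgeN47 c) (Nat.ble 113 c)) (Bool.rec (motive := fun _ => ℕ) (lgeN48 c) lgeC119 (Nat.ble 119 c)) (Nat.ble 116 c))

def lgeN50 (c : ℕ) : ℕ := (Bool.rec (motive := fun _ => ℕ) (Bool.rec (motive := fun _ => ℕ) (lgeN37 c) (lgeN41 c) (Nat.ble 90 c)) (Bool.rec (motive := fun _ => ℕ) (lgeN45 c) (lgeN49 c) (Nat.ble 110 c)) (Nat.ble 100 c))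

def lgeN51 (c : ℕ) : ℕ := (Bool.rec (motive := fun _ => ℕ) lgeC120 (Bool.rec (motive := fun _ => ℕ) lgeC121 lgeC122 (Nat.ble 122 c)) (Nat.ble 121 c))

def lgeN52 (c : ℕ) : ℕ := (Bool.rec (motive := fun _ => ℕ) lgeC123 (Bool.rec (motive := fun _ => ℕ) lgeC124 lgeC125 (Nat.ble 125 c)) (Nat.ble 124 c))

def lgeN53 (c : ℕ) : ℕ := (Bool.rec (motive := fun _ => ℕ) lgeC126 (Bool.rec (motive := fun _ => ℕ) lgeC127 lgeC128 (Nat.ble 128 c)) (Nat.ble 127 c))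

def lgeN54 (c : ℕ) : ℕ := (Bool.rec (motive := fun _ => ℕ) (Bool.rec (motive := fun _ => ℕ) (lgeN51 c) (lgeN52 c) (Nat.ble 123 c)) (Bool.rec (motive := fun _ => ℕ) (lgeN53 c) lgeC129 (Nat.ble 129 c)) (Nat.ble 126 c))

def lgeN55 (c : ℕ) : ℕ := (Bool.rec (motive := fun _ => ℕ) lgeC130 (Bool.rec (motive := fun _ => ℕ) lgeC131 lgeC132 (Nat.ble 132 c)) (Nat.ble 131 c))

def lgeN56 (c : ℕ) : ℕ := (Bool.rec (motive := fun _ => ℕ) lgeC133 (Bool.rec (motive := fun _ => ℕ) lgeC134 lgeC135 (Nat.ble 135 c)) (Nat.ble 134 c))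

def lgeN57 (c : ℕ) : ℕ := (Bool.rec (motive := fun _ => ℕ) lgeC136 (Bool.rec (motive := fun _ => ℕ) lgeC137 lgeC138 (Nat.ble 138 c)) (Nat.ble 137 c))

def lgeN58 (c : ℕ) : ℕ := (Bool.rec (motive := fun _ => ℕ) (Bool.rec (motive := fun _ => ℕ) (lgeN55 c) (lgeN56 c) (Nat.ble 133 c)) (Bool.rec (motive := fun _ => ℕ) (lgeN57 c) lgeC139 (Nat.ble 139 c)) (Nat.ble 136 c))

def lgeN59 (c : ℕ) : ℕ := (Bool.rec (motive := fun _ => ℕ) lgeC140 (Bool.rec (motive := fun _ => ℕ) lgeC141 lgeC142 (Nat.ble 142 c)) (Nat.ble 141 c))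

def lgeN60 (c : ℕ) : ℕ := (Bool.rec (motive := fun _ => ℕ) lgeC143 (Bool.rec (motive := fun _ => ℕ) lgeC144 lgeC145 (Nat.ble 145 c)) (Nat.ble 144 c))

def lgeN61 (c : ℕ) : ℕ := (Bool.rec (motive := fun _ => ℕ) lgeC146 (Bool.rec (motive := fun _ => ℕ) lgeC147 lgeC148 (Nat.ble 148 c)) (Nat.ble 147 c))

def lgeN62 (c : ℕ) : ℕ := (Bool.rec (motive := fun _ => ℕ) (Bool.rec (motive := fun _ => ℕ) (lgeN59 c) (lgeN60 c) (Nat.ble 143 c)) (Bool.rec (motive := fun _ => ℕ) (lgeN61 c) lgeC149 (Nat.ble 149 c)) (Nat.ble 146 c))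

def lgeN63 (c : ℕ) : ℕ := (Bool.rec (motive := fun _ => ℕ) lgeC150 (Bool.rec (motive := fun _ => ℕ) lgeC151 lgeC152 (Nat.ble 152 c)) (Nat.ble 151 c))

def lgeN64 (c : ℕ) : ℕ := (Bool.rec (motive := fun _ => ℕ) lgeC153 (Bool.rec (motive := fun _ => ℕ) lgeC154 lgeC155 (Nat.ble 155 c)) (Nat.ble 154 c))

def lgeN65 (c : ℕ) : ℕ := (Bool.rec (motive := fun _ => ℕ) lgeC156 (Bool.rec (motive := fun _ => ℕ) lgeC157 lgeC158 (Nat.ble 158 c)) (Nat.ble 157 c))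

def lgeN66 (c : ℕ) : ℕ := (Bool.rec (motive := fun _ => ℕ) (Bool.rec (motive := fun _ => ℕ) (lgeN63 c) (lgeN64 c) (Nat.ble 153 c)) (Bool.rec (motive := fun _ => ℕ) (lgeN65 c) lgeC159 (Nat.ble 159 c)) (Nat.ble 156 c))

def lgeN67 (c : ℕ) : ℕ := (Bool.rec (motive := fun _ => ℕ) (Bool.rec (motive := fun _ => ℕ) (lgeN54 c) (lgeN58 c) (Nat.ble 130 c)) (Bool.rec (motive := fun _ => ℕ) (lgeN62 c) (lgeN66 c) (Nat.ble 150 c)) (Nat.ble 140 c))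

def lgeN68 (c : ℕ) : ℕ := (Bool.rec (motive := fun _ => ℕ) (Bool.rec (motive := fun _ => ℕ) (lgeN16 c) (lgeN33 c) (Nat.ble 40 c)) (Bool.rec (motive := fun _ => ℕ) (lgeN50 c) (lgeN67 c) (Nat.ble 120 c)) (Nat.ble 80 c))

def lgeN69 (c : ℕ) : ℕ := (Bool.rec (motive := fun _ => ℕ) lgeC160 (Bool.rec (motive := fun _ => ℕ) lgeC161 lgeC162 (Nat.ble 162 c)) (Nat.ble 161 c))

def lgeN70 (c : ℕ) : ℕ := (Bool.rec (motive := fun _ => ℕ) lgeC163 (Bool.rec (motive := fun _ => ℕ) lgeC164 lgeC165 (Nat.ble 165 c)) (Nat.ble 164 c))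

def lgeN71 (c : ℕ) : ℕ := (Bool.rec (motive := fun _ => ℕ) lgeC166 (Bool.rec (motive := fun _ => ℕ) lgeC167 lgeC168 (Nat.ble 168 c)) (Nat.ble 167 c))

def lgeN72 (c : ℕ) : ℕ := (Bool.rec (motive := fun _ => ℕ) (Bool.rec (motive := fun _ => ℕ) (lgeN69 c) (lgeN70 c) (Nat.ble 163 c)) (Bool.rec (motive := fun _ => ℕ) (lgeN71 c) lgeC169 (Nat.ble 169 c)) (Nat.ble 166 c))

def lgeN73 (c : ℕ) : ℕ := (Bool.rec (motive := fun _ => ℕ) lgeC170 (Bool.rec (motive := fun _ => ℕ) lgeC171 lgeC172 (Nat.ble 172 c)) (Nat.ble 171 c))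

def lgeN74 (c : ℕ) : ℕ := (Bool.rec (motive := fun _ => ℕ) lgeC173 (Bool.rec (motive := fun _ => ℕ) lgeC174 lgeC175 (Nat.ble 175 c)) (Nat.ble 174 c))

def lgeN75 (c : ℕ) : ℕ := (Bool.rec (motive := fun _ => ℕ) lgeC176 (Bool.rec (motive := fun _ => ℕ) lgeC177 lgeC178 (Nat.ble 178 c)) (Nat.ble 177 c))

def lgeN76 (c : ℕ) : ℕ := (Bool.rec (motive := fun _ => ℕ) (Bool.rec (motive := fun _ => ℕ) (lgeN73 c) (lgeN74 c) (Nat.ble 173 c)) (Bool.rec (motive := fun _ => ℕ) (lgeN75 c) lgeC179 (Nat.ble 179 c)) (Nat.ble 176 c))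

def lgeN77 (c : ℕ) : ℕ := (Bool.rec (motive := fun _ => ℕ) lgeC180 (Bool.rec (motive := fun _ => ℕ) lgeC181 lgeC182 (Nat.ble 182 c)) (Nat.ble 181 c))

def lgeN78 (c : ℕ) : ℕ := (Bool.rec (motive := fun _ => ℕ) lgeC183 (Bool.rec (motive := fun _ => ℕ) lgeC184 lgeC185 (Nat.ble 185 c)) (Nat.ble 184 c))

def lgeN79 (c : ℕ) : ℕ := (Bool.rec (motive := fun _ => ℕ) lgeC186 (Bool.rec (motive := fun _ => ℕ) lgeC187 lgeC188 (Nat.ble 188 c)) (Nat.ble 187 c))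

def lgeN80 (c : ℕ) : ℕ := (Bool.rec (motive := fun _ => ℕ) (Bool.rec (motive := fun _ => ℕ) (lgeN77 c) (lgeN78 c) (Nat.ble 183 c)) (Bool.rec (motive := fun _ => ℕ) (lgeN79 c) lgeC189 (Nat.ble 189 c)) (Nat.ble 186 c))

def lgeN81 (c : ℕ) : ℕ := (Bool.rec (motive := fun _ => ℕ) lgeC190 (Bool.rec (motive := fun _ => ℕ) lgeC191 lgeC192 (Nat.ble 192 c)) (Nat.ble 191 c))

def lgeN82 (c : ℕ) : ℕ := (Bool.rec (motive := fun _ => ℕ) lgeC193 (Bool.rec (motive := fun _ => ℕ) lgeC194 lgeC195 (Nat.ble 195 c)) (Nat.ble 194 c))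

def lgeN83 (c : ℕ) : ℕ := (Bool.rec (motive := fun _ => ℕ) lgeC196 (Bool.rec (motive := fun _ => ℕ) lgeC197 lgeC198 (Nat.ble 198 c)) (Nat.ble 197 c))

def lgeN84 (c : ℕ) : ℕ := (Bool.rec (motive := fun _ => ℕ) (Bool.rec (motive := fun _ => ℕ) (lgeN81 c) (lgeN82 c) (Nat.ble 193 c)) (Bool.rec (motive := fun _ => ℕ) (lgeN83 c) lgeC199 (Nat.ble 199 c)) (Nat.ble 196 c))

def lgeN85 (c : ℕ) : ℕ := (Bool.rec (motive := fun _ => ℕ) (Bool.rec (motive := fun _ => ℕ) (lgeN72 c) (lgeN76 c) (Nat.ble 170 c)) (Bool.rec (motive := fun _ => ℕ) (lgeN80 c) (lgeN84 c) (Nat.ble 190 c)) (Nat.ble 180 c))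

def lgeN86 (c : ℕ) : ℕ := (Bool.rec (motive := fun _ => ℕ) lgeC200 (Bool.rec (motive := fun _ => ℕ) lgeC201 lgeC202 (Nat.ble 202 c)) (Nat.ble 201 c))

def lgeN87 (c : ℕ) : ℕ := (Bool.rec (motive := fun _ => ℕ) lgeC203 (Bool.rec (motive := fun _ => ℕ) lgeC204 lgeC205 (Nat.ble 205 c)) (Nat.ble 204 c))

def lgeN88 (c : ℕ) : ℕ := (Bool.rec (motive := fun _ => ℕ) lgeC206 (Bool.rec (motive := fun _ => ℕ) lgeC207 lgeC208 (Nat.ble 208 c)) (Nat.ble 207 c))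

def lgeN89 (c : ℕ) : ℕ := (Bool.rec (motive := fun _ => ℕ) (Bool.rec (motive := fun _ => ℕ) (lgeN86 c) (lgeN87 c) (Nat.ble 203 c)) (Bool.rec (motive := fun _ => ℕ) (lgeN88 c) lgeC209 (Nat.ble 209 c)) (Nat.ble 206 c))

def lgeN90 (c : ℕ) : ℕ := (Bool.rec (motive := fun _ => ℕ) lgeC210 (Bool.rec (motive := fun _ => ℕ) lgeC211 lgeC212 (Nat.ble 212 c)) (Nat.ble 211 c))

def lgeN91 (c : ℕ) : ℕ := (Bool.rec (motive := fun _ => ℕ) lgeC213 (Bool.rec (motive := fun _ => ℕ) lgeC214 lgeC215 (Nat.ble 215 c)) (Nat.ble 214 c))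

def lgeN92 (c : ℕ) : ℕ := (Bool.rec (motive := fun _ => ℕ) lgeC216 (Bool.rec (motive := fun _ => ℕ) lgeC217 lgeC218 (Nat.ble 218 c)) (Nat.ble 217 c))

def lgeN93 (c : ℕ) : ℕ := (Bool.rec (motive := fun _ => ℕ) (Bool.rec (motive := fun _ => ℕ) (lgeN90 c) (lgeN91 c) (Nat.ble 213 c)) (Bool.rec (motive := fun _ => ℕ) (lgeN92 c) lgeC219 (Nat.ble 219 c)) (Nat.ble 216 c))

def lgeN94 (c : ℕ) : ℕ := (Bool.rec (motive := fun _ => ℕ) lgeC220 (Bool.rec (motive := fun _ => ℕ) lgeC221 lgeC222 (Nat.ble 222 c)) (Nat.ble 221 c))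

def lgeN95 (c : ℕ) : ℕ := (Bool.rec (motive := fun _ => ℕ) lgeC223 (Bool.rec (motive := fun _ => ℕ) lgeC224 lgeC225 (Nat.ble 225 c)) (Nat.ble 224 c))

def lgeN96 (c : ℕ) : ℕ := (Bool.rec (motive := fun _ => ℕ) lgeC226 (Bool.rec (motive := fun _ => ℕ) lgeC227 lgeC228 (Nat.ble 228 c)) (Nat.ble 227 c))

def lgeN97 (c : ℕ) : ℕ := (Bool.rec (motive := fun _ => ℕ) (Bool.rec (motive := fun _ => ℕ) (lgeN94 c) (lgeN95 c) (Nat.ble 223 c)) (Bool.rec (motive := fun _ => ℕ) (lgeN96 c) lgeC229 (Nat.ble 229 c)) (Nat.ble 226 c))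

def lgeN98 (c : ℕ) : ℕ := (Bool.rec (motive := fun _ => ℕ) lgeC230 (Bool.rec (motive := fun _ => ℕ) lgeC231 lgeC232 (Nat.ble 232 c)) (Nat.ble 231 c))

def lgeN99 (c : ℕ) : ℕ := (Bool.rec (motive := fun _ => ℕ) lgeC233 (Bool.rec (motive := fun _ => ℕ) lgeC234 lgeC235 (Nat.ble 235 c)) (Nat.ble 234 c))

def lgeN100 (c : ℕ) : ℕ := (Bool.rec (motive := fun _ => ℕ) lgeC236 (Bool.rec (motive := fun _ => ℕ) lgeC237 lgeC238 (Nat.ble 238 c)) (Nat.ble 237 c))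

def lgeN101 (c : ℕ) : ℕ := (Bool.rec (motive := fun _ => ℕ) (Bool.rec (motive := fun _ => ℕ) (lgeN98 c) (lgeN99 c) (Nat.ble 233 c)) (Bool.rec (motive := fun _ => ℕ) (lgeN100 c) lgeC239 (Nat.ble 239 c)) (Nat.ble 236 c))

def lgeN102 (c : ℕ) : ℕ := (Bool.rec (motive := fun _ => ℕ) (Bool.rec (motive := fun _ => ℕ) (lgeN89 c) (lgeN93 c) (Nat.ble 210 c)) (Bool.rec (motive := fun _ => ℕ) (lgeN97 c) (lgeN101 c) (Nat.ble 230 c)) (Nat.ble 220 c))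

def lgeN103 (c : ℕ) : ℕ := (Bool.rec (motive := fun _ => ℕ) lgeC240 (Bool.rec (motive := fun _ => ℕ) lgeC241 lgeC242 (Nat.ble 242 c)) (Nat.ble 241 c))

def lgeN104 (c : ℕ) : ℕ := (Bool.rec (motive := fun _ => ℕ) lgeC243 (Bool.rec (motive := fun _ => ℕ) lgeC244 lgeC245 (Nat.ble 245 c)) (Nat.ble 244 c))

def lgeN105 (c : ℕ) : ℕ := (Bool.rec (motive := fun _ => ℕ) lgeC246 (Bool.rec (motive := fun _ => ℕ) lgeC247 lgeC248 (Nat.ble 248 c)) (Nat.ble 247 c))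

def lgeN106 (c : ℕ) : ℕ := (Bool.rec (motive := fun _ => ℕ) (Bool.rec (motive := fun _ => ℕ) (lgeN103 c) (lgeN104 c) (Nat.ble 243 c)) (Bool.rec (motive := fun _ => ℕ) (lgeN105 c) lgeC249 (Nat.ble 249 c)) (Nat.ble 246 c))

def lgeN107 (c : ℕ) : ℕ := (Bool.rec (motive := fun _ => ℕ) lgeC250 (Bool.rec (motive := fun _ => ℕ) lgeC251 lgeC252 (Nat.ble 252 c)) (Nat.ble 251 c))

def lgeN108 (c : ℕ) : ℕ := (Bool.rec (motive := fun _ => ℕ) lgeC253 (Bool.rec (motive := fun _ => ℕ) lgeC254 lgeC255 (Nat.ble 255 c)) (Nat.ble 254 c))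

def lgeN109 (c : ℕ) : ℕ := (Bool.rec (motive := fun _ => ℕ) lgeC256 (Bool.rec (motive := fun _ => ℕ) lgeC257 lgeC258 (Nat.ble 258 c)) (Nat.ble 257 c))

def lgeN110 (c : ℕ) : ℕ := (Bool.rec (motive := fun _ => ℕ) (Bool.rec (motive := fun _ => ℕ) (lgeN107 c) (lgeN108 c) (Nat.ble 253 c)) (Bool.rec (motive := fun _ => ℕ) (lgeN109 c) lgeC259 (Nat.ble 259 c)) (Nat.ble 256 c))

def lgeN111 (c : ℕ) : ℕ := (Bool.rec (motive := fun _ => ℕ) lgeC260 (Bool.rec (motive := fun _ => ℕ) lgeC261 lgeC262 (Nat.ble 262 c)) (Nat.ble 261 c))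

def lgeN112 (c : ℕ) : ℕ := (Bool.rec (motive := fun _ => ℕ) lgeC263 (Bool.rec (motive := fun _ => ℕ) lgeC264 lgeC265 (Nat.ble 265 c)) (Nat.ble 264 c))

def lgeN113 (c : ℕ) : ℕ := (Bool.rec (motive := fun _ => ℕ) lgeC266 (Bool.rec (motive := fun _ => ℕ) lgeC267 lgeC268 (Nat.ble 268 c)) (Nat.ble 267 c))

def lgeN114 (c : ℕ) : ℕ := (Bool.rec (motive := fun _ => ℕ) (Bool.rec (motive := fun _ => ℕ) (lgeN111 c) (lgeN112 c) (Nat.ble 263 c)) (Bool.rec (motive := fun _ => ℕ) (lgeN113 c) lgeC269 (Nat.ble 269 c)) (Nat.ble 266 c))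

def lgeN115 (c : ℕ) : ℕ := (Bool.rec (motive := fun _ => ℕ) lgeC270 (Bool.rec (motive := fun _ => ℕ) lgeC271 lgeC272 (Nat.ble 272 c)) (Nat.ble 271 c))

def lgeN116 (c : ℕ) : ℕ := (Bool.rec (motive := fun _ => ℕ) lgeC273 (Bool.rec (motive := fun _ => ℕ) lgeC274 lgeC275 (Nat.ble 275 c)) (Nat.ble 274 c))

def lgeN117 (c : ℕ) : ℕ := (Bool.rec (motive := fun _ => ℕ) lgeC276 (Bool.rec (motive := fun _ => ℕ) lgeC277 lgeC278 (Nat.ble 278 c)) (Nat.ble 277 c))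

def lgeN118 (c : ℕ) : ℕ := (Bool.rec (motive := fun _ => ℕ) (Bool.rec (motive := fun _ => ℕ) (lgeN115 c) (lgeN116 c) (Nat.ble 273 c)) (Bool.rec (motive := fun _ => ℕ) (lgeN117 c) lgeC279 (Nat.ble 279 c)) (Nat.ble 276 c))

def lgeN119 (c : ℕ) : ℕ := (Bool.rec (motive := fun _ => ℕ) (Bool.rec (motive := fun _ => ℕ) (lgeN106 c) (lgeN110 c) (Nat.ble 250 c)) (Bool.rec (motive := fun _ => ℕ) (lgeN114 c) (lgeN118 c) (Nat.ble 270 c)) (Nat.ble 260 c))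

def lgeN120 (c : ℕ) : ℕ := (Bool.rec (motive := fun _ => ℕ) lgeC280 (Bool.rec (motive := fun _ => ℕ) lgeC281 lgeC282 (Nat.ble 282 c)) (Nat.ble 281 c))

def lgeN121 (c : ℕ) : ℕ := (Bool.rec (motive := fun _ => ℕ) lgeC283 (Bool.rec (motive := fun _ => ℕ) lgeC284 lgeC285 (Nat.ble 285 c)) (Nat.ble 284 c))

def lgeN122 (c : ℕ) : ℕ := (Bool.rec (motive := fun _ => ℕ) lgeC286 (Bool.rec (motive := fun _ => ℕ) lgeC287 lgeC288 (Nat.ble 288 c)) (Nat.ble 287 c))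

def lgeN123 (c : ℕ) : ℕ := (Bool.rec (motive := fun _ => ℕ) (Bool.rec (motive := fun _ => ℕ) (lgeN120 c) (lgeN121 c) (Nat.ble 283 c)) (Bool.rec (motive := fun _ => ℕ) (lgeN122 c) lgeC289 (Nat.ble 289 c)) (Nat.ble 286 c))

def lgeN124 (c : ℕ) : ℕ := (Bool.rec (motive := fun _ => ℕ) lgeC290 (Bool.rec (motive := fun _ => ℕ) lgeC291 lgeC292 (Nat.ble 292 c)) (Nat.ble 291 c))

def lgeN125 (c : ℕ) : ℕ := (Bool.rec (motive := fun _ => ℕ) lgeC293 (Bool.rec (motive := fun _ => ℕ) lgeC294 lgeC295 (Nat.ble 295 c)) (Nat.ble 294 c))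

def lgeN126 (c : ℕ) : ℕ := (Bool.rec (motive := fun _ => ℕ) lgeC296 (Bool.rec (motive := fun _ => ℕ) lgeC297 lgeC298 (Nat.ble 298 c)) (Nat.ble 297 c))

def lgeN127 (c : ℕ) : ℕ := (Bool.rec (motive := fun _ => ℕ) (Bool.rec (motive := fun _ => ℕ) (lgeN124 c) (lgeN125 c) (Nat.ble 293 c)) (Bool.rec (motive := fun _ => ℕ) (lgeN126 c) lgeC299 (Nat.ble 299 c)) (Nat.ble 296 c))

def lgeN128 (c : ℕ) : ℕ := (Bool.rec (motive := fun _ => ℕ) lgeC300 (Bool.rec (motive := fun _ => ℕ) lgeC301 lgeC302 (Nat.ble 302 c)) (Nat.ble 301 c))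

def lgeN129 (c : ℕ) : ℕ := (Bool.rec (motive := fun _ => ℕ) lgeC303 (Bool.rec (motive := fun _ => ℕ) lgeC304 lgeC305 (Nat.ble 305 c)) (Nat.ble 304 c))

def lgeN130 (c : ℕ) : ℕ := (Bool.rec (motive := fun _ => ℕ) lgeC306 (Bool.rec (motive := fun _ => ℕ) lgeC307 lgeC308 (Nat.ble 308 c)) (Nat.ble 307 c))

def lgeN131 (c : ℕ) : ℕ := (Bool.rec (motive := fun _ => ℕ) (Bool.rec (motive := fun _ => ℕ) (lgeN128 c) (lgeN129 c) (Nat.ble 303 c)) (Bool.rec (motive := fun _ => ℕ) (lgeN130 c) lgeC309 (Nat.ble 309 c)) (Nat.ble 306 c))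

def lgeN132 (c : ℕ) : ℕ := (Bool.rec (motive := fun _ => ℕ) lgeC310 (Bool.rec (motive := fun _ => ℕ) lgeC311 lgeC312 (Nat.ble 312 c)) (Nat.ble 311 c))

def lgeN133 (c : ℕ) : ℕ := (Bool.rec (motive := fun _ => ℕ) lgeC313 (Bool.rec (motive := fun _ => ℕ) lgeC314 lgeC315 (Nat.ble 315 c)) (Nat.ble 314 c))

def lgeN134 (c : ℕ) : ℕ := (Bool.rec (motive := fun _ => ℕ) lgeC316 (Bool.rec (motive := fun _ => ℕ) lgeC317 lgeC318 (Nat.ble 318 c)) (Nat.ble 317 c))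

def lgeN135 (c : ℕ) : ℕ := (Bool.rec (motive := fun _ => ℕ) (Bool.rec (motive := fun _ => ℕ) (lgeN132 c) (lgeN133 c) (Nat.ble 313 c)) (Bool.rec (motive := fun _ => ℕ) (lgeN134 c) lgeC319 (Nat.ble 319 c)) (Nat.ble 316 c))

def lgeN136 (c : ℕ) : ℕ := (Bool.rec (motive := fun _ => ℕ) (Bool.rec (motive := fun _ => ℕ) (lgeN123 c) (lgeN127 c) (Nat.ble 290 c)) (Bool.rec (motive := fun _ => ℕ) (lgeN131 c) (lgeN135 c) (Nat.ble 310 c)) (Nat.ble 300 c))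

def lgeN137 (c : ℕ) : ℕ := (Bool.rec (motive := fun _ => ℕ) (Bool.rec (motive := fun _ => ℕ) (lgeN85 c) (lgeN102 c) (Nat.ble 200 c)) (Bool.rec (motive := fun _ => ℕ) (lgeN119 c) (lgeN136 c) (Nat.ble 280 c)) (Nat.ble 240 c))

def lgeN138 (c : ℕ) : ℕ := (Bool.rec (motive := fun _ => ℕ) lgeC320 (Bool.rec (motive := fun _ => ℕ) lgeC321 lgeC322 (Nat.ble 322 c)) (Nat.ble 321 c))

def lgeN139 (c : ℕ) : ℕ := (Bool.rec (motive := fun _ => ℕ) lgeC323 (Bool.rec (motive := fun _ => ℕ) lgeC324 lgeC325 (Nat.ble 325 c)) (Nat.ble 324 c))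

def lgeN140 (c : ℕ) : ℕ := (Bool.rec (motive := fun _ => ℕ) lgeC326 (Bool.rec (motive := fun _ => ℕ) lgeC327 lgeC328 (Nat.ble 328 c)) (Nat.ble 327 c))

def lgeN141 (c : ℕ) : ℕ := (Bool.rec (motive := fun _ => ℕ) (Bool.rec (motive := fun _ => ℕ) (lgeN138 c) (lgeN139 c) (Nat.ble 323 c)) (Bool.rec (motive := fun _ => ℕ) (lgeN140 c) lgeC329 (Nat.ble 329 c)) (Nat.ble 326 c))

def lgeN142 (c : ℕ) : ℕ := (Bool.rec (motive := fun _ => ℕ) lgeC330 (Bool.rec (motive := fun _ => ℕ) lgeC331 lgeC332 (Nat.ble 332 c)) (Nat.ble 331 c))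

def lgeN143 (c : ℕ) : ℕ := (Bool.rec (motive := fun _ => ℕ) lgeC333 (Bool.rec (motive := fun _ => ℕ) lgeC334 lgeC335 (Nat.ble 335 c)) (Nat.ble 334 c))

def lgeN144 (c : ℕ) : ℕ := (Bool.rec (motive := fun _ => ℕ) lgeC336 (Bool.rec (motive := fun _ => ℕ) lgeC337 lgeC338 (Nat.ble 338 c)) (Nat.ble 337 c))

def lgeN145 (c : ℕ) : ℕ := (Bool.rec (motive := fun _ => ℕ) (Bool.rec (motive := fun _ => ℕ) (lgeN142 c) (lgeN143 c) (Nat.ble 333 c)) (Bool.rec (motive := fun _ => ℕ) (lgeN144 c) lgeC339 (Nat.ble 339 c)) (Nat.ble 336 c))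

def lgeN146 (c : ℕ) : ℕ := (Bool.rec (motive := fun _ => ℕ) lgeC340 (Bool.rec (motive := fun _ => ℕ) lgeC341 lgeC342 (Nat.ble 342 c)) (Nat.ble 341 c))

def lgeN147 (c : ℕ) : ℕ := (Bool.rec (motive := fun _ => ℕ) lgeC343 (Bool.rec (motive := fun _ => ℕ) lgeC344 lgeC345 (Nat.ble 345 c)) (Nat.ble 344 c))

def lgeN148 (c : ℕ) : ℕ := (Bool.rec (motive := fun _ => ℕ) lgeC346 (Bool.rec (motive := fun _ => ℕ) lgeC347 lgeC348 (Nat.ble 348 c)) (Nat.ble 347 c))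

def lgeN149 (c : ℕ) : ℕ := (Bool.rec (motive := fun _ => ℕ) (Bool.rec (motive := fun _ => ℕ) (lgeN146 c) (lgeN147 c) (Nat.ble 343 c)) (Bool.rec (motive := fun _ => ℕ) (lgeN148 c) lgeC349 (Nat.ble 349 c)) (Nat.ble 346 c))

def lgeN150 (c : ℕ) : ℕ := (Bool.rec (motive := fun _ => ℕ) lgeC350 (Bool.rec (motive := fun _ => ℕ) lgeC351 lgeC352 (Nat.ble 352 c)) (Nat.ble 351 c))

def lgeN151 (c : ℕ) : ℕ := (Bool.rec (motive := fun _ => ℕ) lgeC353 (Bool.rec (motive := fun _ => ℕ) lgeC354 lgeC355 (Nat.ble 355 c)) (Nat.ble 354 c))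

def lgeN152 (c : ℕ) : ℕ := (Bool.rec (motive := fun _ => ℕ) lgeC356 (Bool.rec (motive := fun _ => ℕ) lgeC357 lgeC358 (Nat.ble 358 c)) (Nat.ble 357 c))

def lgeN153 (c : ℕ) : ℕ := (Bool.rec (motive := fun _ => ℕ) (Bool.rec (motive := fun _ => ℕ) (lgeN150 c) (lgeN151 c) (Nat.ble 353 c)) (Bool.rec (motive := fun _ => ℕ) (lgeN152 c) lgeC359 (Nat.ble 359 c)) (Nat.ble 356 c))

def lgeN154 (c : ℕ) : ℕ := (Bool.rec (motive := fun _ => ℕ) (Bool.rec (motive := fun _ => ℕ) (lgeN141 c) (lgeN145 c) (Nat.ble 330 c)) (Bool.rec (motive := fun _ => ℕ) (lgeN149 c) (lgeN153 c) (Nat.ble 350 c)) (Nat.ble 340 c))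

def lgeN155 (c : ℕ) : ℕ := (Bool.rec (motive := fun _ => ℕ) lgeC360 (Bool.rec (motive := fun _ => ℕ) lgeC361 lgeC362 (Nat.ble 362 c)) (Nat.ble 361 c))

def lgeN156 (c : ℕ) : ℕ := (Bool.rec (motive := fun _ => ℕ) lgeC363 (Bool.rec (motive := fun _ => ℕ) lgeC364 lgeC365 (Nat.ble 365 c)) (Nat.ble 364 c))

def lgeN157 (c : ℕ) : ℕ := (Bool.rec (motive := fun _ => ℕ) lgeC366 (Bool.rec (motive := fun _ => ℕ) lgeC367 lgeC368 (Nat.ble 368 c)) (Nat.ble 367 c))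

def lgeN158 (c : ℕ) : ℕ := (Bool.rec (motive := fun _ => ℕ) (Bool.rec (motive := fun _ => ℕ) (lgeN155 c) (lgeN156 c) (Nat.ble 363 c)) (Bool.rec (motive := fun _ => ℕ) (lgeN157 c) lgeC369 (Nat.ble 369 c)) (Nat.ble 366 c))

def lgeN159 (c : ℕ) : ℕ := (Bool.rec (motive := fun _ => ℕ) lgeC370 (Bool.rec (motive := fun _ => ℕ) lgeC371 lgeC372 (Nat.ble 372 c)) (Nat.ble 371 c))

def lgeN160 (c : ℕ) : ℕ := (Bool.rec (motive := fun _ => ℕ) lgeC373 (Bool.rec (motive := fun _ => ℕ) lgeC374 lgeC375 (Nat.ble 375 c)) (Nat.ble 374 c))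

def lgeN161 (c : ℕ) : ℕ := (Bool.rec (motive := fun _ => ℕ) lgeC376 (Bool.rec (motive := fun _ => ℕ) lgeC377 lgeC378 (Nat.ble 378 c)) (Nat.ble 377 c))

def lgeN162 (c : ℕ) : ℕ := (Bool.rec (motive := fun _ => ℕ) (Bool.rec (motive := fun _ => ℕ) (lgeN159 c) (lgeN160 c) (Nat.ble 373 c)) (Bool.rec (motive := fun _ => ℕ) (lgeN161 c) lgeC379 (Nat.ble 379 c)) (Nat.ble 376 c))

def lgeN163 (c : ℕ) : ℕ := (Bool.rec (motive := fun _ => ℕ) lgeC380 (Bool.rec (motive := fun _ => ℕ) lgeC381 lgeC382 (Nat.ble 382 c)) (Nat.ble 381 c))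

def lgeN164 (c : ℕ) : ℕ := (Bool.rec (motive := fun _ => ℕ) lgeC383 (Bool.rec (motive := fun _ => ℕ) lgeC384 lgeC385 (Nat.ble 385 c)) (Nat.ble 384 c))

def lgeN165 (c : ℕ) : ℕ := (Bool.rec (motive := fun _ => ℕ) lgeC386 (Bool.rec (motive := fun _ => ℕ) lgeC387 lgeC388 (Nat.ble 388 c)) (Nat.ble 387 c))

def lgeN166 (c : ℕ) : ℕ := (Bool.rec (motive := fun _ => ℕ) (Bool.rec (motive := fun _ => ℕ) (lgeN163 c) (lgeN164 c) (Nat.ble 383 c)) (Bool.rec (motive := fun _ => ℕ) (lgeN165 c) lgeC389 (Nat.ble 389 c)) (Nat.ble 386 c))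

def lgeN167 (c : ℕ) : ℕ := (Bool.rec (motive := fun _ => ℕ) lgeC390 (Bool.rec (motive := fun _ => ℕ) lgeC391 lgeC392 (Nat.ble 392 c)) (Nat.ble 391 c))

def lgeN168 (c : ℕ) : ℕ := (Bool.rec (motive := fun _ => ℕ) lgeC393 (Bool.rec (motive := fun _ => ℕ) lgeC394 lgeC395 (Nat.ble 395 c)) (Nat.ble 394 c))

def lgeN169 (c : ℕ) : ℕ := (Bool.rec (motive := fun _ => ℕ) lgeC396 (Bool.rec (motive := fun _ => ℕ) lgeC397 lgeC398 (Nat.ble 398 c)) (Nat.ble 397 c))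

def lgeN170 (c : ℕ) : ℕ := (Bool.rec (motive := fun _ => ℕ) (Bool.rec (motive := fun _ => ℕ) (lgeN167 c) (lgeN168 c) (Nat.ble 393 c)) (Bool.rec (motive := fun _ => ℕ) (lgeN169 c) lgeC399 (Nat.ble 399 c)) (Nat.ble 396 c))

def lgeN171 (c : ℕ) : ℕ := (Bool.rec (motive := fun _ => ℕ) (Bool.rec (motive := fun _ => ℕ) (lgeN158 c) (lgeN162 c) (Nat.ble 370 c)) (Bool.rec (motive := fun _ => ℕ) (lgeN166 c) (lgeN170 c) (Nat.ble 390 c)) (Nat.ble 380 c))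

def lgeN172 (c : ℕ) : ℕ := (Bool.rec (motive := fun _ => ℕ) lgeC400 (Bool.rec (motive := fun _ => ℕ) lgeC401 lgeC402 (Nat.ble 402 c)) (Nat.ble 401 c))

def lgeN173 (c : ℕ) : ℕ := (Bool.rec (motive := fun _ => ℕ) lgeC403 (Bool.rec (motive := fun _ => ℕ) lgeC404 lgeC405 (Nat.ble 405 c)) (Nat.ble 404 c))

def lgeN174 (c : ℕ) : ℕ := (Bool.rec (motive := fun _ => ℕ) lgeC406 (Bool.rec (motive := fun _ => ℕ) lgeC407 lgeC408 (Nat.ble 408 c)) (Nat.ble 407 c))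

def lgeN175 (c : ℕ) : ℕ := (Bool.rec (motive := fun _ => ℕ) (Bool.rec (motive := fun _ => ℕ) (lgeN172 c) (lgeN173 c) (Nat.ble 403 c)) (Bool.rec (motive := fun _ => ℕ) (lgeN174 c) lgeC409 (Nat.ble 409 c)) (Nat.ble 406 c))

def lgeN176 (c : ℕ) : ℕ := (Bool.rec (motive := fun _ => ℕ) lgeC410 (Bool.rec (motive := fun _ => ℕ) lgeC411 lgeC412 (Nat.ble 412 c)) (Nat.ble 411 c))

def lgeN177 (c : ℕ) : ℕ := (Bool.rec (motive := fun _ => ℕ) lgeC413 (Bool.rec (motive := fun _ => ℕ) lgeC414 lgeC415 (Nat.ble 415 c)) (Nat.ble 414 c))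

def lgeN178 (c : ℕ) : ℕ := (Bool.rec (motive := fun _ => ℕ) lgeC416 (Bool.rec (motive := fun _ => ℕ) lgeC417 lgeC418 (Nat.ble 418 c)) (Nat.ble 417 c))

def lgeN179 (c : ℕ) : ℕ := (Bool.rec (motive := fun _ => ℕ) (Bool.rec (motive := fun _ => ℕ) (lgeN176 c) (lgeN177 c) (Nat.ble 413 c)) (Bool.rec (motive := fun _ => ℕ) (lgeN178 c) lgeC419 (Nat.ble 419 c)) (Nat.ble 416 c))

def lgeN180 (c : ℕ) : ℕ := (Bool.rec (motive := fun _ => ℕ) lgeC420 (Bool.rec (motive := fun _ => ℕ) lgeC421 lgeC422 (Nat.ble 422 c)) (Nat.ble 421 c))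

def lgeN181 (c : ℕ) : ℕ := (Bool.rec (motive := fun _ => ℕ) lgeC423 (Bool.rec (motive := fun _ => ℕ) lgeC424 lgeC425 (Nat.ble 425 c)) (Nat.ble 424 c))

def lgeN182 (c : ℕ) : ℕ := (Bool.rec (motive := fun _ => ℕ) lgeC426 (Bool.rec (motive := fun _ => ℕ) lgeC427 lgeC428 (Nat.ble 428 c)) (Nat.ble 427 c))

def lgeN183 (c : ℕ) : ℕ := (Bool.rec (motive := fun _ => ℕ) (Bool.rec (motive := fun _ => ℕ) (lgeN180 c) (lgeN181 c) (Nat.ble 423 c)) (Bool.rec (motive := fun _ => ℕ) (lgeN182 c) lgeC429 (Nat.ble 429 c)) (Nat.ble 426 c))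

def lgeN184 (c : ℕ) : ℕ := (Bool.rec (motive := fun _ => ℕ) lgeC430 (Bool.rec (motive := fun _ => ℕ) lgeC431 lgeC432 (Nat.ble 432 c)) (Nat.ble 431 c))

def lgeN185 (c : ℕ) : ℕ := (Bool.rec (motive := fun _ => ℕ) lgeC433 (Bool.rec (motive := fun _ => ℕ) lgeC434 lgeC435 (Nat.ble 435 c)) (Nat.ble 434 c))

def lgeN186 (c : ℕ) : ℕ := (Bool.rec (motive := fun _ => ℕ) lgeC436 (Bool.rec (motive := fun _ => ℕ) lgeC437 lgeC438 (Nat.ble 438 c)) (Nat.ble 437 c))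

def lgeN187 (c : ℕ) : ℕ := (Bool.rec (motive := fun _ => ℕ) (Bool.rec (motive := fun _ => ℕ) (lgeN184 c) (lgeN185 c) (Nat.ble 433 c)) (Bool.rec (motive := fun _ => ℕ) (lgeN186 c) lgeC439 (Nat.ble 439 c)) (Nat.ble 436 c))

def lgeN188 (c : ℕ) : ℕ := (Bool.rec (motive := fun _ => ℕ) (Bool.rec (motive := fun _ => ℕ) (lgeN175 c) (lgeN179 c) (Nat.ble 410 c)) (Bool.rec (motive := fun _ => ℕ) (lgeN183 c) (lgeN187 c) (Nat.ble 430 c)) (Nat.ble 420 c))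

def lgeN189 (c : ℕ) : ℕ := (Bool.rec (motive := fun _ => ℕ) lgeC440 (Bool.rec (motive := fun _ => ℕ) lgeC441 lgeC442 (Nat.ble 442 c)) (Nat.ble 441 c))

def lgeN190 (c : ℕ) : ℕ := (Bool.rec (motive := fun _ => ℕ) lgeC443 (Bool.rec (motive := fun _ => ℕ) lgeC444 lgeC445 (Nat.ble 445 c)) (Nat.ble 444 c))

def lgeN191 (c : ℕ) : ℕ := (Bool.rec (motive := fun _ => ℕ) lgeC446 (Bool.rec (motive := fun _ => ℕ) lgeC447 lgeC448 (Nat.ble 448 c)) (Nat.ble 447 c))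

def lgeN192 (c : ℕ) : ℕ := (Bool.rec (motive := fun _ => ℕ) (Bool.rec (motive := fun _ => ℕ) (lgeN189 c) (lgeN190 c) (Nat.ble 443 c)) (Bool.rec (motive := fun _ => ℕ) (lgeN191 c) lgeC449 (Nat.ble 449 c)) (Nat.ble 446 c))

def lgeN193 (c : ℕ) : ℕ := (Bool.rec (motive := fun _ => ℕ) lgeC450 (Bool.rec (motive := fun _ => ℕ) lgeC451 lgeC452 (Nat.ble 452 c)) (Nat.ble 451 c))

def lgeN194 (c : ℕ) : ℕ := (Bool.rec (motive := fun _ => ℕ) lgeC453 (Bool.rec (motive := fun _ => ℕ) lgeC454 lgeC455 (Nat.ble 455 c)) (Nat.ble 454 c))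

def lgeN195 (c : ℕ) : ℕ := (Bool.rec (motive := fun _ => ℕ) lgeC456 (Bool.rec (motive := fun _ => ℕ) lgeC457 lgeC458 (Nat.ble 458 c)) (Nat.ble 457 c))

def lgeN196 (c : ℕ) : ℕ := (Bool.rec (motive := fun _ => ℕ) (Bool.rec (motive := fun _ => ℕ) (lgeN193 c) (lgeN194 c) (Nat.ble 453 c)) (Bool.rec (motive := fun _ => ℕ) (lgeN195 c) lgeC459 (Nat.ble 459 c)) (Nat.ble 456 c))

def lgeN197 (c : ℕ) : ℕ := (Bool.rec (motive := fun _ => ℕ) lgeC460 (Bool.rec (motive := fun _ => ℕ) lgeC461 lgeC462 (Nat.ble 462 c)) (Nat.ble 461 c))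

def lgeN198 (c : ℕ) : ℕ := (Bool.rec (motive := fun _ => ℕ) lgeC463 (Bool.rec (motive := fun _ => ℕ) lgeC464 lgeC465 (Nat.ble 465 c)) (Nat.ble 464 c))

def lgeN199 (c : ℕ) : ℕ := (Bool.rec (motive := fun _ => ℕ) lgeC466 (Bool.rec (motive := fun _ => ℕ) lgeC467 lgeC468 (Nat.ble 468 c)) (Nat.ble 467 c))

def lgeN200 (c : ℕ) : ℕ := (Bool.rec (motive := fun _ => ℕ) (Bool.rec (motive := fun _ => ℕ) (lgeN197 c) (lgeN198 c) (Nat.ble 463 c)) (Bool.rec (motive := fun _ => ℕ) (lgeN199 c) lgeC469 (Nat.ble 469 c)) (Nat.ble 466 c))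

def lgeN201 (c : ℕ) : ℕ := (Bool.rec (motive := fun _ => ℕ) lgeC470 (Bool.rec (motive := fun _ => ℕ) lgeC471 lgeC472 (Nat.ble 472 c)) (Nat.ble 471 c))

def lgeN202 (c : ℕ) : ℕ := (Bool.rec (motive := fun _ => ℕ) lgeC473 (Bool.rec (motive := fun _ => ℕ) lgeC474 lgeC475 (Nat.ble 475 c)) (Nat.ble 474 c))

def lgeN203 (c : ℕ) : ℕ := (Bool.rec (motive := fun _ => ℕ) lgeC476 (Bool.rec (motive := fun _ => ℕ) lgeC477 lgeC478 (Nat.ble 478 c)) (Nat.ble 477 c))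

def lgeN204 (c : ℕ) : ℕ := (Bool.rec (motive := fun _ => ℕ) (Bool.rec (motive := fun _ => ℕ) (lgeN201 c) (lgeN202 c) (Nat.ble 473 c)) (Bool.rec (motive := fun _ => ℕ) (lgeN203 c) lgeC479 (Nat.ble 479 c)) (Nat.ble 476 c))

def lgeN205 (c : ℕ) : ℕ := (Bool.rec (motive := fun _ => ℕ) (Bool.rec (motive := fun _ => ℕ) (lgeN192 c) (lgeN196 c) (Nat.ble 450 c)) (Bool.rec (motive := fun _ => ℕ) (lgeN200 c) (lgeN204 c) (Nat.ble 470 c)) (Nat.ble 460 c))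

def lgeN206 (c : ℕ) : ℕ := (Bool.rec (motive := fun _ => ℕ) (Bool.rec (motive := fun _ => ℕ) (lgeN154 c) (lgeN171 c) (Nat.ble 360 c)) (Bool.rec (motive := fun _ => ℕ) (lgeN188 c) (lgeN205 c) (Nat.ble 440 c)) (Nat.ble 400 c))

def lgeN207 (c : ℕ) : ℕ := (Bool.rec (motive := fun _ => ℕ) lgeC480 (Bool.rec (motive := fun _ => ℕ) lgeC481 lgeC482 (Nat.ble 482 c)) (Nat.ble 481 c))

def lgeN208 (c : ℕ) : ℕ := (Bool.rec (motive := fun _ => ℕ) lgeC483 (Bool.rec (motive := fun _ => ℕ) lgeC484 lgeC485 (Nat.ble 485 c)) (Nat.ble 484 c))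

def lgeN209 (c : ℕ) : ℕ := (Bool.rec (motive := fun _ => ℕ) lgeC486 (Bool.rec (motive := fun _ => ℕ) lgeC487 lgeC488 (Nat.ble 488 c)) (Nat.ble 487 c))

def lgeN210 (c : ℕ) : ℕ := (Bool.rec (motive := fun _ => ℕ) (Bool.rec (motive := fun _ => ℕ) (lgeN207 c) (lgeN208 c) (Nat.ble 483 c)) (Bool.rec (motive := fun _ => ℕ) (lgeN209 c) lgeC489 (Nat.ble 489 c)) (Nat.ble 486 c))

def lgeN211 (c : ℕ) : ℕ := (Bool.rec (motive := fun _ => ℕ) lgeC490 (Bool.rec (motive := fun _ => ℕ) lgeC491 lgeC492 (Nat.ble 492 c)) (Nat.ble 491 c))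

def lgeN212 (c : ℕ) : ℕ := (Bool.rec (motive := fun _ => ℕ) lgeC493 (Bool.rec (motive := fun _ => ℕ) lgeC494 lgeC495 (Nat.ble 495 c)) (Nat.ble 494 c))

def lgeN213 (c : ℕ) : ℕ := (Bool.rec (motive := fun _ => ℕ) lgeC496 (Bool.rec (motive := fun _ => ℕ) lgeC497 lgeC498 (Nat.ble 498 c)) (Nat.ble 497 c))

def lgeN214 (c : ℕ) : ℕ := (Bool.rec (motive := fun _ => ℕ) (Bool.rec (motive := fun _ => ℕ) (lgeN211 c) (lgeN212 c) (Nat.ble 493 c)) (Bool.rec (motive := fun _ => ℕ) (lgeN213 c) lgeC499 (Nat.ble 499 c)) (Nat.ble 496 c))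

def lgeN215 (c : ℕ) : ℕ := (Bool.rec (motive := fun _ => ℕ) lgeC500 (Bool.rec (motive := fun _ => ℕ) lgeC501 lgeC502 (Nat.ble 502 c)) (Nat.ble 501 c))

def lgeN216 (c : ℕ) : ℕ := (Bool.rec (motive := fun _ => ℕ) lgeC503 (Bool.rec (motive := fun _ => ℕ) lgeC504 lgeC505 (Nat.ble 505 c)) (Nat.ble 504 c))

def lgeN217 (c : ℕ) : ℕ := (Bool.rec (motive := fun _ => ℕ) lgeC506 (Bool.rec (motive := fun _ => ℕ) lgeC507 lgeC508 (Nat.ble 508 c)) (Nat.ble 507 c))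

def lgeN218 (c : ℕ) : ℕ := (Bool.rec (motive := fun _ => ℕ) (Bool.rec (motive := fun _ => ℕ) (lgeN215 c) (lgeN216 c) (Nat.ble 503 c)) (Bool.rec (motive := fun _ => ℕ) (lgeN217 c) lgeC509 (Nat.ble 509 c)) (Nat.ble 506 c))

def lgeN219 (c : ℕ) : ℕ := (Bool.rec (motive := fun _ => ℕ) lgeC510 (Bool.rec (motive := fun _ => ℕ) lgeC511 lgeC512 (Nat.ble 512 c)) (Nat.ble 511 c))

def lgeN220 (c : ℕ) : ℕ := (Bool.rec (motive := fun _ => ℕ) lgeC513 (Bool.rec (motive := fun _ => ℕ) lgeC514 lgeC515 (Nat.ble 515 c)) (Nat.ble 514 c))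

def lgeN221 (c : ℕ) : ℕ := (Bool.rec (motive := fun _ => ℕ) lgeC516 (Bool.rec (motive := fun _ => ℕ) lgeC517 lgeC518 (Nat.ble 518 c)) (Nat.ble 517 c))

def lgeN222 (c : ℕ) : ℕ := (Bool.rec (motive := fun _ => ℕ) (Bool.rec (motive := fun _ => ℕ) (lgeN219 c) (lgeN220 c) (Nat.ble 513 c)) (Bool.rec (motive := fun _ => ℕ) (lgeN221 c) lgeC519 (Nat.ble 519 c)) (Nat.ble 516 c))

def lgeN223 (c : ℕ) : ℕ := (Bool.rec (motive := fun _ => ℕ) (Bool.rec (motive := fun _ => ℕ) (lgeN210 c) (lgeN214 c) (Nat.ble 490 c)) (Bool.rec (motive := fun _ => ℕ) (lgeN218 c) (lgeN222 c) (Nat.ble 510 c)) (Nat.ble 500 c))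

def lgeN224 (c : ℕ) : ℕ := (Bool.rec (motive := fun _ => ℕ) lgeC520 (Bool.rec (motive := fun _ => ℕ) lgeC521 lgeC522 (Nat.ble 522 c)) (Nat.ble 521 c))

def lgeN225 (c : ℕ) : ℕ := (Bool.rec (motive := fun _ => ℕ) lgeC523 (Bool.rec (motive := fun _ => ℕ) lgeC524 lgeC525 (Nat.ble 525 c)) (Nat.ble 524 c))

def lgeN226 (c : ℕ) : ℕ := (Bool.rec (motive := fun _ => ℕ) lgeC526 (Bool.rec (motive := fun _ => ℕ) lgeC527 lgeC528 (Nat.ble 528 c)) (Nat.ble 527 c))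

def lgeN227 (c : ℕ) : ℕ := (Bool.rec (motive := fun _ => ℕ) (Bool.rec (motive := fun _ => ℕ) (lgeN224 c) (lgeN225 c) (Nat.ble 523 c)) (Bool.rec (motive := fun _ => ℕ) (lgeN226 c) lgeC529 (Nat.ble 529 c)) (Nat.ble 526 c))

def lgeN228 (c : ℕ) : ℕ := (Bool.rec (motive := fun _ => ℕ) lgeC530 (Bool.rec (motive := fun _ => ℕ) lgeC531 lgeC532 (Nat.ble 532 c)) (Nat.ble 531 c))

def lgeN229 (c : ℕ) : ℕ := (Bool.rec (motive := fun _ => ℕ) lgeC533 (Bool.rec (motive := fun _ => ℕ) lgeC534 lgeC535 (Nat.ble 535 c)) (Nat.ble 534 c))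

def lgeN230 (c : ℕ) : ℕ := (Bool.rec (motive := fun _ => ℕ) lgeC536 (Bool.rec (motive := fun _ => ℕ) lgeC537 lgeC538 (Nat.ble 538 c)) (Nat.ble 537 c))

def lgeN231 (c : ℕ) : ℕ := (Bool.rec (motive := fun _ => ℕ) (Bool.rec (motive := fun _ => ℕ) (lgeN228 c) (lgeN229 c) (Nat.ble 533 c)) (Bool.rec (motive := fun _ => ℕ) (lgeN230 c) lgeC539 (Nat.ble 539 c)) (Nat.ble 536 c))

def lgeN232 (c : ℕ) : ℕ := (Bool.rec (motive := fun _ => ℕ) lgeC540 (Bool.rec (motive := fun _ => ℕ) lgeC541 lgeC542 (Nat.ble 542 c)) (Nat.ble 541 c))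

def lgeN233 (c : ℕ) : ℕ := (Bool.rec (motive := fun _ => ℕ) lgeC543 (Bool.rec (motive := fun _ => ℕ) lgeC544 lgeC545 (Nat.ble 545 c)) (Nat.ble 544 c))

def lgeN234 (c : ℕ) : ℕ := (Bool.rec (motive := fun _ => ℕ) lgeC546 (Bool.rec (motive := fun _ => ℕ) lgeC547 lgeC548 (Nat.ble 548 c)) (Nat.ble 547 c))

def lgeN235 (c : ℕ) : ℕ := (Bool.rec (motive := fun _ => ℕ) (Bool.rec (motive := fun _ => ℕ) (lgeN232 c) (lgeN233 c) (Nat.ble 543 c)) (Bool.rec (motive := fun _ => ℕ) (lgeN234 c) lgeC549 (Nat.ble 549 c)) (Nat.ble 546 c))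

def lgeN236 (c : ℕ) : ℕ := (Bool.rec (motive := fun _ => ℕ) lgeC550 (Bool.rec (motive := fun _ => ℕ) lgeC551 lgeC552 (Nat.ble 552 c)) (Nat.ble 551 c))

def lgeN237 (c : ℕ) : ℕ := (Bool.rec (motive := fun _ => ℕ) lgeC553 (Bool.rec (motive := fun _ => ℕ) lgeC554 lgeC555 (Nat.ble 555 c)) (Nat.ble 554 c))

def lgeN238 (c : ℕ) : ℕ := (Bool.rec (motive := fun _ => ℕ) lgeC556 (Bool.rec (motive := fun _ => ℕ) lgeC557 lgeC558 (Nat.ble 558 c)) (Nat.ble 557 c))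

def lgeN239 (c : ℕ) : ℕ := (Bool.rec (motive := fun _ => ℕ) (Bool.rec (motive := fun _ => ℕ) (lgeN236 c) (lgeN237 c) (Nat.ble 553 c)) (Bool.rec (motive := fun _ => ℕ) (lgeN238 c) lgeC559 (Nat.ble 559 c)) (Nat.ble 556 c))

def lgeN240 (c : ℕ) : ℕ := (Bool.rec (motive := fun _ => ℕ) (Bool.rec (motive := fun _ => ℕ) (lgeN227 c) (lgeN231 c) (Nat.ble 530 c)) (Bool.rec (motive := fun _ => ℕ) (lgeN235 c) (lgeN239 c) (Nat.ble 550 c)) (Nat.ble 540 c))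

def lgeN241 (c : ℕ) : ℕ := (Bool.rec (motive := fun _ => ℕ) lgeC560 (Bool.rec (motive := fun _ => ℕ) lgeC561 lgeC562 (Nat.ble 562 c)) (Nat.ble 561 c))

def lgeN242 (c : ℕ) : ℕ := (Bool.rec (motive := fun _ => ℕ) lgeC563 (Bool.rec (motive := fun _ => ℕ) lgeC564 lgeC565 (Nat.ble 565 c)) (Nat.ble 564 c))

def lgeN243 (c : ℕ) : ℕ := (Bool.rec (motive := fun _ => ℕ) lgeC566 (Bool.rec (motive := fun _ => ℕ) lgeC567 lgeC568 (Nat.ble 568 c)) (Nat.ble 567 c))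

def lgeN244 (c : ℕ) : ℕ := (Bool.rec (motive := fun _ => ℕ) (Bool.rec (motive := fun _ => ℕ) (lgeN241 c) (lgeN242 c) (Nat.ble 563 c)) (Bool.rec (motive := fun _ => ℕ) (lgeN243 c) lgeC569 (Nat.ble 569 c)) (Nat.ble 566 c))

def lgeN245 (c : ℕ) : ℕ := (Bool.rec (motive := fun _ => ℕ) lgeC570 (Bool.rec (motive := fun _ => ℕ) lgeC571 lgeC572 (Nat.ble 572 c)) (Nat.ble 571 c))

def lgeN246 (c : ℕ) : ℕ := (Bool.rec (motive := fun _ => ℕ) lgeC573 (Bool.rec (motive := fun _ => ℕ) lgeC574 lgeC575 (Nat.ble 575 c)) (Nat.ble 574 c))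

def lgeN247 (c : ℕ) : ℕ := (Bool.rec (motive := fun _ => ℕ) lgeC576 (Bool.rec (motive := fun _ => ℕ) lgeC577 lgeC578 (Nat.ble 578 c)) (Nat.ble 577 c))

def lgeN248 (c : ℕ) : ℕ := (Bool.rec (motive := fun _ => ℕ) (Bool.rec (motive := fun _ => ℕ) (lgeN245 c) (lgeN246 c) (Nat.ble 573 c)) (Bool.rec (motive := fun _ => ℕ) (lgeN247 c) lgeC579 (Nat.ble 579 c)) (Nat.ble 576 c))

def lgeN249 (c : ℕ) : ℕ := (Bool.rec (motive := fun _ => ℕ) lgeC580 (Bool.rec (motive := fun _ => ℕ) lgeC581 lgeC582 (Nat.ble 582 c)) (Nat.ble 581 c))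

def lgeN250 (c : ℕ) : ℕ := (Bool.rec (motive := fun _ => ℕ) lgeC583 (Bool.rec (motive := fun _ => ℕ) lgeC584 lgeC585 (Nat.ble 585 c)) (Nat.ble 584 c))

def lgeN251 (c : ℕ) : ℕ := (Bool.rec (motive := fun _ => ℕ) lgeC586 (Bool.rec (motive := fun _ => ℕ) lgeC587 lgeC588 (Nat.ble 588 c)) (Nat.ble 587 c))

def lgeN252 (c : ℕ) : ℕ := (Bool.rec (motive := fun _ => ℕ) (Bool.rec (motive := fun _ => ℕ) (lgeN249 c) (lgeN250 c) (Nat.ble 583 c)) (Bool.rec (motive := fun _ => ℕ) (lgeN251 c) lgeC589 (Nat.ble 589 c)) (Nat.ble 586 c))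

def lgeN253 (c : ℕ) : ℕ := (Bool.rec (motive := fun _ => ℕ) lgeC590 (Bool.rec (motive := fun _ => ℕ) lgeC591 lgeC592 (Nat.ble 592 c)) (Nat.ble 591 c))

def lgeN254 (c : ℕ) : ℕ := (Bool.rec (motive := fun _ => ℕ) lgeC593 (Bool.rec (motive := fun _ => ℕ) lgeC594 lgeC595 (Nat.ble 595 c)) (Nat.ble 594 c))

def lgeN255 (c : ℕ) : ℕ := (Bool.rec (motive := fun _ => ℕ) lgeC596 (Bool.rec (motive := fun _ => ℕ) lgeC597 lgeC598 (Nat.ble 598 c)) (Nat.ble 597 c))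

def lgeN256 (c : ℕ) : ℕ := (Bool.rec (motive := fun _ => ℕ) (Bool.rec (motive := fun _ => ℕ) (lgeN253 c) (lgeN254 c) (Nat.ble 593 c)) (Bool.rec (motive := fun _ => ℕ) (lgeN255 c) lgeC599 (Nat.ble 599 c)) (Nat.ble 596 c))

def lgeN257 (c : ℕ) : ℕ := (Bool.rec (motive := fun _ => ℕ) (Bool.rec (motive := fun _ => ℕ) (lgeN244 c) (lgeN248 c) (Nat.ble 570 c)) (Bool.rec (motive := fun _ => ℕ) (lgeN252 c) (lgeN256 c) (Nat.ble 590 c)) (Nat.ble 580 c))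

def lgeN258 (c : ℕ) : ℕ := (Bool.rec (motive := fun _ => ℕ) lgeC600 (Bool.rec (motive := fun _ => ℕ) lgeC601 lgeC602 (Nat.ble 602 c)) (Nat.ble 601 c))

def lgeN259 (c : ℕ) : ℕ := (Bool.rec (motive := fun _ => ℕ) lgeC603 (Bool.rec (motive := fun _ => ℕ) lgeC604 lgeC605 (Nat.ble 605 c)) (Nat.ble 604 c))

def lgeN260 (c : ℕ) : ℕ := (Bool.rec (motive := fun _ => ℕ) lgeC606 (Bool.rec (motive := fun _ => ℕ) lgeC607 lgeC608 (Nat.ble 608 c)) (Nat.ble 607 c))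

def lgeN261 (c : ℕ) : ℕ := (Bool.rec (motive := fun _ => ℕ) (Bool.rec (motive := fun _ => ℕ) (lgeN258 c) (lgeN259 c) (Nat.ble 603 c)) (Bool.rec (motive := fun _ => ℕ) (lgeN260 c) lgeC609 (Nat.ble 609 c)) (Nat.ble 606 c))

def lgeN262 (c : ℕ) : ℕ := (Bool.rec (motive := fun _ => ℕ) lgeC610 (Bool.rec (motive := fun _ => ℕ) lgeC611 lgeC612 (Nat.ble 612 c)) (Nat.ble 611 c))

def lgeN263 (c : ℕ) : ℕ := (Bool.rec (motive := fun _ => ℕ) lgeC613 (Bool.rec (motive := fun _ => ℕ) lgeC614 lgeC615 (Nat.ble 615 c)) (Nat.ble 614 c))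

def lgeN264 (c : ℕ) : ℕ := (Bool.rec (motive := fun _ => ℕ) lgeC616 (Bool.rec (motive := fun _ => ℕ) lgeC617 lgeC618 (Nat.ble 618 c)) (Nat.ble 617 c))

def lgeN265 (c : ℕ) : ℕ := (Bool.rec (motive := fun _ => ℕ) (Bool.rec (motive := fun _ => ℕ) (lgeN262 c) (lgeN263 c) (Nat.ble 613 c)) (Bool.rec (motive := fun _ => ℕ) (lgeN264 c) lgeC619 (Nat.ble 619 c)) (Nat.ble 616 c))

def lgeN266 (c : ℕ) : ℕ := (Bool.rec (motive := fun _ => ℕ) lgeC620 (Bool.rec (motive := fun _ => ℕ) lgeC621 lgeC622 (Nat.ble 622 c)) (Nat.ble 621 c))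

def lgeN267 (c : ℕ) : ℕ := (Bool.rec (motive := fun _ => ℕ) lgeC623 (Bool.rec (motive := fun _ => ℕ) lgeC624 lgeC625 (Nat.ble 625 c)) (Nat.ble 624 c))

def lgeN268 (c : ℕ) : ℕ := (Bool.rec (motive := fun _ => ℕ) lgeC626 (Bool.rec (motive := fun _ => ℕ) lgeC627 lgeC628 (Nat.ble 628 c)) (Nat.ble 627 c))

def lgeN269 (c : ℕ) : ℕ := (Bool.rec (motive := fun _ => ℕ) (Bool.rec (motive := fun _ => ℕ) (lgeN266 c) (lgeN267 c) (Nat.ble 623 c)) (Bool.rec (motive := fun _ => ℕ) (lgeN268 c) lgeC629 (Nat.ble 629 c)) (Nat.ble 626 c))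

def lgeN270 (c : ℕ) : ℕ := (Bool.rec (motive := fun _ => ℕ) lgeC630 (Bool.rec (motive := fun _ => ℕ) lgeC631 lgeC632 (Nat.ble 632 c)) (Nat.ble 631 c))

def lgeN271 (c : ℕ) : ℕ := (Bool.rec (motive := fun _ => ℕ) lgeC633 (Bool.rec (motive := fun _ => ℕ) lgeC634 lgeC635 (Nat.ble 635 c)) (Nat.ble 634 c))

def lgeN272 (c : ℕ) : ℕ := (Bool.rec (motive := fun _ => ℕ) lgeC636 (Bool.rec (motive := fun _ => ℕ) lgeC637 lgeC638 (Nat.ble 638 c)) (Nat.ble 637 c))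

def lgeN273 (c : ℕ) : ℕ := (Bool.rec (motive := fun _ => ℕ) (lgeN270 c) (Bool.rec (motive := fun _ => ℕ) (lgeN271 c) (lgeN272 c) (Nat.ble 636 c)) (Nat.ble 633 c))

def lgeN274 (c : ℕ) : ℕ := (Bool.rec (motive := fun _ => ℕ) (Bool.rec (motive := fun _ => ℕ) (lgeN261 c) (lgeN265 c) (Nat.ble 610 c)) (Bool.rec (motive := fun _ => ℕ) (lgeN269 c) (lgeN273 c) (Nat.ble 630 c)) (Nat.ble 620 c))

def lgeN275 (c : ℕ) : ℕ := (Bool.rec (motive := fun _ => ℕ) (Bool.rec (motive := fun _ => ℕ) (lgeN223 c) (lgeN240 c) (Nat.ble 520 c)) (Bool.rec (motive := fun _ => ℕ) (lgeN257 c) (lgeN274 c) (Nat.ble 600 c)) (Nat.ble 560 c))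

def lgeN276 (c : ℕ) : ℕ := (Bool.rec (motive := fun _ => ℕ) (Bool.rec (motive := fun _ => ℕ) (lgeN68 c) (lgeN137 c) (Nat.ble 160 c)) (Bool.rec (motive := fun _ => ℕ) (lgeN206 c) (lgeN275 c) (Nat.ble 480 c)) (Nat.ble 320 c))

def lgeSel (c : ℕ) : ℕ := (lgeN276 c)

def lgeRaw (u : ℕ) : ℕ :=
  Nat.land (Nat.shiftRight (strict lgeSel (Nat.shiftRight u 10)) (Nat.mul 64 (Nat.land u 1023))) 18446744073709551615

def lge (u : ℕ) : ℕ := strict lgeRaw u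

def repN0 (c : ℕ) : ℕ := (Bool.rec (motive := fun _ => ℕ) repC0 repC1 (Nat.ble 1 c))

def repN1 (c : ℕ) : ℕ := (Bool.rec (motive := fun _ => ℕ) repC2 repC3 (Nat.ble 3 c))

def repN2 (c : ℕ) : ℕ := (Bool.rec (motive := fun _ => ℕ) repC4 repC5 (Nat.ble 5 c))

def repN3 (c : ℕ) : ℕ := (Bool.rec (motive := fun _ => ℕ) repC6 repC7 (Nat.ble 7 c))

def repN4 (c : ℕ) : ℕ := (Bool.rec (motive := fun _ => ℕ) (Bool.rec (motive := fun _ => ℕ) (repN0 c) (repN1 c) (Nat.ble 2 c)) (Bool.rec (motive := fun _ => ℕ) (repN2 c) (repN3 c) (Nat.ble 6 c)) (Nat.ble 4 c))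

def repN5 (c : ℕ) : ℕ := (Bool.rec (motive := fun _ => ℕ) repC8 repC9 (Nat.ble 9 c))

def repN6 (c : ℕ) : ℕ := (Bool.rec (motive := fun _ => ℕ) repC10 repC11 (Nat.ble 11 c))

def repN7 (c : ℕ) : ℕ := (Bool.rec (motive := fun _ => ℕ) repC12 repC13 (Nat.ble 13 c))

def repN8 (c : ℕ) : ℕ := (Bool.rec (motive := fun _ => ℕ) repC14 repC15 (Nat.ble 15 c))

def repN9 (c : ℕ) : ℕ := (Bool.rec (motive := fun _ => ℕ) (Bool.rec (motive := fun _ => ℕ) (repN5 c) (repN6 c) (Nat.ble 10 c)) (Bool.rec (motive := fun _ => ℕ) (repN7 c) (repN8 c) (Nat.ble 14 c)) (Nat.ble 12 c))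

def repN10 (c : ℕ) : ℕ := (Bool.rec (motive := fun _ => ℕ) repC16 repC17 (Nat.ble 17 c))

def repN11 (c : ℕ) : ℕ := (Bool.rec (motive := fun _ => ℕ) repC18 repC19 (Nat.ble 19 c))

def repN12 (c : ℕ) : ℕ := (Bool.rec (motive := fun _ => ℕ) repC20 repC21 (Nat.ble 21 c))

def repN13 (c : ℕ) : ℕ := (Bool.rec (motive := fun _ => ℕ) repC22 repC23 (Nat.ble 23 c))

def repN14 (c : ℕ) : ℕ := (Bool.rec (motive := fun _ => ℕ) (Bool.rec (motive := fun _ => ℕ) (repN10 c) (repN11 c) (Nat.ble 18 c)) (Bool.rec (motive := fun _ => ℕ) (repN12 c) (repN13 c) (Nat.ble 22 c)) (Nat.ble 20 c))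

def repN15 (c : ℕ) : ℕ := (Bool.rec (motive := fun _ => ℕ) repC24 repC25 (Nat.ble 25 c))

def repN16 (c : ℕ) : ℕ := (Bool.rec (motive := fun _ => ℕ) repC26 repC27 (Nat.ble 27 c))

def repN17 (c : ℕ) : ℕ := (Bool.rec (motive := fun _ => ℕ) repC28 repC29 (Nat.ble 29 c))

def repN18 (c : ℕ) : ℕ := (Bool.rec (motive := fun _ => ℕ) (Bool.rec (motive := fun _ => ℕ) (repN15 c) (repN16 c) (Nat.ble 26 c)) (Bool.rec (motive := fun _ => ℕ) (repN17 c) repC30 (Nat.ble 30 c)) (Nat.ble 28 c))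

def repN19 (c : ℕ) : ℕ := (Bool.rec (motive := fun _ => ℕ) (Bool.rec (motive := fun _ => ℕ) (repN4 c) (repN9 c) (Nat.ble 8 c)) (Bool.rec (motive := fun _ => ℕ) (repN14 c) (repN18 c) (Nat.ble 24 c)) (Nat.ble 16 c))

def repSel (c : ℕ) : ℕ := (repN19 c)

def repRaw (u : ℕ) : ℕ :=
  Nat.land (Nat.shiftRight (strict repSel (Nat.shiftRight u 10)) (Nat.mul 20 (Nat.land u 1023))) 1048575

def rep (u : ℕ) : ℕ := strict repRaw u

def par (v : ℕ) : ℕ := Nat.land (ent v) 1048575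

def lab (v : ℕ) : ℕ := Nat.land (Nat.shiftRight (ent v) 20) 15

def cb (v : ℕ) : ℕ := Nat.land (Nat.shiftRight (ent v) 24) 1048575

def link (v : ℕ) : ℕ := Nat.land (Nat.shiftRight (ent v) 44) 1048575

def lt1 (v : ℕ) : ℕ := Nat.shiftRight (ent v) 64

def logw (i : ℕ) : ℕ := Nat.land (lge i) 65535

def logc (i : ℕ) : ℕ := Nat.land (Nat.shiftRight (lge i) 16) 1048575

def logb (i : ℕ) : ℕ := Nat.shiftRight (lge i) 36

def rwords : List (List (List ℕ)) := [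
  [[0, 0], [0, 1, 0, 1, 0, 1], [1, 0, 1, 0, 1, 0], [0, 2, 0, 2], [2, 0, 2, 0], [0, 3, 0, 3], [3, 0, 3, 0], [0, 4, 0, 4], [4, 0, 4, 0], [0, 5, 0, 5], [5, 0, 5, 0], [0, 6, 0, 6], [6, 0, 6, 0], [0, 7, 0, 7, 0, 7], [7, 0, 7, 0, 7, 0], [0, 8, 0, 8]],
  [[8, 0, 8, 0], [0, 9, 0, 9], [9, 0, 9, 0], [1, 1], [1, 2, 1, 2, 1, 2], [2, 1, 2, 1, 2, 1], [1, 3, 1, 3, 1, 3], [3, 1, 3, 1, 3, 1], [1, 4, 1, 4], [4, 1, 4, 1], [1, 5, 1, 5], [5, 1, 5, 1], [1, 6, 1, 6], [6, 1, 6, 1], [1, 7, 1, 7], [7, 1, 7, 1]],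
  [[1, 8, 1, 8], [8, 1, 8, 1], [1, 9, 1, 9], [9, 1, 9, 1], [2, 2], [2, 3, 2, 3], [3, 2, 3, 2], [2, 4, 2, 4, 2, 4], [4, 2, 4, 2, 4, 2], [2, 5, 2, 5], [5, 2, 5, 2], [2, 6, 2, 6], [6, 2, 6, 2], [2, 7, 2, 7], [7, 2, 7, 2], [2, 8, 2, 8]],
  [[8, 2, 8, 2], [2, 9, 2, 9], [9, 2, 9, 2], [3, 3], [3, 4, 3, 4], [4, 3, 4, 3], [3, 5, 3, 5, 3, 5], [5, 3, 5, 3, 5, 3], [3, 6, 3, 6], [6, 3, 6, 3], [3, 7, 3, 7], [7, 3, 7, 3], [3, 8, 3, 8], [8, 3, 8, 3], [3, 9, 3, 9], [9, 3, 9, 3]],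
  [[4, 4], [4, 5, 4, 5], [5, 4, 5, 4], [4, 6, 4, 6], [6, 4, 6, 4], [4, 7, 4, 7], [7, 4, 7, 4], [4, 8, 4, 8, 4, 8], [8, 4, 8, 4, 8, 4], [4, 9, 4, 9], [9, 4, 9, 4], [5, 5], [5, 6, 5, 6, 5, 6], [6, 5, 6, 5, 6, 5], [5, 7, 5, 7], [7, 5, 7, 5]],
  [[5, 8, 5, 8], [8, 5, 8, 5], [5, 9, 5, 9], [9, 5, 9, 5], [6, 6], [6, 7, 6, 7], [7, 6, 7, 6], [6, 8, 6, 8], [8, 6, 8, 6], [6, 9, 6, 9, 6, 9], [9, 6, 9, 6, 9, 6], [7, 7], [7, 8, 7, 8], [8, 7, 8, 7], [7, 9, 7, 9], [9, 7, 9, 7]],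
  [[8, 8], [8, 9, 8, 9], [9, 8, 9, 8], [9, 9], [1, 2, 4, 1, 3, 5, 1, 0, 7, 1, 2, 4, 1, 3, 5, 1, 0, 7, 1, 2, 4, 1, 3, 5, 1, 0, 7, 1, 2, 4, 1, 3, 5, 1, 0, 7, 1, 2, 4, 1, 3, 5, 1, 0, 7, 1, 2, 4, 1, 3, 5, 1, 0, 7, 1, 2, 4, 1, 3, 5, 1, 0, 7, 1, 2, 4, 1, 3, 5, 1, 0, 7, 1, 2, 4, 1, 3, 5, 1, 0, 7, 1, 2, 4, 1, 3, 5, 1, 0, 7], [2, 4, 1, 3, 5, 1, 0, 7, 1, 2, 4, 1, 3, 5, 1, 0, 7, 1, 2, 4, 1, 3, 5, 1, 0, 7, 1, 2, 4, 1, 3, 5, 1, 0, 7, 1, 2, 4, 1, 3, 5, 1, 0, 7, 1, 2, 4, 1, 3, 5, 1, 0, 7, 1, 2, 4, 1, 3, 5, 1, 0, 7, 1, 2, 4, 1, 3, 5, 1, 0, 7, 1, 2, 4, 1, 3, 5, 1, 0, 7, 1, 2, 4, 1, 3, 5, 1, 0, 7, 1], [4, 1, 3, 5, 1, 0, 7, 1, 2, 4, 1, 3, 5, 1, 0, 7, 1, 2, 4, 1, 3, 5, 1, 0, 7, 1, 2, 4, 1, 3, 5, 1, 0, 7, 1, 2, 4, 1, 3, 5, 1, 0, 7, 1, 2, 4, 1, 3, 5, 1, 0, 7, 1, 2, 4, 1, 3, 5, 1, 0, 7, 1, 2, 4, 1, 3, 5, 1, 0, 7, 1, 2, 4, 1, 3, 5, 1, 0, 7, 1, 2, 4, 1, 3, 5, 1, 0, 7,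 1, 2], [1, 3, 5, 1, 0, 7, 1, 2, 4, 1, 3, 5, 1, 0, 7, 1, 2, 4, 1, 3, 5, 1, 0, 7, 1, 2, 4, 1, 3, 5, 1, 0, 7, 1, 2, 4, 1, 3, 5, 1, 0, 7, 1, 2, 4, 1, 3, 5, 1, 0, 7, 1, 2, 4, 1, 3, 5, 1, 0, 7, 1, 2, 4, 1, 3, 5, 1, 0, 7, 1, 2, 4, 1, 3, 5, 1, 0, 7, 1, 2, 4, 1, 3, 5, 1, 0, 7, 1, 2, 4], [3, 5, 1, 0, 7, 1, 2, 4, 1, 3, 5, 1, 0, 7, 1, 2, 4, 1, 3, 5, 1, 0, 7, 1, 2, 4, 1, 3, 5, 1, 0, 7, 1, 2, 4, 1, 3, 5, 1, 0, 7, 1, 2, 4, 1, 3, 5, 1, 0, 7, 1, 2, 4, 1, 3, 5, 1, 0, 7, 1, 2, 4, 1, 3, 5, 1, 0, 7, 1, 2, 4, 1, 3, 5, 1, 0, 7, 1, 2, 4, 1, 3, 5, 1, 0, 7, 1, 2, 4, 1], [5, 1, 0, 7, 1, 2, 4, 1, 3, 5, 1, 0, 7, 1, 2, 4, 1, 3, 5, 1, 0, 7, 1, 2, 4, 1, 3, 5, 1, 0, 7, 1, 2, 4, 1, 3, 5, 1, 0, 7, 1, 2, 4, 1, 3, 5, 1, 0, 7, 1, 2, 4, 1, 3, 5, 1, 0, 7, 1, 2, 4, 1, 3, 5, 1, 0, 7, 1, 2, 4, 1, 3, 5, 1, 0, 7, 1, 2, 4, 1, 3, 5, 1, 0, 7, 1, 2, 4, 1, 3], [1, 0, 7, 1, 2, 4, 1, 3, 5, 1, 0,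 7, 1, 2, 4, 1, 3, 5, 1, 0, 7, 1, 2, 4, 1, 3, 5, 1, 0, 7, 1, 2, 4, 1, 3, 5, 1, 0, 7, 1, 2, 4, 1, 3, 5, 1, 0, 7, 1, 2, 4, 1, 3, 5, 1, 0, 7, 1, 2, 4, 1, 3, 5, 1, 0, 7, 1, 2, 4, 1, 3, 5, 1, 0, 7, 1, 2, 4, 1, 3, 5, 1, 0, 7, 1, 2, 4, 1, 3, 5], [0, 7, 1, 2, 4, 1, 3, 5, 1, 0, 7, 1, 2, 4, 1, 3, 5, 1, 0, 7, 1, 2, 4, 1, 3, 5, 1, 0, 7, 1, 2, 4, 1, 3, 5, 1, 0, 7, 1, 2, 4, 1, 3, 5, 1, 0, 7, 1, 2, 4, 1, 3, 5, 1, 0, 7, 1, 2, 4, 1, 3, 5, 1, 0, 7, 1, 2, 4, 1, 3, 5, 1, 0, 7, 1, 2, 4, 1, 3, 5, 1, 0, 7, 1, 2, 4, 1, 3, 5, 1], [7, 1, 2, 4, 1, 3, 5, 1, 0, 7, 1, 2, 4, 1, 3, 5, 1, 0, 7, 1, 2, 4, 1, 3, 5, 1, 0, 7, 1, 2, 4, 1, 3, 5, 1, 0, 7, 1, 2, 4, 1, 3, 5, 1, 0, 7, 1, 2, 4, 1, 3, 5, 1, 0, 7, 1, 2, 4, 1, 3, 5, 1, 0, 7, 1, 2, 4, 1, 3, 5, 1, 0, 7, 1, 2, 4, 1, 3, 5, 1, 0, 7, 1, 2, 4, 1, 3, 5, 1, 0], [7, 0, 1, 5, 3, 1, 4, 2, 1, 7, 0, 1, 5, 3, 1, 4, 2, 1, 7, 0, 1, 5, 3, 1, 4,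 2, 1, 7, 0, 1, 5, 3, 1, 4, 2, 1, 7, 0, 1, 5, 3, 1, 4, 2, 1, 7, 0, 1, 5, 3, 1, 4, 2, 1, 7, 0, 1, 5, 3, 1, 4, 2, 1, 7, 0, 1, 5, 3, 1, 4, 2, 1, 7, 0, 1, 5, 3, 1, 4, 2, 1, 7, 0, 1, 5, 3, 1, 4, 2, 1], [0, 1, 5, 3, 1, 4, 2, 1, 7, 0, 1, 5, 3, 1, 4, 2, 1, 7, 0, 1, 5, 3, 1, 4, 2, 1, 7, 0, 1, 5, 3, 1, 4, 2, 1, 7, 0, 1, 5, 3, 1, 4, 2, 1, 7, 0, 1, 5, 3, 1, 4, 2, 1, 7, 0, 1, 5, 3, 1, 4, 2, 1, 7, 0, 1, 5, 3, 1, 4, 2, 1, 7, 0, 1, 5, 3, 1, 4, 2, 1, 7, 0, 1, 5, 3, 1, 4, 2, 1, 7], [1, 5, 3, 1, 4, 2, 1, 7, 0, 1, 5, 3, 1, 4, 2, 1, 7, 0, 1, 5, 3, 1, 4, 2, 1, 7, 0, 1, 5, 3, 1, 4, 2, 1, 7, 0, 1, 5, 3, 1, 4, 2, 1, 7, 0, 1, 5, 3, 1, 4, 2, 1, 7, 0, 1, 5, 3, 1, 4, 2, 1, 7, 0, 1, 5, 3, 1, 4, 2, 1, 7, 0, 1, 5, 3, 1, 4, 2, 1, 7, 0, 1, 5, 3, 1, 4, 2, 1, 7, 0]],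
  [[5, 3, 1, 4, 2, 1, 7, 0, 1, 5, 3, 1, 4, 2, 1, 7, 0, 1, 5, 3, 1, 4, 2, 1, 7, 0, 1, 5, 3, 1, 4, 2, 1, 7, 0, 1, 5, 3, 1, 4, 2, 1, 7, 0, 1, 5, 3, 1, 4, 2, 1, 7, 0, 1, 5, 3, 1, 4, 2, 1, 7, 0, 1, 5, 3, 1, 4, 2, 1, 7, 0, 1, 5, 3, 1, 4, 2, 1, 7, 0, 1, 5, 3, 1, 4, 2, 1, 7, 0, 1], [3, 1, 4, 2, 1, 7, 0, 1, 5, 3, 1, 4, 2, 1, 7, 0, 1, 5, 3, 1, 4, 2, 1, 7, 0, 1, 5, 3, 1, 4, 2, 1, 7, 0, 1, 5, 3, 1, 4, 2, 1, 7, 0, 1, 5, 3, 1, 4, 2, 1, 7, 0, 1, 5, 3, 1, 4, 2, 1, 7, 0, 1, 5, 3, 1, 4, 2, 1, 7, 0, 1, 5, 3, 1, 4, 2, 1, 7, 0, 1, 5, 3, 1, 4, 2, 1, 7, 0, 1, 5], [1, 4, 2, 1, 7, 0, 1, 5, 3, 1, 4, 2, 1, 7, 0, 1, 5, 3, 1, 4, 2, 1, 7, 0, 1, 5, 3, 1, 4, 2, 1, 7, 0, 1, 5, 3, 1, 4, 2, 1, 7, 0, 1, 5, 3, 1, 4, 2, 1, 7, 0, 1, 5, 3, 1, 4, 2, 1, 7, 0, 1, 5, 3, 1, 4, 2, 1, 7, 0, 1, 5, 3, 1, 4, 2, 1, 7, 0, 1, 5, 3, 1, 4, 2, 1, 7, 0, 1, 5, 3], [4, 2, 1, 7, 0, 1, 5, 3, 1, 4, 2, 1,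 7, 0, 1, 5, 3, 1, 4, 2, 1, 7, 0, 1, 5, 3, 1, 4, 2, 1, 7, 0, 1, 5, 3, 1, 4, 2, 1, 7, 0, 1, 5, 3, 1, 4, 2, 1, 7, 0, 1, 5, 3, 1, 4, 2, 1, 7, 0, 1, 5, 3, 1, 4, 2, 1, 7, 0, 1, 5, 3, 1, 4, 2, 1, 7, 0, 1, 5, 3, 1, 4, 2, 1, 7, 0, 1, 5, 3, 1], [2, 1, 7, 0, 1, 5, 3, 1, 4, 2, 1, 7, 0, 1, 5, 3, 1, 4, 2, 1, 7, 0, 1, 5, 3, 1, 4, 2, 1, 7, 0, 1, 5, 3, 1, 4, 2, 1, 7, 0, 1, 5, 3, 1, 4, 2, 1, 7, 0, 1, 5, 3, 1, 4, 2, 1, 7, 0, 1, 5, 3, 1, 4, 2, 1, 7, 0, 1, 5, 3, 1, 4, 2, 1, 7, 0, 1, 5, 3, 1, 4, 2, 1, 7, 0, 1, 5, 3, 1, 4], [1, 7, 0, 1, 5, 3, 1, 4, 2, 1, 7, 0, 1, 5, 3, 1, 4, 2, 1, 7, 0, 1, 5, 3, 1, 4, 2, 1, 7, 0, 1, 5, 3, 1, 4, 2, 1, 7, 0, 1, 5, 3, 1, 4, 2, 1, 7, 0, 1, 5, 3, 1, 4, 2, 1, 7, 0, 1, 5, 3, 1, 4, 2, 1, 7, 0, 1, 5, 3, 1, 4, 2, 1, 7, 0, 1, 5, 3, 1, 4, 2, 1, 7, 0, 1, 5, 3, 1, 4, 2], [8, 4, 2, 1, 3, 5, 0, 8, 4, 2, 1, 3, 5, 0, 8, 4, 2, 1, 3, 5, 0, 8, 4, 2, 1, 3,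 5, 0, 8, 4, 2, 1, 3, 5, 0, 8, 4, 2, 1, 3, 5, 0, 8, 4, 2, 1, 3, 5, 0, 8, 4, 2, 1, 3, 5, 0, 8, 4, 2, 1, 3, 5, 0], [4, 2, 1, 3, 5, 0, 8, 4, 2, 1, 3, 5, 0, 8, 4, 2, 1, 3, 5, 0, 8, 4, 2, 1, 3, 5, 0, 8, 4, 2, 1, 3, 5, 0, 8, 4, 2, 1, 3, 5, 0, 8, 4, 2, 1, 3, 5, 0, 8, 4, 2, 1, 3, 5, 0, 8, 4, 2, 1, 3, 5, 0, 8], [2, 1, 3, 5, 0, 8, 4, 2, 1, 3, 5, 0, 8, 4, 2, 1, 3, 5, 0, 8, 4, 2, 1, 3, 5, 0, 8, 4, 2, 1, 3, 5, 0, 8, 4, 2, 1, 3, 5, 0, 8, 4, 2, 1, 3, 5, 0, 8, 4, 2, 1, 3, 5, 0, 8, 4, 2, 1, 3, 5, 0, 8, 4], [1, 3, 5, 0, 8, 4, 2, 1, 3, 5, 0, 8, 4, 2, 1, 3, 5, 0, 8, 4, 2, 1, 3, 5, 0, 8, 4, 2, 1, 3, 5, 0, 8, 4, 2, 1, 3, 5, 0, 8, 4, 2, 1, 3, 5, 0, 8, 4, 2, 1, 3, 5, 0, 8, 4, 2, 1, 3, 5, 0, 8, 4, 2], [3, 5, 0, 8, 4, 2, 1, 3, 5, 0, 8, 4, 2, 1, 3, 5, 0, 8, 4, 2, 1, 3, 5, 0, 8, 4, 2, 1, 3, 5, 0, 8, 4, 2, 1, 3, 5, 0, 8, 4, 2, 1, 3, 5, 0, 8, 4, 2, 1, 3, 5, 0, 8, 4, 2, 1, 3,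 5, 0, 8, 4, 2, 1], [5, 0, 8, 4, 2, 1, 3, 5, 0, 8, 4, 2, 1, 3, 5, 0, 8, 4, 2, 1, 3, 5, 0, 8, 4, 2, 1, 3, 5, 0, 8, 4, 2, 1, 3, 5, 0, 8, 4, 2, 1, 3, 5, 0, 8, 4, 2, 1, 3, 5, 0, 8, 4, 2, 1, 3, 5, 0, 8, 4, 2, 1, 3], [0, 8, 4, 2, 1, 3, 5, 0, 8, 4, 2, 1, 3, 5, 0, 8, 4, 2, 1, 3, 5, 0, 8, 4, 2, 1, 3, 5, 0, 8, 4, 2, 1, 3, 5, 0, 8, 4, 2, 1, 3, 5, 0, 8, 4, 2, 1, 3, 5, 0, 8, 4, 2, 1, 3, 5, 0, 8, 4, 2, 1, 3, 5], [0, 5, 3, 1, 2, 4, 8, 0, 5, 3, 1, 2, 4, 8, 0, 5, 3, 1, 2, 4, 8, 0, 5, 3, 1, 2, 4, 8, 0, 5, 3, 1, 2, 4, 8, 0, 5, 3, 1, 2, 4, 8, 0, 5, 3, 1, 2, 4, 8, 0, 5, 3, 1, 2, 4, 8, 0, 5, 3, 1, 2, 4, 8], [5, 3, 1, 2, 4, 8, 0, 5, 3, 1, 2, 4, 8, 0, 5, 3, 1, 2, 4, 8, 0, 5, 3, 1, 2, 4, 8, 0, 5, 3, 1, 2, 4, 8, 0, 5, 3, 1, 2, 4, 8, 0, 5, 3, 1, 2, 4, 8, 0, 5, 3, 1, 2, 4, 8, 0, 5, 3, 1, 2, 4, 8, 0], [3, 1, 2, 4, 8, 0, 5, 3, 1, 2, 4, 8, 0, 5, 3, 1, 2, 4, 8, 0, 5, 3, 1, 2,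 4, 8, 0, 5, 3, 1, 2, 4, 8, 0, 5, 3, 1, 2, 4, 8, 0, 5, 3, 1, 2, 4, 8, 0, 5, 3, 1, 2, 4, 8, 0, 5, 3, 1, 2, 4, 8, 0, 5]],
  [[1, 2, 4, 8, 0, 5, 3, 1, 2, 4, 8, 0, 5, 3, 1, 2, 4, 8, 0, 5, 3, 1, 2, 4, 8, 0, 5, 3, 1, 2, 4, 8, 0, 5, 3, 1, 2, 4, 8, 0, 5, 3, 1, 2, 4, 8, 0, 5, 3, 1, 2, 4, 8, 0, 5, 3, 1, 2, 4, 8, 0, 5, 3], [2, 4, 8, 0, 5, 3, 1, 2, 4, 8, 0, 5, 3, 1, 2, 4, 8, 0, 5, 3, 1, 2, 4, 8, 0, 5, 3, 1, 2, 4, 8, 0, 5, 3, 1, 2, 4, 8, 0, 5, 3, 1, 2, 4, 8, 0, 5, 3, 1, 2, 4, 8, 0, 5, 3, 1, 2, 4, 8, 0, 5, 3, 1], [4, 8, 0, 5, 3, 1, 2, 4, 8, 0, 5, 3, 1, 2, 4, 8, 0, 5, 3, 1, 2, 4, 8, 0, 5, 3, 1, 2, 4, 8, 0, 5, 3, 1, 2, 4, 8, 0, 5, 3, 1, 2, 4, 8, 0, 5, 3, 1, 2, 4, 8, 0, 5, 3, 1, 2, 4, 8, 0, 5, 3, 1, 2], [8, 0, 5, 3, 1, 2, 4, 8, 0, 5, 3, 1, 2, 4, 8, 0, 5, 3, 1, 2, 4, 8, 0, 5, 3, 1, 2, 4, 8, 0, 5, 3, 1, 2, 4, 8, 0, 5, 3, 1, 2, 4, 8, 0, 5, 3, 1, 2, 4, 8, 0, 5, 3, 1,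 2, 4, 8, 0, 5, 3, 1, 2, 4]]]

def swords : List (List ℕ) := [[0], [1], [2], [3], [4], [5], [6], [7], [8]]

def srcs : List (ℕ × ℕ × Bool) := [(0, 0, false), (1, 0, false), (1, 1, false), (2, 0, false), (2, 1, false), (3, 0, false), (3, 1, false), (4, 0, false), (4, 1, false), (5, 0, false), (5, 1, false), (6, 0, false), (6, 1, false), (7, 0, false), (7, 1, false), (8, 0, false), (8, 1, false), (9, 0, false), (9, 1, false), (11, 0, false), (12, 0, false), (12, 1, false), (13, 0, false), (13, 1, false), (14, 0, false), (14, 1, false), (15, 0, false), (15, 1, false), (16, 0, false), (16, 1, false), (17, 0, false), (17, 1, false), (18, 0, false), (18, 1, false), (19, 0, false), (19, 1, false), (22, 0, false), (23, 0, false), (23, 1, false), (24, 0, false), (24, 1, false), (25, 0, false), (25, 1, false), (26, 0, false), (26, 1, false), (27, 0, false),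 (27, 1, false), (28, 0, false), (28, 1, false), (29, 0, false), (29, 1, false), (33, 0, false), (34, 0, false), (34, 1, false), (35, 0, false), (35, 1, false), (36, 0, false), (36, 1, false), (37, 0, false), (37, 1, false), (38, 0, false), (38, 1, false), (39, 0, false), (39, 1, false), (44, 0, false), (45, 0, false), (45, 1, false), (46, 0, false), (46, 1, false), (47, 0, false), (47, 1, false), (48, 0, false), (48, 1, false), (49, 0, false), (49, 1, false), (55, 0, false), (56, 0, false), (56, 1, false), (57, 0, false), (57, 1, false), (58, 0, false), (58, 1, false), (59, 0, false), (59, 1, false), (66, 0, false), (67, 0, false), (67, 1, false), (68, 0, false), (68, 1, false), (69, 0, false), (69, 1, false), (77, 0, false), (78, 0, false), (78, 1, false), (79, 0, false), (79, 1, false), (88, 0, false), (89, 0, false), (89, 1, false), (99, 0,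 false), (100, 0, false), (100, 1, false), (100, 2, false), (100, 3, false), (100, 4, false), (100, 5, false), (100, 6, false), (100, 7, false), (100, 8, false), (100, 0, true), (100, 1, true), (100, 2, true), (100, 3, true), (100, 4, true), (100, 5, true), (100, 6, true), (100, 7, true), (100, 8, true), (101, 0, false), (101, 1, false), (101, 2, false), (101, 3, false), (101, 4, false), (101, 5, false), (101, 6, false), (101, 0, true), (101, 1, true), (101, 2, true), (101, 3, true), (101, 4, true), (101, 5, true), (101, 6, true)]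

def cert : TCert where
  k := 10
  M := 685291
  n := 31671
  par := par
  lab := lab
  cb := cb
  link := link
  idx := link
  rep := rep
  rwords := rwords
  swords := swords
  nrw := 132
  nlog := 653620
  logw := logw
  logc := logc
  logb := logb
  lt1 := lt1

theorem rwords_src : rwords.flatten = srcs.map pres.srcWord := by decide +kernel

theorem wok : wordsOK cert.toCert = true := by decide +kernel

theorem head_ok : headOK cert = true := by decide +kernel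

end Cfsg.Agent.Lib.Helper98.Fi23TC10D
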