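import Mathlib
import Cfsg.Agent.Lib.Helper98.Fi23TC10D

/-! Coset enumeration certificate Fi23TC10: checks, part 0. -/

set_option autoImplicit false
set_option maxRecDepth 1000000

namespace Cfsg.Agent.Lib.Helper98.Fi23TC10S0

open Cfsg.Agent.Lib.Helper98.CosetCert Cfsg.Agent.Lib.Helper98.CosetCert2

open Cfsg.Agent.Lib.Helper98.Fi23TC10D

theorem seg0 : rangeOKF cert 0 4838 = true := by decide +kernel

theorem seg1 : rangeOKF cert 4838 4878 = true := by decide +kernel

theorem seg2 : rangeOKF cert 9716 4877 = true := by decide +kernel

theorem seg3 : rangeOKF cert 14593 4871 = true := by decide +kernel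

theorem seg4 : rangeOKF cert 19464 4879 = true := by decide +kernel

theorem seg5 : rangeOKF cert 24343 4877 = true := by decide +kernel

theorem seg6 : rangeOKF cert 29220 4871 = true := by decide +kernel

theorem seg7 : rangeOKF cert 34091 4891 = true := by decide +kernel

theorem seg8 : rangeOKF cert 38982 4862 = true := by decide +kernel

theorem seg9 : rangeOKF cert 43844 4869 = true := by decide +kernel

theorem seg10 : rangeOKF cert 48713 4889 = true := by decide +kernel

theorem seg11 : rangeOKF cert 53602 4882 = true := by decide +kernel

end Cfsg.Agent.Lib.Helper98.Fi23TC10S0
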