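import Mathlib
import Cfsg.Agent.Lib.Helper98.Fi23TC10D

/-! Coset enumeration certificate Fi23TC10: checks, part 1. -/

set_option autoImplicit false
set_option maxRecDepth 1000000

namespace Cfsg.Agent.Lib.Helper98.Fi23TC10S1

open Cfsg.Agent.Lib.Helper98.CosetCert Cfsg.Agent.Lib.Helper98.CosetCert2

open Cfsg.Agent.Lib.Helper98.Fi23TC10D

theorem seg12 : rangeOKF cert 58484 4875 = true := by decide +kernel

theorem seg13 : rangeOKF cert 63359 4864 = true := by decide +kernel

theorem seg14 : rangeOKF cert 68223 4882 = true := by decide +kernel

theorem seg15 : rangeOKF cert 73105 4893 = true := by decide +kernel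

theorem seg16 : rangeOKF cert 77998 4884 = true := by decide +kernel

theorem seg17 : rangeOKF cert 82882 4883 = true := by decide +kernel

theorem seg18 : rangeOKF cert 87765 4879 = true := by decide +kernel

theorem seg19 : rangeOKF cert 92644 4869 = true := by decide +kernel

theorem seg20 : rangeOKF cert 97513 4877 = true := by decide +kernel

theorem seg21 : rangeOKF cert 102390 4885 = true := by decide +kernel

theorem seg22 : rangeOKF cert 107275 4887 = true := by decide +kernel

theorem seg23 : rangeOKF cert 112162 4865 = true := by decide +kernel

end Cfsg.Agent.Lib.Helper98.Fi23TC10S1
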