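import Mathlib
import Cfsg.Agent.Lib.Helper98.Fi23TC10D

/-! Coset enumeration certificate Fi23TC10: checks, part 11. -/

set_option autoImplicit false
set_option maxRecDepth 1000000

namespace Cfsg.Agent.Lib.Helper98.Fi23TC10S11

open Cfsg.Agent.Lib.Helper98.CosetCert Cfsg.Agent.Lib.Helper98.CosetCert2

open Cfsg.Agent.Lib.Helper98.Fi23TC10D

theorem seg132 : rangeOKF cert 566912 4836 = true := by decide +kernel

theorem seg133 : rangeOKF cert 571748 4820 = true := by decide +kernel

theorem seg134 : rangeOKF cert 576568 4822 = true := by decide +kernel

theorem seg135 : rangeOKF cert 581390 4848 = true := by decide +kernel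

theorem seg136 : rangeOKF cert 586238 4846 = true := by decide +kernel

theorem seg137 : rangeOKF cert 591084 4841 = true := by decide +kernel

theorem seg138 : rangeOKF cert 595925 4829 = true := by decide +kernel

theorem seg139 : rangeOKF cert 600754 4849 = true := by decide +kernel

theorem seg140 : rangeOKF cert 605603 4831 = true := by decide +kernel

theorem seg141 : rangeOKF cert 610434 4843 = true := by decide +kernel

theorem seg142 : rangeOKF cert 615277 4811 = true := by decide +kernel

theorem seg143 : rangeOKF cert 620088 4827 = true := by decide +kernel

end Cfsg.Agent.Lib.Helper98.Fi23TC10S11
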