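import Mathlib
import Cfsg.Agent.Lib.Helper98.Fi23TC10D

/-! Coset enumeration certificate Fi23TC10: checks, part 12. -/

set_option autoImplicit false
set_option maxRecDepth 1000000

namespace Cfsg.Agent.Lib.Helper98.Fi23TC10S12

open Cfsg.Agent.Lib.Helper98.CosetCert Cfsg.Agent.Lib.Helper98.CosetCert2

open Cfsg.Agent.Lib.Helper98.Fi23TC10D

theorem seg144 : rangeOKF cert 624915 4794 = true := by decide +kernel

theorem seg145 : rangeOKF cert 629709 4840 = true := by decide +kernel

theorem seg146 : rangeOKF cert 634549 4816 = true := by decide +kernel

theorem seg147 : rangeOKF cert 639365 4762 = true := by decide +kernel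

theorem seg148 : rangeOKF cert 644127 4729 = true := by decide +kernel

theorem seg149 : rangeOKF cert 648856 4691 = true := by decide +kernel

theorem seg150 : rangeOKF cert 653547 73 = true := by decide +kernel

theorem nseg0 : nameRangeOKF cert 0 8871 = true := by decide +kernel

theorem nseg1 : nameRangeOKF cert 8871 9460 = true := by decide +kernel

theorem nseg2 : nameRangeOKF cert 18331 9968 = true := by decide +kernel

theorem nseg3 : nameRangeOKF cert 28299 10543 = true := by decide +kernel

theorem nseg4 : nameRangeOKF cert 38842 11332 = true := by decide +kernel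

end Cfsg.Agent.Lib.Helper98.Fi23TC10S12
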