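import Mathlib
import Cfsg.Agent.Lib.Helper98.Fi23TC10D

/-! Coset enumeration certificate Fi23TC10: checks, part 13. -/

set_option autoImplicit false
set_option maxRecDepth 1000000

namespace Cfsg.Agent.Lib.Helper98.Fi23TC10S13

open Cfsg.Agent.Lib.Helper98.CosetCert Cfsg.Agent.Lib.Helper98.CosetCert2

open Cfsg.Agent.Lib.Helper98.Fi23TC10D

theorem nseg5 : nameRangeOKF cert 50174 10717 = true := by decide +kernel

theorem nseg6 : nameRangeOKF cert 60891 11960 = true := by decide +kernel

theorem nseg7 : nameRangeOKF cert 72851 10943 = true := by decide +kernel

theorem nseg8 : nameRangeOKF cert 83794 12212 = true := by decide +kernel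

theorem nseg9 : nameRangeOKF cert 96006 11559 = true := by decide +kernel

theorem nseg10 : nameRangeOKF cert 107565 11515 = true := by decide +kernel

theorem nseg11 : nameRangeOKF cert 119080 11610 = true := by decide +kernel

theorem nseg12 : nameRangeOKF cert 130690 13224 = true := by decide +kernel

theorem nseg13 : nameRangeOKF cert 143914 11457 = true := by decide +kernel

theorem nseg14 : nameRangeOKF cert 155371 12142 = true := by decide +kernel

theorem nseg15 : nameRangeOKF cert 167513 11178 = true := by decide +kernel

theorem nseg16 : nameRangeOKF cert 178691 12362 = true := by decide +kernel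

end Cfsg.Agent.Lib.Helper98.Fi23TC10S13
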