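import Mathlib
import Cfsg.Agent.Lib.Helper98.Fi23TC10D

/-! Coset enumeration certificate Fi23TC10: checks, part 14. -/

set_option autoImplicit false
set_option maxRecDepth 1000000

namespace Cfsg.Agent.Lib.Helper98.Fi23TC10S14

open Cfsg.Agent.Lib.Helper98.CosetCert Cfsg.Agent.Lib.Helper98.CosetCert2

open Cfsg.Agent.Lib.Helper98.Fi23TC10D

theorem nseg17 : nameRangeOKF cert 191053 13330 = true := by decide +kernel

theorem nseg18 : nameRangeOKF cert 204383 12666 = true := by decide +kernel

theorem nseg19 : nameRangeOKF cert 217049 11361 = true := by decide +kernel

theorem nseg20 : nameRangeOKF cert 228410 12681 = true := by decide +kernel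

theorem nseg21 : nameRangeOKF cert 241091 11805 = true := by decide +kernel

theorem nseg22 : nameRangeOKF cert 252896 11735 = true := by decide +kernel

theorem nseg23 : nameRangeOKF cert 264631 12571 = true := by decide +kernel

theorem nseg24 : nameRangeOKF cert 277202 13334 = true := by decide +kernel

theorem nseg25 : nameRangeOKF cert 290536 13293 = true := by decide +kernel

theorem nseg26 : nameRangeOKF cert 303829 12672 = true := by decide +kernel

theorem nseg27 : nameRangeOKF cert 316501 11797 = true := by decide +kernel

theorem nseg28 : nameRangeOKF cert 328298 12355 = true := by decide +kernel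

end Cfsg.Agent.Lib.Helper98.Fi23TC10S14
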