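import Mathlib
import Cfsg.Agent.Lib.Helper98.Fi23TC10D

/-! Coset enumeration certificate Fi23TC10: checks, part 15. -/

set_option autoImplicit false
set_option maxRecDepth 1000000

namespace Cfsg.Agent.Lib.Helper98.Fi23TC10S15

open Cfsg.Agent.Lib.Helper98.CosetCert Cfsg.Agent.Lib.Helper98.CosetCert2

open Cfsg.Agent.Lib.Helper98.Fi23TC10D

theorem nseg29 : nameRangeOKF cert 340653 12751 = true := by decide +kernel

theorem nseg30 : nameRangeOKF cert 353404 12472 = true := by decide +kernel

theorem nseg31 : nameRangeOKF cert 365876 11273 = true := by decide +kernel

theorem nseg32 : nameRangeOKF cert 377149 12861 = true := by decide +kernel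

theorem nseg33 : nameRangeOKF cert 390010 12758 = true := by decide +kernel

theorem nseg34 : nameRangeOKF cert 402768 13334 = true := by decide +kernel

theorem nseg35 : nameRangeOKF cert 416102 13334 = true := by decide +kernel

theorem nseg36 : nameRangeOKF cert 429436 13290 = true := by decide +kernel

theorem nseg37 : nameRangeOKF cert 442726 12976 = true := by decide +kernel

theorem nseg38 : nameRangeOKF cert 455702 12798 = true := by decide +kernel

theorem nseg39 : nameRangeOKF cert 468500 11596 = true := by decide +kernel

theorem nseg40 : nameRangeOKF cert 480096 12655 = true := by decide +kernel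

end Cfsg.Agent.Lib.Helper98.Fi23TC10S15
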