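import Mathlib
import Cfsg.Agent.Lib.Helper98.Fi23TC10D

/-! Coset enumeration certificate Fi23TC10: checks, part 16. -/

set_option autoImplicit false
set_option maxRecDepth 1000000

namespace Cfsg.Agent.Lib.Helper98.Fi23TC10S16

open Cfsg.Agent.Lib.Helper98.CosetCert Cfsg.Agent.Lib.Helper98.CosetCert2

open Cfsg.Agent.Lib.Helper98.Fi23TC10D

theorem nseg41 : nameRangeOKF cert 492751 9852 = true := by decide +kernel

theorem nseg42 : nameRangeOKF cert 502603 9883 = true := by decide +kernel

theorem nseg43 : nameRangeOKF cert 512486 9854 = true := by decide +kernel

theorem nseg44 : nameRangeOKF cert 522340 9963 = true := by decide +kernel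

theorem nseg45 : nameRangeOKF cert 532303 9993 = true := by decide +kernel

theorem nseg46 : nameRangeOKF cert 542296 10041 = true := by decide +kernel

theorem nseg47 : nameRangeOKF cert 552337 10052 = true := by decide +kernel

theorem nseg48 : nameRangeOKF cert 562389 10096 = true := by decide +kernel

theorem nseg49 : nameRangeOKF cert 572485 10151 = true := by decide +kernel

theorem nseg50 : nameRangeOKF cert 582636 10248 = true := by decide +kernel

theorem nseg51 : nameRangeOKF cert 592884 10133 = true := by decide +kernel

theorem nseg52 : nameRangeOKF cert 603017 9850 = true := by decide +kernel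

end Cfsg.Agent.Lib.Helper98.Fi23TC10S16
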