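import Mathlib
import Cfsg.Agent.Lib.Helper98.Fi23TC10D

/-! Coset enumeration certificate Fi23TC10: checks, part 17. -/

set_option autoImplicit false
set_option maxRecDepth 1000000

namespace Cfsg.Agent.Lib.Helper98.Fi23TC10S17

open Cfsg.Agent.Lib.Helper98.CosetCert Cfsg.Agent.Lib.Helper98.CosetCert2

open Cfsg.Agent.Lib.Helper98.Fi23TC10D

theorem nseg53 : nameRangeOKF cert 612867 9693 = true := by decide +kernel

theorem nseg54 : nameRangeOKF cert 622560 9674 = true := by decide +kernel

theorem nseg55 : nameRangeOKF cert 632234 9898 = true := by decide +kernel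

theorem nseg56 : nameRangeOKF cert 642132 10180 = true := by decide +kernel

theorem nseg57 : nameRangeOKF cert 652312 10408 = true := by decide +kernel

theorem nseg58 : nameRangeOKF cert 662720 10476 = true := by decide +kernel

theorem nseg59 : nameRangeOKF cert 673196 10840 = true := by decide +kernel

theorem nseg60 : nameRangeOKF cert 684036 1255 = true := by decide +kernel

end Cfsg.Agent.Lib.Helper98.Fi23TC10S17
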