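import Mathlib
import Cfsg.Agent.Lib.Helper98.Fi23TC10D

/-! Coset enumeration certificate Fi23TC10: checks, part 2. -/

set_option autoImplicit false
set_option maxRecDepth 1000000

namespace Cfsg.Agent.Lib.Helper98.Fi23TC10S2

open Cfsg.Agent.Lib.Helper98.CosetCert Cfsg.Agent.Lib.Helper98.CosetCert2

open Cfsg.Agent.Lib.Helper98.Fi23TC10D

theorem seg24 : rangeOKF cert 117027 4874 = true := by decide +kernel

theorem seg25 : rangeOKF cert 121901 4901 = true := by decide +kernel

theorem seg26 : rangeOKF cert 126802 4876 = true := by decide +kernel

theorem seg27 : rangeOKF cert 131678 4888 = true := by decide +kernel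

theorem seg28 : rangeOKF cert 136566 4877 = true := by decide +kernel

theorem seg29 : rangeOKF cert 141443 4881 = true := by decide +kernel

theorem seg30 : rangeOKF cert 146324 4874 = true := by decide +kernel

theorem seg31 : rangeOKF cert 151198 4883 = true := by decide +kernel

theorem seg32 : rangeOKF cert 156081 4880 = true := by decide +kernel

theorem seg33 : rangeOKF cert 160961 4883 = true := by decide +kernel

theorem seg34 : rangeOKF cert 165844 4888 = true := by decide +kernel

theorem seg35 : rangeOKF cert 170732 4880 = true := by decide +kernel

end Cfsg.Agent.Lib.Helper98.Fi23TC10S2
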