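import Mathlib
import Cfsg.Agent.Lib.Helper98.Fi23TC10D

/-! Coset enumeration certificate Fi23TC10: checks, part 3. -/

set_option autoImplicit false
set_option maxRecDepth 1000000

namespace Cfsg.Agent.Lib.Helper98.Fi23TC10S3

open Cfsg.Agent.Lib.Helper98.CosetCert Cfsg.Agent.Lib.Helper98.CosetCert2

open Cfsg.Agent.Lib.Helper98.Fi23TC10D

theorem seg36 : rangeOKF cert 175612 4889 = true := by decide +kernel

theorem seg37 : rangeOKF cert 180501 4905 = true := by decide +kernel

theorem seg38 : rangeOKF cert 185406 4877 = true := by decide +kernel

theorem seg39 : rangeOKF cert 190283 4901 = true := by decide +kernel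

theorem seg40 : rangeOKF cert 195184 4893 = true := by decide +kernel

theorem seg41 : rangeOKF cert 200077 4879 = true := by decide +kernel

theorem seg42 : rangeOKF cert 204956 4881 = true := by decide +kernel

theorem seg43 : rangeOKF cert 209837 4889 = true := by decide +kernel

theorem seg44 : rangeOKF cert 214726 4867 = true := by decide +kernel

theorem seg45 : rangeOKF cert 219593 4894 = true := by decide +kernel

theorem seg46 : rangeOKF cert 224487 4872 = true := by decide +kernel

theorem seg47 : rangeOKF cert 229359 4885 = true := by decide +kernel

end Cfsg.Agent.Lib.Helper98.Fi23TC10S3
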