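import Mathlib
import Cfsg.Agent.Lib.Helper98.Fi23TC10D

/-! Coset enumeration certificate Fi23TC10: checks, part 4. -/

set_option autoImplicit false
set_option maxRecDepth 1000000

namespace Cfsg.Agent.Lib.Helper98.Fi23TC10S4

open Cfsg.Agent.Lib.Helper98.CosetCert Cfsg.Agent.Lib.Helper98.CosetCert2

open Cfsg.Agent.Lib.Helper98.Fi23TC10D

theorem seg48 : rangeOKF cert 234244 4877 = true := by decide +kernel

theorem seg49 : rangeOKF cert 239121 4891 = true := by decide +kernel

theorem seg50 : rangeOKF cert 244012 4882 = true := by decide +kernel

theorem seg51 : rangeOKF cert 248894 4885 = true := by decide +kernel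

theorem seg52 : rangeOKF cert 253779 4889 = true := by decide +kernel

theorem seg53 : rangeOKF cert 258668 4896 = true := by decide +kernel

theorem seg54 : rangeOKF cert 263564 4911 = true := by decide +kernel

theorem seg55 : rangeOKF cert 268475 4890 = true := by decide +kernel

theorem seg56 : rangeOKF cert 273365 4869 = true := by decide +kernel

theorem seg57 : rangeOKF cert 278234 4908 = true := by decide +kernel

theorem seg58 : rangeOKF cert 283142 4894 = true := by decide +kernel

theorem seg59 : rangeOKF cert 288036 4892 = true := by decide +kernel

end Cfsg.Agent.Lib.Helper98.Fi23TC10S4
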