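import Mathlib
import Cfsg.Agent.Lib.Helper98.Fi23TC10D

/-! Coset enumeration certificate Fi23TC10: checks, part 5. -/

set_option autoImplicit false
set_option maxRecDepth 1000000

namespace Cfsg.Agent.Lib.Helper98.Fi23TC10S5

open Cfsg.Agent.Lib.Helper98.CosetCert Cfsg.Agent.Lib.Helper98.CosetCert2

open Cfsg.Agent.Lib.Helper98.Fi23TC10D

theorem seg60 : rangeOKF cert 292928 4884 = true := by decide +kernel

theorem seg61 : rangeOKF cert 297812 4882 = true := by decide +kernel

theorem seg62 : rangeOKF cert 302694 4878 = true := by decide +kernel

theorem seg63 : rangeOKF cert 307572 4891 = true := by decide +kernel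

theorem seg64 : rangeOKF cert 312463 4871 = true := by decide +kernel

theorem seg65 : rangeOKF cert 317334 4898 = true := by decide +kernel

theorem seg66 : rangeOKF cert 322232 4885 = true := by decide +kernel

theorem seg67 : rangeOKF cert 327117 4867 = true := by decide +kernel

theorem seg68 : rangeOKF cert 331984 4866 = true := by decide +kernel

theorem seg69 : rangeOKF cert 336850 4899 = true := by decide +kernel

theorem seg70 : rangeOKF cert 341749 4870 = true := by decide +kernel

theorem seg71 : rangeOKF cert 346619 4891 = true := by decide +kernel

end Cfsg.Agent.Lib.Helper98.Fi23TC10S5
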