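import Mathlib
import Cfsg.Agent.Lib.Helper98.Fi23TC10D

/-! Coset enumeration certificate Fi23TC10: checks, part 6. -/

set_option autoImplicit false
set_option maxRecDepth 1000000

namespace Cfsg.Agent.Lib.Helper98.Fi23TC10S6

open Cfsg.Agent.Lib.Helper98.CosetCert Cfsg.Agent.Lib.Helper98.CosetCert2

open Cfsg.Agent.Lib.Helper98.Fi23TC10D

theorem seg72 : rangeOKF cert 351510 4888 = true := by decide +kernel

theorem seg73 : rangeOKF cert 356398 4886 = true := by decide +kernel

theorem seg74 : rangeOKF cert 361284 4879 = true := by decide +kernel

theorem seg75 : rangeOKF cert 366163 4891 = true := by decide +kernel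

theorem seg76 : rangeOKF cert 371054 4896 = true := by decide +kernel

theorem seg77 : rangeOKF cert 375950 4897 = true := by decide +kernel

theorem seg78 : rangeOKF cert 380847 4895 = true := by decide +kernel

theorem seg79 : rangeOKF cert 385742 4900 = true := by decide +kernel

theorem seg80 : rangeOKF cert 390642 4885 = true := by decide +kernel

theorem seg81 : rangeOKF cert 395527 4895 = true := by decide +kernel

theorem seg82 : rangeOKF cert 400422 4873 = true := by decide +kernel

theorem seg83 : rangeOKF cert 405295 4902 = true := by decide +kernel

end Cfsg.Agent.Lib.Helper98.Fi23TC10S6
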