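import Mathlib
import Cfsg.Agent.Lib.Helper98.Fi23TC10D

/-! Coset enumeration certificate Fi23TC10: checks, part 7. -/

set_option autoImplicit false
set_option maxRecDepth 1000000

namespace Cfsg.Agent.Lib.Helper98.Fi23TC10S7

open Cfsg.Agent.Lib.Helper98.CosetCert Cfsg.Agent.Lib.Helper98.CosetCert2

open Cfsg.Agent.Lib.Helper98.Fi23TC10D

theorem seg84 : rangeOKF cert 410197 4907 = true := by decide +kernel

theorem seg85 : rangeOKF cert 415104 4897 = true := by decide +kernel

theorem seg86 : rangeOKF cert 420001 3593 = true := by decide +kernel

theorem seg87 : rangeOKF cert 423594 1025 = true := by decide +kernel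

theorem seg88 : rangeOKF cert 424619 1664 = true := by decide +kernel

theorem seg89 : rangeOKF cert 426283 1863 = true := by decide +kernel

theorem seg90 : rangeOKF cert 428146 2179 = true := by decide +kernel

theorem seg91 : rangeOKF cert 430325 2998 = true := by decide +kernel

theorem seg92 : rangeOKF cert 433323 3450 = true := by decide +kernel

theorem seg93 : rangeOKF cert 436773 4193 = true := by decide +kernel

theorem seg94 : rangeOKF cert 440966 3139 = true := by decide +kernel

theorem seg95 : rangeOKF cert 444105 2587 = true := by decide +kernel

end Cfsg.Agent.Lib.Helper98.Fi23TC10S7
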