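import Mathlib
import Cfsg.Agent.Lib.Helper98.Fi23TC10D

/-! Coset enumeration certificate Fi23TC10: checks, part 8. -/

set_option autoImplicit false
set_option maxRecDepth 1000000

namespace Cfsg.Agent.Lib.Helper98.Fi23TC10S8

open Cfsg.Agent.Lib.Helper98.CosetCert Cfsg.Agent.Lib.Helper98.CosetCert2

open Cfsg.Agent.Lib.Helper98.Fi23TC10D

theorem seg96 : rangeOKF cert 446692 2965 = true := by decide +kernel

theorem seg97 : rangeOKF cert 449657 1252 = true := by decide +kernel

theorem seg98 : rangeOKF cert 450909 1396 = true := by decide +kernel

theorem seg99 : rangeOKF cert 452305 1759 = true := by decide +kernel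

theorem seg100 : rangeOKF cert 454064 2318 = true := by decide +kernel

theorem seg101 : rangeOKF cert 456382 1595 = true := by decide +kernel

theorem seg102 : rangeOKF cert 457977 1521 = true := by decide +kernel

theorem seg103 : rangeOKF cert 459498 1749 = true := by decide +kernel

theorem seg104 : rangeOKF cert 461247 2167 = true := by decide +kernel

theorem seg105 : rangeOKF cert 463414 2591 = true := by decide +kernel

theorem seg106 : rangeOKF cert 466005 1524 = true := by decide +kernel

theorem seg107 : rangeOKF cert 467529 1844 = true := by decide +kernel

end Cfsg.Agent.Lib.Helper98.Fi23TC10S8
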