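import Mathlib
import Cfsg.Agent.Lib.Helper98.Fi23TC10D

/-! Coset enumeration certificate Fi23TC10: checks, part 9. -/

set_option autoImplicit false
set_option maxRecDepth 1000000

namespace Cfsg.Agent.Lib.Helper98.Fi23TC10S9

open Cfsg.Agent.Lib.Helper98.CosetCert Cfsg.Agent.Lib.Helper98.CosetCert2

open Cfsg.Agent.Lib.Helper98.Fi23TC10D

theorem seg108 : rangeOKF cert 469373 1489 = true := by decide +kernel

theorem seg109 : rangeOKF cert 470862 1333 = true := by decide +kernel

theorem seg110 : rangeOKF cert 472195 1642 = true := by decide +kernel

theorem seg111 : rangeOKF cert 473837 1602 = true := by decide +kernel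

theorem seg112 : rangeOKF cert 475439 1380 = true := by decide +kernel

theorem seg113 : rangeOKF cert 476819 3513 = true := by decide +kernel

theorem seg114 : rangeOKF cert 480332 4833 = true := by decide +kernel

theorem seg115 : rangeOKF cert 485165 4828 = true := by decide +kernel

theorem seg116 : rangeOKF cert 489993 4830 = true := by decide +kernel

theorem seg117 : rangeOKF cert 494823 4864 = true := by decide +kernel

theorem seg118 : rangeOKF cert 499687 4808 = true := by decide +kernel

theorem seg119 : rangeOKF cert 504495 4877 = true := by decide +kernel

end Cfsg.Agent.Lib.Helper98.Fi23TC10S9
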