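import Mathlib
import Cfsg.Agent.Lib.Helper98.Fi23TC10D
import Cfsg.Agent.Lib.Helper98.Fi23TC10S0
import Cfsg.Agent.Lib.Helper98.Fi23TC10S1
import Cfsg.Agent.Lib.Helper98.Fi23TC10S2
import Cfsg.Agent.Lib.Helper98.Fi23TC10S3
import Cfsg.Agent.Lib.Helper98.Fi23TC10S4
import Cfsg.Agent.Lib.Helper98.Fi23TC10S5
import Cfsg.Agent.Lib.Helper98.Fi23TC10S6
import Cfsg.Agent.Lib.Helper98.Fi23TC10S7
import Cfsg.Agent.Lib.Helper98.Fi23TC10S8
import Cfsg.Agent.Lib.Helper98.Fi23TC10S9
import Cfsg.Agent.Lib.Helper98.Fi23TC10S10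
import Cfsg.Agent.Lib.Helper98.Fi23TC10S11
import Cfsg.Agent.Lib.Helper98.Fi23TC10S12
import Cfsg.Agent.Lib.Helper98.Fi23TC10S13
import Cfsg.Agent.Lib.Helper98.Fi23TC10S14
import Cfsg.Agent.Lib.Helper98.Fi23TC10S15
import Cfsg.Agent.Lib.Helper98.Fi23TC10S16
import Cfsg.Agent.Lib.Helper98.Fi23TC10S17

/-! Coset enumeration certificate, level 10: index at most 31671. -/

set_option autoImplicit false
set_option maxRecDepth 1000000

namespace Cfsg.Agent.Lib.Helper98.Fi23TC10

open Cfsg.Agent.Lib.Helper98.CosetCert Cfsg.Agent.Lib.Helper98.CosetCert2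

open Cfsg.Agent.Lib.Helper98.Fi23TC10D

theorem log_ok : LogUpTo cert cert.nlog :=
  (((((((((((((((((((((((((((((((((((((((((((((((((((((((((((((((((((((((((((((((((((((((((((((((((((((((((((((((((((((((((((((((((((((((((((((((((((((((logUpTo_zero cert).addF Fi23TC10S0.seg0 (by decide : 4838 = 0 + 4838)).addF Fi23TC10S0.seg1 (by decide : 9716 = 4838 + 4878)).addF Fi23TC10S0.seg2 (by decide : 14593 = 9716 + 4877)).addF Fi23TC10S0.seg3 (by decide : 19464 = 14593 + 4871)).addF Fi23TC10S0.seg4 (by decide : 24343 = 19464 + 4879)).addF Fi23TC10S0.seg5 (by decide : 29220 = 24343 + 4877)).addF Fi23TC10S0.seg6 (by decide : 34091 = 29220 + 4871)).addF Fi23TC10S0.seg7 (by decide : 38982 = 34091 + 4891)).addF Fi23TC10S0.seg8 (by decide : 43844 = 38982 + 4862)).addF Fi23TC10S0.seg9 (by decide : 48713 = 43844 + 4869)).addF Fi23TC10S0.seg10 (by decide : 53602 = 48713 + 4889)).addF Fi23TC10S0.seg11 (by decide : 58484 = 53602 + 4882)).addF Fi23TC10S1.seg12 (by decide : 63359 = 58484 + 4875)).addF Fi23TC10S1.seg13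 (by decide : 68223 = 63359 + 4864)).addF Fi23TC10S1.seg14 (by decide : 73105 = 68223 + 4882)).addF Fi23TC10S1.seg15 (by decide : 77998 = 73105 + 4893)).addF Fi23TC10S1.seg16 (by decide : 82882 = 77998 + 4884)).addF Fi23TC10S1.seg17 (by decide : 87765 = 82882 + 4883)).addF Fi23TC10S1.seg18 (by decide : 92644 = 87765 + 4879)).addF Fi23TC10S1.seg19 (by decide : 97513 = 92644 + 4869)).addF Fi23TC10S1.seg20 (by decide : 102390 = 97513 + 4877)).addF Fi23TC10S1.seg21 (by decide : 107275 = 102390 + 4885)).addF Fi23TC10S1.seg22 (by decide : 112162 = 107275 + 4887)).addF Fi23TC10S1.seg23 (by decide : 117027 = 112162 + 4865)).addF Fi23TC10S2.seg24 (by decide : 121901 = 117027 + 4874)).addF Fi23TC10S2.seg25 (by decide : 126802 = 121901 + 4901)).addF Fi23TC10S2.seg26 (by decide : 131678 = 126802 + 4876)).addF Fi23TC10S2.seg27 (by decide : 136566 = 131678 + 4888)).addF Fi23TC10S2.seg28 (by decide : 141443 = 136566 + 4877)).addF Fi23TC10S2.seg29 (by decide : 146324 = 141443 + 4881)).addF Fi23TC10S2.seg30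 (by decide : 151198 = 146324 + 4874)).addF Fi23TC10S2.seg31 (by decide : 156081 = 151198 + 4883)).addF Fi23TC10S2.seg32 (by decide : 160961 = 156081 + 4880)).addF Fi23TC10S2.seg33 (by decide : 165844 = 160961 + 4883)).addF Fi23TC10S2.seg34 (by decide : 170732 = 165844 + 4888)).addF Fi23TC10S2.seg35 (by decide : 175612 = 170732 + 4880)).addF Fi23TC10S3.seg36 (by decide : 180501 = 175612 + 4889)).addF Fi23TC10S3.seg37 (by decide : 185406 = 180501 + 4905)).addF Fi23TC10S3.seg38 (by decide : 190283 = 185406 + 4877)).addF Fi23TC10S3.seg39 (by decide : 195184 = 190283 + 4901)).addF Fi23TC10S3.seg40 (by decide : 200077 = 195184 + 4893)).addF Fi23TC10S3.seg41 (by decide : 204956 = 200077 + 4879)).addF Fi23TC10S3.seg42 (by decide : 209837 = 204956 + 4881)).addF Fi23TC10S3.seg43 (by decide : 214726 = 209837 + 4889)).addF Fi23TC10S3.seg44 (by decide : 219593 = 214726 + 4867)).addF Fi23TC10S3.seg45 (by decide : 224487 = 219593 + 4894)).addF Fi23TC10S3.seg46 (by decide : 229359 = 224487 + 4872)).addF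 Fi23TC10S3.seg47 (by decide : 234244 = 229359 + 4885)).addF Fi23TC10S4.seg48 (by decide : 239121 = 234244 + 4877)).addF Fi23TC10S4.seg49 (by decide : 244012 = 239121 + 4891)).addF Fi23TC10S4.seg50 (by decide : 248894 = 244012 + 4882)).addF Fi23TC10S4.seg51 (by decide : 253779 = 248894 + 4885)).addF Fi23TC10S4.seg52 (by decide : 258668 = 253779 + 4889)).addF Fi23TC10S4.seg53 (by decide : 263564 = 258668 + 4896)).addF Fi23TC10S4.seg54 (by decide : 268475 = 263564 + 4911)).addF Fi23TC10S4.seg55 (by decide : 273365 = 268475 + 4890)).addF Fi23TC10S4.seg56 (by decide : 278234 = 273365 + 4869)).addF Fi23TC10S4.seg57 (by decide : 283142 = 278234 + 4908)).addF Fi23TC10S4.seg58 (by decide : 288036 = 283142 + 4894)).addF Fi23TC10S4.seg59 (by decide : 292928 = 288036 + 4892)).addF Fi23TC10S5.seg60 (by decide : 297812 = 292928 + 4884)).addF Fi23TC10S5.seg61 (by decide : 302694 = 297812 + 4882)).addF Fi23TC10S5.seg62 (by decide : 307572 = 302694 + 4878)).addF Fi23TC10S5.seg63 (by decide : 312463 =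 307572 + 4891)).addF Fi23TC10S5.seg64 (by decide : 317334 = 312463 + 4871)).addF Fi23TC10S5.seg65 (by decide : 322232 = 317334 + 4898)).addF Fi23TC10S5.seg66 (by decide : 327117 = 322232 + 4885)).addF Fi23TC10S5.seg67 (by decide : 331984 = 327117 + 4867)).addF Fi23TC10S5.seg68 (by decide : 336850 = 331984 + 4866)).addF Fi23TC10S5.seg69 (by decide : 341749 = 336850 + 4899)).addF Fi23TC10S5.seg70 (by decide : 346619 = 341749 + 4870)).addF Fi23TC10S5.seg71 (by decide : 351510 = 346619 + 4891)).addF Fi23TC10S6.seg72 (by decide : 356398 = 351510 + 4888)).addF Fi23TC10S6.seg73 (by decide : 361284 = 356398 + 4886)).addF Fi23TC10S6.seg74 (by decide : 366163 = 361284 + 4879)).addF Fi23TC10S6.seg75 (by decide : 371054 = 366163 + 4891)).addF Fi23TC10S6.seg76 (by decide : 375950 = 371054 + 4896)).addF Fi23TC10S6.seg77 (by decide : 380847 = 375950 + 4897)).addF Fi23TC10S6.seg78 (by decide : 385742 = 380847 + 4895)).addF Fi23TC10S6.seg79 (by decide : 390642 = 385742 + 4900)).addF Fi23TC10S6.seg80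 (by decide : 395527 = 390642 + 4885)).addF Fi23TC10S6.seg81 (by decide : 400422 = 395527 + 4895)).addF Fi23TC10S6.seg82 (by decide : 405295 = 400422 + 4873)).addF Fi23TC10S6.seg83 (by decide : 410197 = 405295 + 4902)).addF Fi23TC10S7.seg84 (by decide : 415104 = 410197 + 4907)).addF Fi23TC10S7.seg85 (by decide : 420001 = 415104 + 4897)).addF Fi23TC10S7.seg86 (by decide : 423594 = 420001 + 3593)).addF Fi23TC10S7.seg87 (by decide : 424619 = 423594 + 1025)).addF Fi23TC10S7.seg88 (by decide : 426283 = 424619 + 1664)).addF Fi23TC10S7.seg89 (by decide : 428146 = 426283 + 1863)).addF Fi23TC10S7.seg90 (by decide : 430325 = 428146 + 2179)).addF Fi23TC10S7.seg91 (by decide : 433323 = 430325 + 2998)).addF Fi23TC10S7.seg92 (by decide : 436773 = 433323 + 3450)).addF Fi23TC10S7.seg93 (by decide : 440966 = 436773 + 4193)).addF Fi23TC10S7.seg94 (by decide : 444105 = 440966 + 3139)).addF Fi23TC10S7.seg95 (by decide : 446692 = 444105 + 2587)).addF Fi23TC10S8.seg96 (by decide : 449657 = 446692 + 2965)).addF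 Fi23TC10S8.seg97 (by decide : 450909 = 449657 + 1252)).addF Fi23TC10S8.seg98 (by decide : 452305 = 450909 + 1396)).addF Fi23TC10S8.seg99 (by decide : 454064 = 452305 + 1759)).addF Fi23TC10S8.seg100 (by decide : 456382 = 454064 + 2318)).addF Fi23TC10S8.seg101 (by decide : 457977 = 456382 + 1595)).addF Fi23TC10S8.seg102 (by decide : 459498 = 457977 + 1521)).addF Fi23TC10S8.seg103 (by decide : 461247 = 459498 + 1749)).addF Fi23TC10S8.seg104 (by decide : 463414 = 461247 + 2167)).addF Fi23TC10S8.seg105 (by decide : 466005 = 463414 + 2591)).addF Fi23TC10S8.seg106 (by decide : 467529 = 466005 + 1524)).addF Fi23TC10S8.seg107 (by decide : 469373 = 467529 + 1844)).addF Fi23TC10S9.seg108 (by decide : 470862 = 469373 + 1489)).addF Fi23TC10S9.seg109 (by decide : 472195 = 470862 + 1333)).addF Fi23TC10S9.seg110 (by decide : 473837 = 472195 + 1642)).addF Fi23TC10S9.seg111 (by decide : 475439 = 473837 + 1602)).addF Fi23TC10S9.seg112 (by decide : 476819 = 475439 + 1380)).addF Fi23TC10S9.seg113 (by decide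 : 480332 = 476819 + 3513)).addF Fi23TC10S9.seg114 (by decide : 485165 = 480332 + 4833)).addF Fi23TC10S9.seg115 (by decide : 489993 = 485165 + 4828)).addF Fi23TC10S9.seg116 (by decide : 494823 = 489993 + 4830)).addF Fi23TC10S9.seg117 (by decide : 499687 = 494823 + 4864)).addF Fi23TC10S9.seg118 (by decide : 504495 = 499687 + 4808)).addF Fi23TC10S9.seg119 (by decide : 509372 = 504495 + 4877)).addF Fi23TC10S10.seg120 (by decide : 514161 = 509372 + 4789)).addF Fi23TC10S10.seg121 (by decide : 518965 = 514161 + 4804)).addF Fi23TC10S10.seg122 (by decide : 523815 = 518965 + 4850)).addF Fi23TC10S10.seg123 (by decide : 528664 = 523815 + 4849)).addF Fi23TC10S10.seg124 (by decide : 533435 = 528664 + 4771)).addF Fi23TC10S10.seg125 (by decide : 538281 = 533435 + 4846)).addF Fi23TC10S10.seg126 (by decide : 543032 = 538281 + 4751)).addF Fi23TC10S10.seg127 (by decide : 547865 = 543032 + 4833)).addF Fi23TC10S10.seg128 (by decide : 552588 = 547865 + 4723)).addF Fi23TC10S10.seg129 (by decide : 557369 = 552588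 + 4781)).addF Fi23TC10S10.seg130 (by decide : 562180 = 557369 + 4811)).addF Fi23TC10S10.seg131 (by decide : 566912 = 562180 + 4732)).addF Fi23TC10S11.seg132 (by decide : 571748 = 566912 + 4836)).addF Fi23TC10S11.seg133 (by decide : 576568 = 571748 + 4820)).addF Fi23TC10S11.seg134 (by decide : 581390 = 576568 + 4822)).addF Fi23TC10S11.seg135 (by decide : 586238 = 581390 + 4848)).addF Fi23TC10S11.seg136 (by decide : 591084 = 586238 + 4846)).addF Fi23TC10S11.seg137 (by decide : 595925 = 591084 + 4841)).addF Fi23TC10S11.seg138 (by decide : 600754 = 595925 + 4829)).addF Fi23TC10S11.seg139 (by decide : 605603 = 600754 + 4849)).addF Fi23TC10S11.seg140 (by decide : 610434 = 605603 + 4831)).addF Fi23TC10S11.seg141 (by decide : 615277 = 610434 + 4843)).addF Fi23TC10S11.seg142 (by decide : 620088 = 615277 + 4811)).addF Fi23TC10S11.seg143 (by decide : 624915 = 620088 + 4827)).addF Fi23TC10S12.seg144 (by decide : 629709 = 624915 + 4794)).addF Fi23TC10S12.seg145 (by decide : 634549 = 629709 + 4840)).addF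 Fi23TC10S12.seg146 (by decide : 639365 = 634549 + 4816)).addF Fi23TC10S12.seg147 (by decide : 644127 = 639365 + 4762)).addF Fi23TC10S12.seg148 (by decide : 648856 = 644127 + 4729)).addF Fi23TC10S12.seg149 (by decide : 653547 = 648856 + 4691)).addF Fi23TC10S12.seg150 (by decide : 653620 = 653547 + 73)

theorem names_ok : NamesUpTo cert cert.M :=
  (((((((((((((((((((((((((((((((((((((((((((((((((((((((((((((namesUpTo_zero cert).addF Fi23TC10S12.nseg0 (by decide : 8871 = 0 + 8871)).addF Fi23TC10S12.nseg1 (by decide : 18331 = 8871 + 9460)).addF Fi23TC10S12.nseg2 (by decide : 28299 = 18331 + 9968)).addF Fi23TC10S12.nseg3 (by decide : 38842 = 28299 + 10543)).addF Fi23TC10S12.nseg4 (by decide : 50174 = 38842 + 11332)).addF Fi23TC10S13.nseg5 (by decide : 60891 = 50174 + 10717)).addF Fi23TC10S13.nseg6 (by decide : 72851 = 60891 + 11960)).addF Fi23TC10S13.nseg7 (by decide : 83794 = 72851 + 10943)).addF Fi23TC10S13.nseg8 (by decide : 96006 = 83794 + 12212)).addF Fi23TC10S13.nseg9 (by decide :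 107565 = 96006 + 11559)).addF Fi23TC10S13.nseg10 (by decide : 119080 = 107565 + 11515)).addF Fi23TC10S13.nseg11 (by decide : 130690 = 119080 + 11610)).addF Fi23TC10S13.nseg12 (by decide : 143914 = 130690 + 13224)).addF Fi23TC10S13.nseg13 (by decide : 155371 = 143914 + 11457)).addF Fi23TC10S13.nseg14 (by decide : 167513 = 155371 + 12142)).addF Fi23TC10S13.nseg15 (by decide : 178691 = 167513 + 11178)).addF Fi23TC10S13.nseg16 (by decide : 191053 = 178691 + 12362)).addF Fi23TC10S14.nseg17 (by decide : 204383 = 191053 + 13330)).addF Fi23TC10S14.nseg18 (by decide : 217049 = 204383 + 12666)).addF Fi23TC10S14.nseg19 (by decide : 228410 = 217049 + 11361)).addF Fi23TC10S14.nseg20 (by decide : 241091 = 228410 + 12681)).addF Fi23TC10S14.nseg21 (by decide : 252896 = 241091 + 11805)).addF Fi23TC10S14.nseg22 (by decide : 264631 = 252896 + 11735)).addF Fi23TC10S14.nseg23 (by decide : 277202 = 264631 + 12571)).addF Fi23TC10S14.nseg24 (by decide : 290536 = 277202 + 13334)).addF Fi23TC10S14.nseg25 (by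 decide : 303829 = 290536 + 13293)).addF Fi23TC10S14.nseg26 (by decide : 316501 = 303829 + 12672)).addF Fi23TC10S14.nseg27 (by decide : 328298 = 316501 + 11797)).addF Fi23TC10S14.nseg28 (by decide : 340653 = 328298 + 12355)).addF Fi23TC10S15.nseg29 (by decide : 353404 = 340653 + 12751)).addF Fi23TC10S15.nseg30 (by decide : 365876 = 353404 + 12472)).addF Fi23TC10S15.nseg31 (by decide : 377149 = 365876 + 11273)).addF Fi23TC10S15.nseg32 (by decide : 390010 = 377149 + 12861)).addF Fi23TC10S15.nseg33 (by decide : 402768 = 390010 + 12758)).addF Fi23TC10S15.nseg34 (by decide : 416102 = 402768 + 13334)).addF Fi23TC10S15.nseg35 (by decide : 429436 = 416102 + 13334)).addF Fi23TC10S15.nseg36 (by decide : 442726 = 429436 + 13290)).addF Fi23TC10S15.nseg37 (by decide : 455702 = 442726 + 12976)).addF Fi23TC10S15.nseg38 (by decide : 468500 = 455702 + 12798)).addF Fi23TC10S15.nseg39 (by decide : 480096 = 468500 + 11596)).addF Fi23TC10S15.nseg40 (by decide : 492751 = 480096 + 12655)).addF Fi23TC10S16.nseg41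 (by decide : 502603 = 492751 + 9852)).addF Fi23TC10S16.nseg42 (by decide : 512486 = 502603 + 9883)).addF Fi23TC10S16.nseg43 (by decide : 522340 = 512486 + 9854)).addF Fi23TC10S16.nseg44 (by decide : 532303 = 522340 + 9963)).addF Fi23TC10S16.nseg45 (by decide : 542296 = 532303 + 9993)).addF Fi23TC10S16.nseg46 (by decide : 552337 = 542296 + 10041)).addF Fi23TC10S16.nseg47 (by decide : 562389 = 552337 + 10052)).addF Fi23TC10S16.nseg48 (by decide : 572485 = 562389 + 10096)).addF Fi23TC10S16.nseg49 (by decide : 582636 = 572485 + 10151)).addF Fi23TC10S16.nseg50 (by decide : 592884 = 582636 + 10248)).addF Fi23TC10S16.nseg51 (by decide : 603017 = 592884 + 10133)).addF Fi23TC10S16.nseg52 (by decide : 612867 = 603017 + 9850)).addF Fi23TC10S17.nseg53 (by decide : 622560 = 612867 + 9693)).addF Fi23TC10S17.nseg54 (by decide : 632234 = 622560 + 9674)).addF Fi23TC10S17.nseg55 (by decide : 642132 = 632234 + 9898)).addF Fi23TC10S17.nseg56 (by decide : 652312 = 642132 + 10180)).addF Fi23TC10S17.nseg57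 (by decide : 662720 = 652312 + 10408)).addF Fi23TC10S17.nseg58 (by decide : 673196 = 662720 + 10476)).addF Fi23TC10S17.nseg59 (by decide : 684036 = 673196 + 10840)).addF Fi23TC10S17.nseg60 (by decide : 685291 = 684036 + 1255)

end Cfsg.Agent.Lib.Helper98.Fi23TC10
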