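import Mathlib
import Cfsg.Agent.Lib.Helper98.Fi23TC4D
import Cfsg.Agent.Lib.Helper98.Fi23TC4S0

/-! Coset enumeration certificate, level 4: index at most 8. -/

set_option autoImplicit false
set_option maxRecDepth 1000000

namespace Cfsg.Agent.Lib.Helper98.Fi23TC4

open Cfsg.Agent.Lib.Helper98.CosetCert Cfsg.Agent.Lib.Helper98.CosetCert2

open Cfsg.Agent.Lib.Helper98.Fi23TC4D

theorem log_ok : LogUpTo cert cert.nlog :=
  (logUpTo_zero cert).addF Fi23TC4S0.seg0 (by decide : 25 = 0 + 25)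

theorem names_ok : NamesUpTo cert cert.M :=
  (namesUpTo_zero cert).addF Fi23TC4S0.nseg0 (by decide : 33 = 0 + 33)

end Cfsg.Agent.Lib.Helper98.Fi23TC4
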