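import Mathlib
import Cfsg.Agent.Lib.Helper98.Fi23TC8C0
import Cfsg.Agent.Lib.Helper98.Fi23TC8C1
import Cfsg.Agent.Lib.Helper98.CosetCert2
import Cfsg.Agent.Lib.Helper98.Fi23Pres

/-! Coset enumeration certificate, level 8: index at most 3159; data. -/

set_option autoImplicit false
set_option maxRecDepth 1000000

namespace Cfsg.Agent.Lib.Helper98.Fi23TC8D

open Cfsg.Agent.Lib.Helper98.CosetCert Cfsg.Agent.Lib.Helper98.CosetCert2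

open Cfsg.Agent.Lib.Helper98.Fi23Pres

def entN0 (c : ℕ) : ℕ := (Bool.rec (motive := fun _ => ℕ) entC0 (Bool.rec (motive := fun _ => ℕ) entC1 entC2 (Nat.ble 2 c)) (Nat.ble 1 c))

def entN1 (c : ℕ) : ℕ := (Bool.rec (motive := fun _ => ℕ) entC3 (Bool.rec (motive := fun _ => ℕ) entC4 entC5 (Nat.ble 5 c)) (Nat.ble 4 c))

def entN2 (c : ℕ) : ℕ := (Bool.rec (motive := fun _ => ℕ) entC6 (Bool.rec (motive := fun _ => ℕ) entC7 entC8 (Nat.ble 8 c)) (Nat.ble 7 c))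

def entN3 (c : ℕ) : ℕ := (Bool.rec (motive := fun _ => ℕ) (entN0 c) (Bool.rec (motive := fun _ => ℕ) (entN1 c) (entN2 c) (Nat.ble 6 c)) (Nat.ble 3 c))

def entN4 (c : ℕ) : ℕ := (Bool.rec (motive := fun _ => ℕ) entC9 (Bool.rec (motive := fun _ => ℕ) entC10 entC11 (Nat.ble 11 c)) (Nat.ble 10 c))

def entN5 (c : ℕ) : ℕ := (Bool.rec (motive := fun _ => ℕ) entC12 (Bool.rec (motive := fun _ => ℕ) entC13 entC14 (Nat.ble 14 c)) (Nat.ble 13 c))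

def entN6 (c : ℕ) : ℕ := (Bool.rec (motive := fun _ => ℕ) entC15 (Bool.rec (motive := fun _ => ℕ) entC16 entC17 (Nat.ble 17 c)) (Nat.ble 16 c))

def entN7 (c : ℕ) : ℕ := (Bool.rec (motive := fun _ => ℕ) (entN4 c) (Bool.rec (motive := fun _ => ℕ) (entN5 c) (entN6 c) (Nat.ble 15 c)) (Nat.ble 12 c))

def entN8 (c : ℕ) : ℕ := (Bool.rec (motive := fun _ => ℕ) entC18 (Bool.rec (motive := fun _ => ℕ) entC19 entC20 (Nat.ble 20 c)) (Nat.ble 19 c))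

def entN9 (c : ℕ) : ℕ := (Bool.rec (motive := fun _ => ℕ) entC21 (Bool.rec (motive := fun _ => ℕ) entC22 entC23 (Nat.ble 23 c)) (Nat.ble 22 c))

def entN10 (c : ℕ) : ℕ := (Bool.rec (motive := fun _ => ℕ) entC24 (Bool.rec (motive := fun _ => ℕ) entC25 entC26 (Nat.ble 26 c)) (Nat.ble 25 c))

def entN11 (c : ℕ) : ℕ := (Bool.rec (motive := fun _ => ℕ) (entN8 c) (Bool.rec (motive := fun _ => ℕ) (entN9 c) (entN10 c) (Nat.ble 24 c)) (Nat.ble 21 c))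

def entN12 (c : ℕ) : ℕ := (Bool.rec (motive := fun _ => ℕ) entC27 (Bool.rec (motive := fun _ => ℕ) entC28 entC29 (Nat.ble 29 c)) (Nat.ble 28 c))

def entN13 (c : ℕ) : ℕ := (Bool.rec (motive := fun _ => ℕ) entC30 (Bool.rec (motive := fun _ => ℕ) entC31 entC32 (Nat.ble 32 c)) (Nat.ble 31 c))

def entN14 (c : ℕ) : ℕ := (Bool.rec (motive := fun _ => ℕ) entC33 (Bool.rec (motive := fun _ => ℕ) entC34 entC35 (Nat.ble 35 c)) (Nat.ble 34 c))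

def entN15 (c : ℕ) : ℕ := (Bool.rec (motive := fun _ => ℕ) (entN12 c) (Bool.rec (motive := fun _ => ℕ) (entN13 c) (entN14 c) (Nat.ble 33 c)) (Nat.ble 30 c))

def entN16 (c : ℕ) : ℕ := (Bool.rec (motive := fun _ => ℕ) (Bool.rec (motive := fun _ => ℕ) (entN3 c) (entN7 c) (Nat.ble 9 c)) (Bool.rec (motive := fun _ => ℕ) (entN11 c) (entN15 c) (Nat.ble 27 c)) (Nat.ble 18 c))

def entN17 (c : ℕ) : ℕ := (Bool.rec (motive := fun _ => ℕ) entC36 (Bool.rec (motive := fun _ => ℕ) entC37 entC38 (Nat.ble 38 c)) (Nat.ble 37 c))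

def entN18 (c : ℕ) : ℕ := (Bool.rec (motive := fun _ => ℕ) entC39 (Bool.rec (motive := fun _ => ℕ) entC40 entC41 (Nat.ble 41 c)) (Nat.ble 40 c))

def entN19 (c : ℕ) : ℕ := (Bool.rec (motive := fun _ => ℕ) entC42 (Bool.rec (motive := fun _ => ℕ) entC43 entC44 (Nat.ble 44 c)) (Nat.ble 43 c))

def entN20 (c : ℕ) : ℕ := (Bool.rec (motive := fun _ => ℕ) (entN17 c) (Bool.rec (motive := fun _ => ℕ) (entN18 c) (entN19 c) (Nat.ble 42 c)) (Nat.ble 39 c))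

def entN21 (c : ℕ) : ℕ := (Bool.rec (motive := fun _ => ℕ) entC45 (Bool.rec (motive := fun _ => ℕ) entC46 entC47 (Nat.ble 47 c)) (Nat.ble 46 c))

def entN22 (c : ℕ) : ℕ := (Bool.rec (motive := fun _ => ℕ) entC48 (Bool.rec (motive := fun _ => ℕ) entC49 entC50 (Nat.ble 50 c)) (Nat.ble 49 c))

def entN23 (c : ℕ) : ℕ := (Bool.rec (motive := fun _ => ℕ) entC51 (Bool.rec (motive := fun _ => ℕ) entC52 entC53 (Nat.ble 53 c)) (Nat.ble 52 c))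

def entN24 (c : ℕ) : ℕ := (Bool.rec (motive := fun _ => ℕ) (entN21 c) (Bool.rec (motive := fun _ => ℕ) (entN22 c) (entN23 c) (Nat.ble 51 c)) (Nat.ble 48 c))

def entN25 (c : ℕ) : ℕ := (Bool.rec (motive := fun _ => ℕ) entC54 (Bool.rec (motive := fun _ => ℕ) entC55 entC56 (Nat.ble 56 c)) (Nat.ble 55 c))

def entN26 (c : ℕ) : ℕ := (Bool.rec (motive := fun _ => ℕ) entC57 (Bool.rec (motive := fun _ => ℕ) entC58 entC59 (Nat.ble 59 c)) (Nat.ble 58 c))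

def entN27 (c : ℕ) : ℕ := (Bool.rec (motive := fun _ => ℕ) entC60 (Bool.rec (motive := fun _ => ℕ) entC61 entC62 (Nat.ble 62 c)) (Nat.ble 61 c))

def entN28 (c : ℕ) : ℕ := (Bool.rec (motive := fun _ => ℕ) (entN25 c) (Bool.rec (motive := fun _ => ℕ) (entN26 c) (entN27 c) (Nat.ble 60 c)) (Nat.ble 57 c))

def entN29 (c : ℕ) : ℕ := (Bool.rec (motive := fun _ => ℕ) entC63 (Bool.rec (motive := fun _ => ℕ) entC64 entC65 (Nat.ble 65 c)) (Nat.ble 64 c))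

def entN30 (c : ℕ) : ℕ := (Bool.rec (motive := fun _ => ℕ) entC66 (Bool.rec (motive := fun _ => ℕ) entC67 entC68 (Nat.ble 68 c)) (Nat.ble 67 c))

def entN31 (c : ℕ) : ℕ := (Bool.rec (motive := fun _ => ℕ) entC69 (Bool.rec (motive := fun _ => ℕ) entC70 entC71 (Nat.ble 71 c)) (Nat.ble 70 c))

def entN32 (c : ℕ) : ℕ := (Bool.rec (motive := fun _ => ℕ) (entN29 c) (Bool.rec (motive := fun _ => ℕ) (entN30 c) (entN31 c) (Nat.ble 69 c)) (Nat.ble 66 c))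

def entN33 (c : ℕ) : ℕ := (Bool.rec (motive := fun _ => ℕ) (Bool.rec (motive := fun _ => ℕ) (entN20 c) (entN24 c) (Nat.ble 45 c)) (Bool.rec (motive := fun _ => ℕ) (entN28 c) (entN32 c) (Nat.ble 63 c)) (Nat.ble 54 c))

def entN34 (c : ℕ) : ℕ := (Bool.rec (motive := fun _ => ℕ) entC72 (Bool.rec (motive := fun _ => ℕ) entC73 entC74 (Nat.ble 74 c)) (Nat.ble 73 c))

def entN35 (c : ℕ) : ℕ := (Bool.rec (motive := fun _ => ℕ) entC75 (Bool.rec (motive := fun _ => ℕ) entC76 entC77 (Nat.ble 77 c)) (Nat.ble 76 c))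

def entN36 (c : ℕ) : ℕ := (Bool.rec (motive := fun _ => ℕ) entC78 (Bool.rec (motive := fun _ => ℕ) entC79 entC80 (Nat.ble 80 c)) (Nat.ble 79 c))

def entN37 (c : ℕ) : ℕ := (Bool.rec (motive := fun _ => ℕ) (entN34 c) (Bool.rec (motive := fun _ => ℕ) (entN35 c) (entN36 c) (Nat.ble 78 c)) (Nat.ble 75 c))

def entN38 (c : ℕ) : ℕ := (Bool.rec (motive := fun _ => ℕ) entC81 (Bool.rec (motive := fun _ => ℕ) entC82 entC83 (Nat.ble 83 c)) (Nat.ble 82 c))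

def entN39 (c : ℕ) : ℕ := (Bool.rec (motive := fun _ => ℕ) entC84 (Bool.rec (motive := fun _ => ℕ) entC85 entC86 (Nat.ble 86 c)) (Nat.ble 85 c))

def entN40 (c : ℕ) : ℕ := (Bool.rec (motive := fun _ => ℕ) entC87 (Bool.rec (motive := fun _ => ℕ) entC88 entC89 (Nat.ble 89 c)) (Nat.ble 88 c))

def entN41 (c : ℕ) : ℕ := (Bool.rec (motive := fun _ => ℕ) (entN38 c) (Bool.rec (motive := fun _ => ℕ) (entN39 c) (entN40 c) (Nat.ble 87 c)) (Nat.ble 84 c))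

def entN42 (c : ℕ) : ℕ := (Bool.rec (motive := fun _ => ℕ) entC90 (Bool.rec (motive := fun _ => ℕ) entC91 entC92 (Nat.ble 92 c)) (Nat.ble 91 c))

def entN43 (c : ℕ) : ℕ := (Bool.rec (motive := fun _ => ℕ) entC93 (Bool.rec (motive := fun _ => ℕ) entC94 entC95 (Nat.ble 95 c)) (Nat.ble 94 c))

def entN44 (c : ℕ) : ℕ := (Bool.rec (motive := fun _ => ℕ) entC96 (Bool.rec (motive := fun _ => ℕ) entC97 entC98 (Nat.ble 98 c)) (Nat.ble 97 c))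

def entN45 (c : ℕ) : ℕ := (Bool.rec (motive := fun _ => ℕ) (entN42 c) (Bool.rec (motive := fun _ => ℕ) (entN43 c) (entN44 c) (Nat.ble 96 c)) (Nat.ble 93 c))

def entN46 (c : ℕ) : ℕ := (Bool.rec (motive := fun _ => ℕ) entC99 (Bool.rec (motive := fun _ => ℕ) entC100 entC101 (Nat.ble 101 c)) (Nat.ble 100 c))

def entN47 (c : ℕ) : ℕ := (Bool.rec (motive := fun _ => ℕ) entC102 (Bool.rec (motive := fun _ => ℕ) entC103 entC104 (Nat.ble 104 c)) (Nat.ble 103 c))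

def entN48 (c : ℕ) : ℕ := (Bool.rec (motive := fun _ => ℕ) entC105 (Bool.rec (motive := fun _ => ℕ) entC106 entC107 (Nat.ble 107 c)) (Nat.ble 106 c))

def entN49 (c : ℕ) : ℕ := (Bool.rec (motive := fun _ => ℕ) (entN46 c) (Bool.rec (motive := fun _ => ℕ) (entN47 c) (entN48 c) (Nat.ble 105 c)) (Nat.ble 102 c))

def entN50 (c : ℕ) : ℕ := (Bool.rec (motive := fun _ => ℕ) (Bool.rec (motive := fun _ => ℕ) (entN37 c) (entN41 c) (Nat.ble 81 c)) (Bool.rec (motive := fun _ => ℕ) (entN45 c) (entN49 c) (Nat.ble 99 c)) (Nat.ble 90 c))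

def entN51 (c : ℕ) : ℕ := (Bool.rec (motive := fun _ => ℕ) entC108 (Bool.rec (motive := fun _ => ℕ) entC109 entC110 (Nat.ble 110 c)) (Nat.ble 109 c))

def entN52 (c : ℕ) : ℕ := (Bool.rec (motive := fun _ => ℕ) entC111 (Bool.rec (motive := fun _ => ℕ) entC112 entC113 (Nat.ble 113 c)) (Nat.ble 112 c))

def entN53 (c : ℕ) : ℕ := (Bool.rec (motive := fun _ => ℕ) entC114 (Bool.rec (motive := fun _ => ℕ) entC115 entC116 (Nat.ble 116 c)) (Nat.ble 115 c))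

def entN54 (c : ℕ) : ℕ := (Bool.rec (motive := fun _ => ℕ) (entN51 c) (Bool.rec (motive := fun _ => ℕ) (entN52 c) (entN53 c) (Nat.ble 114 c)) (Nat.ble 111 c))

def entN55 (c : ℕ) : ℕ := (Bool.rec (motive := fun _ => ℕ) entC117 (Bool.rec (motive := fun _ => ℕ) entC118 entC119 (Nat.ble 119 c)) (Nat.ble 118 c))

def entN56 (c : ℕ) : ℕ := (Bool.rec (motive := fun _ => ℕ) entC120 (Bool.rec (motive := fun _ => ℕ) entC121 entC122 (Nat.ble 122 c)) (Nat.ble 121 c))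

def entN57 (c : ℕ) : ℕ := (Bool.rec (motive := fun _ => ℕ) entC123 (Bool.rec (motive := fun _ => ℕ) entC124 entC125 (Nat.ble 125 c)) (Nat.ble 124 c))

def entN58 (c : ℕ) : ℕ := (Bool.rec (motive := fun _ => ℕ) (entN55 c) (Bool.rec (motive := fun _ => ℕ) (entN56 c) (entN57 c) (Nat.ble 123 c)) (Nat.ble 120 c))

def entN59 (c : ℕ) : ℕ := (Bool.rec (motive := fun _ => ℕ) entC126 (Bool.rec (motive := fun _ => ℕ) entC127 entC128 (Nat.ble 128 c)) (Nat.ble 127 c))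

def entN60 (c : ℕ) : ℕ := (Bool.rec (motive := fun _ => ℕ) entC129 (Bool.rec (motive := fun _ => ℕ) entC130 entC131 (Nat.ble 131 c)) (Nat.ble 130 c))

def entN61 (c : ℕ) : ℕ := (Bool.rec (motive := fun _ => ℕ) entC132 (Bool.rec (motive := fun _ => ℕ) entC133 entC134 (Nat.ble 134 c)) (Nat.ble 133 c))

def entN62 (c : ℕ) : ℕ := (Bool.rec (motive := fun _ => ℕ) (entN59 c) (Bool.rec (motive := fun _ => ℕ) (entN60 c) (entN61 c) (Nat.ble 132 c)) (Nat.ble 129 c))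

def entN63 (c : ℕ) : ℕ := (Bool.rec (motive := fun _ => ℕ) entC135 entC136 (Nat.ble 136 c))

def entN64 (c : ℕ) : ℕ := (Bool.rec (motive := fun _ => ℕ) entC137 entC138 (Nat.ble 138 c))

def entN65 (c : ℕ) : ℕ := (Bool.rec (motive := fun _ => ℕ) entC139 entC140 (Nat.ble 140 c))

def entN66 (c : ℕ) : ℕ := (Bool.rec (motive := fun _ => ℕ) entC141 entC142 (Nat.ble 142 c))

def entN67 (c : ℕ) : ℕ := (Bool.rec (motive := fun _ => ℕ) (Bool.rec (motive := fun _ => ℕ) (entN63 c) (entN64 c) (Nat.ble 137 c)) (Bool.rec (motive := fun _ => ℕ) (entN65 c) (entN66 c) (Nat.ble 141 c)) (Nat.ble 139 c))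

def entN68 (c : ℕ) : ℕ := (Bool.rec (motive := fun _ => ℕ) (Bool.rec (motive := fun _ => ℕ) (entN54 c) (entN58 c) (Nat.ble 117 c)) (Bool.rec (motive := fun _ => ℕ) (entN62 c) (entN67 c) (Nat.ble 135 c)) (Nat.ble 126 c))

def entN69 (c : ℕ) : ℕ := (Bool.rec (motive := fun _ => ℕ) (Bool.rec (motive := fun _ => ℕ) (entN16 c) (entN33 c) (Nat.ble 36 c)) (Bool.rec (motive := fun _ => ℕ) (entN50 c) (entN68 c) (Nat.ble 108 c)) (Nat.ble 72 c))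

def entSel (c : ℕ) : ℕ := (entN69 c)

def entRaw (u : ℕ) : ℕ :=
  Nat.land (Nat.shiftRight (strict entSel (Nat.shiftRight u 10)) (Nat.mul 96 (Nat.land u 1023))) 79228162514264337593543950335

def ent (u : ℕ) : ℕ := strict entRaw u

def lgeN0 (c : ℕ) : ℕ := (Bool.rec (motive := fun _ => ℕ) lgeC0 (Bool.rec (motive := fun _ => ℕ) lgeC1 lgeC2 (Nat.ble 2 c)) (Nat.ble 1 c))

def lgeN1 (c : ℕ) : ℕ := (Bool.rec (motive := fun _ => ℕ) lgeC3 (Bool.rec (motive := fun _ => ℕ) lgeC4 lgeC5 (Nat.ble 5 c)) (Nat.ble 4 c))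

def lgeN2 (c : ℕ) : ℕ := (Bool.rec (motive := fun _ => ℕ) lgeC6 (Bool.rec (motive := fun _ => ℕ) lgeC7 lgeC8 (Nat.ble 8 c)) (Nat.ble 7 c))

def lgeN3 (c : ℕ) : ℕ := (Bool.rec (motive := fun _ => ℕ) (lgeN0 c) (Bool.rec (motive := fun _ => ℕ) (lgeN1 c) (lgeN2 c) (Nat.ble 6 c)) (Nat.ble 3 c))

def lgeN4 (c : ℕ) : ℕ := (Bool.rec (motive := fun _ => ℕ) lgeC9 (Bool.rec (motive := fun _ => ℕ) lgeC10 lgeC11 (Nat.ble 11 c)) (Nat.ble 10 c))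

def lgeN5 (c : ℕ) : ℕ := (Bool.rec (motive := fun _ => ℕ) lgeC12 (Bool.rec (motive := fun _ => ℕ) lgeC13 lgeC14 (Nat.ble 14 c)) (Nat.ble 13 c))

def lgeN6 (c : ℕ) : ℕ := (Bool.rec (motive := fun _ => ℕ) lgeC15 (Bool.rec (motive := fun _ => ℕ) lgeC16 lgeC17 (Nat.ble 17 c)) (Nat.ble 16 c))

def lgeN7 (c : ℕ) : ℕ := (Bool.rec (motive := fun _ => ℕ) (lgeN4 c) (Bool.rec (motive := fun _ => ℕ) (lgeN5 c) (lgeN6 c) (Nat.ble 15 c)) (Nat.ble 12 c))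

def lgeN8 (c : ℕ) : ℕ := (Bool.rec (motive := fun _ => ℕ) lgeC18 (Bool.rec (motive := fun _ => ℕ) lgeC19 lgeC20 (Nat.ble 20 c)) (Nat.ble 19 c))

def lgeN9 (c : ℕ) : ℕ := (Bool.rec (motive := fun _ => ℕ) lgeC21 (Bool.rec (motive := fun _ => ℕ) lgeC22 lgeC23 (Nat.ble 23 c)) (Nat.ble 22 c))

def lgeN10 (c : ℕ) : ℕ := (Bool.rec (motive := fun _ => ℕ) lgeC24 (Bool.rec (motive := fun _ => ℕ) lgeC25 lgeC26 (Nat.ble 26 c)) (Nat.ble 25 c))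

def lgeN11 (c : ℕ) : ℕ := (Bool.rec (motive := fun _ => ℕ) (lgeN8 c) (Bool.rec (motive := fun _ => ℕ) (lgeN9 c) (lgeN10 c) (Nat.ble 24 c)) (Nat.ble 21 c))

def lgeN12 (c : ℕ) : ℕ := (Bool.rec (motive := fun _ => ℕ) lgeC27 lgeC28 (Nat.ble 28 c))

def lgeN13 (c : ℕ) : ℕ := (Bool.rec (motive := fun _ => ℕ) lgeC29 lgeC30 (Nat.ble 30 c))

def lgeN14 (c : ℕ) : ℕ := (Bool.rec (motive := fun _ => ℕ) lgeC31 lgeC32 (Nat.ble 32 c))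

def lgeN15 (c : ℕ) : ℕ := (Bool.rec (motive := fun _ => ℕ) lgeC33 lgeC34 (Nat.ble 34 c))

def lgeN16 (c : ℕ) : ℕ := (Bool.rec (motive := fun _ => ℕ) (Bool.rec (motive := fun _ => ℕ) (lgeN12 c) (lgeN13 c) (Nat.ble 29 c)) (Bool.rec (motive := fun _ => ℕ) (lgeN14 c) (lgeN15 c) (Nat.ble 33 c)) (Nat.ble 31 c))

def lgeN17 (c : ℕ) : ℕ := (Bool.rec (motive := fun _ => ℕ) (Bool.rec (motive := fun _ => ℕ) (lgeN3 c) (lgeN7 c) (Nat.ble 9 c)) (Bool.rec (motive := fun _ => ℕ) (lgeN11 c) (lgeN16 c) (Nat.ble 27 c)) (Nat.ble 18 c))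

def lgeN18 (c : ℕ) : ℕ := (Bool.rec (motive := fun _ => ℕ) lgeC35 (Bool.rec (motive := fun _ => ℕ) lgeC36 lgeC37 (Nat.ble 37 c)) (Nat.ble 36 c))

def lgeN19 (c : ℕ) : ℕ := (Bool.rec (motive := fun _ => ℕ) lgeC38 (Bool.rec (motive := fun _ => ℕ) lgeC39 lgeC40 (Nat.ble 40 c)) (Nat.ble 39 c))

def lgeN20 (c : ℕ) : ℕ := (Bool.rec (motive := fun _ => ℕ) lgeC41 (Bool.rec (motive := fun _ => ℕ) lgeC42 lgeC43 (Nat.ble 43 c)) (Nat.ble 42 c))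

def lgeN21 (c : ℕ) : ℕ := (Bool.rec (motive := fun _ => ℕ) (lgeN18 c) (Bool.rec (motive := fun _ => ℕ) (lgeN19 c) (lgeN20 c) (Nat.ble 41 c)) (Nat.ble 38 c))

def lgeN22 (c : ℕ) : ℕ := (Bool.rec (motive := fun _ => ℕ) lgeC44 (Bool.rec (motive := fun _ => ℕ) lgeC45 lgeC46 (Nat.ble 46 c)) (Nat.ble 45 c))

def lgeN23 (c : ℕ) : ℕ := (Bool.rec (motive := fun _ => ℕ) lgeC47 (Bool.rec (motive := fun _ => ℕ) lgeC48 lgeC49 (Nat.ble 49 c)) (Nat.ble 48 c))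

def lgeN24 (c : ℕ) : ℕ := (Bool.rec (motive := fun _ => ℕ) lgeC50 (Bool.rec (motive := fun _ => ℕ) lgeC51 lgeC52 (Nat.ble 52 c)) (Nat.ble 51 c))

def lgeN25 (c : ℕ) : ℕ := (Bool.rec (motive := fun _ => ℕ) (lgeN22 c) (Bool.rec (motive := fun _ => ℕ) (lgeN23 c) (lgeN24 c) (Nat.ble 50 c)) (Nat.ble 47 c))

def lgeN26 (c : ℕ) : ℕ := (Bool.rec (motive := fun _ => ℕ) lgeC53 (Bool.rec (motive := fun _ => ℕ) lgeC54 lgeC55 (Nat.ble 55 c)) (Nat.ble 54 c))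

def lgeN27 (c : ℕ) : ℕ := (Bool.rec (motive := fun _ => ℕ) lgeC56 (Bool.rec (motive := fun _ => ℕ) lgeC57 lgeC58 (Nat.ble 58 c)) (Nat.ble 57 c))

def lgeN28 (c : ℕ) : ℕ := (Bool.rec (motive := fun _ => ℕ) lgeC59 (Bool.rec (motive := fun _ => ℕ) lgeC60 lgeC61 (Nat.ble 61 c)) (Nat.ble 60 c))

def lgeN29 (c : ℕ) : ℕ := (Bool.rec (motive := fun _ => ℕ) (lgeN26 c) (Bool.rec (motive := fun _ => ℕ) (lgeN27 c) (lgeN28 c) (Nat.ble 59 c)) (Nat.ble 56 c))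

def lgeN30 (c : ℕ) : ℕ := (Bool.rec (motive := fun _ => ℕ) lgeC62 lgeC63 (Nat.ble 63 c))

def lgeN31 (c : ℕ) : ℕ := (Bool.rec (motive := fun _ => ℕ) lgeC64 lgeC65 (Nat.ble 65 c))

def lgeN32 (c : ℕ) : ℕ := (Bool.rec (motive := fun _ => ℕ) lgeC66 lgeC67 (Nat.ble 67 c))

def lgeN33 (c : ℕ) : ℕ := (Bool.rec (motive := fun _ => ℕ) lgeC68 lgeC69 (Nat.ble 69 c))

def lgeN34 (c : ℕ) : ℕ := (Bool.rec (motive := fun _ => ℕ) (Bool.rec (motive := fun _ => ℕ) (lgeN30 c) (lgeN31 c) (Nat.ble 64 c)) (Bool.rec (motive := fun _ => ℕ) (lgeN32 c) (lgeN33 c) (Nat.ble 68 c)) (Nat.ble 66 c))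

def lgeN35 (c : ℕ) : ℕ := (Bool.rec (motive := fun _ => ℕ) (Bool.rec (motive := fun _ => ℕ) (lgeN21 c) (lgeN25 c) (Nat.ble 44 c)) (Bool.rec (motive := fun _ => ℕ) (lgeN29 c) (lgeN34 c) (Nat.ble 62 c)) (Nat.ble 53 c))

def lgeN36 (c : ℕ) : ℕ := (Bool.rec (motive := fun _ => ℕ) lgeC70 (Bool.rec (motive := fun _ => ℕ) lgeC71 lgeC72 (Nat.ble 72 c)) (Nat.ble 71 c))

def lgeN37 (c : ℕ) : ℕ := (Bool.rec (motive := fun _ => ℕ) lgeC73 (Bool.rec (motive := fun _ => ℕ) lgeC74 lgeC75 (Nat.ble 75 c)) (Nat.ble 74 c))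

def lgeN38 (c : ℕ) : ℕ := (Bool.rec (motive := fun _ => ℕ) lgeC76 (Bool.rec (motive := fun _ => ℕ) lgeC77 lgeC78 (Nat.ble 78 c)) (Nat.ble 77 c))

def lgeN39 (c : ℕ) : ℕ := (Bool.rec (motive := fun _ => ℕ) (lgeN36 c) (Bool.rec (motive := fun _ => ℕ) (lgeN37 c) (lgeN38 c) (Nat.ble 76 c)) (Nat.ble 73 c))

def lgeN40 (c : ℕ) : ℕ := (Bool.rec (motive := fun _ => ℕ) lgeC79 (Bool.rec (motive := fun _ => ℕ) lgeC80 lgeC81 (Nat.ble 81 c)) (Nat.ble 80 c))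

def lgeN41 (c : ℕ) : ℕ := (Bool.rec (motive := fun _ => ℕ) lgeC82 (Bool.rec (motive := fun _ => ℕ) lgeC83 lgeC84 (Nat.ble 84 c)) (Nat.ble 83 c))

def lgeN42 (c : ℕ) : ℕ := (Bool.rec (motive := fun _ => ℕ) lgeC85 (Bool.rec (motive := fun _ => ℕ) lgeC86 lgeC87 (Nat.ble 87 c)) (Nat.ble 86 c))

def lgeN43 (c : ℕ) : ℕ := (Bool.rec (motive := fun _ => ℕ) (lgeN40 c) (Bool.rec (motive := fun _ => ℕ) (lgeN41 c) (lgeN42 c) (Nat.ble 85 c)) (Nat.ble 82 c))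

def lgeN44 (c : ℕ) : ℕ := (Bool.rec (motive := fun _ => ℕ) lgeC88 (Bool.rec (motive := fun _ => ℕ) lgeC89 lgeC90 (Nat.ble 90 c)) (Nat.ble 89 c))

def lgeN45 (c : ℕ) : ℕ := (Bool.rec (motive := fun _ => ℕ) lgeC91 (Bool.rec (motive := fun _ => ℕ) lgeC92 lgeC93 (Nat.ble 93 c)) (Nat.ble 92 c))

def lgeN46 (c : ℕ) : ℕ := (Bool.rec (motive := fun _ => ℕ) lgeC94 (Bool.rec (motive := fun _ => ℕ) lgeC95 lgeC96 (Nat.ble 96 c)) (Nat.ble 95 c))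

def lgeN47 (c : ℕ) : ℕ := (Bool.rec (motive := fun _ => ℕ) (lgeN44 c) (Bool.rec (motive := fun _ => ℕ) (lgeN45 c) (lgeN46 c) (Nat.ble 94 c)) (Nat.ble 91 c))

def lgeN48 (c : ℕ) : ℕ := (Bool.rec (motive := fun _ => ℕ) lgeC97 lgeC98 (Nat.ble 98 c))

def lgeN49 (c : ℕ) : ℕ := (Bool.rec (motive := fun _ => ℕ) lgeC99 lgeC100 (Nat.ble 100 c))

def lgeN50 (c : ℕ) : ℕ := (Bool.rec (motive := fun _ => ℕ) lgeC101 lgeC102 (Nat.ble 102 c))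

def lgeN51 (c : ℕ) : ℕ := (Bool.rec (motive := fun _ => ℕ) lgeC103 lgeC104 (Nat.ble 104 c))

def lgeN52 (c : ℕ) : ℕ := (Bool.rec (motive := fun _ => ℕ) (Bool.rec (motive := fun _ => ℕ) (lgeN48 c) (lgeN49 c) (Nat.ble 99 c)) (Bool.rec (motive := fun _ => ℕ) (lgeN50 c) (lgeN51 c) (Nat.ble 103 c)) (Nat.ble 101 c))

def lgeN53 (c : ℕ) : ℕ := (Bool.rec (motive := fun _ => ℕ) (Bool.rec (motive := fun _ => ℕ) (lgeN39 c) (lgeN43 c) (Nat.ble 79 c)) (Bool.rec (motive := fun _ => ℕ) (lgeN47 c) (lgeN52 c) (Nat.ble 97 c)) (Nat.ble 88 c))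

def lgeN54 (c : ℕ) : ℕ := (Bool.rec (motive := fun _ => ℕ) lgeC105 (Bool.rec (motive := fun _ => ℕ) lgeC106 lgeC107 (Nat.ble 107 c)) (Nat.ble 106 c))

def lgeN55 (c : ℕ) : ℕ := (Bool.rec (motive := fun _ => ℕ) lgeC108 (Bool.rec (motive := fun _ => ℕ) lgeC109 lgeC110 (Nat.ble 110 c)) (Nat.ble 109 c))

def lgeN56 (c : ℕ) : ℕ := (Bool.rec (motive := fun _ => ℕ) lgeC111 (Bool.rec (motive := fun _ => ℕ) lgeC112 lgeC113 (Nat.ble 113 c)) (Nat.ble 112 c))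

def lgeN57 (c : ℕ) : ℕ := (Bool.rec (motive := fun _ => ℕ) (lgeN54 c) (Bool.rec (motive := fun _ => ℕ) (lgeN55 c) (lgeN56 c) (Nat.ble 111 c)) (Nat.ble 108 c))

def lgeN58 (c : ℕ) : ℕ := (Bool.rec (motive := fun _ => ℕ) lgeC114 (Bool.rec (motive := fun _ => ℕ) lgeC115 lgeC116 (Nat.ble 116 c)) (Nat.ble 115 c))

def lgeN59 (c : ℕ) : ℕ := (Bool.rec (motive := fun _ => ℕ) lgeC117 (Bool.rec (motive := fun _ => ℕ) lgeC118 lgeC119 (Nat.ble 119 c)) (Nat.ble 118 c))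

def lgeN60 (c : ℕ) : ℕ := (Bool.rec (motive := fun _ => ℕ) lgeC120 (Bool.rec (motive := fun _ => ℕ) lgeC121 lgeC122 (Nat.ble 122 c)) (Nat.ble 121 c))

def lgeN61 (c : ℕ) : ℕ := (Bool.rec (motive := fun _ => ℕ) (lgeN58 c) (Bool.rec (motive := fun _ => ℕ) (lgeN59 c) (lgeN60 c) (Nat.ble 120 c)) (Nat.ble 117 c))

def lgeN62 (c : ℕ) : ℕ := (Bool.rec (motive := fun _ => ℕ) lgeC123 (Bool.rec (motive := fun _ => ℕ) lgeC124 lgeC125 (Nat.ble 125 c)) (Nat.ble 124 c))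

def lgeN63 (c : ℕ) : ℕ := (Bool.rec (motive := fun _ => ℕ) lgeC126 (Bool.rec (motive := fun _ => ℕ) lgeC127 lgeC128 (Nat.ble 128 c)) (Nat.ble 127 c))

def lgeN64 (c : ℕ) : ℕ := (Bool.rec (motive := fun _ => ℕ) lgeC129 (Bool.rec (motive := fun _ => ℕ) lgeC130 lgeC131 (Nat.ble 131 c)) (Nat.ble 130 c))

def lgeN65 (c : ℕ) : ℕ := (Bool.rec (motive := fun _ => ℕ) (lgeN62 c) (Bool.rec (motive := fun _ => ℕ) (lgeN63 c) (lgeN64 c) (Nat.ble 129 c)) (Nat.ble 126 c))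

def lgeN66 (c : ℕ) : ℕ := (Bool.rec (motive := fun _ => ℕ) lgeC132 lgeC133 (Nat.ble 133 c))

def lgeN67 (c : ℕ) : ℕ := (Bool.rec (motive := fun _ => ℕ) lgeC134 lgeC135 (Nat.ble 135 c))

def lgeN68 (c : ℕ) : ℕ := (Bool.rec (motive := fun _ => ℕ) lgeC136 lgeC137 (Nat.ble 137 c))

def lgeN69 (c : ℕ) : ℕ := (Bool.rec (motive := fun _ => ℕ) lgeC138 lgeC139 (Nat.ble 139 c))

def lgeN70 (c : ℕ) : ℕ := (Bool.rec (motive := fun _ => ℕ) (Bool.rec (motive := fun _ => ℕ) (lgeN66 c) (lgeN67 c) (Nat.ble 134 c)) (Bool.rec (motive := fun _ => ℕ) (lgeN68 c) (lgeN69 c) (Nat.ble 138 c)) (Nat.ble 136 c))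

def lgeN71 (c : ℕ) : ℕ := (Bool.rec (motive := fun _ => ℕ) (Bool.rec (motive := fun _ => ℕ) (lgeN57 c) (lgeN61 c) (Nat.ble 114 c)) (Bool.rec (motive := fun _ => ℕ) (lgeN65 c) (lgeN70 c) (Nat.ble 132 c)) (Nat.ble 123 c))

def lgeN72 (c : ℕ) : ℕ := (Bool.rec (motive := fun _ => ℕ) (Bool.rec (motive := fun _ => ℕ) (lgeN17 c) (lgeN35 c) (Nat.ble 35 c)) (Bool.rec (motive := fun _ => ℕ) (lgeN53 c) (lgeN71 c) (Nat.ble 105 c)) (Nat.ble 70 c))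

def lgeSel (c : ℕ) : ℕ := (lgeN72 c)

def lgeRaw (u : ℕ) : ℕ :=
  Nat.land (Nat.shiftRight (strict lgeSel (Nat.shiftRight u 10)) (Nat.mul 64 (Nat.land u 1023))) 18446744073709551615

def lge (u : ℕ) : ℕ := strict lgeRaw u

def repN0 (c : ℕ) : ℕ := (Bool.rec (motive := fun _ => ℕ) (Bool.rec (motive := fun _ => ℕ) repC0 repC1 (Nat.ble 1 c)) (Bool.rec (motive := fun _ => ℕ) repC2 repC3 (Nat.ble 3 c)) (Nat.ble 2 c))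

def repSel (c : ℕ) : ℕ := (repN0 c)

def repRaw (u : ℕ) : ℕ :=
  Nat.land (Nat.shiftRight (strict repSel (Nat.shiftRight u 10)) (Nat.mul 20 (Nat.land u 1023))) 1048575

def rep (u : ℕ) : ℕ := strict repRaw u

def par (v : ℕ) : ℕ := Nat.land (ent v) 1048575

def lab (v : ℕ) : ℕ := Nat.land (Nat.shiftRight (ent v) 20) 15

def cb (v : ℕ) : ℕ := Nat.land (Nat.shiftRight (ent v) 24) 1048575

def link (v : ℕ) : ℕ := Nat.land (Nat.shiftRight (ent v) 44) 1048575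

def lt1 (v : ℕ) : ℕ := Nat.shiftRight (ent v) 64

def logw (i : ℕ) : ℕ := Nat.land (lge i) 65535

def logc (i : ℕ) : ℕ := Nat.land (Nat.shiftRight (lge i) 16) 1048575

def logb (i : ℕ) : ℕ := Nat.shiftRight (lge i) 36

def rwords : List (List (List ℕ)) := [
  [[0, 0], [0, 1, 0, 1, 0, 1], [1, 0, 1, 0, 1, 0], [0, 2, 0, 2], [2, 0, 2, 0], [0, 3, 0, 3], [3, 0, 3, 0], [0, 4, 0, 4], [4, 0, 4, 0], [0, 5, 0, 5], [5, 0, 5, 0], [0, 6, 0, 6], [6, 0, 6, 0], [0, 7, 0, 7, 0, 7], [7, 0, 7, 0, 7, 0], [1, 1]],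
  [[1, 2, 1, 2, 1, 2], [2, 1, 2, 1, 2, 1], [1, 3, 1, 3, 1, 3], [3, 1, 3, 1, 3, 1], [1, 4, 1, 4], [4, 1, 4, 1], [1, 5, 1, 5], [5, 1, 5, 1], [1, 6, 1, 6], [6, 1, 6, 1], [1, 7, 1, 7], [7, 1, 7, 1], [2, 2], [2, 3, 2, 3], [3, 2, 3, 2], [2, 4, 2, 4, 2, 4]],
  [[4, 2, 4, 2, 4, 2], [2, 5, 2, 5], [5, 2, 5, 2], [2, 6, 2, 6], [6, 2, 6, 2], [2, 7, 2, 7], [7, 2, 7, 2], [3, 3], [3, 4, 3, 4], [4, 3, 4, 3], [3, 5, 3, 5, 3, 5], [5, 3, 5, 3, 5, 3], [3, 6, 3, 6], [6, 3, 6, 3], [3, 7, 3, 7], [7, 3, 7, 3]],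
  [[4, 4], [4, 5, 4, 5], [5, 4, 5, 4], [4, 6, 4, 6], [6, 4, 6, 4], [4, 7, 4, 7], [7, 4, 7, 4], [5, 5], [5, 6, 5, 6, 5, 6], [6, 5, 6, 5, 6, 5], [5, 7, 5, 7], [7, 5, 7, 5], [6, 6], [6, 7, 6, 7], [7, 6, 7, 6], [7, 7]],
  [[1, 2, 4, 1, 3, 5, 1, 0, 7, 1, 2, 4, 1, 3, 5, 1, 0, 7, 1, 2, 4, 1, 3, 5, 1, 0, 7, 1, 2, 4, 1, 3, 5, 1, 0, 7, 1, 2, 4, 1, 3, 5, 1, 0, 7, 1, 2, 4, 1, 3, 5, 1, 0, 7, 1, 2, 4, 1, 3, 5, 1, 0, 7, 1, 2, 4, 1, 3, 5, 1, 0, 7, 1, 2, 4, 1, 3, 5, 1, 0, 7, 1, 2, 4, 1, 3, 5, 1, 0, 7], [2, 4, 1, 3, 5, 1, 0, 7, 1, 2, 4, 1, 3, 5, 1, 0, 7, 1, 2, 4, 1, 3, 5, 1, 0, 7, 1, 2, 4, 1, 3, 5, 1, 0, 7, 1, 2, 4, 1, 3, 5, 1, 0, 7, 1, 2, 4, 1, 3, 5, 1, 0, 7, 1, 2, 4, 1, 3, 5, 1, 0, 7, 1, 2, 4, 1, 3, 5, 1, 0, 7, 1, 2, 4, 1, 3, 5, 1, 0, 7, 1, 2, 4, 1, 3, 5, 1, 0, 7, 1], [4, 1, 3, 5, 1, 0, 7, 1, 2, 4, 1, 3, 5, 1, 0, 7, 1,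 2, 4, 1, 3, 5, 1, 0, 7, 1, 2, 4, 1, 3, 5, 1, 0, 7, 1, 2, 4, 1, 3, 5, 1, 0, 7, 1, 2, 4, 1, 3, 5, 1, 0, 7, 1, 2, 4, 1, 3, 5, 1, 0, 7, 1, 2, 4, 1, 3, 5, 1, 0, 7, 1, 2, 4, 1, 3, 5, 1, 0, 7, 1, 2, 4, 1, 3, 5, 1, 0, 7, 1, 2], [1, 3, 5, 1, 0, 7, 1, 2, 4, 1, 3, 5, 1, 0, 7, 1, 2, 4, 1, 3, 5, 1, 0, 7, 1, 2, 4, 1, 3, 5, 1, 0, 7, 1, 2, 4, 1, 3, 5, 1, 0, 7, 1, 2, 4, 1, 3, 5, 1, 0, 7, 1, 2, 4, 1, 3, 5, 1, 0, 7, 1, 2, 4, 1, 3, 5, 1, 0, 7, 1, 2, 4, 1, 3, 5, 1, 0, 7, 1, 2, 4, 1, 3, 5, 1, 0, 7, 1, 2, 4], [3, 5, 1, 0, 7, 1, 2, 4, 1, 3, 5, 1, 0, 7, 1, 2, 4, 1, 3, 5, 1, 0, 7, 1, 2, 4, 1, 3, 5, 1, 0, 7, 1, 2, 4, 1, 3, 5, 1, 0, 7, 1, 2, 4, 1, 3, 5, 1, 0, 7, 1, 2, 4, 1, 3, 5, 1, 0, 7, 1, 2, 4, 1, 3, 5, 1, 0, 7, 1, 2, 4, 1, 3, 5, 1, 0, 7, 1, 2, 4, 1, 3, 5, 1, 0, 7, 1, 2, 4, 1], [5, 1, 0, 7, 1, 2, 4, 1, 3, 5, 1, 0, 7, 1, 2, 4,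 1, 3, 5, 1, 0, 7, 1, 2, 4, 1, 3, 5, 1, 0, 7, 1, 2, 4, 1, 3, 5, 1, 0, 7, 1, 2, 4, 1, 3, 5, 1, 0, 7, 1, 2, 4, 1, 3, 5, 1, 0, 7, 1, 2, 4, 1, 3, 5, 1, 0, 7, 1, 2, 4, 1, 3, 5, 1, 0, 7, 1, 2, 4, 1, 3, 5, 1, 0, 7, 1, 2, 4, 1, 3], [1, 0, 7, 1, 2, 4, 1, 3, 5, 1, 0, 7, 1, 2, 4, 1, 3, 5, 1, 0, 7, 1, 2, 4, 1, 3, 5, 1, 0, 7, 1, 2, 4, 1, 3, 5, 1, 0, 7, 1, 2, 4, 1, 3, 5, 1, 0, 7, 1, 2, 4, 1, 3, 5, 1, 0, 7, 1, 2, 4, 1, 3, 5, 1, 0, 7, 1, 2, 4, 1, 3, 5, 1, 0, 7, 1, 2, 4, 1, 3, 5, 1, 0, 7, 1, 2, 4, 1, 3, 5], [0, 7, 1, 2, 4, 1, 3, 5, 1, 0, 7, 1, 2, 4, 1, 3, 5, 1, 0, 7, 1, 2, 4, 1, 3, 5, 1, 0, 7, 1, 2, 4, 1, 3, 5, 1, 0, 7, 1, 2, 4, 1, 3, 5, 1, 0, 7, 1, 2, 4, 1, 3, 5, 1, 0, 7, 1, 2, 4, 1, 3, 5, 1, 0, 7, 1, 2, 4, 1, 3, 5, 1, 0, 7, 1, 2, 4, 1, 3, 5, 1, 0, 7, 1, 2, 4, 1, 3, 5, 1], [7, 1, 2, 4, 1, 3, 5, 1, 0, 7, 1, 2, 4, 1, 3,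 5, 1, 0, 7, 1, 2, 4, 1, 3, 5, 1, 0, 7, 1, 2, 4, 1, 3, 5, 1, 0, 7, 1, 2, 4, 1, 3, 5, 1, 0, 7, 1, 2, 4, 1, 3, 5, 1, 0, 7, 1, 2, 4, 1, 3, 5, 1, 0, 7, 1, 2, 4, 1, 3, 5, 1, 0, 7, 1, 2, 4, 1, 3, 5, 1, 0, 7, 1, 2, 4, 1, 3, 5, 1, 0], [7, 0, 1, 5, 3, 1, 4, 2, 1, 7, 0, 1, 5, 3, 1, 4, 2, 1, 7, 0, 1, 5, 3, 1, 4, 2, 1, 7, 0, 1, 5, 3, 1, 4, 2, 1, 7, 0, 1, 5, 3, 1, 4, 2, 1, 7, 0, 1, 5, 3, 1, 4, 2, 1, 7, 0, 1, 5, 3, 1, 4, 2, 1, 7, 0, 1, 5, 3, 1, 4, 2, 1, 7, 0, 1, 5, 3, 1, 4, 2, 1, 7, 0, 1, 5, 3, 1, 4, 2, 1], [0, 1, 5, 3, 1, 4, 2, 1, 7, 0, 1, 5, 3, 1, 4, 2, 1, 7, 0, 1, 5, 3, 1, 4, 2, 1, 7, 0, 1, 5, 3, 1, 4, 2, 1, 7, 0, 1, 5, 3, 1, 4, 2, 1, 7, 0, 1, 5, 3, 1, 4, 2, 1, 7, 0, 1, 5, 3, 1, 4, 2, 1, 7, 0, 1, 5, 3, 1, 4, 2, 1, 7, 0, 1, 5, 3, 1, 4, 2, 1, 7, 0, 1, 5, 3, 1, 4, 2, 1, 7], [1, 5, 3, 1, 4, 2, 1, 7, 0, 1, 5, 3, 1, 4,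 2, 1, 7, 0, 1, 5, 3, 1, 4, 2, 1, 7, 0, 1, 5, 3, 1, 4, 2, 1, 7, 0, 1, 5, 3, 1, 4, 2, 1, 7, 0, 1, 5, 3, 1, 4, 2, 1, 7, 0, 1, 5, 3, 1, 4, 2, 1, 7, 0, 1, 5, 3, 1, 4, 2, 1, 7, 0, 1, 5, 3, 1, 4, 2, 1, 7, 0, 1, 5, 3, 1, 4, 2, 1, 7, 0], [5, 3, 1, 4, 2, 1, 7, 0, 1, 5, 3, 1, 4, 2, 1, 7, 0, 1, 5, 3, 1, 4, 2, 1, 7, 0, 1, 5, 3, 1, 4, 2, 1, 7, 0, 1, 5, 3, 1, 4, 2, 1, 7, 0, 1, 5, 3, 1, 4, 2, 1, 7, 0, 1, 5, 3, 1, 4, 2, 1, 7, 0, 1, 5, 3, 1, 4, 2, 1, 7, 0, 1, 5, 3, 1, 4, 2, 1, 7, 0, 1, 5, 3, 1, 4, 2, 1, 7, 0, 1], [3, 1, 4, 2, 1, 7, 0, 1, 5, 3, 1, 4, 2, 1, 7, 0, 1, 5, 3, 1, 4, 2, 1, 7, 0, 1, 5, 3, 1, 4, 2, 1, 7, 0, 1, 5, 3, 1, 4, 2, 1, 7, 0, 1, 5, 3, 1, 4, 2, 1, 7, 0, 1, 5, 3, 1, 4, 2, 1, 7, 0, 1, 5, 3, 1, 4, 2, 1, 7, 0, 1, 5, 3, 1, 4, 2, 1, 7, 0, 1, 5, 3, 1, 4, 2, 1, 7, 0, 1, 5], [1, 4, 2, 1, 7, 0, 1, 5, 3, 1, 4, 2, 1,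 7, 0, 1, 5, 3, 1, 4, 2, 1, 7, 0, 1, 5, 3, 1, 4, 2, 1, 7, 0, 1, 5, 3, 1, 4, 2, 1, 7, 0, 1, 5, 3, 1, 4, 2, 1, 7, 0, 1, 5, 3, 1, 4, 2, 1, 7, 0, 1, 5, 3, 1, 4, 2, 1, 7, 0, 1, 5, 3, 1, 4, 2, 1, 7, 0, 1, 5, 3, 1, 4, 2, 1, 7, 0, 1, 5, 3], [4, 2, 1, 7, 0, 1, 5, 3, 1, 4, 2, 1, 7, 0, 1, 5, 3, 1, 4, 2, 1, 7, 0, 1, 5, 3, 1, 4, 2, 1, 7, 0, 1, 5, 3, 1, 4, 2, 1, 7, 0, 1, 5, 3, 1, 4, 2, 1, 7, 0, 1, 5, 3, 1, 4, 2, 1, 7, 0, 1, 5, 3, 1, 4, 2, 1, 7, 0, 1, 5, 3, 1, 4, 2, 1, 7, 0, 1, 5, 3, 1, 4, 2, 1, 7, 0, 1, 5, 3, 1]],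
  [[2, 1, 7, 0, 1, 5, 3, 1, 4, 2, 1, 7, 0, 1, 5, 3, 1, 4, 2, 1, 7, 0, 1, 5, 3, 1, 4, 2, 1, 7, 0, 1, 5, 3, 1, 4, 2, 1, 7, 0, 1, 5, 3, 1, 4, 2, 1, 7, 0, 1, 5, 3, 1, 4, 2, 1, 7, 0, 1, 5, 3, 1, 4, 2, 1, 7, 0, 1, 5, 3, 1, 4, 2, 1, 7, 0, 1, 5, 3, 1, 4, 2, 1, 7, 0, 1, 5, 3, 1, 4], [1, 7, 0, 1, 5, 3, 1, 4, 2, 1, 7, 0, 1, 5, 3, 1, 4, 2, 1, 7, 0, 1, 5, 3, 1, 4, 2, 1, 7, 0, 1, 5, 3, 1, 4, 2, 1, 7, 0, 1, 5, 3, 1, 4, 2, 1, 7, 0, 1, 5, 3, 1, 4, 2, 1, 7, 0, 1, 5, 3, 1, 4, 2, 1, 7, 0, 1, 5, 3, 1, 4, 2, 1, 7, 0, 1, 5, 3, 1, 4, 2, 1, 7, 0, 1, 5, 3, 1, 4, 2]]]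

def swords : List (List ℕ) := [[0], [1], [2], [3], [4], [5], [6]]

def srcs : List (ℕ × ℕ × Bool) := [(0, 0, false), (1, 0, false), (1, 1, false), (2, 0, false), (2, 1, false), (3, 0, false), (3, 1, false), (4, 0, false), (4, 1, false), (5, 0, false), (5, 1, false), (6, 0, false), (6, 1, false), (7, 0, false), (7, 1, false), (11, 0, false), (12, 0, false), (12, 1, false), (13, 0, false), (13, 1, false), (14, 0, false), (14, 1, false), (15, 0, false), (15, 1, false), (16, 0, false), (16, 1, false), (17, 0, false), (17, 1, false), (22, 0, false), (23, 0, false), (23, 1, false), (24, 0, false), (24, 1, false), (25, 0, false), (25, 1, false), (26, 0, false), (26, 1, false), (27, 0, false), (27, 1, false), (33, 0, false), (34, 0, false), (34, 1, false), (35, 0, false), (35, 1, false), (36, 0, false), (36,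 1, false), (37, 0, false), (37, 1, false), (44, 0, false), (45, 0, false), (45, 1, false), (46, 0, false), (46, 1, false), (47, 0, false), (47, 1, false), (55, 0, false), (56, 0, false), (56, 1, false), (57, 0, false), (57, 1, false), (66, 0, false), (67, 0, false), (67, 1, false), (77, 0, false), (100, 0, false), (100, 1, false), (100, 2, false), (100, 3, false), (100, 4, false), (100, 5, false), (100, 6, false), (100, 7, false), (100, 8, false), (100, 0, true), (100, 1, true), (100, 2, true), (100, 3, true), (100, 4, true), (100, 5, true), (100, 6, true), (100, 7, true), (100, 8, true)]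

def cert : TCert where
  k := 8
  M := 146353
  n := 3159
  par := par
  lab := lab
  cb := cb
  link := link
  idx := link
  rep := rep
  rwords := rwords
  swords := swords
  nrw := 82
  nlog := 143194
  logw := logw
  logc := logc
  logb := logb
  lt1 := lt1

theorem rwords_src : rwords.flatten = srcs.map pres.srcWord := by decide +kernel

theorem wok : wordsOK cert.toCert = true := by decide +kernel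

theorem head_ok : headOK cert = true := by decide +kernel

end Cfsg.Agent.Lib.Helper98.Fi23TC8D
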