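import Mathlib
import Cfsg.Agent.Lib.Helper98.Fi23TC8D

/-! Coset enumeration certificate Fi23TC8: checks, part 0. -/

set_option autoImplicit false
set_option maxRecDepth 1000000

namespace Cfsg.Agent.Lib.Helper98.Fi23TC8S0

open Cfsg.Agent.Lib.Helper98.CosetCert Cfsg.Agent.Lib.Helper98.CosetCert2

open Cfsg.Agent.Lib.Helper98.Fi23TC8D

theorem seg0 : rangeOKF cert 0 4837 = true := by decide +kernel

theorem seg1 : rangeOKF cert 4837 4812 = true := by decide +kernel

theorem seg2 : rangeOKF cert 9649 4822 = true := by decide +kernel

theorem seg3 : rangeOKF cert 14471 4812 = true := by decide +kernel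

theorem seg4 : rangeOKF cert 19283 4811 = true := by decide +kernel

theorem seg5 : rangeOKF cert 24094 4816 = true := by decide +kernel

theorem seg6 : rangeOKF cert 28910 4820 = true := by decide +kernel

theorem seg7 : rangeOKF cert 33730 4810 = true := by decide +kernel

theorem seg8 : rangeOKF cert 38540 4823 = true := by decide +kernel

theorem seg9 : rangeOKF cert 43363 4813 = true := by decide +kernel

theorem seg10 : rangeOKF cert 48176 4816 = true := by decide +kernel

theorem seg11 : rangeOKF cert 52992 4820 = true := by decide +kernel

end Cfsg.Agent.Lib.Helper98.Fi23TC8S0
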