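import Mathlib
import Cfsg.Agent.Lib.Helper98.Fi23TC8D

/-! Coset enumeration certificate Fi23TC8: checks, part 1. -/

set_option autoImplicit false
set_option maxRecDepth 1000000

namespace Cfsg.Agent.Lib.Helper98.Fi23TC8S1

open Cfsg.Agent.Lib.Helper98.CosetCert Cfsg.Agent.Lib.Helper98.CosetCert2

open Cfsg.Agent.Lib.Helper98.Fi23TC8D

theorem seg12 : rangeOKF cert 57812 4822 = true := by decide +kernel

theorem seg13 : rangeOKF cert 62634 4812 = true := by decide +kernel

theorem seg14 : rangeOKF cert 67446 4818 = true := by decide +kernel

theorem seg15 : rangeOKF cert 72264 4829 = true := by decide +kernel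

theorem seg16 : rangeOKF cert 77093 4830 = true := by decide +kernel

theorem seg17 : rangeOKF cert 81923 4808 = true := by decide +kernel

theorem seg18 : rangeOKF cert 86731 4826 = true := by decide +kernel

theorem seg19 : rangeOKF cert 91557 4825 = true := by decide +kernel

theorem seg20 : rangeOKF cert 96382 4837 = true := by decide +kernel

theorem seg21 : rangeOKF cert 101219 4836 = true := by decide +kernel

theorem seg22 : rangeOKF cert 106055 4809 = true := by decide +kernel

theorem seg23 : rangeOKF cert 110864 4827 = true := by decide +kernel

end Cfsg.Agent.Lib.Helper98.Fi23TC8S1
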