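import Mathlib
import Cfsg.Agent.Lib.Helper98.Fi23TC8D

/-! Coset enumeration certificate Fi23TC8: checks, part 2. -/

set_option autoImplicit false
set_option maxRecDepth 1000000

namespace Cfsg.Agent.Lib.Helper98.Fi23TC8S2

open Cfsg.Agent.Lib.Helper98.CosetCert Cfsg.Agent.Lib.Helper98.CosetCert2

open Cfsg.Agent.Lib.Helper98.Fi23TC8D

theorem seg24 : rangeOKF cert 115691 4826 = true := by decide +kernel

theorem seg25 : rangeOKF cert 120517 2137 = true := by decide +kernel

theorem seg26 : rangeOKF cert 122654 1190 = true := by decide +kernel

theorem seg27 : rangeOKF cert 123844 3966 = true := by decide +kernel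

theorem seg28 : rangeOKF cert 127810 3031 = true := by decide +kernel

theorem seg29 : rangeOKF cert 130841 1573 = true := by decide +kernel

theorem seg30 : rangeOKF cert 132414 1602 = true := by decide +kernel

theorem seg31 : rangeOKF cert 134016 1537 = true := by decide +kernel

theorem seg32 : rangeOKF cert 135553 1943 = true := by decide +kernel

theorem seg33 : rangeOKF cert 137496 1501 = true := by decide +kernel

theorem seg34 : rangeOKF cert 138997 1547 = true := by decide +kernel

theorem seg35 : rangeOKF cert 140544 2204 = true := by decide +kernel

end Cfsg.Agent.Lib.Helper98.Fi23TC8S2
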