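import Mathlib
import Cfsg.Agent.Lib.Helper98.Fi23TC8D

/-! Coset enumeration certificate Fi23TC8: checks, part 3. -/

set_option autoImplicit false
set_option maxRecDepth 1000000

namespace Cfsg.Agent.Lib.Helper98.Fi23TC8S3

open Cfsg.Agent.Lib.Helper98.CosetCert Cfsg.Agent.Lib.Helper98.CosetCert2

open Cfsg.Agent.Lib.Helper98.Fi23TC8D

theorem seg36 : rangeOKF cert 142748 446 = true := by decide +kernel

theorem nseg0 : nameRangeOKF cert 0 9992 = true := by decide +kernel

theorem nseg1 : nameRangeOKF cert 9992 11573 = true := by decide +kernel

theorem nseg2 : nameRangeOKF cert 21565 12206 = true := by decide +kernel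

theorem nseg3 : nameRangeOKF cert 33771 12293 = true := by decide +kernel

theorem nseg4 : nameRangeOKF cert 46064 12659 = true := by decide +kernel

theorem nseg5 : nameRangeOKF cert 58723 12854 = true := by decide +kernel

theorem nseg6 : nameRangeOKF cert 71577 13046 = true := by decide +kernel

theorem nseg7 : nameRangeOKF cert 84623 13061 = true := by decide +kernel

theorem nseg8 : nameRangeOKF cert 97684 13193 = true := by decide +kernel

theorem nseg9 : nameRangeOKF cert 110877 13190 = true := by decide +kernel

theorem nseg10 : nameRangeOKF cert 124067 13235 = true := by decide +kernel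

end Cfsg.Agent.Lib.Helper98.Fi23TC8S3
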