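import Mathlib
import Cfsg.Agent.Lib.Helper98.Fi23TC8D
import Cfsg.Agent.Lib.Helper98.Fi23TC8S0
import Cfsg.Agent.Lib.Helper98.Fi23TC8S1
import Cfsg.Agent.Lib.Helper98.Fi23TC8S2
import Cfsg.Agent.Lib.Helper98.Fi23TC8S3
import Cfsg.Agent.Lib.Helper98.Fi23TC8S4

/-! Coset enumeration certificate, level 8: index at most 3159. -/

set_option autoImplicit false
set_option maxRecDepth 1000000

namespace Cfsg.Agent.Lib.Helper98.Fi23TC8

open Cfsg.Agent.Lib.Helper98.CosetCert Cfsg.Agent.Lib.Helper98.CosetCert2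

open Cfsg.Agent.Lib.Helper98.Fi23TC8D

theorem log_ok : LogUpTo cert cert.nlog :=
  (((((((((((((((((((((((((((((((((((((logUpTo_zero cert).addF Fi23TC8S0.seg0 (by decide : 4837 = 0 + 4837)).addF Fi23TC8S0.seg1 (by decide : 9649 = 4837 + 4812)).addF Fi23TC8S0.seg2 (by decide : 14471 = 9649 + 4822)).addF Fi23TC8S0.seg3 (by decide : 19283 = 14471 + 4812)).addF Fi23TC8S0.seg4 (by decide : 24094 = 19283 + 4811)).addF Fi23TC8S0.seg5 (by decide : 28910 = 24094 + 4816)).addF Fi23TC8S0.seg6 (by decide : 33730 = 28910 + 4820)).addF Fi23TC8S0.seg7 (by decide : 38540 = 33730 + 4810)).addF Fi23TC8S0.seg8 (by decide : 43363 = 38540 + 4823)).addF Fi23TC8S0.seg9 (by decide : 48176 = 43363 + 4813)).addF Fi23TC8S0.seg10 (by decide : 52992 = 48176 + 4816)).addF Fi23TC8S0.seg11 (by decide : 57812 = 52992 + 4820)).addF Fi23TC8S1.seg12 (by decide : 62634 = 57812 + 4822)).addF Fi23TC8S1.seg13 (by decide : 67446 = 62634 + 4812)).addF Fi23TC8S1.seg14 (by decide : 72264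 = 67446 + 4818)).addF Fi23TC8S1.seg15 (by decide : 77093 = 72264 + 4829)).addF Fi23TC8S1.seg16 (by decide : 81923 = 77093 + 4830)).addF Fi23TC8S1.seg17 (by decide : 86731 = 81923 + 4808)).addF Fi23TC8S1.seg18 (by decide : 91557 = 86731 + 4826)).addF Fi23TC8S1.seg19 (by decide : 96382 = 91557 + 4825)).addF Fi23TC8S1.seg20 (by decide : 101219 = 96382 + 4837)).addF Fi23TC8S1.seg21 (by decide : 106055 = 101219 + 4836)).addF Fi23TC8S1.seg22 (by decide : 110864 = 106055 + 4809)).addF Fi23TC8S1.seg23 (by decide : 115691 = 110864 + 4827)).addF Fi23TC8S2.seg24 (by decide : 120517 = 115691 + 4826)).addF Fi23TC8S2.seg25 (by decide : 122654 = 120517 + 2137)).addF Fi23TC8S2.seg26 (by decide : 123844 = 122654 + 1190)).addF Fi23TC8S2.seg27 (by decide : 127810 = 123844 + 3966)).addF Fi23TC8S2.seg28 (by decide : 130841 = 127810 + 3031)).addF Fi23TC8S2.seg29 (by decide : 132414 = 130841 + 1573)).addF Fi23TC8S2.seg30 (by decide : 134016 = 132414 + 1602)).addF Fi23TC8S2.seg31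 (by decide : 135553 = 134016 + 1537)).addF Fi23TC8S2.seg32 (by decide : 137496 = 135553 + 1943)).addF Fi23TC8S2.seg33 (by decide : 138997 = 137496 + 1501)).addF Fi23TC8S2.seg34 (by decide : 140544 = 138997 + 1547)).addF Fi23TC8S2.seg35 (by decide : 142748 = 140544 + 2204)).addF Fi23TC8S3.seg36 (by decide : 143194 = 142748 + 446)

theorem names_ok : NamesUpTo cert cert.M :=
  ((((((((((((namesUpTo_zero cert).addF Fi23TC8S3.nseg0 (by decide : 9992 = 0 + 9992)).addF Fi23TC8S3.nseg1 (by decide : 21565 = 9992 + 11573)).addF Fi23TC8S3.nseg2 (by decide : 33771 = 21565 + 12206)).addF Fi23TC8S3.nseg3 (by decide : 46064 = 33771 + 12293)).addF Fi23TC8S3.nseg4 (by decide : 58723 = 46064 + 12659)).addF Fi23TC8S3.nseg5 (by decide : 71577 = 58723 + 12854)).addF Fi23TC8S3.nseg6 (by decide : 84623 = 71577 + 13046)).addF Fi23TC8S3.nseg7 (by decide : 97684 = 84623 + 13061)).addF Fi23TC8S3.nseg8 (by decide : 110877 = 97684 + 13193)).addF Fi23TC8S3.nseg9 (by decide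 : 124067 = 110877 + 13190)).addF Fi23TC8S3.nseg10 (by decide : 137302 = 124067 + 13235)).addF Fi23TC8S4.nseg11 (by decide : 146353 = 137302 + 9051)

end Cfsg.Agent.Lib.Helper98.Fi23TC8
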