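import Mathlib
import Cfsg.Agent.Lib.Helper98.Fi23TC9D

/-! Coset enumeration certificate Fi23TC9: checks, part 1. -/

set_option autoImplicit false
set_option maxRecDepth 1000000

namespace Cfsg.Agent.Lib.Helper98.Fi23TC9S1

open Cfsg.Agent.Lib.Helper98.CosetCert Cfsg.Agent.Lib.Helper98.CosetCert2

open Cfsg.Agent.Lib.Helper98.Fi23TC9D

theorem seg12 : rangeOKF cert 58138 4836 = true := by decide +kernel

theorem seg13 : rangeOKF cert 62974 967 = true := by decide +kernel

theorem seg14 : rangeOKF cert 63941 1549 = true := by decide +kernel

theorem seg15 : rangeOKF cert 65490 4761 = true := by decide +kernel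

theorem seg16 : rangeOKF cert 70251 4875 = true := by decide +kernel

theorem seg17 : rangeOKF cert 75126 4871 = true := by decide +kernel

theorem seg18 : rangeOKF cert 79997 4870 = true := by decide +kernel

theorem seg19 : rangeOKF cert 84867 3211 = true := by decide +kernel

theorem seg20 : rangeOKF cert 88078 4815 = true := by decide +kernel

theorem seg21 : rangeOKF cert 92893 4719 = true := by decide +kernel

theorem seg22 : rangeOKF cert 97612 4804 = true := by decide +kernel

theorem seg23 : rangeOKF cert 102416 4753 = true := by decide +kernel

end Cfsg.Agent.Lib.Helper98.Fi23TC9S1
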