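import Mathlib
import Cfsg.Agent.Lib.Helper98.Fi23TC9D

/-! Coset enumeration certificate Fi23TC9: checks, part 2. -/

set_option autoImplicit false
set_option maxRecDepth 1000000

namespace Cfsg.Agent.Lib.Helper98.Fi23TC9S2

open Cfsg.Agent.Lib.Helper98.CosetCert Cfsg.Agent.Lib.Helper98.CosetCert2

open Cfsg.Agent.Lib.Helper98.Fi23TC9D

theorem seg24 : rangeOKF cert 107169 4738 = true := by decide +kernel

theorem seg25 : rangeOKF cert 111907 4681 = true := by decide +kernel

theorem seg26 : rangeOKF cert 116588 4612 = true := by decide +kernel

theorem seg27 : rangeOKF cert 121200 4657 = true := by decide +kernel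

theorem seg28 : rangeOKF cert 125857 4598 = true := by decide +kernel

theorem seg29 : rangeOKF cert 130455 4783 = true := by decide +kernel

theorem seg30 : rangeOKF cert 135238 4800 = true := by decide +kernel

theorem seg31 : rangeOKF cert 140038 4743 = true := by decide +kernel

theorem seg32 : rangeOKF cert 144781 4743 = true := by decide +kernel

theorem seg33 : rangeOKF cert 149524 4746 = true := by decide +kernel

theorem seg34 : rangeOKF cert 154270 4706 = true := by decide +kernel

theorem seg35 : rangeOKF cert 158976 4083 = true := by decide +kernel

end Cfsg.Agent.Lib.Helper98.Fi23TC9S2
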