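import Mathlib
import Cfsg.Agent.Lib.Helper98.Fi23TC9D

/-! Coset enumeration certificate Fi23TC9: checks, part 3. -/

set_option autoImplicit false
set_option maxRecDepth 1000000

namespace Cfsg.Agent.Lib.Helper98.Fi23TC9S3

open Cfsg.Agent.Lib.Helper98.CosetCert Cfsg.Agent.Lib.Helper98.CosetCert2

open Cfsg.Agent.Lib.Helper98.Fi23TC9D

theorem nseg0 : nameRangeOKF cert 0 9894 = true := by decide +kernel

theorem nseg1 : nameRangeOKF cert 9894 10621 = true := by decide +kernel

theorem nseg2 : nameRangeOKF cert 20515 11171 = true := by decide +kernel

theorem nseg3 : nameRangeOKF cert 31686 11491 = true := by decide +kernel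

theorem nseg4 : nameRangeOKF cert 43177 11650 = true := by decide +kernel

theorem nseg5 : nameRangeOKF cert 54827 12360 = true := by decide +kernel

theorem nseg6 : nameRangeOKF cert 67187 10640 = true := by decide +kernel

theorem nseg7 : nameRangeOKF cert 77827 10190 = true := by decide +kernel

theorem nseg8 : nameRangeOKF cert 88017 10735 = true := by decide +kernel

theorem nseg9 : nameRangeOKF cert 98752 9767 = true := by decide +kernel

theorem nseg10 : nameRangeOKF cert 108519 9924 = true := by decide +kernel

theorem nseg11 : nameRangeOKF cert 118443 10120 = true := by decide +kernel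

end Cfsg.Agent.Lib.Helper98.Fi23TC9S3
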