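import Mathlib
import Cfsg.Agent.Lib.Helper98.Fi23TC9D

/-! Coset enumeration certificate Fi23TC9: checks, part 4. -/

set_option autoImplicit false
set_option maxRecDepth 1000000

namespace Cfsg.Agent.Lib.Helper98.Fi23TC9S4

open Cfsg.Agent.Lib.Helper98.CosetCert Cfsg.Agent.Lib.Helper98.CosetCert2

open Cfsg.Agent.Lib.Helper98.Fi23TC9D

theorem nseg12 : nameRangeOKF cert 128563 10004 = true := by decide +kernel

theorem nseg13 : nameRangeOKF cert 138567 9843 = true := by decide +kernel

theorem nseg14 : nameRangeOKF cert 148410 9787 = true := by decide +kernel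

theorem nseg15 : nameRangeOKF cert 158197 10274 = true := by decide +kernel

theorem nseg16 : nameRangeOKF cert 168471 8668 = true := by decide +kernel

end Cfsg.Agent.Lib.Helper98.Fi23TC9S4
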