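import Mathlib
import Cfsg.Agent.Lib.Helper98.Fi23TC9D
import Cfsg.Agent.Lib.Helper98.Fi23TC9S0
import Cfsg.Agent.Lib.Helper98.Fi23TC9S1
import Cfsg.Agent.Lib.Helper98.Fi23TC9S2
import Cfsg.Agent.Lib.Helper98.Fi23TC9S3
import Cfsg.Agent.Lib.Helper98.Fi23TC9S4

/-! Coset enumeration certificate, level 9: index at most 14080. -/

set_option autoImplicit false
set_option maxRecDepth 1000000

namespace Cfsg.Agent.Lib.Helper98.Fi23TC9

open Cfsg.Agent.Lib.Helper98.CosetCert Cfsg.Agent.Lib.Helper98.CosetCert2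

open Cfsg.Agent.Lib.Helper98.Fi23TC9D

theorem log_ok : LogUpTo cert cert.nlog :=
  ((((((((((((((((((((((((((((((((((((logUpTo_zero cert).addF Fi23TC9S0.seg0 (by decide : 4825 = 0 + 4825)).addF Fi23TC9S0.seg1 (by decide : 9674 = 4825 + 4849)).addF Fi23TC9S0.seg2 (by decide : 14514 = 9674 + 4840)).addF Fi23TC9S0.seg3 (by decide : 19357 = 14514 + 4843)).addF Fi23TC9S0.seg4 (by decide : 24214 = 19357 + 4857)).addF Fi23TC9S0.seg5 (by decide : 29066 = 24214 + 4852)).addF Fi23TC9S0.seg6 (by decide : 33920 = 29066 + 4854)).addF Fi23TC9S0.seg7 (by decide : 38777 = 33920 + 4857)).addF Fi23TC9S0.seg8 (by decide : 43636 = 38777 + 4859)).addF Fi23TC9S0.seg9 (by decide : 48503 = 43636 + 4867)).addF Fi23TC9S0.seg10 (by decide : 53363 = 48503 + 4860)).addF Fi23TC9S0.seg11 (by decide : 58138 = 53363 + 4775)).addF Fi23TC9S1.seg12 (by decide : 62974 = 58138 + 4836)).addF Fi23TC9S1.seg13 (by decide : 63941 = 62974 + 967)).addF Fi23TC9S1.seg14 (by decide : 65490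 = 63941 + 1549)).addF Fi23TC9S1.seg15 (by decide : 70251 = 65490 + 4761)).addF Fi23TC9S1.seg16 (by decide : 75126 = 70251 + 4875)).addF Fi23TC9S1.seg17 (by decide : 79997 = 75126 + 4871)).addF Fi23TC9S1.seg18 (by decide : 84867 = 79997 + 4870)).addF Fi23TC9S1.seg19 (by decide : 88078 = 84867 + 3211)).addF Fi23TC9S1.seg20 (by decide : 92893 = 88078 + 4815)).addF Fi23TC9S1.seg21 (by decide : 97612 = 92893 + 4719)).addF Fi23TC9S1.seg22 (by decide : 102416 = 97612 + 4804)).addF Fi23TC9S1.seg23 (by decide : 107169 = 102416 + 4753)).addF Fi23TC9S2.seg24 (by decide : 111907 = 107169 + 4738)).addF Fi23TC9S2.seg25 (by decide : 116588 = 111907 + 4681)).addF Fi23TC9S2.seg26 (by decide : 121200 = 116588 + 4612)).addF Fi23TC9S2.seg27 (by decide : 125857 = 121200 + 4657)).addF Fi23TC9S2.seg28 (by decide : 130455 = 125857 + 4598)).addF Fi23TC9S2.seg29 (by decide : 135238 = 130455 + 4783)).addF Fi23TC9S2.seg30 (by decide : 140038 = 135238 + 4800)).addF Fi23TC9S2.seg31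 (by decide : 144781 = 140038 + 4743)).addF Fi23TC9S2.seg32 (by decide : 149524 = 144781 + 4743)).addF Fi23TC9S2.seg33 (by decide : 154270 = 149524 + 4746)).addF Fi23TC9S2.seg34 (by decide : 158976 = 154270 + 4706)).addF Fi23TC9S2.seg35 (by decide : 163059 = 158976 + 4083)

theorem names_ok : NamesUpTo cert cert.M :=
  (((((((((((((((((namesUpTo_zero cert).addF Fi23TC9S3.nseg0 (by decide : 9894 = 0 + 9894)).addF Fi23TC9S3.nseg1 (by decide : 20515 = 9894 + 10621)).addF Fi23TC9S3.nseg2 (by decide : 31686 = 20515 + 11171)).addF Fi23TC9S3.nseg3 (by decide : 43177 = 31686 + 11491)).addF Fi23TC9S3.nseg4 (by decide : 54827 = 43177 + 11650)).addF Fi23TC9S3.nseg5 (by decide : 67187 = 54827 + 12360)).addF Fi23TC9S3.nseg6 (by decide : 77827 = 67187 + 10640)).addF Fi23TC9S3.nseg7 (by decide : 88017 = 77827 + 10190)).addF Fi23TC9S3.nseg8 (by decide : 98752 = 88017 + 10735)).addF Fi23TC9S3.nseg9 (by decide : 108519 = 98752 + 9767)).addF Fi23TC9S3.nseg10 (by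 decide : 118443 = 108519 + 9924)).addF Fi23TC9S3.nseg11 (by decide : 128563 = 118443 + 10120)).addF Fi23TC9S4.nseg12 (by decide : 138567 = 128563 + 10004)).addF Fi23TC9S4.nseg13 (by decide : 148410 = 138567 + 9843)).addF Fi23TC9S4.nseg14 (by decide : 158197 = 148410 + 9787)).addF Fi23TC9S4.nseg15 (by decide : 168471 = 158197 + 10274)).addF Fi23TC9S4.nseg16 (by decide : 177139 = 168471 + 8668)

end Cfsg.Agent.Lib.Helper98.Fi23TC9
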