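import Mathlib
import Cfsg.Agent.Lib.Helper98.Fi23TC1
import Cfsg.Agent.Lib.Helper98.Fi23TC2
import Cfsg.Agent.Lib.Helper98.Fi23TC3
import Cfsg.Agent.Lib.Helper98.Fi23TC4
import Cfsg.Agent.Lib.Helper98.Fi23TC5
import Cfsg.Agent.Lib.Helper98.Fi23TC6
import Cfsg.Agent.Lib.Helper98.Fi23TC7
import Cfsg.Agent.Lib.Helper98.Fi23TC8
import Cfsg.Agent.Lib.Helper98.Fi23TC9
import Cfsg.Agent.Lib.Helper98.Fi23TC10
import Cfsg.Agent.Lib.Helper98.Fi23Model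
import Cfsg.Agent.Lib.Helper98.CoxMain

/-!
# The presented group `Fi23` is simple of order `4089470473293004800`
-/

set_option autoImplicit false

namespace Cfsg.Agent.Lib.Helper98.Fi23Main

open Cfsg Cfsg.Spor MulAction
open Cfsg.Agent.Lib.Helper89 Cfsg.Agent.Lib.Helper89.TableChain2
open Cfsg.Agent.Lib.Helper98.CosetCert Cfsg.Agent.Lib.Helper98.CoxPres Cfsg.Agent.Lib.Helper98.CoxMain
open Cfsg.Agent.Lib.Helper98.PermChain Cfsg.Agent.Lib.Helper98.OrbitLower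
open Cfsg.Agent.Lib.Helper98.PermCert Cfsg.Agent.Lib.Helper98.PermModel
open Cfsg.Agent.Lib.Helper98.Fi23Pres Cfsg.Agent.Lib.Helper98.Fi23Model

/-! ### The upper bound -/

theorem b0 : Finite (Hk gP 0) ∧ Nat.card (Hk gP 0) ≤ 1 := by
  rw [Hk_zero]
  exact ⟨inferInstance, by simp⟩

theorem lvl1 (h0 : Finite (Hk gP 0)) :
    Finite (Hk gP 1) ∧ Nat.card (Hk gP 1) ≤ 2 * Nat.card (Hk gP 0) :=
  level_bound2 link wf Fi23TC1D.cert 0 Fi23TC1D.srcs (by decide) (by decide)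
    Fi23TC1D.rwords_src (by decide) Fi23TC1D.wok Fi23TC1.log_ok Fi23TC1.names_ok
    Fi23TC1D.head_ok h0

theorem b1 : Finite (Hk gP 1) ∧ Nat.card (Hk gP 1) ≤ 2 := by
  obtain ⟨h0, c0⟩ := b0
  obtain ⟨h, c⟩ := lvl1 h0
  exact ⟨h, le_trans c (Nat.mul_le_mul_left 2 c0)⟩

theorem lvl2 (h0 : Finite (Hk gP 1)) :
    Finite (Hk gP 2) ∧ Nat.card (Hk gP 2) ≤ 3 * Nat.card (Hk gP 1) :=
  level_bound2 link wf Fi23TC2D.cert 1 Fi23TC2D.srcs (by decide) (by decide)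
    Fi23TC2D.rwords_src (by decide) Fi23TC2D.wok Fi23TC2.log_ok Fi23TC2.names_ok
    Fi23TC2D.head_ok h0

theorem b2 : Finite (Hk gP 2) ∧ Nat.card (Hk gP 2) ≤ 6 := by
  obtain ⟨h0, c0⟩ := b1
  obtain ⟨h, c⟩ := lvl2 h0
  exact ⟨h, le_trans c (Nat.mul_le_mul_left 3 c0)⟩

theorem lvl3 (h0 : Finite (Hk gP 2)) :
    Finite (Hk gP 3) ∧ Nat.card (Hk gP 3) ≤ 4 * Nat.card (Hk gP 2) :=
  level_bound2 link wf Fi23TC3D.cert 2 Fi23TC3D.srcs (by decide) (by decide)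
    Fi23TC3D.rwords_src (by decide) Fi23TC3D.wok Fi23TC3.log_ok Fi23TC3.names_ok
    Fi23TC3D.head_ok h0

theorem b3 : Finite (Hk gP 3) ∧ Nat.card (Hk gP 3) ≤ 24 := by
  obtain ⟨h0, c0⟩ := b2
  obtain ⟨h, c⟩ := lvl3 h0
  exact ⟨h, le_trans c (Nat.mul_le_mul_left 4 c0)⟩

theorem lvl4 (h0 : Finite (Hk gP 3)) :
    Finite (Hk gP 4) ∧ Nat.card (Hk gP 4) ≤ 8 * Nat.card (Hk gP 3) :=
  level_bound2 link wf Fi23TC4D.cert 3 Fi23TC4D.srcs (by decide) (by decide)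
    Fi23TC4D.rwords_src (by decide) Fi23TC4D.wok Fi23TC4.log_ok Fi23TC4.names_ok
    Fi23TC4D.head_ok h0

theorem b4 : Finite (Hk gP 4) ∧ Nat.card (Hk gP 4) ≤ 192 := by
  obtain ⟨h0, c0⟩ := b3
  obtain ⟨h, c⟩ := lvl4 h0
  exact ⟨h, le_trans c (Nat.mul_le_mul_left 8 c0)⟩

theorem lvl5 (h0 : Finite (Hk gP 4)) :
    Finite (Hk gP 5) ∧ Nat.card (Hk gP 5) ≤ 10 * Nat.card (Hk gP 4) :=
  level_bound2 link wf Fi23TC5D.cert 4 Fi23TC5D.srcs (by decide) (by decide)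
    Fi23TC5D.rwords_src (by decide) Fi23TC5D.wok Fi23TC5.log_ok Fi23TC5.names_ok
    Fi23TC5D.head_ok h0

theorem b5 : Finite (Hk gP 5) ∧ Nat.card (Hk gP 5) ≤ 1920 := by
  obtain ⟨h0, c0⟩ := b4
  obtain ⟨h, c⟩ := lvl5 h0
  exact ⟨h, le_trans c (Nat.mul_le_mul_left 10 c0)⟩

theorem lvl6 (h0 : Finite (Hk gP 5)) :
    Finite (Hk gP 6) ∧ Nat.card (Hk gP 6) ≤ 27 * Nat.card (Hk gP 5) :=
  level_bound2 link wf Fi23TC6D.cert 5 Fi23TC6D.srcs (by decide) (by decide)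
    Fi23TC6D.rwords_src (by decide) Fi23TC6D.wok Fi23TC6.log_ok Fi23TC6.names_ok
    Fi23TC6D.head_ok h0

theorem b6 : Finite (Hk gP 6) ∧ Nat.card (Hk gP 6) ≤ 51840 := by
  obtain ⟨h0, c0⟩ := b5
  obtain ⟨h, c⟩ := lvl6 h0
  exact ⟨h, le_trans c (Nat.mul_le_mul_left 27 c0)⟩

theorem lvl7 (h0 : Finite (Hk gP 6)) :
    Finite (Hk gP 7) ∧ Nat.card (Hk gP 7) ≤ 56 * Nat.card (Hk gP 6) :=
  level_bound2 link wf Fi23TC7D.cert 6 Fi23TC7D.srcs (by decide) (by decide)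
    Fi23TC7D.rwords_src (by decide) Fi23TC7D.wok Fi23TC7.log_ok Fi23TC7.names_ok
    Fi23TC7D.head_ok h0

theorem b7 : Finite (Hk gP 7) ∧ Nat.card (Hk gP 7) ≤ 2903040 := by
  obtain ⟨h0, c0⟩ := b6
  obtain ⟨h, c⟩ := lvl7 h0
  exact ⟨h, le_trans c (Nat.mul_le_mul_left 56 c0)⟩

theorem lvl8 (h0 : Finite (Hk gP 7)) :
    Finite (Hk gP 8) ∧ Nat.card (Hk gP 8) ≤ 3159 * Nat.card (Hk gP 7) :=
  level_bound2 link wf Fi23TC8D.cert 7 Fi23TC8D.srcs (by decide) (by decide)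
    Fi23TC8D.rwords_src (by decide) Fi23TC8D.wok Fi23TC8.log_ok Fi23TC8.names_ok
    Fi23TC8D.head_ok h0

theorem b8 : Finite (Hk gP 8) ∧ Nat.card (Hk gP 8) ≤ 9170703360 := by
  obtain ⟨h0, c0⟩ := b7
  obtain ⟨h, c⟩ := lvl8 h0
  exact ⟨h, le_trans c (Nat.mul_le_mul_left 3159 c0)⟩

theorem lvl9 (h0 : Finite (Hk gP 8)) :
    Finite (Hk gP 9) ∧ Nat.card (Hk gP 9) ≤ 14080 * Nat.card (Hk gP 8) :=
  level_bound2 link wf Fi23TC9D.cert 8 Fi23TC9D.srcs (by decide) (by decide)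
    Fi23TC9D.rwords_src (by decide) Fi23TC9D.wok Fi23TC9.log_ok Fi23TC9.names_ok
    Fi23TC9D.head_ok h0

theorem b9 : Finite (Hk gP 9) ∧ Nat.card (Hk gP 9) ≤ 129123503308800 := by
  obtain ⟨h0, c0⟩ := b8
  obtain ⟨h, c⟩ := lvl9 h0
  exact ⟨h, le_trans c (Nat.mul_le_mul_left 14080 c0)⟩

theorem lvl10 (h0 : Finite (Hk gP 9)) :
    Finite (Hk gP 10) ∧ Nat.card (Hk gP 10) ≤ 31671 * Nat.card (Hk gP 9) :=
  level_bound2 link wf Fi23TC10D.cert 9 Fi23TC10D.srcs (by decide) (by decide)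
    Fi23TC10D.rwords_src (by decide) Fi23TC10D.wok Fi23TC10.log_ok Fi23TC10.names_ok
    Fi23TC10D.head_ok h0

theorem b10 : Finite (Hk gP 10) ∧ Nat.card (Hk gP 10) ≤ 4089470473293004800 := by
  obtain ⟨h0, c0⟩ := b9
  obtain ⟨h, c⟩ := lvl10 h0
  exact ⟨h, le_trans c (Nat.mul_le_mul_left 31671 c0)⟩

theorem finite_X : Finite Cfsg.Spor.Fi23 := finite_of_top link b10.1

theorem card_X_le : Nat.card Cfsg.Spor.Fi23 ≤ 4089470473293004800 := card_le_of_top link b10.2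

/-! ### The model -/

theorem htab : TabOK 31671 10 tab tab := tabOK_of_invOK tab_ok

/-- the chain data of the model -/
noncomputable abbrev D : Data (Equiv.Perm (Fin 31671)) (Fin 31671) := data htab

theorem base_genM : ∀ w ∈ pres.baseWords, (w.map D.gen).prod = 1 := by
  intro w hw
  have hlt := Pres.baseWords_lt wf w hw
  rw [relWords_eq] at hw
  exact ev_eq_one_of_fixUpTo htab hlt (rel_all w hw)

theorem rel_genM : pres.Rel D.gen := Pres.rel_of_base wf base_genM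

theorem card_KS_ge : 4089470473293004800 ≤ Nat.card (KS D SG 10) := by
  have h9 : 2 * Nat.card (KS D SG 0) ≤ Nat.card (KS D SG 1) :=
    level htab SG sg_lt 1 0 9 2 (by decide) (by decide) orb9 cnt9 fix9
  have h8 : 2 * Nat.card (KS D SG 1) ≤ Nat.card (KS D SG 2) :=
    level htab SG sg_lt 2 1 6 2 (by decide) (by decide) orb8 cnt8 fix8
  have h7 : 3 * Nat.card (KS D SG 2) ≤ Nat.card (KS D SG 3) :=
    level htab SG sg_lt 3 2 56 3 (by decide) (by decide) orb7 cnt7 fix7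
  have h6 : 4 * Nat.card (KS D SG 3) ≤ Nat.card (KS D SG 4) :=
    level htab SG sg_lt 4 3 5 4 (by decide) (by decide) orb6 cnt6 fix6
  have h5 : 5 * Nat.card (KS D SG 4) ≤ Nat.card (KS D SG 5) :=
    level htab SG sg_lt 5 4 4 5 (by decide) (by decide) orb5 cnt5 fix5
  have h4 : 21 * Nat.card (KS D SG 5) ≤ Nat.card (KS D SG 6) :=
    level htab SG sg_lt 6 5 31669 21 (by decide) (by decide) orb4 cnt4 fix4
  have h3 : 288 * Nat.card (KS D SG 6) ≤ Nat.card (KS D SG 7) :=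
    level htab SG sg_lt 7 6 3 288 (by decide) (by decide) orb3 cnt3 fix3
  have h2 : 3159 * Nat.card (KS D SG 7) ≤ Nat.card (KS D SG 8) :=
    level htab SG sg_lt 8 7 2 3159 (by decide) (by decide) orb2 cnt2 fix2
  have h1 : 28160 * Nat.card (KS D SG 8) ≤ Nat.card (KS D SG 9) :=
    level htab SG sg_lt 9 8 1 28160 (by decide) (by decide) orb1 cnt1 fix1
  have h0 : 31671 * Nat.card (KS D SG 9) ≤ Nat.card (KS D SG 10) :=
    level htab SG sg_lt 10 9 0 31671 (by decide) (by decide) orb0 cnt0 fix0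
  have hz : Nat.card (KS D SG 0) = 1 := by
    rw [KS_zero]; simp
  rw [hz] at h9
  omega

theorem card_M_ge : 4089470473293004800 ≤ Nat.card (D.H 10) :=
  le_trans card_KS_ge (Subgroup.card_le_of_le (KS_le_M htab SG sg_lt 10))

instance pretransM : IsPretransitive (D.H 10) (Fin 31671) :=
  pretrans htab SG sg_lt 10 orb0 lab0_ok

instance primM : IsPreprimitive (D.H 10) (Fin 31671) :=
  prim_rank_three htab SG sg_lt 9 (by decide) orb1 fix0 1 380 28160 3510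
    cover1 cnt1 cnt1b (by rw [lab1_zero]; decide) (by decide) (by decide)

theorem ev_y_pow : D.ev yw ^ 17 = 1 :=
  ev_pow_eq_one_of_table htab (by decide) yT 17 y_pow

theorem ev_ay_pow : D.ev (0 :: yw) ^ 17 = 1 :=
  ev_pow_eq_one_of_table htab (by decide) ayT 17 ay_pow

/-- the presented group is simple of the expected order -/
theorem main : IsSimpleGroup Cfsg.Spor.Fi23 ∧ Nat.card Cfsg.Spor.Fi23 = 4089470473293004800 :=
  simple_and_card (hprim := primM) link wf D rfl rel_genM 4089470473293004800 129123503308800 17 (by norm_num) (by norm_num)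
    finite_X card_X_le card_M_ge (by norm_num) yw (by decide) (by decide) ev_y_pow ev_ay_pow
    [(0, 1), (0, 7), (1, 2), (1, 3), (3, 5), (5, 6), (6, 9), (2, 4), (4, 8)] (by decide)

end Cfsg.Agent.Lib.Helper98.Fi23Main
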