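import Mathlib
import Cfsg.Agent.Lib.Helper98.PermCert
import Cfsg.Agent.Lib.Helper98.PrimSimple

/-!
# Permutation models given by tables of involutions: generic consequences of the certificates
-/

set_option autoImplicit false

namespace Cfsg.Agent.Lib.Helper98.PermModel

open MulAction
open Cfsg.Agent.Lib.Helper89 Cfsg.Agent.Lib.Helper89.TableChain2
open Cfsg.Agent.Lib.Helper98.PermChain Cfsg.Agent.Lib.Helper98.OrbitLower
open Cfsg.Agent.Lib.Helper98.PermCert

theorem card_filter_fin (N : ℕ) (p : ℕ → Bool) :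
    (Finset.univ.filter fun a : Fin N => p a.val = true).card =
      ((List.range N).filter p).length := by
  have h1 : ((Finset.range N).filter fun x => p x = true).card =
      ((List.range N).filter p).length := by
    rw [Finset.card_def, Finset.filter_val, Finset.range_val, Multiset.range,
      Multiset.filter_coe, Multiset.coe_card]
    congr 1
    apply List.filter_congr
    intro x _
    simp
  rw [← h1]
  refine Finset.card_bij (fun a _ => a.val) ?_ ?_ ?_
  · intro a ha
    simp only [Finset.mem_filter, Finset.mem_univ, true_and] at ha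
    simp only [Finset.mem_filter, Finset.mem_range]
    exact ⟨a.isLt, ha⟩
  · intro a _ b _ h
    exact Fin.ext h
  · intro b hb
    simp only [Finset.mem_filter, Finset.mem_range] at hb
    exact ⟨⟨b, hb.1⟩, by simp [hb.2], rfl⟩

/-- counting with explicit recursors -/
def countBelow (n : ℕ) (p : ℕ → Bool) : ℕ :=
  Nat.rec (motive := fun _ => ℕ) 0
    (fun i ih => Bool.rec (motive := fun _ => ℕ) ih (Nat.succ ih) (p i)) n

theorem countBelow_eq (n : ℕ) (p : ℕ → Bool) :
    countBelow n p = ((List.range n).filter p).length := by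
  induction n with
  | zero => rfl
  | succ n ih =>
    have : countBelow (n + 1) p =
        Bool.rec (motive := fun _ => ℕ) (countBelow n p) (Nat.succ (countBelow n p)) (p n) := rfl
    rw [this, List.range_succ, List.filter_append, List.length_append, ← ih]
    cases hp : p n <;> simp [hp]

section

variable {N m : ℕ} [NeZero N] {tab : ℕ → ℕ → ℕ} (h : TabOK N m tab tab)

theorem pt_val (a : Fin N) : (data h).pt a.val = a := ofNat_val a

theorem ev_eq_one {w : List ℕ} (hw : ∀ c ∈ w, c < m) (hf : fixAll tab N w = true) :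
    (data h).ev w = 1 := by
  have := (data h).ev_eq_of_act (l := w) (l' := []) hw (by simp) (by
    intro x hx
    rw [act_nil]
    exact fixAll_spec hf x ((data h).chk_lt x hx))
  rw [this]; rfl

variable (SG : List (List ℕ)) (hSG : SG.all (fun w => w.all fun c => Nat.blt c m) = true)
include hSG

theorem sg_take_lt (k : ℕ) : ∀ w ∈ SG.take k, ∀ c ∈ w, c < (data h).m := by
  intro w hw c hc
  have := List.all_eq_true.1 (List.all_eq_true.1 hSG w (List.mem_of_mem_take hw)) c hc
  show c < m
  simpa using this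

omit hSG in
theorem fix_spec {k b : ℕ} (hf : (SG.take k).all (fun w => Nat.beq (act tab w b) b) = true) :
    ∀ w ∈ SG.take k, act (data h).tab w b = b := by
  intro w hw
  exact Nat.eq_of_beq_eq_true (List.all_eq_true.1 hf w hw)

theorem level {lab par pg rk : ℕ → ℕ} (k k' b n : ℕ) (hk : k' ≤ k) (hb : b < N)
    (horb : orbOK tab N SG k lab par pg rk = true)
    (hcnt : countBelow N (fun x => Nat.beq (lab x) b) = n)
    (hfix : (SG.take k').all (fun w => Nat.beq (act tab w b) b) = true) :
    n * Nat.card (KS (data h) SG k') ≤ Nat.card (KS (data h) SG k) := by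
  refine card_mul_le_of_orb (data h) SG k k' b n (lab := lab) hk hb (sg_take_lt h SG hSG k)
    (fix_spec h SG hfix) ?_ (le_of_eq (by rw [← hcnt, countBelow_eq]; rfl))
  intro x hx hl
  obtain ⟨_, g, hg, hgx⟩ := exists_of_orbOK (data h) SG k (sg_take_lt h SG hSG k) horb x hx
  rw [hl] at hgx
  exact ⟨g, hg, hgx⟩

theorem KS_le_M (k : ℕ) : KS (data h) SG k ≤ (data h).H m :=
  KS_le_H (data h) SG k (sg_take_lt h SG hSG k)

theorem pretrans {lab par pg rk : ℕ → ℕ} (k : ℕ)
    (horb : orbOK tab N SG k lab par pg rk = true)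
    (hlab : allBelow N (fun x => Nat.beq (lab x) 0) = true) :
    IsPretransitive ((data h).H m) (Fin N) := by
  have hlab' : ∀ x < N, lab x = 0 := fun x hx =>
    Nat.eq_of_beq_eq_true ((allBelow_iff _ _).1 hlab x hx)
  refine ⟨fun a a' => ?_⟩
  obtain ⟨_, g, hg, hga⟩ := exists_of_orbOK (data h) SG k (sg_take_lt h SG hSG k) horb a.val a.isLt
  obtain ⟨_, g', hg', hga'⟩ :=
    exists_of_orbOK (data h) SG k (sg_take_lt h SG hSG k) horb a'.val a'.isLt
  rw [hlab' _ a.isLt, pt_val] at hga
  rw [hlab' _ a'.isLt, pt_val] at hga'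
  refine ⟨⟨g' * g⁻¹, Subgroup.mul_mem _ (KS_le_M h SG hSG k hg')
    (Subgroup.inv_mem _ (KS_le_M h SG hSG k hg))⟩, ?_⟩
  show (g' * g⁻¹) • a = a'
  rw [mul_smul, ← hga, inv_smul_smul, hga']

theorem same_orbit {lab par pg rk : ℕ → ℕ} (k : ℕ) (hN : 0 < N)
    (horb : orbOK tab N SG k lab par pg rk = true)
    (hfix : (SG.take k).all (fun w => Nat.beq (act tab w 0) 0) = true)
    (x y : Fin N) (hxy : lab x.val = lab y.val) :
    ∃ g : (data h).H m, g • (⟨0, hN⟩ : Fin N) = ⟨0, hN⟩ ∧ g • x = y := by
  obtain ⟨_, g, hg, hgx⟩ := exists_of_orbOK (data h) SG k (sg_take_lt h SG hSG k) horb x.val x.isLt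
  obtain ⟨_, g', hg', hgy⟩ := exists_of_orbOK (data h) SG k (sg_take_lt h SG hSG k) horb y.val y.isLt
  rw [pt_val] at hgx hgy
  rw [hxy] at hgx
  have hst := KS_le_stabilizer (data h) SG k 0 hN (sg_take_lt h SG hSG k) (fix_spec h SG hfix)
  have hgg : g' * g⁻¹ ∈ KS (data h) SG k := Subgroup.mul_mem _ hg' (Subgroup.inv_mem _ hg)
  refine ⟨⟨g' * g⁻¹, KS_le_M h SG hSG k hgg⟩, ?_, ?_⟩
  · have := hst hgg
    have hp0 : (data h).pt 0 = (⟨0, hN⟩ : Fin N) := pt_val h ⟨0, hN⟩
    rw [hp0] at this
    exact this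
  · show (g' * g⁻¹) • x = y
    rw [mul_smul, ← hgx, inv_smul_smul, hgy]

/-- primitivity from a rank three certificate for a subgroup of the point stabiliser -/
theorem prim_rank_three {lab par pg rk : ℕ → ℕ} (k : ℕ) (hN : 0 < N)
    [IsPretransitive ((data h).H m) (Fin N)]
    (horb : orbOK tab N SG k lab par pg rk = true)
    (hfix : (SG.take k).all (fun w => Nat.beq (act tab w 0) 0) = true)
    (r1 r2 n1 n2 : ℕ)
    (hcover : allBelow N (fun x => Nat.beq x 0 || Nat.beq (lab x) r1 || Nat.beq (lab x) r2) = true)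
    (hc1 : countBelow N (fun x => Nat.beq (lab x) r1) = n1)
    (hc2 : countBelow N (fun x => Nat.beq (lab x) r2) = n2)
    (hl0 : lab 0 ≠ r1 ∧ lab 0 ≠ r2) (hd1 : ¬ (n1 + 1) ∣ N) (hd2 : ¬ (n2 + 1) ∣ N) :
    IsPreprimitive ((data h).H m) (Fin N) := by
  refine PrimSimple.isPreprimitive_of_rank_three (⟨0, hN⟩ : Fin N)
    (Finset.univ.filter fun a : Fin N => Nat.beq (lab a.val) r1 = true)
    (Finset.univ.filter fun a : Fin N => Nat.beq (lab a.val) r2 = true) ?_ ?_ ?_ ?_ ?_ ?_ ?_
  · intro x
    have := (allBelow_iff _ _).1 hcover x.val x.isLt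
    simp only [Bool.or_eq_true] at this
    rcases this with (h' | h') | h'
    · left
      exact Fin.ext (Nat.eq_of_beq_eq_true h')
    · right; left
      simp only [Finset.mem_filter, Finset.mem_univ, true_and]
      exact h'
    · right; right
      simp only [Finset.mem_filter, Finset.mem_univ, true_and]
      exact h'
  · intro x hx y hy
    simp only [Finset.mem_filter, Finset.mem_univ, true_and] at hx hy
    exact same_orbit h SG hSG k hN horb hfix x y
      (by rw [Nat.eq_of_beq_eq_true hx, Nat.eq_of_beq_eq_true hy])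
  · intro x hx y hy
    simp only [Finset.mem_filter, Finset.mem_univ, true_and] at hx hy
    exact same_orbit h SG hSG k hN horb hfix x y
      (by rw [Nat.eq_of_beq_eq_true hx, Nat.eq_of_beq_eq_true hy])
  · simp only [Finset.mem_filter, Finset.mem_univ, true_and]
    intro hc
    exact hl0.1 (Nat.eq_of_beq_eq_true hc)
  · simp only [Finset.mem_filter, Finset.mem_univ, true_and]
    intro hc
    exact hl0.2 (Nat.eq_of_beq_eq_true hc)
  · rw [card_filter_fin N (fun x => Nat.beq (lab x) r1), ← countBelow_eq, hc1, Fintype.card_fin]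
    exact hd1
  · rw [card_filter_fin N (fun x => Nat.beq (lab x) r2), ← countBelow_eq, hc2, Fintype.card_fin]
    exact hd2

omit hSG in
theorem ev_replicate (w : List ℕ) (n : ℕ) :
    (data h).ev ((List.replicate n w).flatten) = (data h).ev w ^ n := by
  induction n with
  | zero => simp [Data.ev]
  | succ n ih =>
    rw [List.replicate_succ, List.flatten_cons, Data.ev_append, ih, pow_succ']

end

end Cfsg.Agent.Lib.Helper98.PermModel
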