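import Mathlib
import Cfsg.Agent.Lib.Helper98.PermModel

/-!
# Range-wise checks for permutation models

Checks over all points are split into ranges of points, so that each kernel computation stays small.
Powers of words are checked through a table of the word's permutation.
-/

set_option autoImplicit false

namespace Cfsg.Agent.Lib.Helper98.PermModel

open MulAction
open Cfsg.Agent.Lib.Helper89 Cfsg.Agent.Lib.Helper89.TableChain2
open Cfsg.Agent.Lib.Helper98.PermChain Cfsg.Agent.Lib.Helper98.OrbitLower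
open Cfsg.Agent.Lib.Helper98.PermCert

/-- a loop over `lo, …, lo + n - 1` with explicit recursors -/
def allRange (lo n : ℕ) (p : ℕ → Bool) : Bool :=
  Nat.rec (motive := fun _ => Bool) true
    (fun j ih => Bool.rec (motive := fun _ => Bool) false ih (p (Nat.add lo j))) n

theorem allRange_iff (lo n : ℕ) (p : ℕ → Bool) :
    allRange lo n p = true ↔ ∀ j < n, p (lo + j) = true := by
  induction n with
  | zero => simp [allRange]
  | succ n ih =>
    have : allRange lo (n + 1) p =
        Bool.rec (motive := fun _ => Bool) false (allRange lo n p) (p (lo + n)) := rfl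
    rw [this]
    constructor
    · intro h j hj
      cases hp : p (lo + n)
      · rw [hp] at h; exact absurd h (by simp)
      · rw [hp] at h
        rcases Nat.lt_succ_iff_lt_or_eq.1 hj with h' | h'
        · exact ih.1 h j h'
        · rw [h']; exact hp
    · intro h
      rw [h n (Nat.lt_succ_self n)]
      exact ih.2 fun j hj => h j (Nat.lt_succ_of_lt hj)

/-- a property of all points below `t` -/
def UpTo (P : ℕ → Prop) (t : ℕ) : Prop := ∀ x < t, P x

theorem upTo_zero (P : ℕ → Prop) : UpTo P 0 := fun _ hx => absurd hx (Nat.not_lt_zero _)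

theorem UpTo.add {P : ℕ → Prop} {lo : ℕ} (h : UpTo P lo) {n hi : ℕ} {p : ℕ → Bool}
    (hp : ∀ x, p x = true → P x) (hr : allRange lo n p = true) (hhi : hi = lo + n) :
    UpTo P hi := by
  intro i hlt
  rcases Nat.lt_or_ge i lo with h1 | h1
  · exact h i h1
  · have := (allRange_iff lo n p).1 hr (i - lo) (by omega)
    rw [Nat.add_sub_cancel' h1] at this
    exact hp i this

/-- the word fixes the point -/
def fixB (tab : ℕ → ℕ → ℕ) (w : List ℕ) (x : ℕ) : Bool := Nat.beq (actF tab w x) x

theorem fixB_spec {tab : ℕ → ℕ → ℕ} {w : List ℕ} (x : ℕ) (h : fixB tab w x = true) :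
    act tab w x = x := by
  rw [← actF_eq]
  exact Nat.eq_of_beq_eq_true h

/-- the word fixes all points below `t` -/
abbrev FixUpTo (tab : ℕ → ℕ → ℕ) (w : List ℕ) (t : ℕ) : Prop := UpTo (fun x => act tab w x = x) t

theorem FixUpTo.addR {tab : ℕ → ℕ → ℕ} {w : List ℕ} {lo : ℕ} (h : FixUpTo tab w lo) {n hi : ℕ}
    (hr : allRange lo n (fixB tab w) = true) (hhi : hi = lo + n) : FixUpTo tab w hi :=
  UpTo.add h fixB_spec hr hhi

/-- iteration with an explicit recursor -/
def iterF (f : ℕ → ℕ) (n x : ℕ) : ℕ := Nat.rec (motive := fun _ => ℕ) x (fun _ ih => f ih) n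

/-- at the point `x`: `Y` is the table of the permutation of the word `y`, and its `p`-th power
fixes `x` -/
def powB (tab : ℕ → ℕ → ℕ) (N : ℕ) (y : List ℕ) (Y : ℕ → ℕ) (p : ℕ) (x : ℕ) : Bool :=
  Bool.rec (motive := fun _ => Bool) false
    (Bool.rec (motive := fun _ => Bool) false (Nat.beq (iterF Y p x) x)
      (Nat.beq (actF tab y x) (Y x)))
    (Nat.blt (Y x) N)

abbrev PowUpTo (tab : ℕ → ℕ → ℕ) (N : ℕ) (y : List ℕ) (Y : ℕ → ℕ) (p : ℕ) (t : ℕ) : Prop :=
  UpTo (fun x => Y x < N ∧ act tab y x = Y x ∧ iterF Y p x = x) t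

theorem powB_spec {tab : ℕ → ℕ → ℕ} {N : ℕ} {y : List ℕ} {Y : ℕ → ℕ} {p : ℕ} (x : ℕ)
    (h : powB tab N y Y p x = true) : Y x < N ∧ act tab y x = Y x ∧ iterF Y p x = x := by
  unfold powB at h
  cases h1 : Nat.blt (Y x) N <;> rw [h1] at h
  · exact absurd h (by simp)
  cases h2 : Nat.beq (actF tab y x) (Y x) <;> rw [h2] at h
  · exact absurd h (by simp)
  refine ⟨by simpa using h1, ?_, Nat.eq_of_beq_eq_true h⟩
  rw [← actF_eq]
  exact Nat.eq_of_beq_eq_true h2

theorem PowUpTo.addR {tab : ℕ → ℕ → ℕ} {N : ℕ} {y : List ℕ} {Y : ℕ → ℕ} {p lo : ℕ}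
    (h : PowUpTo tab N y Y p lo) {n hi : ℕ}
    (hr : allRange lo n (powB tab N y Y p) = true) (hhi : hi = lo + n) :
    PowUpTo tab N y Y p hi :=
  UpTo.add h powB_spec hr hhi

section

variable {N m : ℕ} [NeZero N] {tab : ℕ → ℕ → ℕ} (h : TabOK N m tab tab)

theorem ev_eq_one_of_fixUpTo {w : List ℕ} (hw : ∀ c ∈ w, c < m) (hf : FixUpTo tab w N) :
    (data h).ev w = 1 := by
  have := (data h).ev_eq_of_act (l := w) (l' := []) hw (by simp) (by
    intro x hx
    rw [act_nil]
    exact hf x ((data h).chk_lt x hx))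
  rw [this]; rfl

/-- the power of a word is trivial, checked through a table `Y` of the permutation of the word -/
theorem ev_pow_eq_one_of_table {y : List ℕ} (hy : ∀ c ∈ y, c < m) (Y : ℕ → ℕ) (p : ℕ)
    (hY : PowUpTo tab N y Y p N) : (data h).ev y ^ p = 1 := by
  have hiter : ∀ n : ℕ, ∀ x < N, iterF Y n x < N ∧
      ((data h).ev y ^ n) • (data h).pt x = (data h).pt (iterF Y n x) := by
    intro n
    induction n with
    | zero =>
      intro x hx
      exact ⟨hx, by simp [iterF]⟩
    | succ n ih =>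
      intro x hx
      obtain ⟨h1, h2⟩ := ih x hx
      have hs : iterF Y (n + 1) x = Y (iterF Y n x) := rfl
      refine ⟨by rw [hs]; exact (hY _ h1).1, ?_⟩
      rw [pow_succ', mul_smul, h2, (data h).ev_smul y hy _ h1, hs]
      congr 1
      exact (hY _ h1).2.1
  apply (data h).faithful
  intro x hx
  have hxN : x < N := (data h).chk_lt x hx
  rw [(hiter p x hxN).2, (hY x hxN).2.2, one_smul]

end

end Cfsg.Agent.Lib.Helper98.PermModel
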