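import Mathlib
import Cfsg.Agent.Lib.Helper98.PermModel2

/-!
# Tables of the permutations of words in a permutation model

If `Y` is the table of the permutation of the word `y`, then commutation with generators, the order
two and non-triviality of `ev y` can be read off `Y`.
-/

set_option autoImplicit false

namespace Cfsg.Agent.Lib.Helper98.PermModel

open MulAction
open Cfsg.Agent.Lib.Helper89 Cfsg.Agent.Lib.Helper89.TableChain2
open Cfsg.Agent.Lib.Helper98.PermChain Cfsg.Agent.Lib.Helper98.OrbitLower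
open Cfsg.Agent.Lib.Helper98.PermCert

/-- at the point `x`: `Y x` is the image of `x` under the word `y` -/
def tableB (tab : ℕ → ℕ → ℕ) (N : ℕ) (y : List ℕ) (Y : ℕ → ℕ) (x : ℕ) : Bool :=
  Bool.rec (motive := fun _ => Bool) false (Nat.beq (actF tab y x) (Y x)) (Nat.blt (Y x) N)

abbrev TableUpTo (tab : ℕ → ℕ → ℕ) (N : ℕ) (y : List ℕ) (Y : ℕ → ℕ) (t : ℕ) : Prop :=
  UpTo (fun x => Y x < N ∧ act tab y x = Y x) t

theorem tableB_spec {tab : ℕ → ℕ → ℕ} {N : ℕ} {y : List ℕ} {Y : ℕ → ℕ} (x : ℕ)
    (h : tableB tab N y Y x = true) : Y x < N ∧ act tab y x = Y x := by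
  unfold tableB at h
  cases h1 : Nat.blt (Y x) N <;> rw [h1] at h
  · exact absurd h (by simp)
  refine ⟨by simpa using h1, ?_⟩
  rw [← actF_eq]
  exact Nat.eq_of_beq_eq_true h

theorem TableUpTo.addR {tab : ℕ → ℕ → ℕ} {N : ℕ} {y : List ℕ} {Y : ℕ → ℕ} {lo : ℕ}
    (h : TableUpTo tab N y Y lo) {n hi : ℕ}
    (hr : allRange lo n (tableB tab N y Y) = true) (hhi : hi = lo + n) :
    TableUpTo tab N y Y hi :=
  UpTo.add h tableB_spec hr hhi

/-- the table `Y` commutes with the table of the generator `j` at the point `x` -/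
def commB (tab : ℕ → ℕ → ℕ) (Y : ℕ → ℕ) (j x : ℕ) : Bool := Nat.beq (Y (tab j x)) (tab j (Y x))

/-- the table `Y` is an involution at the point `x` -/
def invB (Y : ℕ → ℕ) (x : ℕ) : Bool := Nat.beq (Y (Y x)) x

section

variable {N m : ℕ} [NeZero N] {tab : ℕ → ℕ → ℕ} (h : TabOK N m tab tab)
variable {y : List ℕ} (hy : ∀ c ∈ y, c < m) {Y : ℕ → ℕ} (hT : TableUpTo tab N y Y N)
include hy hT

theorem ev_smul_of_table (x : ℕ) (hx : x < N) :
    (data h).ev y • (data h).pt x = (data h).pt (Y x) := by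
  rw [(data h).ev_smul y hy x hx]
  congr 1
  exact (hT x hx).2

theorem ev_commute_of_table (j : ℕ) (hj : j < m)
    (hc : allBelow N (commB tab Y j) = true) :
    (data h).ev y * (data h).gen j = (data h).gen j * (data h).ev y := by
  have hc' := (allBelow_iff _ _).1 hc
  apply (data h).faithful
  intro x hx
  have hxN : x < N := (data h).chk_lt x hx
  have htj : tab j x < N := h.tab_lt j hj x hxN
  rw [mul_smul, mul_smul, (data h).gen_smul j hj x hxN, ev_smul_of_table h hy hT x hxN,
    (data h).gen_smul j hj _ (hT x hxN).1]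
  show (data h).ev y • (data h).pt (tab j x) = _
  rw [ev_smul_of_table h hy hT _ htj]
  congr 1
  exact Nat.eq_of_beq_eq_true (hc' x hxN)

theorem ev_sq_of_table (hc : allBelow N (invB Y) = true) :
    (data h).ev y * (data h).ev y = 1 := by
  have hc' := (allBelow_iff _ _).1 hc
  apply (data h).faithful
  intro x hx
  have hxN : x < N := (data h).chk_lt x hx
  rw [mul_smul, ev_smul_of_table h hy hT x hxN, ev_smul_of_table h hy hT _ (hT x hxN).1,
    one_smul]
  congr 1
  exact Nat.eq_of_beq_eq_true (hc' x hxN)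

theorem ev_ne_one_of_table (x0 : ℕ) (hx0 : x0 < N) (hne : Y x0 ≠ x0) : (data h).ev y ≠ 1 := by
  intro h1
  have := ev_smul_of_table h hy hT x0 hx0
  rw [h1, one_smul] at this
  exact hne ((data h).pt_inj _ (hT x0 hx0).1 _ hx0 this.symm)

end

end Cfsg.Agent.Lib.Helper98.PermModel
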