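import Mathlib
import Cfsg.Agent.Lib.Helper98.Fi23Cover
import Cfsg.Agent.Lib.Helper98.Fi23Main
import Cfsg.Agent.Lib.Helper98.Fi23Z
import Cfsg.Agent.Lib.Helper98.PermModel3
import Cfsg.Agent.Lib.Helper98.CoxIso

/-!
# The subgroup `⟨a, …, i⟩` of the presented `Fi23` is a non-split double cover of `Fi22`: assembly

The order of the subgroup comes from the coset enumeration certificates and the order of `Fi23`; the
facts about the word `(b c d e f g h)^9` are read off the permutation model, into which the presented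
group embeds.
-/

set_option autoImplicit false

namespace Cfsg.Agent.Lib.Helper98.Fi23CoverMain

open Cfsg Cfsg.Spor MulAction
open Cfsg.Agent.Lib.Helper89 Cfsg.Agent.Lib.Helper89.TableChain2
open Cfsg.Agent.Lib.Helper98.CosetCert Cfsg.Agent.Lib.Helper98.CoxPres Cfsg.Agent.Lib.Helper98.CoxMain
open Cfsg.Agent.Lib.Helper98.PermChain Cfsg.Agent.Lib.Helper98.OrbitLower
open Cfsg.Agent.Lib.Helper98.PermCert Cfsg.Agent.Lib.Helper98.PermModel
open Cfsg.Agent.Lib.Helper98.Fi23Pres Cfsg.Agent.Lib.Helper98.Fi23Model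
open Cfsg.Agent.Lib.Helper98.Fi23Main Cfsg.Agent.Lib.Helper98.Fi23Z
open Cfsg.Agent.Lib.Helper98.Fi23Cover

theorem card_H9 : Nat.card H9 = 129123503308800 := by
  apply le_antisymm b9.2
  obtain ⟨_, c⟩ := lvl10 b9.1
  have htop : Hk gP 10 = ⊤ := link.Hk_top
  rw [htop, Subgroup.card_top, main.2] at c
  show 129123503308800 ≤ Nat.card (Hk gP 9)
  omega

theorem zwl_eq : zw = zwl := by decide

theorem zwl_lt : ∀ c ∈ zwl, c < 10 := by decide

theorem exists_phi : ∃ φ : Cfsg.Spor.Fi23 →* Equiv.Perm (Fin 31671),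
    Function.Injective φ ∧ (∀ x < 10, φ (gP x) = D.gen x) :=
  let ⟨φ, h1, h2, _⟩ := exists_embedding link wf D rfl rel_genM 4089470473293004800 finite_X
    card_X_le card_M_ge
  ⟨φ, h1, h2⟩

theorem map_word (φ : Cfsg.Spor.Fi23 →* Equiv.Perm (Fin 31671))
    (hφ : ∀ x < 10, φ (gP x) = D.gen x) (w : List ℕ) (hw : ∀ c ∈ w, c < 10) :
    φ ((w.map gP).prod) = D.ev w := by
  rw [map_list_prod, List.map_map, Data.ev]
  congr 1
  apply List.map_congr_left
  intro c hc
  exact hφ c (hw c hc)

theorem z_commute : ∀ i < 9, gP i * (zw.map gP).prod = (zw.map gP).prod * gP i := by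
  obtain ⟨φ, hinj, hφ⟩ := exists_phi
  intro i hi
  apply hinj
  have hi10 : i < 10 := lt_trans hi (by decide)
  rw [map_mul, map_mul, zwl_eq, map_word φ hφ zwl zwl_lt, hφ i hi10]
  have hc : allBelow 31671 (commB tab zT i) = true := by
    interval_cases i
    · exact zc0
    · exact zc1
    · exact zc2
    · exact zc3
    · exact zc4
    · exact zc5
    · exact zc6
    · exact zc7
    · exact zc8
  exact (ev_commute_of_table htab zwl_lt zt i hi10 hc).symm

theorem z_sq : (zw.map gP).prod * (zw.map gP).prod = 1 := by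
  obtain ⟨φ, hinj, hφ⟩ := exists_phi
  apply hinj
  rw [map_mul, map_one, zwl_eq, map_word φ hφ zwl zwl_lt]
  exact ev_sq_of_table htab zwl_lt zt zinv

theorem z_ne : (zw.map gP).prod ≠ 1 := by
  obtain ⟨φ, _, hφ⟩ := exists_phi
  intro h
  have h1 : φ ((zw.map gP).prod) = 1 := by rw [h, map_one]
  rw [zwl_eq, map_word φ hφ zwl zwl_lt] at h1
  exact ev_ne_one_of_table htab zwl_lt zt 1 (by decide) zne h1

/-- the subgroup generated by the first nine generators is a non-split double cover of `Fi22` -/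
theorem cover_main : IsNonsplitDoubleCover H9 Cfsg.Spor.Fi22 :=
  cover z_commute z_sq z_ne card_H9

end Cfsg.Agent.Lib.Helper98.Fi23CoverMain
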