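import Cfsg.Agent.Lib.Helper98.A10Data

set_option autoImplicit false

namespace Cfsg.Agent.Lib.Helper98.A10Mon

set_option maxRecDepth 1000000

theorem L_one : (1 : P) ∈ L := by decide +kernel

theorem gx_inv : gx * gxi = 1 ∧ gxi * gx = 1 := by decide +kernel
theorem gy_inv : gy * gyi = 1 ∧ gyi * gy = 1 := by decide +kernel

theorem tab_x : L.map (fun l => some (gx * l)) = Tx.map (fun k => L[k]?) := by decide +kernel
theorem tab_xi : L.map (fun l => some (gxi * l)) = Txi.map (fun k => L[k]?) := by decide +kernel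
theorem tab_y : L.map (fun l => some (gy * l)) = Ty.map (fun k => L[k]?) := by decide +kernel
theorem tab_yi : L.map (fun l => some (gyi * l)) = Tyi.map (fun k => L[k]?) := by decide +kernel

/-- what the list check gives for each element -/
def Good (l : P) : Prop :=
  l = 1 ∨ l = cz ∨ l ^ 2 = cz ∨ l ^ 3 = cz ∨ l ^ 4 = cz ∨ l ^ 5 = cz ∨ l ^ 6 = cz ∨
    (l ^ 3 = 1 ∧ 1 + l.1 + l.1 ^ 2 = 0) ∨
    (l ^ 5 = 1 ∧ 1 + l.1 + l.1 ^ 2 + l.1 ^ 3 + l.1 ^ 4 = 0)

instance (l : P) : Decidable (Good l) := by unfold Good; infer_instance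

theorem L_good : ∀ l ∈ L, Good l := by decide +kernel

theorem cz_sq : cz * cz = 1 := by decide +kernel

end Cfsg.Agent.Lib.Helper98.A10Mon
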