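import Cfsg.Agent.Lib.Helper98.A10Check

set_option autoImplicit false

namespace Cfsg.Agent.Lib.Helper98.A10Mon

set_option maxRecDepth 1000000

/-- an element of each order occurring in the group -/
def witP : ℕ → P
  | 2 => gx ^ 4
  | 3 => (gx * gy) ^ 4
  | 4 => gx ^ 2
  | 5 => gy
  | 6 => (gx * gy) ^ 2
  | 8 => gx
  | 10 => gx ^ 4 * gy
  | 12 => gx * gy
  | _ => 1

theorem witP_spec : ∀ n ∈ [2, 3, 4, 5, 6, 8, 10, 12], witP n ^ n = 1 ∧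
    ∀ m < n, 0 < m → witP n ^ m ≠ 1 := by decide +kernel

theorem g3_eq : (gx * gy) ^ 4 = g3 := by decide +kernel

theorem g3_good : g3 ^ 3 = 1 ∧ 1 + g3.1 + g3.1 ^ 2 = 0 := by decide +kernel

theorem gy_good : gy ^ 5 = 1 ∧ 1 + gy.1 + gy.1 ^ 2 + gy.1 ^ 3 + gy.1 ^ 4 = 0 := by decide +kernel

theorem gy_cube : gy ^ 3 ≠ 1 := by decide +kernel

theorem N3_ne : (1 + Mon.mat g3.2 + Mon.mat g3.2 ^ 2 : R3) 0 0 ≠ 0 := by decide +kernel

theorem N5_ne : (1 + Mon.mat gy.2 + Mon.mat gy.2 ^ 2 + Mon.mat gy.2 ^ 3 + Mon.mat gy.2 ^ 4 : R3) 0 0 ≠ 0 := by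
  decide +kernel

theorem zeta_pow_four : zeta ^ 4 = -1 := by decide +kernel

theorem three_F9 : (3 : F9) = 0 := by decide +kernel

theorem char_R7 : (21 : ℕ) • (1 : R7) = 0 ∧ (7 : ℕ) • (1 : R7) = 0 ∧ (3 : ℕ) • (1 : R7) ≠ 0 := by
  decide +kernel

theorem one_ne_zero_R3 : ((1 : R3) 0 0) ≠ 0 := by decide +kernel

theorem char_R3 : (7 : ℕ) • (1 : R3) ≠ 0 := by decide +kernel

end Cfsg.Agent.Lib.Helper98.A10Mon
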