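import Cfsg.Agent.Lib.Helper98.A10Mon

set_option autoImplicit false

namespace Cfsg.Agent.Lib.Helper98.A10Mon

/-- the 240 elements of the group -/
def L : List P := [
  (!![1, 0, 0, 0; 0, 1, 0, 0; 0, 0, 1, 0; 0, 0, 0, 1], ⟨![(0, 0), (1, 0), (2, 0), (3, 0), (4, 0), (5, 0)]⟩),
  (!![6, 0, 0, 0; 0, 6, 0, 0; 0, 0, 6, 0; 0, 0, 0, 6], ⟨![(0, 4), (1, 4), (2, 4), (3, 4), (4, 4), (5, 4)]⟩),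
  (!![0, 0, 4, 0; 0, 0, 0, 4; 5, 0, 6, 0; 0, 5, 0, 6], ⟨![(3, 7), (0, 3), (5, 5), (1, 6), (2, 6), (4, 5)]⟩),
  (!![0, 0, 5, 0; 0, 0, 0, 5; 4, 0, 6, 0; 0, 4, 0, 6], ⟨![(1, 3), (4, 3), (3, 5), (5, 6), (0, 2), (2, 5)]⟩),
  (!![0, 1, 5, 2; 6, 0, 5, 5; 5, 2, 6, 6; 5, 5, 1, 6], ⟨![(3, 3), (2, 1), (4, 6), (5, 2), (1, 1), (0, 3)]⟩),
  (!![0, 5, 1, 5; 2, 0, 2, 1; 4, 3, 6, 2; 4, 4, 5, 6], ⟨![(5, 7), (0, 1), (3, 1), (4, 7), (2, 0), (1, 0)]⟩),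
  (!![0, 5, 4, 3; 2, 0, 4, 4; 1, 5, 6, 2; 2, 1, 5, 6], ⟨![(5, 3), (4, 1), (0, 6), (1, 2), (3, 5), (2, 7)]⟩),
  (!![1, 5, 3, 1; 2, 1, 6, 3; 3, 1, 5, 2; 6, 3, 5, 5], ⟨![(5, 1), (2, 5), (3, 7), (1, 4), (0, 0), (4, 7)]⟩),
  (!![2, 0, 0, 0; 0, 2, 0, 0; 1, 0, 4, 0; 0, 1, 0, 4], ⟨![(2, 0), (3, 0), (4, 4), (5, 4), (0, 4), (1, 4)]⟩),
  (!![2, 0, 1, 0; 0, 2, 0, 1; 0, 0, 4, 0; 0, 0, 0, 4], ⟨![(3, 1), (5, 2), (0, 2), (2, 5), (1, 3), (4, 3)]⟩),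
  (!![2, 3, 1, 6; 4, 2, 1, 1; 5, 4, 4, 4; 3, 5, 3, 4], ⟨![(4, 2), (5, 6), (1, 1), (0, 3), (3, 3), (2, 1)]⟩),
  (!![2, 3, 5, 4; 4, 2, 3, 5; 1, 6, 4, 4; 1, 1, 3, 4], ⟨![(2, 4), (0, 7), (1, 5), (4, 1), (5, 7), (3, 0)]⟩),
  (!![4, 0, 0, 0; 0, 4, 0, 0; 6, 0, 2, 0; 0, 6, 0, 2], ⟨![(4, 4), (5, 4), (0, 0), (1, 0), (2, 4), (3, 4)]⟩),
  (!![4, 0, 6, 0; 0, 4, 0, 6; 0, 0, 2, 0; 0, 0, 0, 2], ⟨![(2, 6), (4, 5), (3, 3), (0, 7), (5, 5), (1, 6)]⟩),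
  (!![4, 4, 2, 3; 3, 4, 4, 2; 6, 1, 2, 3; 6, 6, 4, 2], ⟨![(1, 1), (2, 3), (0, 4), (5, 0), (3, 7), (4, 1)]⟩),
  (!![4, 4, 6, 1; 3, 4, 6, 6; 2, 3, 2, 3; 4, 2, 4, 2], ⟨![(3, 5), (2, 7), (5, 7), (4, 5), (0, 6), (1, 2)]⟩),
  (!![5, 2, 4, 6; 5, 5, 1, 4; 4, 6, 1, 5; 1, 4, 2, 1], ⟨![(4, 0), (3, 4), (1, 3), (2, 1), (5, 1), (0, 7)]⟩),
  (!![6, 0, 2, 0; 0, 6, 0, 2; 3, 0, 0, 0; 0, 3, 0, 0], ⟨![(4, 6), (0, 5), (5, 3), (2, 3), (1, 5), (3, 2)]⟩),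
  (!![6, 0, 3, 0; 0, 6, 0, 3; 2, 0, 0, 0; 0, 2, 0, 0], ⟨![(1, 5), (3, 2), (4, 2), (0, 1), (5, 3), (2, 3)]⟩),
  (!![6, 2, 3, 4; 5, 6, 3, 3; 6, 2, 0, 5; 5, 6, 2, 0], ⟨![(2, 2), (3, 6), (5, 1), (4, 3), (1, 7), (0, 5)]⟩),
  (!![6, 2, 6, 2; 5, 6, 5, 6; 3, 4, 0, 5; 3, 3, 2, 0], ⟨![(1, 7), (5, 0), (4, 0), (2, 7), (3, 1), (0, 1)]⟩),
  (!![6, 6, 2, 5; 1, 6, 2, 2; 2, 5, 0, 1; 2, 2, 6, 0], ⟨![(5, 5), (4, 7), (1, 7), (0, 5), (2, 2), (3, 6)]⟩),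
  (!![0, 0, 1, 0; 0, 0, 0, 1; 6, 0, 0, 0; 0, 6, 0, 0], ⟨![(5, 3), (2, 3), (1, 1), (3, 6), (4, 2), (0, 1)]⟩),
  (!![0, 0, 6, 0; 0, 0, 0, 6; 1, 0, 0, 0; 0, 1, 0, 0], ⟨![(5, 7), (2, 7), (1, 5), (3, 2), (4, 6), (0, 5)]⟩),
  (!![0, 3, 1, 6; 4, 0, 1, 1; 4, 4, 0, 4; 3, 4, 3, 0], ⟨![(1, 7), (0, 5), (2, 6), (3, 2), (5, 1), (4, 3)]⟩),
  (!![0, 3, 4, 4; 4, 0, 3, 4; 1, 6, 0, 4; 1, 1, 3, 0], ⟨![(4, 0), (1, 2), (5, 1), (3, 6), (0, 4), (2, 3)]⟩),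
  (!![0, 4, 3, 3; 3, 0, 4, 3; 6, 1, 0, 3; 6, 6, 4, 0], ⟨![(4, 4), (1, 6), (5, 5), (3, 2), (0, 0), (2, 7)]⟩),
  (!![0, 4, 6, 1; 3, 0, 6, 6; 3, 3, 0, 3; 4, 3, 4, 0], ⟨![(1, 3), (0, 1), (2, 2), (3, 6), (5, 5), (4, 7)]⟩),
  (!![1, 0, 2, 0; 0, 6, 0, 5; 6, 0, 6, 0; 0, 1, 0, 1], ⟨![(5, 6), (4, 6), (3, 2), (2, 2), (1, 6), (0, 6)]⟩),
  (!![1, 0, 6, 0; 0, 6, 0, 1; 2, 0, 6, 0; 0, 5, 0, 1], ⟨![(5, 4), (3, 3), (4, 1), (1, 1), (2, 3), (0, 0)]⟩),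
  (!![1, 3, 3, 0; 3, 6, 0, 4; 1, 0, 6, 3; 0, 6, 3, 1], ⟨![(2, 7), (3, 1), (0, 5), (1, 3), (5, 4), (4, 0)]⟩),
  (!![1, 4, 1, 0; 4, 6, 0, 6; 3, 0, 6, 4; 0, 4, 4, 1], ⟨![(4, 5), (5, 3), (3, 0), (2, 4), (0, 7), (1, 1)]⟩),
  (!![1, 5, 2, 3; 2, 1, 4, 2; 5, 5, 6, 2; 2, 5, 5, 6], ⟨![(0, 6), (5, 6), (4, 2), (3, 2), (2, 2), (1, 6)]⟩),
  (!![1, 5, 5, 5; 2, 1, 2, 5; 2, 3, 6, 2; 4, 2, 5, 6], ⟨![(2, 4), (4, 7), (0, 0), (3, 6), (1, 5), (5, 2)]⟩),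
  (!![2, 0, 3, 0; 0, 2, 0, 3; 3, 0, 5, 0; 0, 3, 0, 5], ⟨![(0, 6), (2, 1), (1, 3), (4, 3), (3, 1), (5, 2)]⟩),
  (!![2, 0, 4, 0; 0, 5, 0, 3; 4, 0, 5, 0; 0, 3, 0, 2], ⟨![(1, 2), (0, 2), (5, 6), (4, 6), (3, 6), (2, 6)]⟩),
  (!![2, 2, 0, 2; 5, 2, 5, 0; 3, 4, 5, 5; 3, 3, 2, 5], ⟨![(0, 2), (3, 4), (5, 3), (1, 0), (4, 6), (2, 1)]⟩),
  (!![2, 2, 3, 4; 5, 2, 3, 3; 0, 2, 5, 5; 5, 0, 2, 5], ⟨![(1, 5), (0, 7), (3, 3), (2, 1), (4, 2), (5, 6)]⟩),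
  (!![2, 3, 0, 4; 4, 2, 3, 0; 4, 6, 5, 4; 1, 4, 3, 5], ⟨![(3, 7), (5, 4), (2, 6), (0, 5), (4, 2), (1, 0)]⟩),
  (!![2, 3, 4, 6; 4, 2, 1, 4; 0, 4, 5, 4; 3, 0, 3, 5], ⟨![(2, 6), (1, 2), (0, 6), (5, 6), (4, 6), (3, 6)]⟩),
  (!![2, 3, 5, 0; 3, 5, 0, 2; 0, 0, 5, 3; 0, 0, 3, 2], ⟨![(1, 4), (0, 0), (4, 3), (5, 5), (2, 1), (3, 7)]⟩),
  (!![2, 4, 0, 0; 4, 5, 0, 0; 5, 0, 5, 4; 0, 2, 4, 2], ⟨![(3, 0), (4, 0), (5, 4), (0, 4), (1, 4), (2, 0)]⟩),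
  (!![2, 5, 0, 1; 2, 2, 6, 0; 1, 1, 5, 2; 6, 1, 5, 5], ⟨![(0, 6), (4, 1), (2, 2), (5, 0), (1, 3), (3, 4)]⟩),
  (!![2, 5, 1, 1; 2, 2, 6, 1; 0, 1, 5, 2; 6, 0, 5, 5], ⟨![(3, 5), (1, 6), (4, 4), (0, 7), (2, 0), (5, 2)]⟩),
  (!![3, 0, 2, 0; 0, 4, 0, 5; 2, 0, 4, 0; 0, 5, 0, 3], ⟨![(2, 1), (5, 1), (0, 3), (4, 4), (3, 0), (1, 3)]⟩),
  (!![3, 0, 3, 0; 0, 4, 0, 4; 6, 0, 4, 0; 0, 1, 0, 3], ⟨![(4, 3), (2, 4), (1, 0), (5, 7), (0, 1), (3, 5)]⟩),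
  (!![3, 0, 5, 0; 0, 3, 0, 5; 5, 0, 4, 0; 0, 5, 0, 4], ⟨![(5, 1), (1, 2), (2, 6), (4, 5), (3, 7), (0, 3)]⟩),
  (!![3, 0, 6, 0; 0, 4, 0, 1; 3, 0, 4, 0; 0, 4, 0, 3], ⟨![(3, 6), (2, 6), (1, 6), (0, 6), (5, 6), (4, 6)]⟩),
  (!![3, 1, 5, 2; 6, 3, 5, 5; 6, 2, 4, 6; 5, 6, 1, 4], ⟨![(0, 2), (1, 6), (3, 5), (2, 7), (5, 3), (4, 1)]⟩),
  (!![3, 1, 6, 2; 6, 3, 5, 6; 5, 2, 4, 6; 5, 5, 1, 4], ⟨![(4, 6), (3, 6), (2, 2), (1, 6), (0, 6), (5, 6)]⟩),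
  (!![4, 0, 1, 0; 0, 3, 0, 6; 4, 0, 3, 0; 0, 3, 0, 4], ⟨![(3, 2), (2, 2), (1, 2), (0, 2), (5, 2), (4, 2)]⟩),
  (!![4, 0, 2, 0; 0, 4, 0, 2; 2, 0, 3, 0; 0, 2, 0, 3], ⟨![(5, 5), (1, 6), (2, 2), (4, 1), (3, 3), (0, 7)]⟩),
  (!![4, 0, 4, 0; 0, 3, 0, 3; 1, 0, 3, 0; 0, 6, 0, 4], ⟨![(4, 7), (2, 0), (1, 4), (5, 3), (0, 5), (3, 1)]⟩),
  (!![4, 0, 5, 0; 0, 3, 0, 2; 5, 0, 3, 0; 0, 2, 0, 4], ⟨![(2, 5), (5, 5), (0, 7), (4, 0), (3, 4), (1, 7)]⟩),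
  (!![4, 6, 1, 5; 1, 4, 2, 1; 2, 5, 3, 1; 2, 2, 6, 3], ⟨![(4, 2), (3, 2), (2, 6), (1, 2), (0, 2), (5, 2)]⟩),
  (!![4, 6, 2, 5; 1, 4, 2, 2; 1, 5, 3, 1; 2, 1, 6, 3], ⟨![(0, 6), (1, 2), (3, 1), (2, 3), (5, 7), (4, 5)]⟩),
  (!![5, 0, 3, 0; 0, 2, 0, 4; 3, 0, 2, 0; 0, 4, 0, 5], ⟨![(1, 6), (0, 6), (5, 2), (4, 2), (3, 2), (2, 2)]⟩),
  (!![5, 0, 4, 0; 0, 5, 0, 4; 4, 0, 2, 0; 0, 4, 0, 2], ⟨![(0, 2), (2, 5), (1, 7), (4, 7), (3, 5), (5, 6)]⟩),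
  (!![5, 2, 0, 6; 5, 5, 1, 0; 6, 6, 2, 5; 1, 6, 2, 2], ⟨![(0, 2), (4, 5), (2, 6), (5, 4), (1, 7), (3, 0)]⟩),
  (!![5, 2, 6, 6; 5, 5, 1, 6; 0, 6, 2, 5; 1, 0, 2, 2], ⟨![(3, 1), (1, 2), (4, 0), (0, 3), (2, 4), (5, 6)]⟩),
  (!![5, 3, 0, 0; 3, 2, 0, 0; 2, 0, 2, 3; 0, 5, 3, 5], ⟨![(3, 4), (4, 4), (5, 0), (0, 0), (1, 0), (2, 4)]⟩),
  (!![5, 4, 0, 3; 3, 5, 4, 0; 3, 1, 2, 3; 6, 3, 4, 2], ⟨![(3, 3), (5, 0), (2, 2), (0, 1), (4, 6), (1, 4)]⟩),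
  (!![5, 4, 2, 0; 4, 2, 0, 5; 0, 0, 2, 4; 0, 0, 4, 5], ⟨![(1, 0), (0, 4), (4, 7), (5, 1), (2, 5), (3, 3)]⟩),
  (!![5, 4, 3, 1; 3, 5, 6, 3; 0, 3, 2, 3; 4, 0, 4, 2], ⟨![(2, 2), (1, 6), (0, 2), (5, 2), (4, 2), (3, 2)]⟩),
  (!![5, 5, 0, 5; 2, 5, 2, 0; 4, 3, 2, 2; 4, 4, 5, 2], ⟨![(0, 6), (3, 0), (5, 7), (1, 4), (4, 2), (2, 5)]⟩),
  (!![5, 5, 4, 3; 2, 5, 4, 4; 0, 5, 2, 2; 2, 0, 5, 2], ⟨![(1, 1), (0, 3), (3, 7), (2, 5), (4, 6), (5, 2)]⟩),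
  (!![6, 0, 1, 0; 0, 1, 0, 6; 5, 0, 1, 0; 0, 2, 0, 6], ⟨![(5, 0), (3, 7), (4, 5), (1, 5), (2, 7), (0, 4)]⟩),
  (!![6, 0, 5, 0; 0, 1, 0, 2; 1, 0, 1, 0; 0, 6, 0, 6], ⟨![(5, 2), (4, 2), (3, 6), (2, 6), (1, 2), (0, 2)]⟩),
  (!![6, 2, 2, 2; 5, 6, 5, 2; 5, 4, 1, 5; 3, 5, 2, 1], ⟨![(2, 0), (4, 3), (0, 4), (3, 2), (1, 1), (5, 6)]⟩),
  (!![6, 2, 5, 4; 5, 6, 3, 5; 2, 2, 1, 5; 5, 2, 2, 1], ⟨![(0, 2), (5, 2), (4, 6), (3, 6), (2, 6), (1, 2)]⟩),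
  (!![6, 3, 6, 0; 3, 1, 0, 1; 4, 0, 1, 3; 0, 3, 3, 6], ⟨![(4, 1), (5, 7), (3, 4), (2, 0), (0, 3), (1, 5)]⟩),
  (!![6, 4, 4, 0; 4, 1, 0, 3; 6, 0, 1, 4; 0, 1, 4, 6], ⟨![(2, 3), (3, 5), (0, 1), (1, 7), (5, 0), (4, 4)]⟩),
  (!![0, 1, 3, 1; 6, 0, 6, 3; 6, 6, 3, 1; 1, 6, 6, 3], ⟨![(3, 7), (4, 1), (1, 5), (2, 7), (0, 4), (5, 0)]⟩),
  (!![0, 1, 6, 6; 6, 0, 1, 6; 3, 1, 3, 1; 6, 3, 6, 3], ⟨![(0, 0), (3, 6), (1, 1), (5, 6), (2, 0), (4, 3)]⟩),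
  (!![0, 4, 5, 4; 3, 0, 3, 5; 5, 4, 3, 1; 3, 5, 6, 3], ⟨![(1, 7), (2, 5), (5, 1), (0, 7), (4, 0), (3, 4)]⟩),
  (!![0, 5, 2, 2; 2, 0, 5, 2; 2, 2, 3, 4; 5, 2, 3, 3], ⟨![(2, 4), (5, 6), (3, 5), (1, 6), (4, 0), (0, 3)]⟩),
  (!![1, 6, 4, 4; 1, 1, 3, 4; 5, 4, 2, 3; 3, 5, 4, 2], ⟨![(1, 5), (5, 2), (2, 0), (4, 3), (0, 0), (3, 6)]⟩),
  (!![1, 6, 5, 4; 1, 1, 3, 5; 4, 4, 2, 3; 3, 4, 4, 2], ⟨![(2, 0), (1, 0), (5, 3), (0, 5), (3, 1), (4, 7)]⟩),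
  (!![2, 3, 2, 3; 4, 2, 4, 2; 3, 3, 1, 6; 4, 3, 1, 1], ⟨![(3, 3), (1, 0), (0, 0), (4, 7), (5, 1), (2, 5)]⟩),
  (!![2, 3, 3, 3; 4, 2, 4, 3; 2, 3, 1, 6; 4, 2, 1, 1], ⟨![(4, 0), (0, 3), (2, 0), (5, 2), (3, 5), (1, 6)]⟩),
  (!![3, 1, 1, 1; 6, 3, 6, 1; 4, 6, 0, 1; 1, 4, 6, 0], ⟨![(0, 0), (2, 7), (4, 0), (1, 2), (5, 5), (3, 2)]⟩),
  (!![3, 1, 2, 3; 6, 3, 4, 2; 2, 3, 0, 4; 4, 2, 3, 0], ⟨![(3, 1), (0, 1), (1, 3), (5, 4), (4, 0), (2, 7)]⟩),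
  (!![3, 1, 4, 6; 6, 3, 1, 4; 1, 1, 0, 1; 6, 1, 6, 0], ⟨![(4, 4), (2, 3), (3, 1), (0, 1), (1, 7), (5, 0)]⟩),
  (!![3, 4, 5, 5; 3, 3, 2, 5; 5, 5, 0, 5; 2, 5, 2, 0], ⟨![(5, 5), (3, 2), (0, 4), (2, 3), (4, 0), (1, 2)]⟩),
  (!![4, 3, 0, 2; 4, 4, 5, 0; 6, 2, 6, 2; 5, 6, 5, 6], ⟨![(2, 6), (0, 5), (4, 6), (1, 4), (3, 3), (5, 0)]⟩),
  (!![4, 3, 6, 2; 4, 4, 5, 6; 0, 2, 6, 2; 5, 0, 5, 6], ⟨![(0, 0), (5, 4), (3, 7), (4, 1), (1, 1), (2, 3)]⟩),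
  (!![4, 4, 0, 4; 3, 4, 3, 0; 0, 4, 6, 1; 3, 0, 6, 6], ⟨![(2, 2), (5, 0), (1, 7), (3, 0), (0, 2), (4, 5)]⟩),
  (!![4, 6, 0, 1; 1, 4, 6, 0; 4, 6, 6, 6; 1, 4, 1, 6], ⟨![(5, 3), (1, 0), (4, 2), (2, 5), (0, 6), (3, 0)]⟩),
  (!![4, 6, 4, 6; 1, 4, 1, 4; 0, 1, 6, 6; 6, 0, 1, 6], ⟨![(5, 7), (3, 0), (2, 0), (0, 3), (1, 5), (4, 1)]⟩),
  (!![5, 4, 1, 5; 3, 5, 2, 1; 1, 5, 5, 5; 2, 1, 2, 5], ⟨![(1, 1), (4, 5), (5, 7), (3, 0), (2, 4), (0, 7)]⟩),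
  (!![5, 5, 6, 2; 2, 5, 5, 6; 6, 2, 5, 4; 5, 6, 3, 5], ⟨![(5, 1), (0, 7), (4, 4), (3, 0), (1, 3), (2, 1)]⟩),
  (!![6, 1, 0, 3; 6, 6, 4, 0; 0, 3, 4, 4; 4, 0, 3, 4], ⟨![(4, 6), (2, 1), (0, 6), (3, 0), (5, 3), (1, 0)]⟩),
  (!![6, 2, 0, 5; 5, 6, 2, 0; 1, 5, 4, 3; 2, 1, 4, 4], ⟨![(1, 3), (3, 4), (0, 2), (4, 5), (2, 2), (5, 0)]⟩),
  (!![6, 2, 1, 5; 5, 6, 2, 1; 0, 5, 4, 3; 2, 0, 4, 4], ⟨![(0, 0), (4, 7), (5, 5), (2, 1), (3, 7), (1, 4)]⟩),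
  (!![6, 6, 0, 6; 1, 6, 1, 0; 3, 1, 4, 6; 6, 3, 1, 4], ⟨![(4, 2), (1, 0), (3, 3), (5, 0), (2, 6), (0, 5)]⟩),
  (!![6, 6, 3, 1; 1, 6, 6, 3; 0, 6, 4, 6; 1, 0, 1, 4], ⟨![(3, 5), (4, 3), (2, 0), (1, 0), (5, 7), (0, 1)]⟩),
  (!![0, 0, 2, 0; 0, 0, 0, 2; 3, 0, 1, 0; 0, 3, 0, 1], ⟨![(1, 7), (4, 7), (3, 1), (5, 2), (0, 6), (2, 1)]⟩),
  (!![0, 0, 3, 0; 0, 0, 0, 3; 2, 0, 1, 0; 0, 2, 0, 1], ⟨![(3, 3), (0, 7), (5, 1), (1, 2), (2, 2), (4, 1)]⟩),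
  (!![0, 2, 3, 4; 5, 0, 3, 3; 6, 2, 1, 5; 5, 6, 2, 1], ⟨![(5, 7), (4, 5), (0, 2), (1, 6), (3, 1), (2, 3)]⟩),
  (!![0, 2, 6, 2; 5, 0, 5, 6; 3, 4, 1, 5; 3, 3, 2, 1], ⟨![(5, 3), (0, 5), (3, 5), (4, 3), (2, 4), (1, 4)]⟩),
  (!![0, 6, 2, 5; 1, 0, 2, 2; 2, 5, 1, 1; 2, 2, 6, 1], ⟨![(3, 7), (2, 5), (4, 2), (5, 6), (1, 5), (0, 7)]⟩),
  (!![1, 0, 4, 0; 0, 1, 0, 4; 5, 0, 0, 0; 0, 5, 0, 0], ⟨![(1, 1), (3, 6), (4, 6), (0, 5), (5, 7), (2, 7)]⟩),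
  (!![1, 0, 5, 0; 0, 1, 0, 5; 4, 0, 0, 0; 0, 4, 0, 0], ⟨![(4, 2), (0, 1), (5, 7), (2, 7), (1, 1), (3, 6)]⟩),
  (!![1, 1, 5, 2; 6, 1, 5, 5; 5, 2, 0, 6; 5, 5, 1, 0], ⟨![(5, 1), (4, 3), (1, 3), (0, 1), (2, 6), (3, 2)]⟩),
  (!![1, 5, 1, 5; 2, 1, 2, 1; 4, 3, 0, 2; 4, 4, 5, 0], ⟨![(1, 3), (5, 4), (4, 4), (2, 3), (3, 5), (0, 5)]⟩),
  (!![1, 5, 4, 3; 2, 1, 4, 4; 1, 5, 0, 2; 2, 1, 5, 0], ⟨![(2, 6), (3, 2), (5, 5), (4, 7), (1, 3), (0, 1)]⟩),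
  (!![2, 5, 3, 1; 2, 2, 6, 3; 3, 1, 6, 2; 6, 3, 5, 6], ⟨![(4, 4), (3, 0), (1, 7), (2, 5), (5, 5), (0, 3)]⟩),
  (!![3, 0, 0, 0; 0, 3, 0, 0; 1, 0, 5, 0; 0, 1, 0, 5], ⟨![(4, 0), (5, 0), (0, 4), (1, 4), (2, 0), (3, 0)]⟩),
  (!![3, 0, 1, 0; 0, 3, 0, 1; 0, 0, 5, 0; 0, 0, 0, 5], ⟨![(2, 2), (4, 1), (3, 7), (0, 3), (5, 1), (1, 2)]⟩),
  (!![3, 3, 1, 6; 4, 3, 1, 1; 5, 4, 5, 4; 3, 5, 3, 5], ⟨![(3, 1), (2, 3), (5, 3), (4, 1), (0, 2), (1, 6)]⟩),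
  (!![3, 3, 5, 4; 4, 3, 3, 5; 1, 6, 5, 4; 1, 1, 3, 5], ⟨![(1, 5), (2, 7), (0, 0), (5, 4), (3, 3), (4, 5)]⟩),
  (!![5, 0, 0, 0; 0, 5, 0, 0; 6, 0, 3, 0; 0, 6, 0, 3], ⟨![(2, 4), (3, 4), (4, 0), (5, 0), (0, 0), (1, 0)]⟩),
  (!![5, 0, 6, 0; 0, 5, 0, 6; 0, 0, 3, 0; 0, 0, 0, 3], ⟨![(3, 5), (5, 6), (0, 6), (2, 1), (1, 7), (4, 7)]⟩),
  (!![5, 4, 2, 3; 3, 5, 4, 2; 6, 1, 3, 3; 6, 6, 4, 3], ⟨![(2, 0), (0, 3), (1, 1), (4, 5), (5, 3), (3, 4)]⟩),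
  (!![5, 4, 6, 1; 3, 5, 6, 6; 2, 3, 3, 3; 4, 2, 4, 3], ⟨![(4, 6), (5, 2), (1, 5), (0, 7), (3, 7), (2, 5)]⟩),
  (!![6, 2, 4, 6; 5, 6, 1, 4; 4, 6, 2, 5; 1, 4, 2, 2], ⟨![(5, 5), (2, 1), (3, 3), (1, 0), (0, 4), (4, 3)]⟩),
  (!![0, 0, 1, 2; 0, 0, 2, 6; 4, 6, 1, 3; 6, 3, 3, 6], ⟨![(0, 3), (3, 3), (2, 5), (4, 6), (5, 2), (1, 1)]⟩),
  (!![0, 0, 3, 6; 0, 0, 6, 4; 6, 2, 6, 3; 2, 1, 3, 1], ⟨![(4, 3), (1, 7), (0, 1), (2, 6), (3, 2), (5, 1)]⟩),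
  (!![0, 0, 4, 1; 0, 0, 1, 3; 1, 5, 1, 4; 5, 6, 4, 6], ⟨![(4, 7), (1, 3), (0, 5), (2, 2), (3, 6), (5, 5)]⟩),
  (!![0, 0, 6, 5; 0, 0, 5, 1; 3, 1, 6, 4; 1, 4, 4, 1], ⟨![(0, 7), (3, 7), (2, 1), (4, 2), (5, 6), (1, 5)]⟩),
  (!![1, 0, 1, 0; 0, 6, 0, 6; 1, 0, 2, 0; 0, 6, 0, 5], ⟨![(0, 3), (4, 4), (3, 4), (1, 7), (2, 5), (5, 5)]⟩),
  (!![1, 0, 1, 5; 0, 6, 5, 6; 2, 1, 5, 4; 1, 5, 4, 2], ⟨![(1, 2), (2, 2), (4, 5), (3, 7), (0, 3), (5, 1)]⟩),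
  (!![1, 0, 2, 6; 0, 6, 6, 5; 1, 2, 5, 3; 2, 6, 3, 2], ⟨![(0, 7), (2, 0), (5, 6), (3, 1), (1, 2), (4, 4)]⟩),
  (!![1, 0, 3, 0; 0, 6, 0, 4; 3, 0, 3, 0; 0, 4, 0, 4], ⟨![(4, 1), (1, 1), (2, 7), (0, 4), (5, 0), (3, 7)]⟩),
  (!![1, 2, 5, 3; 2, 6, 3, 2; 6, 0, 5, 1; 0, 1, 1, 2], ⟨![(5, 2), (1, 1), (0, 7), (3, 7), (2, 5), (4, 6)]⟩),
  (!![1, 3, 3, 1; 3, 6, 1, 4; 6, 5, 0, 0; 5, 1, 0, 0], ⟨![(2, 3), (1, 5), (3, 6), (4, 2), (0, 1), (5, 3)]⟩),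
  (!![1, 4, 6, 2; 4, 6, 2, 1; 3, 6, 0, 0; 6, 4, 0, 0], ⟨![(0, 5), (5, 7), (2, 3), (1, 5), (3, 2), (4, 6)]⟩),
  (!![1, 5, 6, 0; 5, 6, 0, 1; 5, 4, 5, 6; 4, 2, 6, 2], ⟨![(5, 0), (4, 4), (2, 7), (3, 1), (0, 1), (1, 7)]⟩),
  (!![2, 0, 2, 0; 0, 5, 0, 5; 5, 0, 2, 0; 0, 2, 0, 5], ⟨![(2, 3), (0, 0), (5, 0), (3, 7), (4, 1), (1, 1)]⟩),
  (!![2, 0, 5, 0; 0, 5, 0, 2; 2, 0, 2, 0; 0, 5, 0, 5], ⟨![(1, 0), (5, 7), (0, 5), (3, 1), (4, 7), (2, 0)]⟩),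
  (!![2, 0, 6, 0; 0, 5, 0, 1; 6, 0, 1, 0; 0, 1, 0, 6], ⟨![(0, 5), (3, 1), (4, 3), (2, 4), (1, 4), (5, 3)]⟩),
  (!![2, 1, 2, 0; 1, 5, 0, 5; 6, 4, 4, 2; 4, 1, 2, 3], ⟨![(0, 1), (1, 7), (5, 4), (4, 0), (2, 7), (3, 1)]⟩),
  (!![2, 1, 5, 4; 1, 5, 4, 2; 6, 0, 6, 2; 0, 1, 2, 1], ⟨![(2, 5), (1, 3), (4, 7), (3, 5), (5, 6), (0, 2)]⟩),
  (!![2, 3, 2, 1; 3, 5, 1, 5; 1, 5, 6, 0; 5, 6, 0, 1], ⟨![(0, 5), (4, 2), (1, 4), (3, 3), (5, 0), (2, 6)]⟩),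
  (!![2, 3, 4, 5; 3, 5, 5, 3; 3, 1, 4, 0; 1, 4, 0, 3], ⟨![(3, 2), (1, 1), (5, 2), (2, 4), (4, 7), (0, 4)]⟩),
  (!![2, 4, 1, 2; 4, 5, 2, 6; 2, 6, 6, 0; 6, 5, 0, 1], ⟨![(4, 1), (0, 2), (1, 2), (3, 5), (2, 7), (5, 3)]⟩),
  (!![2, 4, 3, 6; 4, 5, 6, 4; 4, 2, 4, 0; 2, 3, 0, 3], ⟨![(1, 6), (3, 1), (2, 7), (5, 3), (4, 1), (0, 2)]⟩),
  (!![2, 6, 6, 0; 6, 5, 0, 1; 5, 3, 6, 5; 3, 2, 5, 1], ⟨![(4, 3), (5, 5), (2, 5), (3, 3), (1, 0), (0, 4)]⟩),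
  (!![2, 6, 6, 3; 6, 5, 3, 1; 2, 0, 4, 5; 0, 5, 5, 3], ⟨![(1, 4), (4, 2), (2, 1), (0, 2), (3, 4), (5, 7)]⟩),
  (!![3, 0, 3, 1; 0, 4, 1, 4; 4, 5, 5, 4; 5, 3, 4, 2], ⟨![(5, 2), (0, 6), (2, 5), (1, 3), (4, 3), (3, 1)]⟩),
  (!![3, 0, 4, 0; 0, 4, 0, 3; 4, 0, 1, 0; 0, 3, 0, 6], ⟨![(3, 4), (1, 7), (2, 1), (5, 1), (0, 7), (4, 0)]⟩),
  (!![3, 0, 4, 2; 0, 4, 2, 3; 3, 6, 5, 3; 6, 4, 3, 2], ⟨![(5, 0), (1, 3), (3, 0), (0, 2), (4, 5), (2, 2)]⟩),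
  (!![3, 1, 4, 0; 1, 4, 0, 3; 5, 4, 3, 2; 4, 2, 2, 4], ⟨![(3, 0), (2, 4), (0, 3), (1, 5), (4, 1), (5, 7)]⟩),
  (!![3, 2, 2, 0; 2, 4, 0, 5; 6, 3, 5, 1; 3, 1, 1, 2], ⟨![(0, 3), (1, 5), (4, 5), (5, 3), (3, 4), (2, 0)]⟩),
  (!![3, 2, 2, 3; 2, 4, 3, 5; 3, 0, 3, 1; 0, 4, 1, 4], ⟨![(0, 7), (5, 5), (1, 2), (2, 2), (4, 1), (3, 3)]⟩),
  (!![3, 5, 3, 0; 5, 4, 0, 4; 2, 4, 3, 6; 4, 5, 6, 4], ⟨![(2, 5), (3, 3), (1, 4), (0, 0), (4, 7), (5, 1)]⟩),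
  (!![3, 5, 6, 4; 5, 4, 4, 1; 2, 0, 5, 6; 0, 5, 6, 2], ⟨![(3, 2), (0, 0), (2, 3), (4, 0), (1, 2), (5, 5)]⟩),
  (!![3, 6, 5, 3; 6, 4, 3, 2; 4, 0, 3, 5; 0, 3, 5, 4], ⟨![(0, 1), (2, 6), (3, 6), (5, 5), (4, 7), (1, 3)]⟩),
  (!![4, 0, 3, 0; 0, 3, 0, 4; 3, 0, 6, 0; 0, 4, 0, 1], ⟨![(3, 0), (1, 3), (2, 5), (5, 5), (0, 3), (4, 4)]⟩),
  (!![4, 0, 3, 5; 0, 3, 5, 4; 4, 1, 2, 4; 1, 3, 4, 5], ⟨![(5, 4), (1, 7), (3, 4), (0, 6), (4, 1), (2, 6)]⟩),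
  (!![4, 0, 4, 6; 0, 3, 6, 3; 3, 2, 2, 3; 2, 4, 3, 5], ⟨![(5, 6), (0, 2), (2, 1), (1, 7), (4, 7), (3, 5)]⟩),
  (!![4, 1, 2, 4; 1, 3, 4, 5; 3, 0, 4, 2; 0, 4, 2, 3], ⟨![(0, 5), (2, 2), (3, 2), (5, 1), (4, 3), (1, 7)]⟩),
  (!![4, 2, 1, 3; 2, 3, 3, 6; 5, 0, 2, 1; 0, 2, 1, 5], ⟨![(3, 6), (0, 4), (2, 7), (4, 4), (1, 6), (5, 1)]⟩),
  (!![4, 2, 4, 0; 2, 3, 0, 3; 5, 3, 4, 1; 3, 2, 1, 3], ⟨![(2, 1), (3, 7), (1, 0), (0, 4), (4, 3), (5, 5)]⟩),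
  (!![4, 5, 5, 0; 5, 3, 0, 2; 1, 4, 2, 6; 4, 6, 6, 5], ⟨![(0, 7), (1, 1), (4, 1), (5, 7), (3, 0), (2, 4)]⟩),
  (!![4, 5, 5, 4; 5, 3, 4, 2; 4, 0, 4, 6; 0, 3, 6, 3], ⟨![(0, 3), (5, 1), (1, 6), (2, 6), (4, 5), (3, 7)]⟩),
  (!![4, 6, 3, 0; 6, 3, 0, 4; 2, 3, 4, 5; 3, 5, 5, 3], ⟨![(3, 4), (2, 0), (0, 7), (1, 1), (4, 5), (5, 3)]⟩),
  (!![5, 0, 1, 0; 0, 2, 0, 6; 1, 0, 6, 0; 0, 6, 0, 1], ⟨![(0, 1), (3, 5), (4, 7), (2, 0), (1, 0), (5, 7)]⟩),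
  (!![5, 0, 2, 0; 0, 2, 0, 5; 5, 0, 5, 0; 0, 2, 0, 2], ⟨![(1, 4), (5, 3), (0, 1), (3, 5), (4, 3), (2, 4)]⟩),
  (!![5, 0, 5, 0; 0, 2, 0, 2; 2, 0, 5, 0; 0, 5, 0, 2], ⟨![(2, 7), (0, 4), (5, 4), (3, 3), (4, 5), (1, 5)]⟩),
  (!![5, 1, 1, 0; 1, 2, 0, 6; 2, 4, 1, 2; 4, 5, 2, 6], ⟨![(4, 7), (5, 1), (2, 1), (3, 7), (1, 4), (0, 0)]⟩),
  (!![5, 1, 1, 4; 1, 2, 4, 6; 5, 0, 3, 2; 0, 2, 2, 4], ⟨![(1, 0), (4, 6), (2, 5), (0, 6), (3, 0), (5, 3)]⟩),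
  (!![5, 3, 4, 1; 3, 2, 1, 3; 3, 5, 3, 0; 5, 4, 0, 4], ⟨![(1, 2), (3, 5), (2, 3), (5, 7), (4, 5), (0, 6)]⟩),
  (!![5, 3, 6, 5; 3, 2, 5, 1; 5, 1, 1, 0; 1, 2, 0, 6], ⟨![(4, 5), (0, 6), (1, 6), (3, 1), (2, 3), (5, 7)]⟩),
  (!![5, 4, 3, 2; 4, 2, 2, 4; 4, 6, 3, 0; 6, 3, 0, 4], ⟨![(3, 6), (1, 5), (5, 6), (2, 0), (4, 3), (0, 0)]⟩),
  (!![5, 4, 5, 6; 4, 2, 6, 2; 6, 2, 1, 0; 2, 1, 0, 6], ⟨![(0, 1), (4, 6), (1, 0), (3, 7), (5, 4), (2, 2)]⟩),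
  (!![5, 6, 2, 3; 6, 2, 3, 5; 1, 0, 1, 5; 0, 6, 5, 6], ⟨![(2, 1), (1, 7), (4, 3), (3, 1), (5, 2), (0, 6)]⟩),
  (!![5, 6, 5, 0; 6, 2, 0, 2; 1, 3, 3, 5; 3, 6, 5, 4], ⟨![(0, 5), (1, 3), (5, 0), (4, 4), (2, 3), (3, 5)]⟩),
  (!![6, 0, 4, 0; 0, 1, 0, 3; 4, 0, 4, 0; 0, 3, 0, 3], ⟨![(4, 5), (1, 5), (2, 3), (0, 0), (5, 4), (3, 3)]⟩),
  (!![6, 0, 5, 1; 0, 1, 1, 2; 6, 5, 2, 4; 5, 1, 4, 5], ⟨![(0, 3), (2, 4), (5, 2), (3, 5), (1, 6), (4, 0)]⟩),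
  (!![6, 0, 6, 0; 0, 1, 0, 1; 6, 0, 5, 0; 0, 1, 0, 2], ⟨![(0, 7), (4, 0), (3, 0), (1, 3), (2, 1), (5, 1)]⟩),
  (!![6, 0, 6, 2; 0, 1, 2, 1; 5, 6, 2, 3; 6, 2, 3, 5], ⟨![(1, 6), (2, 6), (4, 1), (3, 3), (0, 7), (5, 5)]⟩),
  (!![6, 2, 1, 0; 2, 1, 0, 6; 2, 3, 2, 1; 3, 5, 1, 5], ⟨![(5, 4), (4, 0), (2, 3), (3, 5), (0, 5), (1, 3)]⟩),
  (!![6, 3, 1, 5; 3, 1, 5, 6; 4, 1, 0, 0; 1, 3, 0, 0], ⟨![(0, 1), (5, 3), (2, 7), (1, 1), (3, 6), (4, 2)]⟩),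
  (!![6, 4, 4, 6; 4, 1, 6, 3; 1, 2, 0, 0; 2, 6, 0, 0], ⟨![(2, 7), (1, 1), (3, 2), (4, 6), (0, 5), (5, 7)]⟩),
  (!![6, 5, 2, 4; 5, 1, 4, 5; 1, 0, 2, 6; 0, 6, 6, 5], ⟨![(5, 6), (1, 5), (0, 3), (3, 3), (2, 1), (4, 2)]⟩),
  (!![0, 2, 5, 5; 5, 0, 2, 5; 5, 5, 4, 3; 2, 5, 4, 4], ⟨![(2, 0), (5, 2), (3, 1), (1, 2), (4, 4), (0, 7)]⟩),
  (!![0, 3, 2, 3; 4, 0, 4, 2; 2, 3, 4, 6; 4, 2, 1, 4], ⟨![(1, 3), (2, 1), (5, 5), (0, 3), (4, 4), (3, 0)]⟩),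
  (!![0, 6, 1, 1; 1, 0, 6, 1; 4, 6, 4, 6; 1, 4, 1, 4], ⟨![(0, 4), (3, 2), (1, 5), (5, 2), (2, 4), (4, 7)]⟩),
  (!![0, 6, 4, 6; 1, 0, 1, 4; 1, 1, 4, 6; 6, 1, 1, 4], ⟨![(3, 3), (4, 5), (1, 1), (2, 3), (0, 0), (5, 4)]⟩),
  (!![1, 1, 0, 1; 6, 1, 6, 0; 4, 6, 3, 1; 1, 4, 6, 3], ⟨![(4, 6), (1, 4), (3, 7), (5, 4), (2, 2), (0, 1)]⟩),
  (!![1, 1, 4, 6; 6, 1, 1, 4; 0, 1, 3, 1; 6, 0, 6, 3], ⟨![(3, 1), (4, 7), (2, 4), (1, 4), (5, 3), (0, 5)]⟩),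
  (!![1, 5, 0, 2; 2, 1, 5, 0; 6, 2, 3, 4; 5, 6, 3, 3], ⟨![(1, 7), (3, 0), (0, 6), (4, 1), (2, 6), (5, 4)]⟩),
  (!![1, 5, 6, 2; 2, 1, 5, 6; 0, 2, 3, 4; 5, 0, 3, 3], ⟨![(0, 4), (4, 3), (5, 1), (2, 5), (3, 3), (1, 0)]⟩),
  (!![1, 6, 0, 4; 1, 1, 3, 0; 0, 4, 3, 3; 3, 0, 4, 3], ⟨![(4, 2), (2, 5), (0, 2), (3, 4), (5, 7), (1, 4)]⟩),
  (!![2, 2, 1, 5; 5, 2, 2, 1; 1, 5, 2, 3; 2, 1, 4, 2], ⟨![(5, 5), (0, 3), (4, 0), (3, 4), (1, 7), (2, 5)]⟩),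
  (!![2, 3, 6, 2; 4, 2, 5, 6; 6, 2, 2, 2; 5, 6, 5, 2], ⟨![(1, 5), (4, 1), (5, 3), (3, 4), (2, 0), (0, 3)]⟩),
  (!![3, 1, 0, 6; 6, 3, 1, 0; 3, 1, 1, 1; 6, 3, 6, 1], ⟨![(5, 7), (1, 4), (4, 6), (2, 1), (0, 2), (3, 4)]⟩),
  (!![3, 1, 3, 1; 6, 3, 6, 3; 0, 6, 1, 1; 1, 0, 6, 1], ⟨![(5, 3), (3, 4), (2, 4), (0, 7), (1, 1), (4, 5)]⟩),
  (!![3, 3, 0, 3; 4, 3, 4, 0; 0, 3, 1, 6; 4, 0, 1, 1], ⟨![(2, 6), (5, 4), (1, 3), (3, 4), (0, 6), (4, 1)]⟩),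
  (!![3, 4, 0, 5; 3, 3, 2, 0; 1, 5, 1, 5; 2, 1, 2, 1], ⟨![(2, 2), (0, 1), (4, 2), (1, 0), (3, 7), (5, 4)]⟩),
  (!![3, 4, 1, 5; 3, 3, 2, 1; 0, 5, 1, 5; 2, 0, 2, 1], ⟨![(0, 4), (5, 0), (3, 3), (4, 5), (1, 5), (2, 7)]⟩),
  (!![4, 3, 2, 2; 4, 4, 5, 2; 2, 2, 0, 2; 5, 2, 5, 0], ⟨![(5, 1), (3, 6), (0, 0), (2, 7), (4, 4), (1, 6)]⟩),
  (!![4, 6, 3, 1; 1, 4, 6, 3; 6, 6, 0, 6; 1, 6, 1, 0], ⟨![(4, 0), (2, 7), (3, 5), (0, 5), (1, 3), (5, 4)]⟩),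
  (!![4, 6, 5, 4; 1, 4, 3, 5; 5, 4, 0, 3; 3, 5, 4, 0], ⟨![(3, 5), (0, 5), (1, 7), (5, 0), (4, 4), (2, 3)]⟩),
  (!![4, 6, 6, 6; 1, 4, 1, 6; 3, 1, 0, 6; 6, 3, 1, 0], ⟨![(0, 4), (2, 3), (4, 4), (1, 6), (5, 1), (3, 6)]⟩),
  (!![5, 4, 4, 4; 3, 5, 3, 4; 5, 4, 6, 1; 3, 5, 6, 6], ⟨![(4, 4), (0, 7), (2, 4), (5, 6), (3, 1), (1, 2)]⟩),
  (!![5, 4, 5, 4; 3, 5, 3, 5; 4, 4, 6, 1; 3, 4, 6, 6], ⟨![(3, 7), (1, 4), (0, 4), (4, 3), (5, 5), (2, 1)]⟩),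
  (!![6, 1, 2, 3; 6, 6, 4, 2; 3, 3, 5, 4; 4, 3, 3, 5], ⟨![(2, 4), (1, 4), (5, 7), (0, 1), (3, 5), (4, 3)]⟩),
  (!![6, 1, 3, 3; 6, 6, 4, 3; 2, 3, 5, 4; 4, 2, 3, 5], ⟨![(1, 1), (5, 6), (2, 4), (4, 7), (0, 4), (3, 2)]⟩),
  (!![0, 0, 2, 4; 0, 0, 4, 5; 2, 3, 5, 0; 3, 5, 0, 2], ⟨![(2, 3), (5, 7), (4, 1), (0, 2), (1, 6), (3, 1)]⟩),
  (!![0, 0, 5, 3; 0, 0, 3, 2; 5, 4, 2, 0; 4, 2, 0, 5], ⟨![(2, 7), (5, 3), (4, 5), (0, 6), (1, 2), (3, 5)]⟩),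
  (!![1, 0, 6, 3; 0, 6, 3, 1; 6, 4, 4, 0; 4, 1, 0, 3], ⟨![(1, 0), (3, 7), (5, 0), (2, 6), (0, 5), (4, 2)]⟩),
  (!![1, 2, 0, 0; 2, 6, 0, 0; 1, 3, 3, 1; 3, 6, 1, 4], ⟨![(1, 0), (2, 4), (3, 0), (4, 0), (5, 0), (0, 0)]⟩),
  (!![1, 2, 4, 1; 2, 6, 1, 3; 2, 1, 4, 5; 1, 5, 5, 3], ⟨![(2, 5), (4, 6), (5, 6), (1, 5), (0, 7), (3, 7)]⟩),
  (!![1, 3, 3, 5; 3, 6, 5, 4; 2, 1, 2, 0; 1, 5, 0, 5], ⟨![(5, 0), (2, 6), (0, 1), (4, 6), (1, 4), (3, 3)]⟩),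
  (!![1, 4, 2, 6; 4, 6, 6, 5; 3, 2, 2, 0; 2, 4, 0, 5], ⟨![(5, 2), (2, 4), (4, 3), (0, 0), (3, 6), (1, 5)]⟩),
  (!![1, 5, 1, 4; 5, 6, 4, 6; 0, 0, 3, 6; 0, 0, 6, 4], ⟨![(4, 1), (2, 6), (5, 0), (1, 3), (3, 4), (0, 6)]⟩),
  (!![1, 5, 2, 6; 5, 6, 6, 5; 4, 6, 4, 2; 6, 3, 2, 3], ⟨![(1, 2), (5, 5), (3, 6), (0, 4), (2, 3), (4, 0)]⟩),
  (!![2, 0, 2, 3; 0, 5, 3, 5; 2, 4, 0, 0; 4, 5, 0, 0], ⟨![(3, 2), (4, 6), (0, 1), (5, 3), (2, 3), (1, 5)]⟩),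
  (!![2, 0, 4, 5; 0, 5, 5, 3; 5, 1, 1, 4; 1, 2, 4, 6], ⟨![(2, 7), (4, 4), (1, 2), (5, 5), (3, 2), (0, 0)]⟩),
  (!![2, 0, 5, 6; 0, 5, 6, 2; 4, 2, 1, 3; 2, 3, 3, 6], ⟨![(3, 0), (5, 3), (1, 4), (4, 2), (2, 5), (0, 6)]⟩),
  (!![2, 1, 4, 5; 1, 5, 5, 3; 6, 5, 3, 6; 5, 1, 6, 4], ⟨![(1, 6), (4, 0), (0, 7), (2, 0), (5, 2), (3, 5)]⟩),
  (!![2, 6, 6, 2; 6, 5, 2, 1; 4, 2, 3, 1; 2, 3, 1, 4], ⟨![(4, 7), (3, 5), (5, 2), (0, 6), (2, 1), (1, 7)]⟩),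
  (!![3, 0, 6, 4; 0, 4, 4, 1; 6, 3, 6, 0; 3, 1, 0, 1], ⟨![(4, 7), (0, 4), (3, 6), (1, 5), (5, 2), (2, 4)]⟩),
  (!![3, 1, 3, 5; 1, 4, 5, 4; 1, 5, 2, 6; 5, 6, 6, 5], ⟨![(2, 1), (0, 2), (3, 0), (5, 3), (1, 0), (4, 6)]⟩),
  (!![3, 1, 6, 4; 1, 4, 4, 1; 0, 0, 1, 2; 0, 0, 2, 6], ⟨![(5, 2), (3, 5), (1, 2), (4, 4), (0, 7), (2, 0)]⟩),
  (!![3, 2, 2, 1; 2, 4, 1, 5; 4, 1, 6, 5; 1, 3, 5, 1], ⟨![(3, 0), (0, 2), (4, 1), (2, 6), (5, 4), (1, 7)]⟩),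
  (!![3, 5, 4, 6; 5, 4, 6, 3; 2, 6, 6, 2; 6, 5, 2, 1], ⟨![(4, 5), (3, 7), (0, 7), (5, 5), (1, 6), (2, 6)]⟩),
  (!![3, 6, 0, 0; 6, 4, 0, 0; 6, 3, 1, 5; 3, 1, 5, 6], ⟨![(5, 0), (0, 0), (1, 4), (2, 0), (3, 0), (4, 0)]⟩),
  (!![3, 6, 1, 2; 6, 4, 2, 6; 3, 2, 2, 1; 2, 4, 1, 5], ⟨![(3, 2), (5, 1), (4, 7), (1, 3), (0, 1), (2, 6)]⟩),
  (!![4, 0, 1, 3; 0, 3, 3, 6; 1, 4, 1, 0; 4, 6, 0, 6], ⟨![(4, 3), (0, 0), (3, 2), (1, 1), (5, 6), (2, 0)]⟩),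
  (!![4, 1, 0, 0; 1, 3, 0, 0; 1, 4, 6, 2; 4, 6, 2, 1], ⟨![(5, 4), (0, 4), (1, 0), (2, 4), (3, 4), (4, 4)]⟩),
  (!![4, 1, 6, 5; 1, 3, 5, 1; 4, 5, 5, 6; 5, 3, 6, 2], ⟨![(3, 6), (5, 5), (4, 3), (1, 7), (0, 5), (2, 2)]⟩),
  (!![4, 2, 3, 1; 2, 3, 1, 4; 5, 1, 1, 5; 1, 2, 5, 6], ⟨![(4, 1), (3, 3), (0, 3), (5, 1), (1, 2), (2, 2)]⟩),
  (!![4, 5, 5, 6; 5, 3, 6, 2; 3, 6, 1, 2; 6, 4, 2, 6], ⟨![(3, 4), (0, 6), (4, 5), (2, 2), (5, 0), (1, 3)]⟩),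
  (!![4, 6, 1, 3; 6, 3, 3, 6; 0, 0, 6, 5; 0, 0, 5, 1], ⟨![(5, 6), (3, 1), (1, 6), (4, 0), (0, 3), (2, 4)]⟩),
  (!![4, 6, 4, 2; 6, 3, 2, 3; 6, 2, 5, 1; 2, 1, 1, 2], ⟨![(2, 5), (0, 6), (3, 4), (5, 7), (1, 4), (4, 2)]⟩),
  (!![5, 0, 2, 1; 0, 2, 1, 5; 3, 5, 6, 4; 5, 4, 4, 1], ⟨![(3, 4), (5, 7), (1, 0), (4, 6), (2, 1), (0, 2)]⟩),
  (!![5, 0, 3, 2; 0, 2, 2, 4; 2, 6, 6, 3; 6, 5, 3, 1], ⟨![(2, 3), (4, 0), (1, 6), (5, 1), (3, 6), (0, 4)]⟩),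
  (!![5, 0, 5, 4; 0, 2, 4, 2; 5, 3, 0, 0; 3, 2, 0, 0], ⟨![(3, 6), (4, 2), (0, 5), (5, 7), (2, 7), (1, 1)]⟩),
  (!![5, 1, 1, 5; 1, 2, 5, 6; 3, 5, 4, 6; 5, 4, 6, 3], ⟨![(4, 3), (3, 1), (5, 6), (0, 2), (2, 5), (1, 3)]⟩),
  (!![5, 6, 3, 2; 6, 2, 2, 4; 1, 2, 4, 1; 2, 6, 1, 3], ⟨![(1, 2), (4, 4), (0, 3), (2, 4), (5, 6), (3, 1)]⟩),
  (!![6, 0, 1, 4; 0, 1, 4, 6; 1, 3, 3, 0; 3, 6, 0, 4], ⟨![(1, 4), (3, 3), (5, 4), (2, 2), (0, 1), (4, 6)]⟩),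
  (!![6, 2, 5, 1; 2, 1, 1, 2; 3, 1, 3, 5; 1, 4, 5, 4], ⟨![(1, 6), (5, 1), (3, 2), (0, 0), (2, 7), (4, 4)]⟩),
  (!![6, 2, 6, 3; 2, 1, 3, 1; 0, 0, 4, 1; 0, 0, 1, 3], ⟨![(4, 5), (2, 2), (5, 4), (1, 7), (3, 0), (0, 2)]⟩),
  (!![6, 3, 5, 1; 3, 1, 1, 2; 4, 5, 5, 0; 5, 3, 0, 2], ⟨![(5, 6), (2, 0), (4, 7), (0, 4), (3, 2), (1, 1)]⟩),
  (!![6, 4, 4, 2; 4, 1, 2, 3; 5, 6, 5, 0; 6, 2, 0, 2], ⟨![(5, 4), (2, 2), (0, 5), (4, 2), (1, 0), (3, 7)]⟩),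
  (!![6, 5, 0, 0; 5, 1, 0, 0; 6, 4, 4, 6; 4, 1, 6, 3], ⟨![(1, 4), (2, 0), (3, 4), (4, 4), (5, 4), (0, 4)]⟩),
  (!![6, 5, 3, 6; 5, 1, 6, 4; 5, 6, 3, 2; 6, 2, 2, 4], ⟨![(2, 1), (4, 2), (5, 2), (1, 1), (0, 3), (3, 3)]⟩)]

/-- first generator, of order 8 -/
def gx : P := (!![0, 0, 1, 2; 0, 0, 2, 6; 4, 6, 1, 3; 6, 3, 3, 6], ⟨![(0, 3), (3, 3), (2, 5), (4, 6), (5, 2), (1, 1)]⟩)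
/-- inverse of the first generator -/
def gxi : P := (!![1, 4, 6, 2; 4, 6, 2, 1; 3, 6, 0, 0; 6, 4, 0, 0], ⟨![(0, 5), (5, 7), (2, 3), (1, 5), (3, 2), (4, 6)]⟩)
/-- second generator, of order 5 -/
def gy : P := (!![2, 3, 2, 3; 4, 2, 4, 2; 3, 3, 1, 6; 4, 3, 1, 1], ⟨![(3, 3), (1, 0), (0, 0), (4, 7), (5, 1), (2, 5)]⟩)
/-- inverse of the second generator -/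
def gyi : P := (!![1, 6, 5, 4; 1, 1, 3, 5; 4, 4, 2, 3; 3, 4, 4, 2], ⟨![(2, 0), (1, 0), (5, 3), (0, 5), (3, 1), (4, 7)]⟩)
/-- an element of order 3 -/
def g3 : P := (!![0, 5, 1, 5; 2, 0, 2, 1; 4, 3, 6, 2; 4, 4, 5, 6], ⟨![(5, 7), (0, 1), (3, 1), (4, 7), (2, 0), (1, 0)]⟩)
/-- the central involution -/
def cz : P := (-1, ⟨fun j => (j, 4)⟩)
/-- index table of a left multiplication -/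
def Tx : List ℕ := [116, 119, 163, 223, 207, 62, 158, 121, 204, 118, 149, 215, 175, 200, 156, 45, 67, 219, 41, 210, 134, 234, 238, 203, 146, 216, 226, 152, 20, 186, 33, 187, 131, 44, 147, 194, 133, 217, 168, 71, 2, 114, 173, 231, 39, 115, 162, 82, 130, 127, 193, 136, 7, 63, 172, 157, 81, 151, 126, 213, 10, 123, 97, 30, 165, 225, 89, 104, 53, 167, 87, 68, 31, 120, 50, 166, 148, 145, 224, 139, 169, 214, 236, 212, 128, 143, 174, 233, 161, 228, 35, 205, 230, 155, 29, 137, 220, 135, 129, 40, 235, 60, 222, 208, 164, 229, 28, 124, 201, 52, 142, 239, 117, 227, 141, 171, 42, 83, 192, 58, 32, 15, 57, 188, 92, 8, 0, 199, 113, 78, 93, 178, 19, 85, 16, 99, 181, 51, 38, 27, 54, 101, 91, 64, 48, 108, 79, 195,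 49, 18, 24, 80, 196, 13, 36, 55, 184, 183, 197, 11, 46, 61, 95, 5, 106, 191, 105, 73, 88, 34, 69, 109, 76, 1, 111, 182, 132, 47, 170, 70, 66, 160, 209, 144, 237, 56, 211, 202, 138, 125, 159, 154, 232, 206, 221, 122, 150, 218, 153, 140, 77, 198, 179, 4, 86, 14, 177, 22, 43, 107, 75, 180, 9, 103, 90, 84, 3, 17, 98, 65, 25, 185, 37, 26, 6, 102, 96, 190, 94, 176, 12, 21, 112, 72, 59, 23, 74, 110, 100, 189]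
/-- index table of a left multiplication -/
def Txi : List ℕ := [126, 173, 40, 216, 203, 163, 224, 52, 125, 212, 60, 159, 230, 153, 205, 121, 134, 217, 149, 132, 28, 231, 207, 235, 150, 220, 223, 139, 106, 94, 63, 72, 120, 30, 169, 90, 154, 222, 138, 44, 99, 18, 116, 208, 33, 15, 160, 177, 144, 148, 74, 137, 109, 68, 140, 155, 185, 122, 119, 234, 101, 161, 5, 53, 143, 219, 180, 16, 71, 170, 179, 39, 233, 167, 236, 210, 172, 200, 129, 146, 151, 56, 47, 117, 215, 133, 204, 70, 168, 66, 214, 142, 124, 130, 228, 162, 226, 62, 218, 135, 238, 141, 225, 213, 67, 166, 164, 209, 145, 171, 237, 174, 232, 128, 41, 45, 0, 112, 9, 1, 73, 7, 195, 61, 107, 189, 58, 49, 84, 98, 48, 32, 176, 36, 20, 97, 51, 95,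 188, 79, 199, 114, 110, 85, 183, 77, 24, 34, 76, 10, 196, 57, 27, 198, 191, 93, 14, 55, 6, 190, 181, 88, 46, 2, 104, 64, 75, 69, 38, 80, 178, 115, 54, 42, 86, 12, 229, 206, 131, 202, 211, 136, 175, 157, 156, 221, 29, 31, 123, 239, 227, 165, 118, 50, 35, 147, 152, 158, 201, 127, 13, 108, 187, 23, 8, 91, 193, 4, 103, 182, 19, 186, 83, 59, 81, 11, 25, 37, 197, 17, 96, 194, 102, 3, 78, 65, 26, 113, 89, 105, 92, 43, 192, 87, 21, 100, 82, 184, 22, 111]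
/-- index table of a left multiplication -/
def Ty : List ℕ := [78, 197, 49, 104, 102, 111, 176, 84, 93, 193, 22, 178, 115, 32, 65, 196, 103, 88, 186, 58, 74, 86, 113, 11, 182, 46, 51, 92, 200, 239, 170, 236, 109, 191, 81, 162, 95, 18, 91, 55, 233, 160, 9, 26, 147, 222, 39, 163, 43, 98, 135, 63, 219, 151, 6, 59, 136, 194, 112, 25, 137, 184, 202, 48, 181, 101, 204, 201, 85, 15, 206, 120, 114, 179, 24, 195, 110, 0, 94, 192, 97, 16, 185, 108, 64, 4, 57, 77, 33, 199, 105, 5, 3, 61, 87, 12, 20, 54, 75, 8, 17, 89, 188, 189, 177, 42, 21, 7, 69, 79, 37, 183, 82, 73, 23, 190, 230, 149, 141, 209, 223, 35, 146, 124, 174, 143, 142, 53, 116, 203, 41, 140, 167, 211, 123, 216, 212, 237, 158, 30, 117, 132, 214,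 164, 50, 133, 224, 225, 118, 166, 71, 217, 218, 165, 134, 47, 221, 60, 238, 119, 205, 129, 232, 226, 168, 228, 131, 148, 175, 152, 220, 56, 44, 156, 154, 125, 80, 27, 72, 10, 187, 107, 96, 38, 99, 19, 76, 198, 68, 34, 36, 100, 13, 90, 106, 2, 83, 180, 1, 14, 169, 122, 161, 62, 126, 227, 159, 139, 121, 70, 144, 52, 234, 127, 66, 157, 210, 213, 28, 145, 207, 29, 153, 235, 67, 231, 229, 130, 45, 155, 31, 172, 208, 138, 171, 150, 128, 215, 40, 173]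
/-- index table of a left multiplication -/
def Tyi : List ℕ := [77, 198, 195, 92, 85, 91, 54, 107, 99, 42, 179, 23, 95, 192, 199, 69, 81, 100, 37, 185, 96, 106, 10, 114, 74, 59, 43, 177, 218, 221, 139, 230, 13, 88, 189, 121, 190, 110, 183, 46, 238, 130, 105, 48, 172, 228, 25, 155, 63, 2, 144, 26, 211, 127, 97, 39, 171, 86, 19, 55, 157, 93, 203, 51, 84, 14, 214, 224, 188, 108, 209, 150, 178, 113, 20, 98, 186, 87, 0, 109, 176, 34, 112, 196, 7, 68, 21, 94, 17, 101, 193, 38, 27, 8, 78, 36, 182, 80, 49, 184, 191, 65, 4, 16, 3, 90, 194, 181, 83, 32, 76, 5, 58, 22, 72, 12, 128, 140, 148, 159, 71, 208, 201, 134, 123, 175, 204, 213, 236, 161, 227, 166, 141, 145, 154, 50, 56, 60, 233, 207, 131, 118, 126,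 125, 210, 219, 122, 44, 167, 117, 235, 53, 169, 222, 174, 229, 173, 215, 138, 206, 41, 202, 35, 47, 143, 153, 149, 132, 164, 200, 30, 234, 231, 239, 124, 168, 6, 104, 11, 73, 197, 64, 24, 111, 61, 82, 18, 180, 102, 103, 115, 33, 79, 9, 57, 75, 15, 1, 187, 89, 28, 67, 62, 129, 66, 160, 70, 220, 232, 119, 216, 133, 136, 217, 142, 237, 135, 151, 152, 52, 170, 156, 45, 120, 146, 147, 163, 205, 165, 226, 116, 225, 162, 40, 212, 223, 31, 137, 158, 29]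

end Cfsg.Agent.Lib.Helper98.A10Mon
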