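import Mathlib

set_option autoImplicit false

namespace Cfsg.Agent.Lib.Helper98.A10Spec

/-- the set of element orders of the alternating group of degree 10 -/
def T : Finset ℕ := {1, 2, 3, 4, 5, 6, 7, 8, 9, 10, 12, 15, 21}

theorem lcm_mem_of_list (l : List ℕ) (h2 : ∀ x ∈ l, 2 ≤ x) (hs : l.sum ≤ 10)
    (he : Even (l.sum + l.length)) : l.foldr Nat.lcm 1 ∈ T := by
  rcases l with _ | ⟨a, _ | ⟨b, _ | ⟨c, _ | ⟨d, _ | ⟨e, _ | ⟨f, l⟩⟩⟩⟩⟩⟩
  · decide
  · simp only [List.mem_singleton, forall_eq] at h2
    simp only [List.sum_cons, List.sum_nil, add_zero, List.length_cons, List.length_nil,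
      zero_add] at hs he
    simp only [List.foldr_cons, List.foldr_nil]
    interval_cases a <;> first | (exfalso; revert he; decide) | decide
  · have ha : 2 ≤ a := h2 a (by simp)
    have hb : 2 ≤ b := h2 b (by simp)
    simp only [List.sum_cons, List.sum_nil, add_zero, List.length_cons, List.length_nil,
      zero_add] at hs he
    simp only [List.foldr_cons, List.foldr_nil]
    have ha' : a ≤ 8 := by omega
    have hb' : b ≤ 8 := by omega
    interval_cases a <;> interval_cases b <;>
      first | (exfalso; omega) | (exfalso; revert he; decide) | decide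
  · have ha : 2 ≤ a := h2 a (by simp)
    have hb : 2 ≤ b := h2 b (by simp)
    have hc : 2 ≤ c := h2 c (by simp)
    simp only [List.sum_cons, List.sum_nil, add_zero, List.length_cons, List.length_nil,
      zero_add] at hs he
    simp only [List.foldr_cons, List.foldr_nil]
    have ha' : a ≤ 6 := by omega
    have hb' : b ≤ 6 := by omega
    have hc' : c ≤ 6 := by omega
    interval_cases a <;> interval_cases b <;> interval_cases c <;>
      first | (exfalso; omega) | (exfalso; revert he; decide) | decide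
  · have ha : 2 ≤ a := h2 a (by simp)
    have hb : 2 ≤ b := h2 b (by simp)
    have hc : 2 ≤ c := h2 c (by simp)
    have hd : 2 ≤ d := h2 d (by simp)
    simp only [List.sum_cons, List.sum_nil, add_zero, List.length_cons, List.length_nil,
      zero_add] at hs he
    simp only [List.foldr_cons, List.foldr_nil]
    have ha' : a ≤ 4 := by omega
    have hb' : b ≤ 4 := by omega
    have hc' : c ≤ 4 := by omega
    have hd' : d ≤ 4 := by omega
    interval_cases a <;> interval_cases b <;> interval_cases c <;> interval_cases d <;>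
      first | (exfalso; omega) | (exfalso; revert he; decide) | decide
  · have ha : 2 ≤ a := h2 a (by simp)
    have hb : 2 ≤ b := h2 b (by simp)
    have hc : 2 ≤ c := h2 c (by simp)
    have hd : 2 ≤ d := h2 d (by simp)
    have hE : 2 ≤ e := h2 e (by simp)
    simp only [List.sum_cons, List.sum_nil, add_zero, List.length_cons, List.length_nil,
      zero_add] at hs he
    simp only [List.foldr_cons, List.foldr_nil]
    have ha' : a = 2 := by omega
    have hb' : b = 2 := by omega
    have hc' : c = 2 := by omega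
    have hd' : d = 2 := by omega
    have he' : e = 2 := by omega
    subst ha' hb' hc' hd' he'
    exfalso; revert he; decide
  · exfalso
    have ha : 2 ≤ a := h2 a (by simp)
    have hb : 2 ≤ b := h2 b (by simp)
    have hc : 2 ≤ c := h2 c (by simp)
    have hd : 2 ≤ d := h2 d (by simp)
    have hE : 2 ≤ e := h2 e (by simp)
    have hf : 2 ≤ f := h2 f (by simp)
    simp only [List.sum_cons] at hs
    omega

theorem orderOf_mem_T (σ : Equiv.Perm (Fin 10)) (hσ : Equiv.Perm.sign σ = 1) :
    orderOf σ ∈ T := by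
  rw [← Equiv.Perm.lcm_cycleType]
  obtain ⟨l, hl⟩ := Quot.exists_rep σ.cycleType
  have h2 : ∀ x ∈ l, 2 ≤ x := fun x hx =>
    Equiv.Perm.two_le_of_mem_cycleType (σ := σ) (by rw [← hl]; exact hx)
  have hsum : σ.cycleType.sum = l.sum := by rw [← hl]; rfl
  have hcard : Multiset.card σ.cycleType = l.length := by rw [← hl]; rfl
  have hs : l.sum ≤ 10 := by
    rw [← hsum, Equiv.Perm.sum_cycleType]
    exact le_trans (Finset.card_le_univ _) (by simp)
  have he : Even (l.sum + l.length) := by
    have h := Equiv.Perm.sign_of_cycleType σ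
    rw [hσ, hsum, hcard] at h
    by_contra hodd
    rw [Nat.not_even_iff_odd] at hodd
    rw [hodd.neg_one_pow] at h
    exact absurd h (by decide)
  have h := lcm_mem_of_list l h2 hs he
  have hlcm : σ.cycleType.lcm = l.foldr Nat.lcm 1 := by
    rw [← hl]
    rfl
  rw [hlcm]
  exact h

/-- a permutation of each order in `T` -/
def wit : ℕ → Equiv.Perm (Fin 10)
  | 2 => List.formPerm [0, 1] * List.formPerm [2, 3]
  | 3 => List.formPerm [0, 1, 2]
  | 4 => List.formPerm [0, 1, 2, 3] * List.formPerm [4, 5]
  | 5 => List.formPerm [0, 1, 2, 3, 4]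
  | 6 => List.formPerm [0, 1, 2] * List.formPerm [3, 4] * List.formPerm [5, 6]
  | 7 => List.formPerm [0, 1, 2, 3, 4, 5, 6]
  | 8 => List.formPerm [0, 1, 2, 3, 4, 5, 6, 7] * List.formPerm [8, 9]
  | 9 => List.formPerm [0, 1, 2, 3, 4, 5, 6, 7, 8]
  | 10 => List.formPerm [0, 1, 2, 3, 4] * List.formPerm [5, 6] * List.formPerm [7, 8]
  | 12 => List.formPerm [0, 1, 2, 3] * List.formPerm [4, 5, 6] * List.formPerm [7, 8]
  | 15 => List.formPerm [0, 1, 2, 3, 4] * List.formPerm [5, 6, 7]
  | 21 => List.formPerm [0, 1, 2, 3, 4, 5, 6] * List.formPerm [7, 8, 9]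
  | _ => 1

set_option maxRecDepth 100000 in
theorem wit_spec : ∀ n ∈ T, Equiv.Perm.sign (wit n) = 1 ∧ (wit n) ^ n = 1 ∧
    ∀ m < n, 0 < m → (wit n) ^ m ≠ 1 := by
  decide +kernel

theorem spec_alt10 :
    Set.range (orderOf : alternatingGroup (Fin 10) → ℕ) = (T : Set ℕ) := by
  apply Set.Subset.antisymm
  · rintro n ⟨g, rfl⟩
    rw [← Subgroup.orderOf_coe]
    exact orderOf_mem_T g.1 (Equiv.Perm.mem_alternatingGroup.mp g.2)
  · intro n hn
    have hn' : n ∈ T := hn
    obtain ⟨h1, h2, h3⟩ := wit_spec n hn'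
    refine ⟨⟨wit n, Equiv.Perm.mem_alternatingGroup.mpr h1⟩, ?_⟩
    rw [← Subgroup.orderOf_coe]
    have hpos : 0 < n := by
      rcases Nat.eq_zero_or_pos n with h | h
      · subst h
        exact absurd hn' (by decide)
      · exact h
    exact (orderOf_eq_iff hpos).2 ⟨h2, h3⟩

end Cfsg.Agent.Lib.Helper98.A10Spec
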