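import Cfsg.Agent.Lib.Helper98.A10Check2
import Cfsg.Agent.Lib.Helper57.AffGrp
import Cfsg.Agent.Lib.Helper98.A10Spec

set_option autoImplicit false

namespace Cfsg.Agent.Lib.Helper98.A10Mon

open Cfsg.Agent.Lib.Helper57

theorem closed_of_table {M : Type*} [Mul M] (L : List M) (x : M) (T : List ℕ)
    (h : L.map (fun l => some (x * l)) = T.map (fun k => L[k]?)) : ∀ l ∈ L, x * l ∈ L := by
  intro l hl
  have h1 : some (x * l) ∈ L.map (fun l => some (x * l)) := List.mem_map.2 ⟨l, hl, rfl⟩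
  rw [h] at h1
  obtain ⟨k, _, hk⟩ := List.mem_map.1 h1
  exact List.mem_of_getElem? hk

/-- the first generator as a unit -/
def ux : Pˣ := ⟨gx, gxi, gx_inv.1, gx_inv.2⟩
/-- the second generator as a unit -/
def uy : Pˣ := ⟨gy, gyi, gy_inv.1, gy_inv.2⟩

/-- the units that stabilise the list: a group of order 240 -/
def Kgrp : Subgroup Pˣ where
  carrier := {g | ∀ l ∈ L, (g : P) * l ∈ L ∧ ((g⁻¹ : Pˣ) : P) * l ∈ L}
  mul_mem' := by
    intro a b ha hb l hl
    refine ⟨?_, ?_⟩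
    · rw [Units.val_mul, mul_assoc]
      exact (ha _ (hb l hl).1).1
    · rw [mul_inv_rev, Units.val_mul, mul_assoc]
      exact (hb _ (ha l hl).2).2
  one_mem' := by
    intro l hl
    simpa using hl
  inv_mem' := by
    intro a ha l hl
    exact ⟨(ha l hl).2, by rw [inv_inv]; exact (ha l hl).1⟩

theorem ux_mem : ux ∈ Kgrp := fun l hl =>
  ⟨closed_of_table L gx Tx tab_x l hl, closed_of_table L gxi Txi tab_xi l hl⟩

theorem uy_mem : uy ∈ Kgrp := fun l hl =>
  ⟨closed_of_table L gy Ty tab_y l hl, closed_of_table L gyi Tyi tab_yi l hl⟩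

/-- the first generator in the group -/
def kx : Kgrp := ⟨ux, ux_mem⟩
/-- the second generator in the group -/
def ky : Kgrp := ⟨uy, uy_mem⟩

theorem val_mem_L (g : Kgrp) : ((g : Pˣ) : P) ∈ L := by
  have h := (g.2 1 L_one).1
  rwa [mul_one] at h

theorem good (g : Kgrp) : Good ((g : Pˣ) : P) := L_good _ (val_mem_L g)

theorem mat_cz : Mon.mat cz.2 = -1 := by
  refine Matrix.ext fun i j => ?_
  rw [Mon.mat_apply]
  show (if i = j then zeta ^ (4 : ZMod 8).val else 0) = (-1 : R3) i j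
  rw [Matrix.neg_apply, Matrix.one_apply]
  have h4 : (4 : ZMod 8).val = 4 := rfl
  rw [h4, zeta_pow_four]
  split_ifs <;> simp

theorem theta_cz : theta cz = -1 := Prod.ext rfl mat_cz

theorem three_nsmul_R3 (M : R3) : 3 • M = 0 := by
  refine Matrix.ext fun i j => ?_
  rw [Matrix.smul_apply, Matrix.zero_apply, nsmul_eq_mul]
  have h : ((3 : ℕ) : F9) = 0 := by
    rw [Nat.cast_ofNat]
    exact three_F9
  rw [h, zero_mul]

theorem three_nsmul_R (S : R) (h : S.1 = 0) : 3 • S = 0 :=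
  Prod.ext (by rw [Prod.smul_fst, h, smul_zero]; rfl) (three_nsmul_R3 S.2)

theorem geom_neg {S : Type*} [Ring S] (r : S) (k : ℕ) (h : r ^ k = -1) :
    ∑ i ∈ Finset.range (2 * k), r ^ i = 0 := by
  rw [two_mul, Finset.sum_range_add]
  have h1 : ∀ i, r ^ (k + i) = - r ^ i := fun i => by rw [pow_add, h, neg_one_mul]
  simp only [h1, Finset.sum_neg_distrib, add_neg_cancel]

theorem geom_three {S : Type*} [Ring S] (r : S) (m : ℕ) (h : r ^ m = 1) :
    ∑ i ∈ Finset.range (3 * m), r ^ i = 3 • ∑ i ∈ Finset.range m, r ^ i := by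
  have h3 : 3 * m = m + m + m := by ring
  rw [h3, Finset.sum_range_add, Finset.sum_range_add]
  have h1 : ∀ i, r ^ (m + i) = r ^ i := fun i => by rw [pow_add, h, one_mul]
  have h2 : ∀ i, r ^ (m + m + i) = r ^ i := fun i => by
    rw [pow_add, pow_add, h, one_mul, one_mul]
  simp only [h1, h2]
  rw [succ_nsmul, succ_nsmul, one_nsmul]

theorem theta_sum_fst (l : P) (m : ℕ) :
    (∑ i ∈ Finset.range m, theta l ^ i).1 = ∑ i ∈ Finset.range m, l.1 ^ i := by
  rw [Prod.fst_sum]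
  rfl

/-- `l ^ k = cz` forces the geometric sum of length `2 * k` to vanish -/
theorem sum_of_cz (l : P) (k : ℕ) (h : l ^ k = cz) :
    l ^ (2 * k) = 1 ∧ ∑ i ∈ Finset.range (2 * k), theta l ^ i = 0 := by
  refine ⟨?_, ?_⟩
  · rw [mul_comm, pow_mul, h, pow_two, cz_sq]
  · exact geom_neg _ k (by rw [← map_pow, h, theta_cz])

/-- odd order `m`: the geometric sum of length `3 * m` vanishes -/
theorem sum_of_odd (l : P) (m : ℕ) (h : l ^ m = 1) (h7 : ∑ i ∈ Finset.range m, l.1 ^ i = 0) :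
    l ^ (3 * m) = 1 ∧ ∑ i ∈ Finset.range (3 * m), theta l ^ i = 0 := by
  refine ⟨?_, ?_⟩
  · rw [mul_comm, pow_mul, h, one_pow]
  · rw [geom_three _ m (by rw [← map_pow, h, map_one])]
    exact three_nsmul_R _ (by rw [theta_sum_fst, h7])

theorem sum_one : ∑ i ∈ Finset.range 21, theta (1 : P) ^ i = 0 := by
  rw [map_one]
  simp only [one_pow, Finset.sum_const, Finset.card_range]
  refine Prod.ext char_R7.1 ?_
  show (21 : ℕ) • (1 : R3) = 0
  have h : (21 : ℕ) • (1 : R3) = 7 • (3 • (1 : R3)) := by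
    rw [← mul_nsmul]
  rw [h, three_nsmul_R3, smul_zero]

/-- the exponents that kill the elements of the split extension -/
def Expo : Finset ℕ := {2, 4, 6, 8, 10, 12, 9, 15, 21}

theorem good_expo (l : P) (h : Good l) :
    ∃ n ∈ Expo, l ^ n = 1 ∧ ∑ i ∈ Finset.range n, theta l ^ i = 0 := by
  unfold Good at h
  rcases h with h | h | h | h | h | h | h | ⟨h3, h7⟩ | ⟨h5, h7⟩
  · subst h
    exact ⟨21, by decide, one_pow _, sum_one⟩
  · exact ⟨2 * 1, by decide, sum_of_cz l 1 (by rw [pow_one, h])⟩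
  · exact ⟨2 * 2, by decide, sum_of_cz l 2 h⟩
  · exact ⟨2 * 3, by decide, sum_of_cz l 3 h⟩
  · exact ⟨2 * 4, by decide, sum_of_cz l 4 h⟩
  · exact ⟨2 * 5, by decide, sum_of_cz l 5 h⟩
  · exact ⟨2 * 6, by decide, sum_of_cz l 6 h⟩
  · refine ⟨3 * 3, by decide, sum_of_odd l 3 h3 ?_⟩
    rw [← h7]
    simp [Finset.sum_range_succ]
  · refine ⟨3 * 5, by decide, sum_of_odd l 5 h5 ?_⟩
    rw [← h7]
    simp [Finset.sum_range_succ]

section Ext

variable {E : Type} [Ring E] (ι : R →+* E)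

/-- the action of the group on the ring `E` -/
def rho : Kgrp →* E :=
  (ι : R →* E).comp (theta.comp ((Units.coeHom P).comp Kgrp.subtype))

theorem rho_apply (g : Kgrp) : rho ι g = ι (theta ((g : Pˣ) : P)) := rfl

theorem sum_rho (g : Kgrp) (n : ℕ) :
    ∑ i ∈ Finset.range n, rho ι g ^ i = ι (∑ i ∈ Finset.range n, theta ((g : Pˣ) : P) ^ i) := by
  rw [map_sum]
  simp only [rho_apply, map_pow]

theorem pow_eq_one_of (a : AffGrp (rho ι)) (n : ℕ) (h1 : ((a.g : Pˣ) : P) ^ n = 1)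
    (h2 : ∑ i ∈ Finset.range n, theta ((a.g : Pˣ) : P) ^ i = 0) : a ^ n = 1 := by
  rw [AffGrp.eq_one_iff, AffGrp.pow_g, AffGrp.pow_x, sum_rho, h2, map_zero, zero_mul]
  refine ⟨rfl, ?_⟩
  apply Subtype.ext
  apply Units.ext
  rw [Subgroup.coe_pow, Units.val_pow_eq_pow_val]
  exact h1

theorem exists_pow_eq_one (a : AffGrp (rho ι)) : ∃ n ∈ Expo, a ^ n = 1 := by
  obtain ⟨n, hn, h1, h2⟩ := good_expo _ (good a.g)
  exact ⟨n, hn, pow_eq_one_of ι a n h1 h2⟩

theorem expo_divisors : ∀ n ∈ Expo, ∀ d ∈ Nat.divisors n, d ∈ A10Spec.T := by decide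

theorem orderOf_mem_T (a : AffGrp (rho ι)) : orderOf a ∈ A10Spec.T := by
  obtain ⟨n, hn, h⟩ := exists_pow_eq_one ι a
  have hn0 : n ≠ 0 := by
    rintro rfl
    exact absurd hn (by decide)
  exact expo_divisors n hn _ (Nat.mem_divisors.2 ⟨orderOf_dvd_of_pow_eq_one h, hn0⟩)

end Ext

/-- the value of an element of the group in the cheap monoid -/
def valHom : Kgrp →* P := (Units.coeHom P).comp Kgrp.subtype

theorem valHom_apply (g : Kgrp) : valHom g = ((g : Pˣ) : P) := rfl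

theorem valHom_injective : Function.Injective valHom := fun _ _ h =>
  Subtype.ext (Units.ext h)

theorem valHom_kx : valHom kx = gx := rfl
theorem valHom_ky : valHom ky = gy := rfl

/-- an element of the group of each order occurring in it -/
def witK : ℕ → Kgrp
  | 2 => kx ^ 4
  | 3 => (kx * ky) ^ 4
  | 4 => kx ^ 2
  | 5 => ky
  | 6 => (kx * ky) ^ 2
  | 8 => kx
  | 10 => kx ^ 4 * ky
  | 12 => kx * ky
  | _ => 1

theorem valHom_witK (n : ℕ) : valHom (witK n) = witP n := by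
  unfold witK witP
  split <;> simp only [map_pow, map_mul, map_one, valHom_kx, valHom_ky]

theorem orderOf_witK : ∀ n ∈ [2, 3, 4, 5, 6, 8, 10, 12], orderOf (witK n) = n := by
  intro n hn
  rw [← orderOf_injective valHom valHom_injective, valHom_witK]
  have hpos : 0 < n := by
    rcases Nat.eq_zero_or_pos n with h | h
    · subst h
      exact absurd hn (by decide)
    · exact h
  exact (orderOf_eq_iff hpos).2 (witP_spec n hn)

theorem twentyone : (21 : ℕ) • (1 : R) = 0 := by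
  refine Prod.ext char_R7.1 ?_
  show (21 : ℕ) • (1 : R3) = 0
  have h : (21 : ℕ) • (1 : R3) = 7 • (3 • (1 : R3)) := by
    rw [← mul_nsmul]
  rw [h, three_nsmul_R3, smul_zero]

theorem orderOf_eq_mul_primes {G : Type*} [Monoid G] (x : G) (p q : ℕ) (hp : p.Prime)
    (hq : q.Prime) (h : x ^ (p * q) = 1) (h1 : x ^ p ≠ 1) (h2 : x ^ q ≠ 1) :
    orderOf x = p * q := by
  apply orderOf_eq_of_pow_and_pow_div_prime (Nat.mul_pos hp.pos hq.pos) h
  intro r hr hrd
  rcases (Nat.Prime.dvd_mul hr).1 hrd with h' | h'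
  · have : r = p := (Nat.prime_dvd_prime_iff_eq hr hp).1 h'
    subst this
    rw [Nat.mul_div_cancel_left _ hr.pos]
    exact h2
  · have : r = q := (Nat.prime_dvd_prime_iff_eq hr hq).1 h'
    subst this
    rw [Nat.mul_div_cancel _ hr.pos]
    exact h1

section Wit

variable {E : Type} [Ring E] (ι : R →+* E)

theorem transl_pow (y : E) (n : ℕ) :
    (⟨y, 1⟩ : AffGrp (rho ι)) ^ n = ⟨n • y, 1⟩ := by
  refine AffGrp.ext ?_ ?_
  · rw [AffGrp.pow_x]
    simp [nsmul_eq_mul]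
  · rw [AffGrp.pow_g]
    simp

theorem transl_ne_one (y : E) (hy : y ≠ 0) : (⟨y, 1⟩ : AffGrp (rho ι)) ≠ 1 := by
  intro h
  exact hy ((AffGrp.eq_one_iff _ _).1 h).1

theorem transl_eq_one (y : E) (hy : y = 0) : (⟨y, 1⟩ : AffGrp (rho ι)) = 1 := by
  subst hy
  rfl

theorem exists_orderOf_seven (hι : Function.Injective ι) :
    ∃ a : AffGrp (rho ι), orderOf a = 7 := by
  have : Fact (Nat.Prime 7) := ⟨by norm_num⟩
  refine ⟨⟨ι ((1 : R7), (0 : R3)), 1⟩, orderOf_eq_prime ?_ ?_⟩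
  · rw [transl_pow]
    apply transl_eq_one
    rw [← map_nsmul]
    have h : (7 : ℕ) • (((1 : R7), (0 : R3)) : R) = 0 :=
      Prod.ext char_R7.2.1 (smul_zero _)
    rw [h, map_zero]
  · apply transl_ne_one
    intro h
    rw [← map_zero ι] at h
    have h' := congrArg Prod.fst (hι h)
    exact one_ne_zero h'

theorem exists_orderOf_twentyone (hι : Function.Injective ι) :
    ∃ a : AffGrp (rho ι), orderOf a = 21 := by
  refine ⟨⟨ι 1, 1⟩, orderOf_eq_mul_primes _ 3 7 (by norm_num) (by norm_num) ?_ ?_ ?_⟩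
  · rw [transl_pow]
    apply transl_eq_one
    rw [← map_nsmul]
    have h : (3 * 7 : ℕ) • (1 : R) = 0 := twentyone
    rw [h, map_zero]
  · rw [transl_pow]
    apply transl_ne_one
    intro h
    rw [← map_nsmul, ← map_zero ι] at h
    exact char_R7.2.2 (congrArg Prod.fst (hι h))
  · rw [transl_pow]
    apply transl_ne_one
    intro h
    rw [← map_nsmul, ← map_zero ι] at h
    exact char_R3 (congrArg Prod.snd (hι h))

theorem pow_x_one (g : Kgrp) (n : ℕ) :
    ((⟨ι 1, g⟩ : AffGrp (rho ι)) ^ n).x = ι (∑ i ∈ Finset.range n, theta ((g : Pˣ) : P) ^ i) := by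
  rw [AffGrp.pow_x, sum_rho, ← map_mul, mul_one]

theorem exists_orderOf_nine (hι : Function.Injective ι) :
    ∃ a : AffGrp (rho ι), orderOf a = 9 := by
  have hv : (((witK 3 : Kgrp) : Pˣ) : P) = g3 := by
    rw [← valHom_apply, valHom_witK]
    exact g3_eq
  have h7 : ∑ i ∈ Finset.range 3, g3.1 ^ i = 0 := by
    rw [← g3_good.2]
    simp [Finset.sum_range_succ]
  refine ⟨⟨ι 1, witK 3⟩, ?_⟩
  have h := orderOf_eq_prime_pow (x := (⟨ι 1, witK 3⟩ : AffGrp (rho ι))) (p := 3) (n := 1)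
    (hp := ⟨by norm_num⟩) ?_ ?_
  · simpa using h
  · intro hcon
    have hx := ((AffGrp.eq_one_iff _ _).1 hcon).1
    rw [pow_one, pow_x_one, hv, ← map_zero ι] at hx
    have h2 := congrArg Prod.snd (hι hx)
    rw [Prod.snd_sum] at h2
    apply N3_ne
    have h3 : (1 + Mon.mat g3.2 + Mon.mat g3.2 ^ 2 : R3) =
        ∑ i ∈ Finset.range 3, (theta g3 ^ i).2 := by
      simp [Finset.sum_range_succ, theta_snd]
    rw [h3, h2]
    rfl
  · apply pow_eq_one_of ι _ (3 ^ (1 + 1))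
    · show (((witK 3 : Kgrp) : Pˣ) : P) ^ (3 ^ (1 + 1)) = 1
      rw [hv]
      exact (sum_of_odd g3 3 g3_good.1 h7).1
    · show ∑ i ∈ Finset.range (3 ^ (1 + 1)), theta (((witK 3 : Kgrp) : Pˣ) : P) ^ i = 0
      rw [hv]
      exact (sum_of_odd g3 3 g3_good.1 h7).2

theorem exists_orderOf_fifteen (hι : Function.Injective ι) :
    ∃ a : AffGrp (rho ι), orderOf a = 15 := by
  have hv : ((ky : Pˣ) : P) = gy := rfl
  have h7 : ∑ i ∈ Finset.range 5, gy.1 ^ i = 0 := by
    rw [← gy_good.2]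
    simp [Finset.sum_range_succ]
  refine ⟨⟨ι 1, ky⟩, orderOf_eq_mul_primes _ 3 5 (by norm_num) (by norm_num) ?_ ?_ ?_⟩
  · apply pow_eq_one_of ι _ (3 * 5)
    · exact (sum_of_odd gy 5 gy_good.1 h7).1
    · exact (sum_of_odd gy 5 gy_good.1 h7).2
  · intro hcon
    have hg := ((AffGrp.eq_one_iff _ _).1 hcon).2
    rw [AffGrp.pow_g] at hg
    have hg' : valHom (ky ^ 3) = 1 := by
      have : (⟨ι 1, ky⟩ : AffGrp (rho ι)).g = ky := rfl
      rw [this] at hg
      rw [hg, map_one]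
    rw [map_pow, valHom_ky] at hg'
    exact gy_cube hg'
  · intro hcon
    have hx := ((AffGrp.eq_one_iff _ _).1 hcon).1
    rw [pow_x_one, hv, ← map_zero ι] at hx
    have h2 := congrArg Prod.snd (hι hx)
    rw [Prod.snd_sum] at h2
    apply N5_ne
    have h3 : (1 + Mon.mat gy.2 + Mon.mat gy.2 ^ 2 + Mon.mat gy.2 ^ 3 + Mon.mat gy.2 ^ 4 : R3) =
        ∑ i ∈ Finset.range 5, (theta gy ^ i).2 := by
      simp [Finset.sum_range_succ, theta_snd]
    rw [h3, h2]
    rfl

theorem exists_orderOf (hι : Function.Injective ι) :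
    ∀ n ∈ A10Spec.T, ∃ a : AffGrp (rho ι), orderOf a = n := by
  intro n hn
  have hcases : n = 1 ∨ n ∈ [2, 3, 4, 5, 6, 8, 10, 12] ∨ n = 7 ∨ n = 9 ∨ n = 15 ∨ n = 21 := by
    revert n
    decide
  rcases hcases with rfl | h | rfl | rfl | rfl | rfl
  · exact ⟨1, orderOf_one⟩
  · exact ⟨⟨0, witK n⟩, by rw [AffGrp.orderOf_mk_zero, orderOf_witK n h]⟩
  · exact exists_orderOf_seven ι hι
  · exact exists_orderOf_nine ι hι
  · exact exists_orderOf_fifteen ι hι
  · exact exists_orderOf_twentyone ι hι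

theorem spec_eq (hι : Function.Injective ι) :
    Set.range (orderOf : AffGrp (rho ι) → ℕ) = (A10Spec.T : Set ℕ) := by
  apply Set.Subset.antisymm
  · rintro n ⟨a, rfl⟩
    exact orderOf_mem_T ι a
  · intro n hn
    obtain ⟨a, ha⟩ := exists_orderOf ι hι n hn
    exact ⟨a, ha⟩

end Wit

end Cfsg.Agent.Lib.Helper98.A10Mon
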