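import Mathlib

set_option autoImplicit false

namespace Cfsg.Agent.Lib.Helper98.A10Mon

/-- the field with nine elements -/
abbrev F9 : Type := QuadraticAlgebra (ZMod 3) (-1) 0
/-- 4 by 4 matrices over the field with seven elements -/
abbrev R7 : Type := Matrix (Fin 4) (Fin 4) (ZMod 7)
/-- 6 by 6 matrices over the field with nine elements -/
abbrev R3 : Type := Matrix (Fin 6) (Fin 6) F9
/-- the coefficient ring -/
abbrev R : Type := R7 × R3

/-- a primitive eighth root of unity in `F9` -/
def zeta : F9 := ⟨1, 1⟩

/-- Column-monomial maps: column `j` has its nonzero entry `zeta ^ (f j).2` in row `(f j).1`. -/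
@[ext]
structure Mon where
  /-- the row and the exponent of each column -/
  f : Fin 6 → Fin 6 × ZMod 8

namespace Mon

instance : DecidableEq Mon := fun a b => decidable_of_iff (a.f = b.f) Mon.ext_iff.symm

instance : Mul Mon :=
  ⟨fun a b => ⟨fun j => ((a.f (b.f j).1).1, (a.f (b.f j).1).2 + (b.f j).2)⟩⟩

instance : One Mon := ⟨⟨fun j => (j, 0)⟩⟩

theorem mul_f (a b : Mon) (j : Fin 6) :
    (a * b).f j = ((a.f (b.f j).1).1, (a.f (b.f j).1).2 + (b.f j).2) := rfl

theorem one_f (j : Fin 6) : (1 : Mon).f j = (j, 0) := rfl

instance : Monoid Mon where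
  mul_assoc a b c := by
    ext j
    · simp only [mul_f]
    · simp only [mul_f, add_assoc]
  one_mul a := by
    ext j
    · simp only [mul_f, one_f]
    · simp only [mul_f, one_f, zero_add]
  mul_one a := by
    ext j
    · simp only [mul_f, one_f]
    · simp only [mul_f, one_f, add_zero]

theorem zeta_pow_add : ∀ a b : ZMod 8, zeta ^ (a + b).val = zeta ^ a.val * zeta ^ b.val := by
  decide +kernel

/-- the matrix of a column-monomial map -/
def mat (a : Mon) : R3 := Matrix.of fun i j => if i = (a.f j).1 then zeta ^ (a.f j).2.val else 0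

theorem mat_apply (a : Mon) (i j : Fin 6) :
    mat a i j = if i = (a.f j).1 then zeta ^ (a.f j).2.val else 0 := rfl

theorem mat_one : mat 1 = 1 := by
  refine Matrix.ext fun i j => ?_
  rw [mat_apply, one_f, Matrix.one_apply]
  simp

theorem mat_mul (a b : Mon) : mat (a * b) = mat a * mat b := by
  refine Matrix.ext fun i j => ?_
  rw [Matrix.mul_apply, Finset.sum_eq_single (b.f j).1]
  · simp only [mat_apply, mul_f, if_true, zeta_pow_add]
    split_ifs <;> simp
  · intro k _ hk
    simp only [mat_apply, if_neg hk, mul_zero]
  · intro h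
    exact absurd (Finset.mem_univ _) h

/-- the matrix of a column-monomial map, as a monoid homomorphism -/
def mu : Mon →* R3 where
  toFun := mat
  map_one' := mat_one
  map_mul' := mat_mul

end Mon

/-- the cheap monoid in which the computations take place -/
abbrev P : Type := R7 × Mon

/-- the comparison with the coefficient ring -/
def theta : P →* R := MonoidHom.prodMap (MonoidHom.id R7) Mon.mu

theorem theta_fst (l : P) : (theta l).1 = l.1 := rfl
theorem theta_snd (l : P) : (theta l).2 = Mon.mat l.2 := rfl

end Cfsg.Agent.Lib.Helper98.A10Mon
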