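import Mathlib
import Cfsg.Agent.Lib.Helper95.AbelianAlt

set_option autoImplicit false

namespace Cfsg.Agent.Lib.Helper98.AbelianAltConj

open Equiv Cfsg.Agent.Lib.Helper95

/-! ### Arithmetic of the two bounds -/

theorem abBound_lt_two_mul_altBound : ∀ n, n ≠ 2 → abBound n < 2 * altBound n := by
  intro n
  induction n using Nat.strong_induction_on with
  | _ n ih =>
    intro hn
    rcases Nat.lt_or_ge n 9 with h | h
    · interval_cases n <;> first | decide | exact absurd rfl hn
    · obtain ⟨j, rfl⟩ : ∃ j, n = j + 3 := ⟨n - 3, by omega⟩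
      have h1 := ih j (by omega) (by omega)
      rw [abBound_add_three j (by omega), altBound_add_three j (by omega)]
      omega

theorem abBound_lt_altBound_add_two : ∀ j, 1 ≤ j → abBound j < altBound (j + 2) := by
  intro j
  induction j using Nat.strong_induction_on with
  | _ j ih =>
    intro hj
    rcases Nat.lt_or_ge j 9 with h | h
    · interval_cases j <;> decide
    · obtain ⟨i, rfl⟩ : ∃ i, j = i + 3 := ⟨j - 3, by omega⟩
      have h1 := ih i (by omega) (by omega)
      have e : i + 3 + 2 = (i + 2) + 3 := by ring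
      rw [abBound_add_three i (by omega), e, altBound_add_three (i + 2) (by omega)]
      omega

theorem lt_altBound_of_six_le (m : ℕ) (hm : 6 ≤ m) (k : ℕ) : m * altBound k < altBound (k + m) := by
  have h1 := mul_altBound_le (m - 3) (by omega) (by omega) k
  have h3 := three_mul_altBound_le (k + (m - 3))
  have e : k + (m - 3) + 3 = k + m := by omega
  rw [e] at h3
  have hpos := altBound_pos k
  calc m * altBound k < (3 * (m - 3)) * altBound k := Nat.mul_lt_mul_of_pos_right (by omega) hpos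
    _ = 3 * ((m - 3) * altBound k) := by ring
    _ ≤ 3 * altBound (k + (m - 3)) := Nat.mul_le_mul_left 3 h1
    _ ≤ altBound (k + m) := h3

theorem eq_one_case : ∀ k, 1 * altBound k = altBound (k + 1) → k ≤ 1 := by
  intro k
  induction k using Nat.strong_induction_on with
  | _ k ih =>
    intro hk
    rcases Nat.lt_or_ge k 9 with h | h
    · interval_cases k <;> first | omega | (exfalso; revert hk; decide)
    · exfalso
      obtain ⟨j, rfl⟩ : ∃ j, k = j + 3 := ⟨k - 3, by omega⟩
      have e : j + 3 + 1 = (j + 1) + 3 := by ring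
      rw [altBound_add_three j (by omega), e, altBound_add_three (j + 1) (by omega)] at hk
      have := ih j (by omega) (by omega)
      omega

theorem eq_five_case : ∀ k, 5 * altBound k = altBound (k + 5) → k = 0 := by
  intro k
  induction k using Nat.strong_induction_on with
  | _ k ih =>
    intro hk
    rcases Nat.lt_or_ge k 9 with h | h
    · interval_cases k <;> first | omega | (exfalso; revert hk; decide)
    · exfalso
      obtain ⟨j, rfl⟩ : ∃ j, k = j + 3 := ⟨k - 3, by omega⟩
      have e : j + 3 + 5 = (j + 5) + 3 := by ring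
      rw [altBound_add_three j (by omega), e, altBound_add_three (j + 5) (by omega)] at hk
      have := ih j (by omega) (by omega)
      omega

theorem eq_three_case : ∀ k, 3 * altBound k = altBound (k + 3) → k ≠ 1 ∧ k ≠ 2 ∧ k ≠ 5 := by
  intro k hk
  refine ⟨?_, ?_, ?_⟩ <;> rintro rfl <;> revert hk <;> decide

theorem eq_four_case : ∀ k, 4 * altBound k = altBound (k + 4) →
    k ≠ 1 ∧ k ≠ 2 ∧ (k + 4) % 3 ≠ 0 := by
  intro k
  induction k using Nat.strong_induction_on with
  | _ k ih =>
    intro hk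
    rcases Nat.lt_or_ge k 9 with h | h
    · interval_cases k <;> first | omega | (exfalso; revert hk; decide)
    · obtain ⟨j, rfl⟩ : ∃ j, k = j + 3 := ⟨k - 3, by omega⟩
      have e : j + 3 + 4 = (j + 4) + 3 := by ring
      rw [altBound_add_three j (by omega), e, altBound_add_three (j + 4) (by omega)] at hk
      have := ih j (by omega) (by omega)
      omega

/-- The arithmetic constraints on the size `m` of an orbit of an extremal group of degree `n`. -/
theorem orbit_arith (n m : ℕ) (hm1 : 1 ≤ m) (hmn : m ≤ n) (hm2 : m ≠ 2)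
    (h : m * altBound (n - m) = altBound n) :
    altBound m = m ∧ n - m ≠ 2 ∧ (3 ≤ n → 3 ≤ m ∧ m ≤ 5) ∧
      (6 ≤ n → m = 3 ∨ (m = 4 ∧ n % 3 ≠ 0)) := by
  obtain ⟨k, rfl⟩ : ∃ k, n = k + m := ⟨n - m, by omega⟩
  have e : k + m - m = k := by omega
  rw [e] at h ⊢
  rcases Nat.lt_or_ge m 6 with h6 | h6
  · interval_cases m
    · have := eq_one_case k h
      refine ⟨by decide, by omega, by omega, by omega⟩
    · exact absurd rfl hm2
    · have := eq_three_case k h
      refine ⟨by decide, by omega, by omega, by omega⟩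
    · have := eq_four_case k h
      refine ⟨by decide, by omega, by omega, by omega⟩
    · have := eq_five_case k h
      refine ⟨by decide, by omega, by omega, by omega⟩
  · have := lt_altBound_of_six_le m h6 k
    omega


universe u

section Basic

variable {Ω : Type u} [Finite Ω]

/-- instance-free sign -/
noncomputable def sgn (a : Perm Ω) : ℤˣ :=
  @Perm.sign Ω (Classical.decEq Ω) (Fintype.ofFinite Ω) a

theorem sgn_eq {α : Type u} [Fintype α] [DecidableEq α] (a : Perm α) : sgn a = Perm.sign a := by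
  unfold sgn
  congr <;> exact Subsingleton.elim _ _

theorem sgn_mul (a b : Perm Ω) : sgn (a * b) = sgn a * sgn b := by
  unfold sgn
  exact map_mul _ a b

theorem sgn_one : sgn (1 : Perm Ω) = 1 := by
  unfold sgn
  exact map_one _

theorem sgn_inv (a : Perm Ω) : sgn a⁻¹ = sgn a := by
  unfold sgn
  exact @Perm.sign_inv Ω (Classical.decEq Ω) (Fintype.ofFinite Ω) a

theorem sgn_subtypeCongr {p : Ω → Prop} [DecidablePred p] (ep : Perm {a // p a})
    (en : Perm {a // ¬ p a}) : sgn (ep.subtypeCongr en) = sgn ep * sgn en := by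
  classical
  let _ := Fintype.ofFinite Ω
  rw [sgn_eq, sgn_eq, sgn_eq, Perm.sign_subtypeCongr]

theorem sgn_permCongr {Ω' : Type u} [Finite Ω'] (e : Ω ≃ Ω') (a : Perm Ω) :
    sgn (e.permCongr a) = sgn a := by
  classical
  let _ := Fintype.ofFinite Ω
  let _ := Fintype.ofFinite Ω'
  rw [sgn_eq, sgn_eq, Perm.sign_permCongr]

/-- Extremal even abelian permutation groups. -/
structure Ext (A : Subgroup (Perm Ω)) : Prop where
  comm : IsMulCommutative A
  even : ∀ a ∈ A, sgn a = 1
  card : Nat.card A = altBound (Nat.card Ω)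

theorem card_le_altBound' (A : Subgroup (Perm Ω)) [IsMulCommutative A]
    (h : ∀ a ∈ A, sgn a = 1) : Nat.card A ≤ altBound (Nat.card Ω) := by
  classical
  let _ := Fintype.ofFinite Ω
  exact card_le_altBound _ Ω A (fun a ha => by rw [← sgn_eq]; exact h a ha) rfl

theorem Ext.self_centralizing {A : Subgroup (Perm Ω)} (hA : Ext A) (hn : Nat.card Ω ≠ 2)
    (c : Perm Ω) (hc : ∀ a ∈ A, c * a = a * c) : c ∈ A := by
  have := hA.comm
  set k : Set (Perm Ω) := (A : Set (Perm Ω)) ∪ {c} with hk
  have hcomm : ∀ x ∈ k, ∀ y ∈ k, x * y = y * x := by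
    rintro x (hx | hx) y (hy | hy)
    · exact setLike_mul_comm hx hy
    · rw [Set.mem_singleton_iff] at hy; subst hy; exact (hc x hx).symm
    · rw [Set.mem_singleton_iff] at hx; subst hx; exact hc y hy
    · rw [Set.mem_singleton_iff] at hx hy; subst hx; subst hy; rfl
  have hC : IsMulCommutative (Subgroup.closure k) := Subgroup.isMulCommutative_closure hcomm
  have hle : A ≤ Subgroup.closure k := fun a ha => Subgroup.subset_closure (Or.inl ha)
  have h1 := card_le_abBound (Nat.card Ω) Ω (Subgroup.closure k) rfl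
  have h2 := abBound_lt_two_mul_altBound _ hn
  have h3 : Nat.card A ∣ Nat.card (Subgroup.closure k) := Subgroup.card_dvd_of_le hle
  have hpos : 0 < Nat.card (Subgroup.closure k) := Nat.card_pos
  have h4 : Nat.card (Subgroup.closure k) = Nat.card A := by
    obtain ⟨d, hd⟩ := h3
    rw [hA.card] at hd
    have hap := altBound_pos (Nat.card Ω)
    rcases Nat.lt_or_ge d 2 with h | h
    · interval_cases d
      · omega
      · rw [hd, hA.card]; ring
    · exfalso
      have : 2 * altBound (Nat.card Ω) ≤ altBound (Nat.card Ω) * d := by nlinarith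
      omega
  have h5 : A = Subgroup.closure k := Subgroup.eq_of_le_of_card_ge hle (by omega)
  rw [h5]; exact Subgroup.subset_closure (Or.inr rfl)

end Basic


section Restrict

variable {Ω : Type u}

/-- restriction of `A` to the orbit of `ω` -/
def rho (A : Subgroup (Perm Ω)) (ω : Ω) :
    A →* Perm {x // x ∈ MulAction.orbit A ω} where
  toFun a := (a : Perm Ω).subtypePerm (fun x => smul_mem_orbit_iff' A ω x a)
  map_one' := by ext; simp
  map_mul' a b := by ext; rfl

theorem rho_apply (A : Subgroup (Perm Ω)) (ω : Ω) (a : A) (x : {x // x ∈ MulAction.orbit A ω}) :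
    ((rho A ω a) x : Ω) = (a : Perm Ω) x := rfl

theorem rho_ker (A : Subgroup (Perm Ω)) [IsMulCommutative A] (ω : Ω) :
    (rho A ω).ker = MulAction.stabilizer A ω := by
  ext a
  rw [MonoidHom.mem_ker, MulAction.mem_stabilizer_iff]
  constructor
  · intro h
    have := congrArg (fun σ => ((σ ⟨ω, MulAction.mem_orbit_self ω⟩ :
      {x // x ∈ MulAction.orbit A ω}) : Ω)) h
    have h2 : ((a : Perm Ω) ω : Ω) = ω := by simpa [rho_apply] using this
    exact h2
  · intro h
    ext x
    rw [rho_apply]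
    exact stab_fix_orbit A ω a h x.1 x.2

theorem card_rho_range (A : Subgroup (Perm Ω)) [IsMulCommutative A] (ω : Ω) :
    Nat.card (rho A ω).range = (MulAction.orbit A ω).ncard := by
  rw [← Subgroup.index_ker, rho_ker, MulAction.index_stabilizer]

theorem coe_eq_subtypeCongr (A : Subgroup (Perm Ω)) (ω : Ω)
    [DecidablePred (fun x => x ∈ MulAction.orbit A ω)] (a : A) :
    (a : Perm Ω) = Perm.subtypeCongr (rho A ω a) (tau A ω a) := by
  ext x
  by_cases hx : x ∈ MulAction.orbit A ω
  · rw [Perm.subtypeCongr.left_apply _ _ hx]; rfl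
  · rw [Perm.subtypeCongr.right_apply _ _ hx]; rfl

end Restrict


section Data

variable {Ω : Type u} [Finite Ω]

/-- the stabilizer of `ω`, restricted to the complement of its orbit -/
def stabRes (A : Subgroup (Perm Ω)) (ω : Ω) : Subgroup (Perm {x // x ∉ MulAction.orbit A ω}) :=
  ((tau A ω).comp (MulAction.stabilizer A ω).subtype).range

theorem sgn_tau_stab (A : Subgroup (Perm Ω)) [IsMulCommutative A] (ω : Ω) (b : A)
    (hb : b ∈ MulAction.stabilizer A ω) : sgn (tau A ω b) = sgn (b : Perm Ω) := by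
  classical
  let _ := Fintype.ofFinite Ω
  rw [sgn_eq, sgn_eq]; exact sign_tau_stab A ω b hb

theorem tau_injective_of_even' (A : Subgroup (Perm Ω)) (heven : ∀ a ∈ A, sgn a = 1) (ω : Ω)
    (h2 : (MulAction.orbit A ω).ncard = 2) : Function.Injective (tau A ω) := by
  classical
  let _ := Fintype.ofFinite Ω
  exact tau_injective_of_even A (fun a ha => by rw [← sgn_eq]; exact heven a ha) ω h2

theorem Ext.orbit_data {A : Subgroup (Perm Ω)} (hA : Ext A) (ω : Ω) {n : ℕ}
    (hn : Nat.card Ω = n) :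
    1 ≤ (MulAction.orbit A ω).ncard ∧ (MulAction.orbit A ω).ncard ≤ n ∧
    (MulAction.orbit A ω).ncard ≠ 2 ∧
    (MulAction.orbit A ω).ncard * altBound (n - (MulAction.orbit A ω).ncard) = altBound n ∧
    Nat.card {x // x ∉ MulAction.orbit A ω} = n - (MulAction.orbit A ω).ncard ∧
    Ext (stabRes A ω) := by
  have := hA.comm
  obtain ⟨m, hm⟩ : ∃ m, (MulAction.orbit A ω).ncard = m := ⟨_, rfl⟩
  rw [hm]
  have h1 : Nat.card (MulAction.stabilizer A ω) * (MulAction.stabilizer A ω).index = Nat.card A :=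
    Subgroup.card_mul_index _
  have h2' : (MulAction.stabilizer A ω).index = m := by
    rw [← hm]; exact MulAction.index_stabilizer A ω
  have hm1 : 1 ≤ m := by
    rw [← hm]; exact (Set.ncard_pos).mpr ⟨ω, MulAction.mem_orbit_self ω⟩
  have hsum := Set.ncard_add_ncard_compl (MulAction.orbit A ω)
  rw [hn, hm] at hsum
  have hcompl : Nat.card {x // x ∉ MulAction.orbit A ω} = n - m := by
    have e : Nat.card {x // x ∉ MulAction.orbit A ω} = ((MulAction.orbit A ω)ᶜ).ncard :=
      Nat.card_coe_set_eq ((MulAction.orbit A ω)ᶜ)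
    omega
  have hmn : m ≤ n := by omega
  have hcardA : Nat.card A = altBound n := by rw [hA.card, hn]
  have hspos : 0 < Nat.card (MulAction.stabilizer A ω) := Nat.card_pos
  rw [h2', hcardA] at h1
  have hm2 : m ≠ 2 := by
    intro h2
    have hinj := tau_injective_of_even' A hA.even ω (by rw [hm, h2])
    have hcard : Nat.card (tau A ω).range = Nat.card A :=
      (Nat.card_congr (MonoidHom.ofInjective hinj).toEquiv).symm
    have hb := card_le_abBound (n - 2) {x // x ∉ MulAction.orbit A ω} (tau A ω).range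
      (by rw [hcompl, h2])
    rw [hcard, hcardA] at hb
    rcases Nat.lt_or_ge n 3 with h3 | h3
    · have : n = 2 := by omega
      subst this
      have : altBound 2 = 1 := rfl
      subst h2
      omega
    · have := abBound_lt_altBound_add_two (n - 2) (by omega)
      have e : n - 2 + 2 = n := by omega
      rw [e] at this
      omega
  have hinj := tau_injective_stab A ω
  have hcardB : Nat.card (stabRes A ω) = Nat.card (MulAction.stabilizer A ω) :=
    (Nat.card_congr (MonoidHom.ofInjective hinj).toEquiv).symm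
  have hevenB : ∀ σ ∈ stabRes A ω, sgn σ = 1 := by
    rintro σ ⟨b, rfl⟩
    show sgn (tau A ω b.1) = 1
    rw [sgn_tau_stab A ω b.1 b.2]
    exact hA.even _ b.1.2
  have hBcomm : IsMulCommutative (MulAction.stabilizer A ω) :=
    ⟨⟨fun x y => Subtype.ext (mul_comm' (x : A) y)⟩⟩
  have hcommB : IsMulCommutative (stabRes A ω) := by unfold stabRes; infer_instance
  have hIH := card_le_altBound' (stabRes A ω) hevenB
  rw [hcompl, hcardB] at hIH
  have hfin := mul_altBound_le m hm1 hm2 (n - m)
  have e : n - m + m = n := by omega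
  rw [e] at hfin
  have h5 : m * altBound (n - m) ≤ m * Nat.card (MulAction.stabilizer A ω) := by
    rw [mul_comm m (Nat.card _), h1]; exact hfin
  have h6 : altBound (n - m) ≤ Nat.card (MulAction.stabilizer A ω) :=
    Nat.le_of_mul_le_mul_left h5 hm1
  have hstab : Nat.card (MulAction.stabilizer A ω) = altBound (n - m) := le_antisymm hIH h6
  refine ⟨hm1, hmn, hm2, ?_, hcompl, ⟨hcommB, hevenB, ?_⟩⟩
  · rw [← hstab, mul_comm]; exact h1
  · rw [hcardB, hstab, hcompl]

end Data


section Split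

variable {Ω : Type u} [Finite Ω]

theorem Ext.split {A : Subgroup (Perm Ω)} (hA : Ext A) (ω : Ω)
    [DecidablePred (fun x => x ∈ MulAction.orbit A ω)] :
    ∃ (K₀ : Subgroup (Perm {x // x ∈ MulAction.orbit A ω}))
      (A₁ : Subgroup (Perm {x // ¬ x ∈ MulAction.orbit A ω})),
      Ext K₀ ∧ Ext A₁ ∧
      A = (K₀.prod A₁).map (Perm.subtypeCongrHom (fun x => x ∈ MulAction.orbit A ω)) := by
  have := hA.comm
  obtain ⟨hm1, hmn, hm2, hmul, hcompl, hE⟩ := hA.orbit_data ω rfl
  obtain ⟨har1, har2, -, -⟩ := orbit_arith _ _ hm1 hmn hm2 hmul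
  have hτ : (tau A ω).range ≤ stabRes A ω := by
    rintro σ ⟨a, rfl⟩
    apply hE.self_centralizing (by rw [hcompl]; exact har2)
    rintro _ ⟨b, rfl⟩
    show tau A ω a * tau A ω b.1 = tau A ω b.1 * tau A ω a
    rw [← map_mul, ← map_mul, mul_comm' a b.1]
  have hτ' : (tau A ω).range = stabRes A ω := le_antisymm hτ (by
    rintro _ ⟨b, rfl⟩; exact ⟨b.1, rfl⟩)
  have hc1 : Nat.card (rho A ω).range = (MulAction.orbit A ω).ncard := card_rho_range A ω
  have hc2 : Nat.card (tau A ω).range = altBound (Nat.card Ω - (MulAction.orbit A ω).ncard) := by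
    rw [hτ', hE.card, hcompl]
  refine ⟨(rho A ω).range, (tau A ω).range, ?_, ?_, ?_⟩
  · refine ⟨inferInstance, ?_, ?_⟩
    · rintro _ ⟨a, rfl⟩
      have h1 : sgn (a : Perm Ω) = 1 := hA.even _ a.2
      rw [coe_eq_subtypeCongr A ω a, sgn_subtypeCongr] at h1
      have h2 : sgn (tau A ω a) = 1 := hE.even _ (hτ ⟨a, rfl⟩)
      rw [h2, mul_one] at h1; exact h1
    · rw [hc1, Nat.card_coe_set_eq, har1]
  · rw [hτ']; exact hE
  · apply Subgroup.eq_of_le_of_card_ge
    · intro a ha
      refine ⟨(rho A ω ⟨a, ha⟩, tau A ω ⟨a, ha⟩), ⟨⟨_, rfl⟩, ⟨_, rfl⟩⟩, ?_⟩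
      rw [Perm.subtypeCongrHom_apply]
      exact (coe_eq_subtypeCongr A ω ⟨a, ha⟩).symm
    · rw [Subgroup.card_map_of_injective (Perm.subtypeCongrHom_injective _),
        Nat.card_congr (Subgroup.prodEquiv _ _).toEquiv, Nat.card_prod, hc1, hc2, hmul, hA.card]

end Split


section Glue

variable {α β : Type u}

/-- glue two bijections along a predicate -/
def glue (p : α → Prop) (q : β → Prop) [DecidablePred p] [DecidablePred q]
    (e₀ : {x // p x} ≃ {y // q y}) (e₁ : {x // ¬ p x} ≃ {y // ¬ q y}) : α ≃ β :=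
  (Equiv.sumCompl p).symm.trans ((Equiv.sumCongr e₀ e₁).trans (Equiv.sumCompl q))

variable (p : α → Prop) (q : β → Prop) [DecidablePred p] [DecidablePred q]
    (e₀ : {x // p x} ≃ {y // q y}) (e₁ : {x // ¬ p x} ≃ {y // ¬ q y})

theorem glue_apply_pos {x : α} (hx : p x) : glue p q e₀ e₁ x = e₀ ⟨x, hx⟩ := by
  simp [glue, Equiv.sumCompl_symm_apply_of_pos hx]

theorem glue_apply_neg {x : α} (hx : ¬ p x) : glue p q e₀ e₁ x = e₁ ⟨x, hx⟩ := by
  simp [glue, Equiv.sumCompl_symm_apply_of_neg hx]

theorem glue_symm_apply_pos {y : β} (hy : q y) :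
    (glue p q e₀ e₁).symm y = e₀.symm ⟨y, hy⟩ := by
  simp [glue, Equiv.sumCompl_symm_apply_of_pos hy]

theorem glue_symm_apply_neg {y : β} (hy : ¬ q y) :
    (glue p q e₀ e₁).symm y = e₁.symm ⟨y, hy⟩ := by
  simp [glue, Equiv.sumCompl_symm_apply_of_neg hy]

theorem glue_conj (k : Perm {x // p x}) (a : Perm {x // ¬ p x}) :
    (glue p q e₀ e₁).permCongr (Perm.subtypeCongr k a) =
      Perm.subtypeCongr (e₀.permCongr k) (e₁.permCongr a) := by
  ext y
  rw [Equiv.permCongr_apply]
  by_cases hy : q y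
  · rw [glue_symm_apply_pos p q e₀ e₁ hy,
      Perm.subtypeCongr.left_apply _ _ (e₀.symm ⟨y, hy⟩).2,
      Perm.subtypeCongr.left_apply _ _ hy, glue_apply_pos p q e₀ e₁ (k _).2]
    simp
  · rw [glue_symm_apply_neg p q e₀ e₁ hy,
      Perm.subtypeCongr.right_apply _ _ (e₁.symm ⟨y, hy⟩).2,
      Perm.subtypeCongr.right_apply _ _ hy, glue_apply_neg p q e₀ e₁ (a _).2]
    simp

theorem map_glue (K₀ : Subgroup (Perm {x // p x})) (A₁ : Subgroup (Perm {x // ¬ p x})) :
    ((K₀.prod A₁).map (Perm.subtypeCongrHom p)).map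
        (glue p q e₀ e₁).permCongrHom.toMonoidHom =
      ((K₀.map e₀.permCongrHom.toMonoidHom).prod (A₁.map e₁.permCongrHom.toMonoidHom)).map
        (Perm.subtypeCongrHom q) := by
  ext σ
  constructor
  · rintro ⟨_, ⟨⟨k, a⟩, ⟨hk, ha⟩, rfl⟩, rfl⟩
    exact ⟨(e₀.permCongr k, e₁.permCongr a), ⟨⟨k, hk, rfl⟩, ⟨a, ha, rfl⟩⟩,
      (glue_conj p q e₀ e₁ k a).symm⟩
  · rintro ⟨⟨_, _⟩, ⟨⟨k, hk, rfl⟩, ⟨a, ha, rfl⟩⟩, rfl⟩
    exact ⟨_, ⟨(k, a), ⟨hk, ha⟩, rfl⟩, glue_conj p q e₀ e₁ k a⟩

end Glue


section SylowTools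

variable {G : Type*} [Group G] [Finite G]

omit [Finite G] in
theorem card_subgroupOf_of_le {A N : Subgroup G} (hA : A ≤ N) :
    Nat.card (A.subgroupOf N) = Nat.card A :=
  Nat.card_congr (Subgroup.subgroupOfEquivOfLe hA).toEquiv

omit [Finite G] in
theorem not_dvd_index_subgroupOf {A N : Subgroup G} (hA : A ≤ N) (p k : ℕ)
    (hcA : Nat.card A = p ^ k) (hp : 0 < p) (hidx : ¬ p ∣ Nat.card N / p ^ k) :
    ¬ p ∣ (A.subgroupOf N).index := by
  have h1 := Subgroup.card_mul_index (A.subgroupOf N)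
  rw [card_subgroupOf_of_le hA, hcA] at h1
  have h2 : (A.subgroupOf N).index = Nat.card N / p ^ k := by
    rw [← h1, Nat.mul_div_cancel_left _ (pow_pos hp k)]
  rwa [h2]

theorem conj_of_sylow_in (N : Subgroup G) (p : ℕ) [Fact p.Prime]
    (A B : Subgroup G) (hA : A ≤ N) (hB : B ≤ N) (k : ℕ) (hcA : Nat.card A = p ^ k)
    (hcB : Nat.card B = p ^ k) (hidx : ¬ p ∣ Nat.card N / p ^ k) :
    ∃ g ∈ N, B = A.map (MulAut.conj g).toMonoidHom := by
  have hp : 0 < p := (Fact.out : p.Prime).pos
  let S₁ : Sylow p N := IsPGroup.toSylow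
    (IsPGroup.of_card (n := k) (by rw [card_subgroupOf_of_le hA, hcA]))
    (not_dvd_index_subgroupOf hA p k hcA hp hidx)
  let S₂ : Sylow p N := IsPGroup.toSylow
    (IsPGroup.of_card (n := k) (by rw [card_subgroupOf_of_le hB, hcB]))
    (not_dvd_index_subgroupOf hB p k hcB hp hidx)
  obtain ⟨g, hg⟩ := MulAction.exists_smul_eq N S₁ S₂
  have hg' : (A.subgroupOf N).map (MulAut.conj g).toMonoidHom = B.subgroupOf N := by
    have := congrArg (fun S : Sylow p N => (S : Subgroup N)) hg
    simp only [Sylow.coe_subgroup_smul] at this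
    exact this
  refine ⟨g, g.2, ?_⟩
  have h1 := congrArg (Subgroup.map N.subtype) hg'
  rw [Subgroup.map_subgroupOf_eq_of_le hB, Subgroup.map_map] at h1
  rw [← h1]
  conv_rhs => rw [← Subgroup.map_subgroupOf_eq_of_le hA, Subgroup.map_map]
  congr 1

theorem exists_normalizer_not_mem (N : Subgroup G) [N.Normal] (hN : N ≠ ⊤) (p : ℕ) [Fact p.Prime]
    (A : Subgroup G) (hA : A ≤ N) (k : ℕ) (hcA : Nat.card A = p ^ k)
    (hidx : ¬ p ∣ Nat.card N / p ^ k) :
    ∃ h, h ∉ N ∧ A.map (MulAut.conj h).toMonoidHom = A := by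
  have hp : 0 < p := (Fact.out : p.Prime).pos
  let S₁ : Sylow p N := IsPGroup.toSylow
    (IsPGroup.of_card (n := k) (by rw [card_subgroupOf_of_le hA, hcA]))
    (not_dvd_index_subgroupOf hA p k hcA hp hidx)
  have h1 := Sylow.normalizer_sup_eq_top S₁
  have h2 : Subgroup.map N.subtype (S₁ : Subgroup N) = A :=
    Subgroup.map_subgroupOf_eq_of_le hA
  rw [h2] at h1
  have h3 : ¬ Subgroup.normalizer (A : Set G) ≤ N := by
    intro hle
    apply hN
    rw [← h1]
    exact (sup_eq_right.mpr hle).symm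
  obtain ⟨h, hh, hhN⟩ := SetLike.not_le_iff_exists.mp h3
  refine ⟨h, hhN, ?_⟩
  rw [Subgroup.mem_normalizer_iff] at hh
  ext x
  constructor
  · rintro ⟨a, ha, rfl⟩
    exact (hh a).mp ha
  · intro hx
    refine ⟨h⁻¹ * x * h, ?_, ?_⟩
    · apply (hh _).mpr
      have : h * (h⁻¹ * x * h) * h⁻¹ = x := by group
      rw [this]; exact hx
    · show h * (h⁻¹ * x * h) * h⁻¹ = x
      group

end SylowTools


section Small

variable {Ω : Type u} [Finite Ω]

theorem Ext.le_alt [Fintype Ω] [DecidableEq Ω] {A : Subgroup (Perm Ω)} (hA : Ext A) :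
    A ≤ alternatingGroup Ω := by
  intro a ha
  rw [Perm.mem_alternatingGroup, ← sgn_eq]
  exact hA.even a ha

theorem small_data (n : ℕ) (h3 : 3 ≤ n) (h6 : n < 6) :
    ∃ p k : ℕ, p.Prime ∧ altBound n = p ^ k ∧ ¬ p ∣ (n.factorial / 2) / p ^ k := by
  interval_cases n
  · exact ⟨3, 1, by norm_num, by decide, by decide⟩
  · exact ⟨2, 2, by norm_num, by decide, by decide⟩
  · exact ⟨5, 1, by norm_num, by decide, by decide⟩

theorem Ext.eq_bot {A : Subgroup (Perm Ω)} (hA : Ext A) (h : Nat.card Ω < 3) : A = ⊥ := by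
  obtain ⟨n, hn⟩ : ∃ n, Nat.card Ω = n := ⟨_, rfl⟩
  have hc := hA.card
  rw [hn] at h hc
  have hab : altBound n = 1 := by
    interval_cases n <;> rfl
  rw [hab] at hc
  exact Subgroup.card_eq_one.mp hc

theorem conj_small (A B : Subgroup (Perm Ω)) (hA : Ext A) (hB : Ext B) (hn : Nat.card Ω < 6) :
    ∃ g : Perm Ω, sgn g = 1 ∧ B = A.map (MulAut.conj g).toMonoidHom := by
  classical
  let _ := Fintype.ofFinite Ω
  rcases Nat.lt_or_ge (Nat.card Ω) 3 with h3 | h3
  · refine ⟨1, sgn_one, ?_⟩
    rw [hA.eq_bot h3, hB.eq_bot h3, Subgroup.map_bot]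
  · obtain ⟨p, k, hp, hpk, hidx⟩ := small_data _ h3 hn
    have : Fact p.Prime := ⟨hp⟩
    have hnt : Nontrivial Ω := Finite.one_lt_card_iff_nontrivial.mp (by omega)
    have hN : Nat.card (alternatingGroup Ω) = (Nat.card Ω).factorial / 2 :=
      nat_card_alternatingGroup
    obtain ⟨g, hgN, hg⟩ := conj_of_sylow_in (alternatingGroup Ω) p A B hA.le_alt hB.le_alt k
      (by rw [hA.card, hpk]) (by rw [hB.card, hpk]) (by rw [hN]; exact hidx)
    exact ⟨g, by rw [sgn_eq]; exact Perm.mem_alternatingGroup.mp hgN, hg⟩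

theorem odd_normalizer_small (A : Subgroup (Perm Ω)) (hA : Ext A) (h2 : 2 ≤ Nat.card Ω)
    (hn : Nat.card Ω < 6) :
    ∃ h : Perm Ω, sgn h = -1 ∧ A.map (MulAut.conj h).toMonoidHom = A := by
  classical
  let _ := Fintype.ofFinite Ω
  have hnt : Nontrivial Ω := Finite.one_lt_card_iff_nontrivial.mp (by omega)
  obtain ⟨x, y, hxy⟩ := exists_pair_ne Ω
  have hodd : sgn (swap x y) = -1 := by rw [sgn_eq]; exact Perm.sign_swap hxy
  rcases Nat.lt_or_ge (Nat.card Ω) 3 with h3 | h3
  · exact ⟨swap x y, hodd, by rw [hA.eq_bot h3, Subgroup.map_bot]⟩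
  · obtain ⟨p, k, hp, hpk, hidx⟩ := small_data _ h3 hn
    have : Fact p.Prime := ⟨hp⟩
    have hN : Nat.card (alternatingGroup Ω) = (Nat.card Ω).factorial / 2 :=
      nat_card_alternatingGroup
    have hNtop : alternatingGroup Ω ≠ ⊤ := by
      intro h
      have : swap x y ∈ alternatingGroup Ω := by rw [h]; trivial
      rw [Perm.mem_alternatingGroup, Perm.sign_swap hxy] at this
      exact absurd this (by decide)
    obtain ⟨h, hhN, hh⟩ := exists_normalizer_not_mem (alternatingGroup Ω) hNtop p A hA.le_alt k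
      (by rw [hA.card, hpk]) (by rw [hN]; exact hidx)
    refine ⟨h, ?_, hh⟩
    rw [sgn_eq]
    rcases Int.units_eq_one_or (Perm.sign h) with h1 | h1
    · exact absurd (Perm.mem_alternatingGroup.mpr h1) hhN
    · exact h1

end Small


section Main

theorem permCongrHom_eq_conj {Ω : Type u} (g : Perm Ω) :
    g.permCongrHom.toMonoidHom = (MulAut.conj g).toMonoidHom := by
  ext σ x
  rfl

theorem Ext.map_equiv {Ω Ω' : Type u} [Finite Ω] [Finite Ω'] {A : Subgroup (Perm Ω)}
    (hA : Ext A) (e : Ω ≃ Ω') : Ext (A.map e.permCongrHom.toMonoidHom) := by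
  have := hA.comm
  refine ⟨Subgroup.map_isMulCommutative _ _, ?_, ?_⟩
  · rintro _ ⟨a, ha, rfl⟩
    show sgn (e.permCongr a) = 1
    rw [sgn_permCongr]; exact hA.even a ha
  · rw [Subgroup.card_map_of_injective e.permCongrHom.injective, hA.card, Nat.card_congr e]

theorem three_dvd_card {Ω : Type u} [Finite Ω] (A : Subgroup (Perm Ω))
    (h : ∀ ω : Ω, 3 ∣ (MulAction.orbit A ω).ncard) : 3 ∣ Nat.card Ω := by
  classical
  let _ := Fintype.ofFinite (MulAction.orbitRel.Quotient A Ω)
  rw [Nat.card_congr (MulAction.selfEquivSigmaOrbits' A Ω), Nat.card_sigma]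
  apply Finset.dvd_sum
  intro q _
  rw [MulAction.orbitRel.Quotient.orbit_eq_orbit_out q Quotient.out_eq', Nat.card_coe_set_eq]
  exact h _

theorem Ext.exists_orbit {Ω : Type u} [Finite Ω] {A : Subgroup (Perm Ω)} (hA : Ext A) {n : ℕ}
    (hn : Nat.card Ω = n) (h6 : 6 ≤ n) :
    ∃ ω : Ω, (MulAction.orbit A ω).ncard = if n % 3 = 0 then 3 else 4 := by
  have key : ∀ ω : Ω, (MulAction.orbit A ω).ncard = 3 ∨
      ((MulAction.orbit A ω).ncard = 4 ∧ n % 3 ≠ 0) := fun ω => by
    obtain ⟨hm1, hmn, hm2, hmul, -, -⟩ := hA.orbit_data ω hn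
    exact (orbit_arith n _ hm1 hmn hm2 hmul).2.2.2 h6
  by_cases h3 : n % 3 = 0
  · have : Nonempty Ω := (Nat.card_pos_iff.mp (by omega)).1
    obtain ⟨ω⟩ := this
    refine ⟨ω, ?_⟩
    rw [if_pos h3]
    rcases key ω with h | ⟨_, h⟩
    · exact h
    · exact absurd h3 h
  · rw [if_neg h3]
    by_contra hcon
    push Not at hcon
    have : 3 ∣ Nat.card Ω := three_dvd_card A (fun ω => by
      rcases key ω with h | ⟨h, _⟩
      · rw [h]
      · exact absurd h (hcon ω))
    omega

theorem conj_main : ∀ n : ℕ, ∀ (Ω Ω' : Type u) [Finite Ω] [Finite Ω'] (A : Subgroup (Perm Ω))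
    (B : Subgroup (Perm Ω')), Ext A → Ext B → Nat.card Ω = n → Nat.card Ω' = n →
    ∃ e : Ω ≃ Ω', B = A.map e.permCongrHom.toMonoidHom := by
  intro n
  induction n using Nat.strong_induction_on with
  | _ n ih =>
    intro Ω Ω' _ _ A B hA hB hn hn'
    rcases Nat.lt_or_ge n 6 with h6 | h6
    · obtain ⟨f⟩ : Nonempty (Ω ≃ Ω') := Finite.card_eq.mp (by rw [hn, hn'])
      have hB₀ := hB.map_equiv f.symm
      obtain ⟨g, -, hg⟩ := conj_small A _ hA hB₀ (by omega)
      refine ⟨g.trans f, ?_⟩
      have h1 : B = (B.map f.symm.permCongrHom.toMonoidHom).map f.permCongrHom.toMonoidHom := by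
        rw [Subgroup.map_map]
        conv_lhs => rw [← Subgroup.map_id B]
        congr 1
        ext σ x
        simp
      rw [h1, hg, Subgroup.map_map]
      congr 1
    · classical
      obtain ⟨ω, hω⟩ := hA.exists_orbit hn h6
      obtain ⟨ω', hω'⟩ := hB.exists_orbit hn' h6
      obtain ⟨K₀, A₁, hK₀, hA₁, hAeq⟩ := hA.split ω
      obtain ⟨K₀', A₁', hK₀', hA₁', hBeq⟩ := hB.split ω'
      obtain ⟨m, hm⟩ : ∃ m, (if n % 3 = 0 then 3 else 4) = m := ⟨_, rfl⟩
      rw [hm] at hω hω'
      have hm34 : m = 3 ∨ m = 4 := by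
        rw [← hm]; split_ifs
        · left; rfl
        · right; rfl
      have hc0 : Nat.card {x // x ∈ MulAction.orbit A ω} = m := by
        rw [Nat.card_coe_set_eq]; exact hω
      have hc0' : Nat.card {x // x ∈ MulAction.orbit B ω'} = m := by
        rw [Nat.card_coe_set_eq]; exact hω'
      have hc1 : Nat.card {x // ¬ x ∈ MulAction.orbit A ω} = n - m := by
        obtain ⟨-, -, -, -, hcompl, -⟩ := hA.orbit_data ω hn
        rw [hcompl, hω]
      have hc1' : Nat.card {x // ¬ x ∈ MulAction.orbit B ω'} = n - m := by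
        obtain ⟨-, -, -, -, hcompl, -⟩ := hB.orbit_data ω' hn'
        rw [hcompl, hω']
      obtain ⟨e₀, he₀⟩ := ih m (by omega) _ _ K₀ K₀' hK₀ hK₀' hc0 hc0'
      obtain ⟨e₁, he₁⟩ := ih (n - m) (by omega) _ _ A₁ A₁' hA₁ hA₁' hc1 hc1'
      refine ⟨glue _ _ e₀ e₁, ?_⟩
      refine hBeq.trans ?_
      rw [he₀, he₁, ← map_glue]
      exact congrArg (Subgroup.map _) hAeq.symm

theorem odd_normalizer_main : ∀ n : ℕ, ∀ (Ω : Type u) [Finite Ω] (A : Subgroup (Perm Ω)),
    Ext A → Nat.card Ω = n → 2 ≤ n →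
    ∃ h : Perm Ω, sgn h = -1 ∧ A.map (MulAut.conj h).toMonoidHom = A := by
  intro n
  induction n using Nat.strong_induction_on with
  | _ n ih =>
    intro Ω _ A hA hn h2
    rcases Nat.lt_or_ge n 6 with h6 | h6
    · exact odd_normalizer_small A hA (by omega) (by omega)
    · classical
      have : Nonempty Ω := (Nat.card_pos_iff.mp (by omega)).1
      obtain ⟨ω⟩ := this
      obtain ⟨hm1, hmn, hm2, hmul, hcompl, -⟩ := hA.orbit_data ω hn
      obtain ⟨-, -, har3, -⟩ := orbit_arith n _ hm1 hmn hm2 hmul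
      obtain ⟨hm3, hm5⟩ := har3 (by omega)
      obtain ⟨K₀, A₁, hK₀, hA₁, hAeq⟩ := hA.split ω
      obtain ⟨h₀, hh₀, hh₀'⟩ := ih _ (by omega : (MulAction.orbit A ω).ncard < n) _ K₀ hK₀
        (Nat.card_coe_set_eq _) (by omega)
      have hglue : glue (fun x => x ∈ MulAction.orbit A ω) (fun x => x ∈ MulAction.orbit A ω)
          h₀ (Equiv.refl _) = Perm.subtypeCongr h₀ 1 := by
        ext x
        by_cases hx : x ∈ MulAction.orbit A ω
        · rw [glue_apply_pos _ _ _ _ hx, Perm.subtypeCongr.left_apply _ _ hx]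
        · rw [glue_apply_neg _ _ _ _ hx, Perm.subtypeCongr.right_apply _ _ hx]
          rfl
      refine ⟨Perm.subtypeCongr h₀ 1, ?_, ?_⟩
      · rw [sgn_subtypeCongr, hh₀, sgn_one, mul_one]
      · rw [← permCongrHom_eq_conj, ← hglue]
        have h1 := map_glue (fun x => x ∈ MulAction.orbit A ω)
          (fun x => x ∈ MulAction.orbit A ω) h₀ (Equiv.refl _) K₀ A₁
        rw [← hAeq, permCongrHom_eq_conj h₀, hh₀'] at h1
        have h2 : A₁.map (Equiv.refl _).permCongrHom.toMonoidHom = A₁ := by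
          conv_rhs => rw [← Subgroup.map_id A₁]
          congr 1
        rw [h2, ← hAeq] at h1
        exact h1

end Main


section Final

open scoped Pointwise

theorem hasAbEven_five : HasAbEven 5 5 := by
  refine ⟨Subgroup.zpowers (finRotate 5), inferInstance, ?_, ?_⟩
  · rw [Subgroup.zpowers_le, Perm.mem_alternatingGroup, sign_finRotate]
    norm_num
  · rw [Nat.card_zpowers, (isCycle_finRotate (n := 3)).orderOf, support_finRotate, Finset.card_univ,
      Fintype.card_fin]

theorem hasAbEven_altBound : ∀ n, HasAbEven n (altBound n) := by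
  intro n
  induction n using Nat.strong_induction_on with
  | _ n ih =>
    rcases Nat.lt_or_ge n 9 with h | h
    · interval_cases n
      · exact hasAbEven_one 0
      · exact hasAbEven_one 1
      · exact hasAbEven_one 2
      · exact hasAbEven_three
      · exact hasAbEven_four
      · exact hasAbEven_five
      · exact hasAbEven_cast (hasAbEven_add hasAbEven_three hasAbEven_three) rfl rfl
      · exact hasAbEven_cast (hasAbEven_add hasAbEven_three hasAbEven_four) rfl rfl
      · exact hasAbEven_cast (hasAbEven_add hasAbEven_four hasAbEven_four) rfl rfl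
    · obtain ⟨j, rfl⟩ : ∃ j, n = j + 3 := ⟨n - 3, by omega⟩
      have h1 := ih j (by omega)
      refine hasAbEven_cast (hasAbEven_add h1 hasAbEven_three) rfl ?_
      rw [altBound_add_three j (by omega)]; ring

theorem ext_of_max {n : ℕ} (A : Subgroup (alternatingGroup (Fin n))) (hA : IsMulCommutative A)
    (hAmax : ∀ C : Subgroup (alternatingGroup (Fin n)), IsMulCommutative C →
      Nat.card C ≤ Nat.card A) :
    Ext (A.map (alternatingGroup (Fin n)).subtype) := by
  obtain ⟨C, hC, hCc⟩ := exists_of_hasAbEven (hasAbEven_altBound n)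
  have h1 := hAmax C hC
  have h2 := (card_le_of_alt A).2
  refine ⟨Subgroup.map_isMulCommutative _ _, ?_, ?_⟩
  · rintro _ ⟨a, _, rfl⟩
    rw [sgn_eq]
    exact Perm.mem_alternatingGroup.mp a.2
  · rw [Subgroup.card_subtype, Nat.card_fin]
    omega

theorem final (n : ℕ)
    (A B : Subgroup (alternatingGroup (Fin n))) (hA : IsMulCommutative A) (hB : IsMulCommutative B)
    (hAmax : ∀ C : Subgroup (alternatingGroup (Fin n)), IsMulCommutative C →
      Nat.card C ≤ Nat.card A)
    (hBmax : ∀ C : Subgroup (alternatingGroup (Fin n)), IsMulCommutative C →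
      Nat.card C ≤ Nat.card B) :
    ∃ g : alternatingGroup (Fin n), B = MulAut.conj g • A := by
  have hA' := ext_of_max A hA hAmax
  have hB' := ext_of_max B hB hBmax
  obtain ⟨e, he⟩ := conj_main n (Fin n) (Fin n) _ _ hA' hB' (Nat.card_fin n) (Nat.card_fin n)
  rw [permCongrHom_eq_conj] at he
  -- find an even conjugating element
  obtain ⟨g, hg1, hg⟩ : ∃ g : Perm (Fin n), sgn g = 1 ∧
      B.map (alternatingGroup (Fin n)).subtype =
        (A.map (alternatingGroup (Fin n)).subtype).map (MulAut.conj g).toMonoidHom := by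
    rcases Int.units_eq_one_or (sgn e) with h1 | h1
    · exact ⟨e, h1, he⟩
    · have h2 : 2 ≤ n := by
        by_contra hlt
        have : Subsingleton (Perm (Fin n)) := by
          have : n = 0 ∨ n = 1 := by omega
          rcases this with rfl | rfl <;> infer_instance
        have : e = 1 := Subsingleton.elim _ _
        rw [this, sgn_one] at h1
        exact absurd h1 (by decide)
      obtain ⟨h, hh1, hh⟩ := odd_normalizer_main n (Fin n) _ hA' (Nat.card_fin n) h2
      refine ⟨e * h, by rw [sgn_mul, h1, hh1]; decide, ?_⟩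
      rw [he]
      conv_lhs => rw [← hh]
      rw [Subgroup.map_map]
      congr 1
  have hgA : g ∈ alternatingGroup (Fin n) := by
    rw [Perm.mem_alternatingGroup, ← sgn_eq]; exact hg1
  refine ⟨⟨g, hgA⟩, ?_⟩
  have hsm : MulAut.conj (⟨g, hgA⟩ : alternatingGroup (Fin n)) • A =
      A.map (MulAut.conj (⟨g, hgA⟩ : alternatingGroup (Fin n))).toMonoidHom := rfl
  rw [hsm]
  apply Subgroup.map_injective (alternatingGroup (Fin n)).subtype_injective
  rw [hg, Subgroup.map_map, Subgroup.map_map]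
  congr 1

end Final

end Cfsg.Agent.Lib.Helper98.AbelianAltConj
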