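import Mathlib

set_option autoImplicit false

namespace Cfsg.Agent.Lib.Helper98

/-- Criterion for `H` to be maximal in `K`, phrased with subgroups of the ambient group. -/
theorem isCoatom_subgroupOf_of {G : Type*} [Group G] (H K : Subgroup G) (hHK : H ≤ K)
    (hne : ¬ K ≤ H)
    (h : ∀ L : Subgroup G, H ≤ L → L ≤ K → L ≠ H → K ≤ L) : IsCoatom (H.subgroupOf K) := by
  constructor
  · intro htop
    exact hne (Subgroup.subgroupOf_eq_top.mp htop)
  · intro L' hlt
    have hL1 : H ≤ L'.map K.subtype := by
      rw [← Subgroup.map_subgroupOf_eq_of_le hHK]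
      exact Subgroup.map_mono hlt.le
    have hL2 : L'.map K.subtype ≤ K := Subgroup.map_subtype_le L'
    have hL3 : L'.map K.subtype ≠ H := by
      intro heq
      apply hlt.ne
      apply Subgroup.map_injective K.subtype_injective
      rw [heq, Subgroup.map_subgroupOf_eq_of_le hHK]
    have hKL := h _ hL1 hL2 hL3
    rw [eq_top_iff]
    intro x _
    obtain ⟨y, hy, hyx⟩ := hKL x.2
    have : y = x := Subtype.ext hyx
    exact this ▸ hy

/-- Unfolding maximality of `H` in `M` in terms of subgroups of the ambient group. -/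
theorem eq_or_eq_of_isCoatom_subgroupOf {G : Type*} [Group G] (H M : Subgroup G) (hHM : H ≤ M)
    (hmax : IsCoatom (H.subgroupOf M)) (L : Subgroup G) (hHL : H ≤ L) (hLM : L ≤ M) :
    L = H ∨ L = M := by
  have hle : H.subgroupOf M ≤ L.subgroupOf M := Subgroup.subgroupOf_mono M hHL
  rcases eq_or_lt_of_le hle with heq | hlt
  · left
    rw [← Subgroup.map_subgroupOf_eq_of_le hLM, ← heq, Subgroup.map_subgroupOf_eq_of_le hHM]
  · right
    have := hmax.2 _ hlt
    exact le_antisymm hLM (Subgroup.subgroupOf_eq_top.mp this)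

end Cfsg.Agent.Lib.Helper98
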