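import Mathlib
import Cfsg.Agent.Lib.Helper98.Fi23TC10D

/-! Coset enumeration certificate Fi23TC10: checks, part 10. -/

set_option autoImplicit false
set_option maxRecDepth 1000000

namespace Cfsg.Agent.Lib.Helper98.Fi23TC10S10

open Cfsg.Agent.Lib.Helper98.CosetCert Cfsg.Agent.Lib.Helper98.CosetCert2

open Cfsg.Agent.Lib.Helper98.Fi23TC10D

theorem seg120 : rangeOKF cert 509372 4789 = true := by decide +kernel

theorem seg121 : rangeOKF cert 514161 4804 = true := by decide +kernel

theorem seg122 : rangeOKF cert 518965 4850 = true := by decide +kernel

theorem seg123 : rangeOKF cert 523815 4849 = true := by decide +kernel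

theorem seg124 : rangeOKF cert 528664 4771 = true := by decide +kernel

theorem seg125 : rangeOKF cert 533435 4846 = true := by decide +kernel

theorem seg126 : rangeOKF cert 538281 4751 = true := by decide +kernel

theorem seg127 : rangeOKF cert 543032 4833 = true := by decide +kernel

theorem seg128 : rangeOKF cert 547865 4723 = true := by decide +kernel

theorem seg129 : rangeOKF cert 552588 4781 = true := by decide +kernel

theorem seg130 : rangeOKF cert 557369 4811 = true := by decide +kernel

theorem seg131 : rangeOKF cert 562180 4732 = true := by decide +kernel

end Cfsg.Agent.Lib.Helper98.Fi23TC10S10
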