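import Mathlib
import Cfsg.Prelude.Def_SporCoxeter

/-!
# A presentation of `G₂(4)` on six involutions

The Coxeter graph with the paths `a –5– b –3– c –8– d –3– e` and `b –3– f`, with the relations
`a = (c d)^4`, `(a b c f)^5 = 1` and `((b c d c d)^5 e)^3 = 1`; these are the relations of the presented
sporadic Suzuki group which only involve `a, …, f`.
-/

set_option autoImplicit false

namespace Cfsg.Agent.Lib.Helper98.G24Def

/-- the generators -/
inductive Gen
  | a
  | b
  | c
  | d
  | e
  | f
  deriving DecidableEq

/-- the generator a as a word -/ abbrev a : FreeGroup Gen := FreeGroup.of Gen.a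
/-- the generator b as a word -/ abbrev b : FreeGroup Gen := FreeGroup.of Gen.b
/-- the generator c as a word -/ abbrev c : FreeGroup Gen := FreeGroup.of Gen.c
/-- the generator d as a word -/ abbrev d : FreeGroup Gen := FreeGroup.of Gen.d
/-- the generator e as a word -/ abbrev e : FreeGroup Gen := FreeGroup.of Gen.e
/-- the generator f as a word -/ abbrev f : FreeGroup Gen := FreeGroup.of Gen.f

/-- the Coxeter graph -/
def edges : List (Gen × ℕ × Gen) :=
  [(.a, 5, .b), (.b, 3, .c), (.c, 8, .d), (.d, 3, .e), (.b, 3, .f)]

/-- the further relators -/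
def extra : List (FreeGroup Gen) := [
  a * ((c * d) ^ 4)⁻¹,
  (a * b * c * f) ^ 5,
  ((b * c * d * c * d) ^ 5 * e) ^ 3 ]

/-- the presented group -/
abbrev G24 : Type := Cfsg.Spor.CoxPresented Gen edges extra

end Cfsg.Agent.Lib.Helper98.G24Def
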