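import Mathlib
import Cfsg.Agent.Lib.Helper98.G24Def
import Cfsg.Agent.Lib.Helper98.CoxPres

/-! The presentation of `Cfsg.Agent.Lib.Helper98.G24Def` in the form used by `CoxPres`. -/

set_option autoImplicit false
set_option maxRecDepth 100000

namespace Cfsg.Agent.Lib.Helper98.G24Pres

open Cfsg Cfsg.Spor Cfsg.Agent.Lib.Helper98.CoxPres

/-- the generator with a given index -/
def genOfNat : ℕ → Cfsg.Agent.Lib.Helper98.G24Def.Gen
  | 0 => .a
  | 1 => .c
  | 2 => .d
  | 3 => .b
  | 4 => .e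
  | _ => .f

/-- the index of a generator -/
def natOfGen : Cfsg.Agent.Lib.Helper98.G24Def.Gen → ℕ
  | .a => 0
  | .b => 3
  | .c => 1
  | .d => 2
  | .e => 4
  | .f => 5

/-- the presentation -/
def pres : Pres where
  n := 6
  lab := fun x y => coxLabel Cfsg.Agent.Lib.Helper98.G24Def.edges (genOfNat x) (genOfNat y)
  extras := [
    (.mul (.gen 0) (.inv (.pow (.mul (.gen 1) (.gen 2)) 4))),
    (.pow (.mul (.mul (.mul (.gen 0) (.gen 3)) (.gen 1)) (.gen 5)) 5),
    (.pow (.mul (.pow (.mul (.mul (.mul (.mul (.gen 3) (.gen 1)) (.gen 2)) (.gen 1)) (.gen 2)) 5) (.gen 4)) 3)]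

theorem wf : pres.WF := by
  refine ⟨fun x _ => ?_, ?_⟩
  · show coxLabel Cfsg.Agent.Lib.Helper98.G24Def.edges (genOfNat x) (genOfNat x) = 1
    simp [coxLabel]
  · decide

theorem link : Link Cfsg.Agent.Lib.Helper98.G24Def.edges Cfsg.Agent.Lib.Helper98.G24Def.extra genOfNat natOfGen pres where
  gn := fun s => by cases s <;> rfl
  lt := fun s => by cases s <;> decide
  ng := fun x hx => by
    have hx' : x < 6 := hx
    interval_cases x <;> rfl
  nodes := fun s => by cases s <;> decide
  lab := fun _ _ => rfl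
  extra := rfl

/-- the generators of the presented group -/
noncomputable abbrev gP : ℕ → Cfsg.Agent.Lib.Helper98.G24Def.G24 := genP Cfsg.Agent.Lib.Helper98.G24Def.edges Cfsg.Agent.Lib.Helper98.G24Def.extra genOfNat

end Cfsg.Agent.Lib.Helper98.G24Pres
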