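import Mathlib
import Cfsg.Agent.Lib.Helper98.G24Pres

/-!
# A quotient of the presented group `G24` killing the generator `a` is trivial
-/

set_option autoImplicit false
set_option maxRecDepth 100000

namespace Cfsg.Agent.Lib.Helper98.G24Kill

open Cfsg Cfsg.Spor Cfsg.Agent.Lib.Helper98.CoxPres Cfsg.Agent.Lib.Helper98.G24Pres

theorem lab03 : pres.lab 0 3 = 5 := by decide
theorem lab31 : pres.lab 3 1 = 3 := by decide
theorem lab35 : pres.lab 3 5 = 3 := by decide
theorem lab24 : pres.lab 2 4 = 3 := by decide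

theorem kill {Q : Type} [Group Q] (g : ℕ → Q) (h : pres.Rel g) (h0 : g 0 = 1) :
    ∀ x < pres.n, g x = 1 := by
  have sq : ∀ x < 6, g x * g x = 1 := fun x hx => h.sq wf x hx
  have c03 := h.cox 0 (by decide) 3 (by decide)
  have c31 := h.cox 3 (by decide) 1 (by decide)
  have c35 := h.cox 3 (by decide) 5 (by decide)
  have c24 := h.cox 2 (by decide) 4 (by decide)
  rw [lab03] at c03
  rw [lab31] at c31
  rw [lab35] at c35
  rw [lab24] at c24
  have g3 : g 3 = 1 := by
    rw [h0, one_mul] at c03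
    exact Pres.eq_one_of_sq_of_odd_pow (sq 3 (by decide)) (by decide) c03
  have g1 : g 1 = 1 := by
    rw [g3, one_mul] at c31
    exact Pres.eq_one_of_sq_of_odd_pow (sq 1 (by decide)) (by decide) c31
  have g5 : g 5 = 1 := by
    rw [g3, one_mul] at c35
    exact Pres.eq_one_of_sq_of_odd_pow (sq 5 (by decide)) (by decide) c35
  have e3 : ((g 3 * g 1 * g 2 * g 1 * g 2) ^ 5 * g 4) ^ 3 = 1 := by
    have := h.ext (.pow (.mul (.pow (.mul (.mul (.mul (.mul (.gen 3) (.gen 1)) (.gen 2)) (.gen 1)) (.gen 2)) 5) (.gen 4)) 3)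
      (by simp [pres])
    simpa [WExp.eval] using this
  have g4 : g 4 = 1 := by
    rw [g3, g1, one_mul, one_mul, mul_one, sq 2 (by decide), one_pow, one_mul] at e3
    exact Pres.eq_one_of_sq_of_odd_pow (sq 4 (by decide)) (by decide) e3
  have g2 : g 2 = 1 := by
    rw [g4, mul_one] at c24
    exact Pres.eq_one_of_sq_of_odd_pow (sq 2 (by decide)) (by decide) c24
  intro x hx
  have hx' : x < 6 := hx
  interval_cases x
  · exact h0
  · exact g1
  · exact g2
  · exact g3
  · exact g4
  · exact g5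

end Cfsg.Agent.Lib.Helper98.G24Kill
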