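import Mathlib

/-! chunk literals of the coset enumeration certificate G24TC2 -/

namespace Cfsg.Agent.Lib.Helper98.G24TC2D

def entC0 : ℕ := 0x30000000000100002000000020000200000000002000000000000100003100000000000010000000000000000000000000000000001200000

def lgeC0 : ℕ := 0x400004000200000030000200020000001000000004

def repC0 : ℕ := 0x200000

end Cfsg.Agent.Lib.Helper98.G24TC2D
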