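import Mathlib

/-! chunk literals of the coset enumeration certificate G24TC3 -/

namespace Cfsg.Agent.Lib.Helper98.G24TC3D

def entC0 : ℕ := 0x9000050000020000900000008000090000010000900000007000090000000000900000000000030000a200005000000060000300000100005000000050000500000000005000000040000000000200003000000000000200007100003000000030000300000000003000000000000100004200000000000020000000000100000000000010000000000000000000000000000000001300000

def lgeC0 : ℕ := 0xc0000c0004000000b000090009000000a0000900040000008000080002000000700005000200000060000600040000004000030004000000200000001c000000100000001b

def repC0 : ℕ := 0x9000050000300000

end Cfsg.Agent.Lib.Helper98.G24TC3D
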