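import Mathlib
import Cfsg.Agent.Lib.Helper98.G24TC5C0
import Cfsg.Agent.Lib.Helper98.CosetCert2
import Cfsg.Agent.Lib.Helper98.G24Pres

/-! Coset enumeration certificate, level 5: index at most 280; data. -/

set_option autoImplicit false
set_option maxRecDepth 1000000

namespace Cfsg.Agent.Lib.Helper98.G24TC5D

open Cfsg.Agent.Lib.Helper98.CosetCert Cfsg.Agent.Lib.Helper98.CosetCert2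

open Cfsg.Agent.Lib.Helper98.G24Pres

def entN0 (c : ℕ) : ℕ := (Bool.rec (motive := fun _ => ℕ) (Bool.rec (motive := fun _ => ℕ) entC0 entC1 (Nat.ble 1 c)) (Bool.rec (motive := fun _ => ℕ) entC2 entC3 (Nat.ble 3 c)) (Nat.ble 2 c))

def entSel (c : ℕ) : ℕ := (entN0 c)

def entRaw (u : ℕ) : ℕ :=
  Nat.land (Nat.shiftRight (strict entSel (Nat.shiftRight u 10)) (Nat.mul 96 (Nat.land u 1023))) 79228162514264337593543950335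

def ent (u : ℕ) : ℕ := strict entRaw u

def lgeN0 (c : ℕ) : ℕ := (Bool.rec (motive := fun _ => ℕ) lgeC0 (Bool.rec (motive := fun _ => ℕ) lgeC1 lgeC2 (Nat.ble 2 c)) (Nat.ble 1 c))

def lgeSel (c : ℕ) : ℕ := (lgeN0 c)

def lgeRaw (u : ℕ) : ℕ :=
  Nat.land (Nat.shiftRight (strict lgeSel (Nat.shiftRight u 10)) (Nat.mul 64 (Nat.land u 1023))) 18446744073709551615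

def lge (u : ℕ) : ℕ := strict lgeRaw u

def repSel (c : ℕ) : ℕ := repC0

def repRaw (u : ℕ) : ℕ :=
  Nat.land (Nat.shiftRight (strict repSel (Nat.shiftRight u 10)) (Nat.mul 20 (Nat.land u 1023))) 1048575

def rep (u : ℕ) : ℕ := strict repRaw u

def par (v : ℕ) : ℕ := Nat.land (ent v) 1048575

def lab (v : ℕ) : ℕ := Nat.land (Nat.shiftRight (ent v) 20) 15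

def cb (v : ℕ) : ℕ := Nat.land (Nat.shiftRight (ent v) 24) 1048575

def link (v : ℕ) : ℕ := Nat.land (Nat.shiftRight (ent v) 44) 1048575

def lt1 (v : ℕ) : ℕ := Nat.shiftRight (ent v) 64

def logw (i : ℕ) : ℕ := Nat.land (lge i) 65535

def logc (i : ℕ) : ℕ := Nat.land (Nat.shiftRight (lge i) 16) 1048575

def logb (i : ℕ) : ℕ := Nat.shiftRight (lge i) 36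

def rwords : List (List (List ℕ)) := [
  [[0, 0], [0, 1, 0, 1], [1, 0, 1, 0], [0, 2, 0, 2], [2, 0, 2, 0], [0, 3, 0, 3, 0, 3, 0, 3, 0, 3], [3, 0, 3, 0, 3, 0, 3, 0, 3, 0], [0, 4, 0, 4], [4, 0, 4, 0], [1, 1], [1, 2, 1, 2, 1, 2, 1, 2, 1, 2, 1, 2, 1, 2, 1, 2], [2, 1, 2, 1, 2, 1, 2, 1, 2, 1, 2, 1, 2, 1, 2, 1], [1, 3, 1, 3, 1, 3], [3, 1, 3, 1, 3, 1], [1, 4, 1, 4], [4, 1, 4, 1]],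
  [[2, 2], [2, 3, 2, 3], [3, 2, 3, 2], [2, 4, 2, 4, 2, 4], [4, 2, 4, 2, 4, 2], [3, 3], [3, 4, 3, 4], [4, 3, 4, 3], [4, 4], [0, 2, 1, 2, 1, 2, 1, 2, 1], [2, 1, 2, 1, 2, 1, 2, 1, 0], [1, 2, 1, 2, 1, 2, 1, 0, 2], [2, 1, 2, 1, 2, 1, 0, 2, 1], [1, 2, 1, 2, 1, 0, 2, 1, 2], [2, 1, 2, 1, 0, 2, 1, 2, 1], [1, 2, 1, 0, 2, 1, 2, 1, 2]],
  [[2, 1, 0, 2, 1, 2, 1, 2, 1], [1, 0, 2, 1, 2, 1, 2, 1, 2], [1, 2, 1, 2, 1, 2, 1, 2, 0], [2, 1, 2, 1, 2, 1, 2, 0, 1], [1, 2, 1, 2, 1, 2, 0, 1, 2], [2, 1, 2, 1, 2, 0, 1, 2, 1], [1, 2, 1, 2, 0, 1, 2, 1, 2], [2, 1, 2, 0, 1, 2, 1, 2, 1], [1, 2, 0, 1, 2, 1, 2, 1, 2], [2, 0, 1, 2, 1, 2, 1, 2, 1], [0, 1, 2, 1, 2, 1, 2, 1, 2], [3, 1, 2, 1, 2, 3, 1, 2, 1,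 2, 3, 1, 2, 1, 2, 3, 1, 2, 1, 2, 3, 1, 2, 1, 2, 4, 3, 1, 2, 1, 2, 3, 1, 2, 1, 2, 3, 1, 2, 1, 2, 3, 1, 2, 1, 2, 3, 1, 2, 1, 2, 4, 3, 1, 2, 1, 2, 3, 1, 2, 1, 2, 3, 1, 2, 1, 2, 3, 1, 2, 1, 2, 3, 1, 2, 1, 2, 4], [1, 2, 1, 2, 3, 1, 2, 1, 2, 3, 1, 2, 1, 2, 3, 1, 2, 1, 2, 3, 1, 2, 1, 2, 4, 3, 1, 2, 1, 2, 3, 1, 2, 1, 2, 3, 1, 2, 1, 2, 3, 1, 2, 1, 2, 3, 1, 2, 1, 2, 4, 3, 1, 2, 1, 2, 3, 1, 2, 1, 2, 3, 1, 2, 1, 2, 3, 1, 2, 1, 2, 3, 1, 2, 1, 2, 4, 3], [2, 1, 2, 3, 1, 2, 1, 2, 3, 1, 2, 1, 2, 3, 1, 2, 1, 2, 3, 1, 2, 1, 2, 4, 3, 1, 2, 1, 2, 3, 1, 2, 1, 2, 3, 1, 2, 1, 2, 3, 1, 2, 1, 2, 3, 1, 2, 1, 2, 4, 3, 1, 2, 1, 2, 3, 1, 2, 1, 2, 3, 1, 2, 1, 2, 3, 1, 2, 1, 2, 3, 1, 2, 1, 2, 4, 3,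 1], [1, 2, 3, 1, 2, 1, 2, 3, 1, 2, 1, 2, 3, 1, 2, 1, 2, 3, 1, 2, 1, 2, 4, 3, 1, 2, 1, 2, 3, 1, 2, 1, 2, 3, 1, 2, 1, 2, 3, 1, 2, 1, 2, 3, 1, 2, 1, 2, 4, 3, 1, 2, 1, 2, 3, 1, 2, 1, 2, 3, 1, 2, 1, 2, 3, 1, 2, 1, 2, 3, 1, 2, 1, 2, 4, 3, 1, 2], [2, 3, 1, 2, 1, 2, 3, 1, 2, 1, 2, 3, 1, 2, 1, 2, 3, 1, 2, 1, 2, 4, 3, 1, 2, 1, 2, 3, 1, 2, 1, 2, 3, 1, 2, 1, 2, 3, 1, 2, 1, 2, 3, 1, 2, 1, 2, 4, 3, 1, 2, 1, 2, 3, 1, 2, 1, 2, 3, 1, 2, 1, 2, 3, 1, 2, 1, 2, 3, 1, 2, 1, 2, 4, 3, 1, 2, 1]],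
  [[3, 1, 2, 1, 2, 3, 1, 2, 1, 2, 3, 1, 2, 1, 2, 3, 1, 2, 1, 2, 4, 3, 1, 2, 1, 2, 3, 1, 2, 1, 2, 3, 1, 2, 1, 2, 3, 1, 2, 1, 2, 3, 1, 2, 1, 2, 4, 3, 1, 2, 1, 2, 3, 1, 2, 1, 2, 3, 1, 2, 1, 2, 3, 1, 2, 1, 2, 3, 1, 2, 1, 2, 4, 3, 1, 2, 1, 2], [1, 2, 1, 2, 3, 1, 2, 1, 2, 3, 1, 2, 1, 2, 3, 1, 2, 1, 2, 4, 3, 1, 2, 1, 2, 3, 1, 2, 1, 2, 3, 1, 2, 1, 2, 3, 1, 2, 1, 2, 3, 1, 2, 1, 2, 4, 3, 1, 2, 1, 2, 3, 1, 2, 1, 2, 3, 1, 2, 1, 2, 3, 1, 2, 1, 2, 3, 1, 2, 1, 2, 4, 3, 1, 2, 1, 2, 3], [2, 1, 2, 3, 1, 2, 1, 2, 3, 1, 2, 1, 2, 3, 1, 2, 1, 2, 4, 3, 1, 2, 1, 2, 3, 1, 2, 1, 2, 3, 1, 2, 1, 2, 3, 1, 2, 1, 2, 3, 1, 2, 1, 2, 4, 3, 1, 2, 1, 2, 3, 1, 2, 1, 2, 3, 1, 2, 1, 2, 3, 1, 2, 1, 2, 3, 1,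 2, 1, 2, 4, 3, 1, 2, 1, 2, 3, 1], [1, 2, 3, 1, 2, 1, 2, 3, 1, 2, 1, 2, 3, 1, 2, 1, 2, 4, 3, 1, 2, 1, 2, 3, 1, 2, 1, 2, 3, 1, 2, 1, 2, 3, 1, 2, 1, 2, 3, 1, 2, 1, 2, 4, 3, 1, 2, 1, 2, 3, 1, 2, 1, 2, 3, 1, 2, 1, 2, 3, 1, 2, 1, 2, 3, 1, 2, 1, 2, 4, 3, 1, 2, 1, 2, 3, 1, 2], [2, 3, 1, 2, 1, 2, 3, 1, 2, 1, 2, 3, 1, 2, 1, 2, 4, 3, 1, 2, 1, 2, 3, 1, 2, 1, 2, 3, 1, 2, 1, 2, 3, 1, 2, 1, 2, 3, 1, 2, 1, 2, 4, 3, 1, 2, 1, 2, 3, 1, 2, 1, 2, 3, 1, 2, 1, 2, 3, 1, 2, 1, 2, 3, 1, 2, 1, 2, 4, 3, 1, 2, 1, 2, 3, 1, 2, 1], [3, 1, 2, 1, 2, 3, 1, 2, 1, 2, 3, 1, 2, 1, 2, 4, 3, 1, 2, 1, 2, 3, 1, 2, 1, 2, 3, 1, 2, 1, 2, 3, 1, 2, 1, 2, 3, 1, 2, 1, 2, 4, 3, 1, 2, 1, 2, 3, 1, 2, 1, 2, 3, 1, 2, 1,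 2, 3, 1, 2, 1, 2, 3, 1, 2, 1, 2, 4, 3, 1, 2, 1, 2, 3, 1, 2, 1, 2], [1, 2, 1, 2, 3, 1, 2, 1, 2, 3, 1, 2, 1, 2, 4, 3, 1, 2, 1, 2, 3, 1, 2, 1, 2, 3, 1, 2, 1, 2, 3, 1, 2, 1, 2, 3, 1, 2, 1, 2, 4, 3, 1, 2, 1, 2, 3, 1, 2, 1, 2, 3, 1, 2, 1, 2, 3, 1, 2, 1, 2, 3, 1, 2, 1, 2, 4, 3, 1, 2, 1, 2, 3, 1, 2, 1, 2, 3], [2, 1, 2, 3, 1, 2, 1, 2, 3, 1, 2, 1, 2, 4, 3, 1, 2, 1, 2, 3, 1, 2, 1, 2, 3, 1, 2, 1, 2, 3, 1, 2, 1, 2, 3, 1, 2, 1, 2, 4, 3, 1, 2, 1, 2, 3, 1, 2, 1, 2, 3, 1, 2, 1, 2, 3, 1, 2, 1, 2, 3, 1, 2, 1, 2, 4, 3, 1, 2, 1, 2, 3, 1, 2, 1, 2, 3, 1], [1, 2, 3, 1, 2, 1, 2, 3, 1, 2, 1, 2, 4, 3, 1, 2, 1, 2, 3, 1, 2, 1, 2, 3, 1, 2, 1, 2, 3, 1, 2, 1, 2, 3, 1, 2, 1, 2, 4, 3, 1, 2, 1, 2, 3,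 1, 2, 1, 2, 3, 1, 2, 1, 2, 3, 1, 2, 1, 2, 3, 1, 2, 1, 2, 4, 3, 1, 2, 1, 2, 3, 1, 2, 1, 2, 3, 1, 2], [2, 3, 1, 2, 1, 2, 3, 1, 2, 1, 2, 4, 3, 1, 2, 1, 2, 3, 1, 2, 1, 2, 3, 1, 2, 1, 2, 3, 1, 2, 1, 2, 3, 1, 2, 1, 2, 4, 3, 1, 2, 1, 2, 3, 1, 2, 1, 2, 3, 1, 2, 1, 2, 3, 1, 2, 1, 2, 3, 1, 2, 1, 2, 4, 3, 1, 2, 1, 2, 3, 1, 2, 1, 2, 3, 1, 2, 1], [3, 1, 2, 1, 2, 3, 1, 2, 1, 2, 4, 3, 1, 2, 1, 2, 3, 1, 2, 1, 2, 3, 1, 2, 1, 2, 3, 1, 2, 1, 2, 3, 1, 2, 1, 2, 4, 3, 1, 2, 1, 2, 3, 1, 2, 1, 2, 3, 1, 2, 1, 2, 3, 1, 2, 1, 2, 3, 1, 2, 1, 2, 4, 3, 1, 2, 1, 2, 3, 1, 2, 1, 2, 3, 1, 2, 1, 2], [1, 2, 1, 2, 3, 1, 2, 1, 2, 4, 3, 1, 2, 1, 2, 3, 1, 2, 1, 2, 3, 1, 2, 1, 2, 3, 1, 2, 1, 2, 3, 1, 2, 1,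 2, 4, 3, 1, 2, 1, 2, 3, 1, 2, 1, 2, 3, 1, 2, 1, 2, 3, 1, 2, 1, 2, 3, 1, 2, 1, 2, 4, 3, 1, 2, 1, 2, 3, 1, 2, 1, 2, 3, 1, 2, 1, 2, 3], [2, 1, 2, 3, 1, 2, 1, 2, 4, 3, 1, 2, 1, 2, 3, 1, 2, 1, 2, 3, 1, 2, 1, 2, 3, 1, 2, 1, 2, 3, 1, 2, 1, 2, 4, 3, 1, 2, 1, 2, 3, 1, 2, 1, 2, 3, 1, 2, 1, 2, 3, 1, 2, 1, 2, 3, 1, 2, 1, 2, 4, 3, 1, 2, 1, 2, 3, 1, 2, 1, 2, 3, 1, 2, 1, 2, 3, 1], [1, 2, 3, 1, 2, 1, 2, 4, 3, 1, 2, 1, 2, 3, 1, 2, 1, 2, 3, 1, 2, 1, 2, 3, 1, 2, 1, 2, 3, 1, 2, 1, 2, 4, 3, 1, 2, 1, 2, 3, 1, 2, 1, 2, 3, 1, 2, 1, 2, 3, 1, 2, 1, 2, 3, 1, 2, 1, 2, 4, 3, 1, 2, 1, 2, 3, 1, 2, 1, 2, 3, 1, 2, 1, 2, 3, 1, 2], [2, 3, 1, 2, 1, 2, 4, 3, 1, 2, 1, 2, 3, 1, 2, 1, 2, 3, 1, 2, 1, 2, 3,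 1, 2, 1, 2, 3, 1, 2, 1, 2, 4, 3, 1, 2, 1, 2, 3, 1, 2, 1, 2, 3, 1, 2, 1, 2, 3, 1, 2, 1, 2, 3, 1, 2, 1, 2, 4, 3, 1, 2, 1, 2, 3, 1, 2, 1, 2, 3, 1, 2, 1, 2, 3, 1, 2, 1], [3, 1, 2, 1, 2, 4, 3, 1, 2, 1, 2, 3, 1, 2, 1, 2, 3, 1, 2, 1, 2, 3, 1, 2, 1, 2, 3, 1, 2, 1, 2, 4, 3, 1, 2, 1, 2, 3, 1, 2, 1, 2, 3, 1, 2, 1, 2, 3, 1, 2, 1, 2, 3, 1, 2, 1, 2, 4, 3, 1, 2, 1, 2, 3, 1, 2, 1, 2, 3, 1, 2, 1, 2, 3, 1, 2, 1, 2]],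
  [[1, 2, 1, 2, 4, 3, 1, 2, 1, 2, 3, 1, 2, 1, 2, 3, 1, 2, 1, 2, 3, 1, 2, 1, 2, 3, 1, 2, 1, 2, 4, 3, 1, 2, 1, 2, 3, 1, 2, 1, 2, 3, 1, 2, 1, 2, 3, 1, 2, 1, 2, 3, 1, 2, 1, 2, 4, 3, 1, 2, 1, 2, 3, 1, 2, 1, 2, 3, 1, 2, 1, 2, 3, 1, 2, 1, 2, 3], [2, 1, 2, 4, 3, 1, 2, 1, 2, 3, 1, 2, 1, 2, 3, 1, 2, 1, 2, 3, 1, 2, 1, 2, 3, 1, 2, 1, 2, 4, 3, 1, 2, 1, 2, 3, 1, 2, 1, 2, 3, 1, 2, 1, 2, 3, 1, 2, 1, 2, 3, 1, 2, 1, 2, 4, 3, 1, 2, 1, 2, 3, 1, 2, 1, 2, 3, 1, 2, 1, 2, 3, 1, 2, 1, 2, 3, 1], [1, 2, 4, 3, 1, 2, 1, 2, 3, 1, 2, 1, 2, 3, 1, 2, 1, 2, 3, 1, 2, 1, 2, 3, 1, 2, 1, 2, 4, 3, 1, 2, 1, 2, 3, 1, 2, 1, 2, 3, 1, 2, 1, 2, 3, 1, 2, 1, 2, 3, 1, 2, 1, 2, 4, 3, 1, 2, 1, 2, 3, 1, 2, 1, 2, 3, 1,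 2, 1, 2, 3, 1, 2, 1, 2, 3, 1, 2], [2, 4, 3, 1, 2, 1, 2, 3, 1, 2, 1, 2, 3, 1, 2, 1, 2, 3, 1, 2, 1, 2, 3, 1, 2, 1, 2, 4, 3, 1, 2, 1, 2, 3, 1, 2, 1, 2, 3, 1, 2, 1, 2, 3, 1, 2, 1, 2, 3, 1, 2, 1, 2, 4, 3, 1, 2, 1, 2, 3, 1, 2, 1, 2, 3, 1, 2, 1, 2, 3, 1, 2, 1, 2, 3, 1, 2, 1], [4, 3, 1, 2, 1, 2, 3, 1, 2, 1, 2, 3, 1, 2, 1, 2, 3, 1, 2, 1, 2, 3, 1, 2, 1, 2, 4, 3, 1, 2, 1, 2, 3, 1, 2, 1, 2, 3, 1, 2, 1, 2, 3, 1, 2, 1, 2, 3, 1, 2, 1, 2, 4, 3, 1, 2, 1, 2, 3, 1, 2, 1, 2, 3, 1, 2, 1, 2, 3, 1, 2, 1, 2, 3, 1, 2, 1, 2], [4, 2, 1, 2, 1, 3, 2, 1, 2, 1, 3, 2, 1, 2, 1, 3, 2, 1, 2, 1, 3, 2, 1, 2, 1, 3, 4, 2, 1, 2, 1, 3, 2, 1, 2, 1, 3, 2, 1, 2, 1, 3, 2, 1, 2, 1, 3, 2, 1, 2, 1, 3, 4, 2, 1, 2,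 1, 3, 2, 1, 2, 1, 3, 2, 1, 2, 1, 3, 2, 1, 2, 1, 3, 2, 1, 2, 1, 3], [2, 1, 2, 1, 3, 2, 1, 2, 1, 3, 2, 1, 2, 1, 3, 2, 1, 2, 1, 3, 2, 1, 2, 1, 3, 4, 2, 1, 2, 1, 3, 2, 1, 2, 1, 3, 2, 1, 2, 1, 3, 2, 1, 2, 1, 3, 2, 1, 2, 1, 3, 4, 2, 1, 2, 1, 3, 2, 1, 2, 1, 3, 2, 1, 2, 1, 3, 2, 1, 2, 1, 3, 2, 1, 2, 1, 3, 4], [1, 2, 1, 3, 2, 1, 2, 1, 3, 2, 1, 2, 1, 3, 2, 1, 2, 1, 3, 2, 1, 2, 1, 3, 4, 2, 1, 2, 1, 3, 2, 1, 2, 1, 3, 2, 1, 2, 1, 3, 2, 1, 2, 1, 3, 2, 1, 2, 1, 3, 4, 2, 1, 2, 1, 3, 2, 1, 2, 1, 3, 2, 1, 2, 1, 3, 2, 1, 2, 1, 3, 2, 1, 2, 1, 3, 4, 2], [2, 1, 3, 2, 1, 2, 1, 3, 2, 1, 2, 1, 3, 2, 1, 2, 1, 3, 2, 1, 2, 1, 3, 4, 2, 1, 2, 1, 3, 2, 1, 2, 1, 3, 2, 1, 2, 1, 3, 2, 1, 2, 1, 3, 2,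 1, 2, 1, 3, 4, 2, 1, 2, 1, 3, 2, 1, 2, 1, 3, 2, 1, 2, 1, 3, 2, 1, 2, 1, 3, 2, 1, 2, 1, 3, 4, 2, 1], [1, 3, 2, 1, 2, 1, 3, 2, 1, 2, 1, 3, 2, 1, 2, 1, 3, 2, 1, 2, 1, 3, 4, 2, 1, 2, 1, 3, 2, 1, 2, 1, 3, 2, 1, 2, 1, 3, 2, 1, 2, 1, 3, 2, 1, 2, 1, 3, 4, 2, 1, 2, 1, 3, 2, 1, 2, 1, 3, 2, 1, 2, 1, 3, 2, 1, 2, 1, 3, 2, 1, 2, 1, 3, 4, 2, 1, 2], [3, 2, 1, 2, 1, 3, 2, 1, 2, 1, 3, 2, 1, 2, 1, 3, 2, 1, 2, 1, 3, 4, 2, 1, 2, 1, 3, 2, 1, 2, 1, 3, 2, 1, 2, 1, 3, 2, 1, 2, 1, 3, 2, 1, 2, 1, 3, 4, 2, 1, 2, 1, 3, 2, 1, 2, 1, 3, 2, 1, 2, 1, 3, 2, 1, 2, 1, 3, 2, 1, 2, 1, 3, 4, 2, 1, 2, 1], [2, 1, 2, 1, 3, 2, 1, 2, 1, 3, 2, 1, 2, 1, 3, 2, 1, 2, 1, 3, 4, 2, 1, 2, 1, 3, 2, 1, 2, 1, 3, 2, 1, 2,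 1, 3, 2, 1, 2, 1, 3, 2, 1, 2, 1, 3, 4, 2, 1, 2, 1, 3, 2, 1, 2, 1, 3, 2, 1, 2, 1, 3, 2, 1, 2, 1, 3, 2, 1, 2, 1, 3, 4, 2, 1, 2, 1, 3], [1, 2, 1, 3, 2, 1, 2, 1, 3, 2, 1, 2, 1, 3, 2, 1, 2, 1, 3, 4, 2, 1, 2, 1, 3, 2, 1, 2, 1, 3, 2, 1, 2, 1, 3, 2, 1, 2, 1, 3, 2, 1, 2, 1, 3, 4, 2, 1, 2, 1, 3, 2, 1, 2, 1, 3, 2, 1, 2, 1, 3, 2, 1, 2, 1, 3, 2, 1, 2, 1, 3, 4, 2, 1, 2, 1, 3, 2], [2, 1, 3, 2, 1, 2, 1, 3, 2, 1, 2, 1, 3, 2, 1, 2, 1, 3, 4, 2, 1, 2, 1, 3, 2, 1, 2, 1, 3, 2, 1, 2, 1, 3, 2, 1, 2, 1, 3, 2, 1, 2, 1, 3, 4, 2, 1, 2, 1, 3, 2, 1, 2, 1, 3, 2, 1, 2, 1, 3, 2, 1, 2, 1, 3, 2, 1, 2, 1, 3, 4, 2, 1, 2, 1, 3, 2, 1], [1, 3, 2, 1, 2, 1, 3, 2, 1, 2, 1, 3, 2, 1, 2, 1, 3, 4, 2, 1, 2, 1, 3,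 2, 1, 2, 1, 3, 2, 1, 2, 1, 3, 2, 1, 2, 1, 3, 2, 1, 2, 1, 3, 4, 2, 1, 2, 1, 3, 2, 1, 2, 1, 3, 2, 1, 2, 1, 3, 2, 1, 2, 1, 3, 2, 1, 2, 1, 3, 4, 2, 1, 2, 1, 3, 2, 1, 2], [3, 2, 1, 2, 1, 3, 2, 1, 2, 1, 3, 2, 1, 2, 1, 3, 4, 2, 1, 2, 1, 3, 2, 1, 2, 1, 3, 2, 1, 2, 1, 3, 2, 1, 2, 1, 3, 2, 1, 2, 1, 3, 4, 2, 1, 2, 1, 3, 2, 1, 2, 1, 3, 2, 1, 2, 1, 3, 2, 1, 2, 1, 3, 2, 1, 2, 1, 3, 4, 2, 1, 2, 1, 3, 2, 1, 2, 1]],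
  [[2, 1, 2, 1, 3, 2, 1, 2, 1, 3, 2, 1, 2, 1, 3, 4, 2, 1, 2, 1, 3, 2, 1, 2, 1, 3, 2, 1, 2, 1, 3, 2, 1, 2, 1, 3, 2, 1, 2, 1, 3, 4, 2, 1, 2, 1, 3, 2, 1, 2, 1, 3, 2, 1, 2, 1, 3, 2, 1, 2, 1, 3, 2, 1, 2, 1, 3, 4, 2, 1, 2, 1, 3, 2, 1, 2, 1, 3], [1, 2, 1, 3, 2, 1, 2, 1, 3, 2, 1, 2, 1, 3, 4, 2, 1, 2, 1, 3, 2, 1, 2, 1, 3, 2, 1, 2, 1, 3, 2, 1, 2, 1, 3, 2, 1, 2, 1, 3, 4, 2, 1, 2, 1, 3, 2, 1, 2, 1, 3, 2, 1, 2, 1, 3, 2, 1, 2, 1, 3, 2, 1, 2, 1, 3, 4, 2, 1, 2, 1, 3, 2, 1, 2, 1, 3, 2], [2, 1, 3, 2, 1, 2, 1, 3, 2, 1, 2, 1, 3, 4, 2, 1, 2, 1, 3, 2, 1, 2, 1, 3, 2, 1, 2, 1, 3, 2, 1, 2, 1, 3, 2, 1, 2, 1, 3, 4, 2, 1, 2, 1, 3, 2, 1, 2, 1, 3, 2, 1, 2, 1, 3, 2, 1, 2, 1, 3, 2, 1, 2, 1, 3, 4, 2,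 1, 2, 1, 3, 2, 1, 2, 1, 3, 2, 1], [1, 3, 2, 1, 2, 1, 3, 2, 1, 2, 1, 3, 4, 2, 1, 2, 1, 3, 2, 1, 2, 1, 3, 2, 1, 2, 1, 3, 2, 1, 2, 1, 3, 2, 1, 2, 1, 3, 4, 2, 1, 2, 1, 3, 2, 1, 2, 1, 3, 2, 1, 2, 1, 3, 2, 1, 2, 1, 3, 2, 1, 2, 1, 3, 4, 2, 1, 2, 1, 3, 2, 1, 2, 1, 3, 2, 1, 2], [3, 2, 1, 2, 1, 3, 2, 1, 2, 1, 3, 4, 2, 1, 2, 1, 3, 2, 1, 2, 1, 3, 2, 1, 2, 1, 3, 2, 1, 2, 1, 3, 2, 1, 2, 1, 3, 4, 2, 1, 2, 1, 3, 2, 1, 2, 1, 3, 2, 1, 2, 1, 3, 2, 1, 2, 1, 3, 2, 1, 2, 1, 3, 4, 2, 1, 2, 1, 3, 2, 1, 2, 1, 3, 2, 1, 2, 1], [2, 1, 2, 1, 3, 2, 1, 2, 1, 3, 4, 2, 1, 2, 1, 3, 2, 1, 2, 1, 3, 2, 1, 2, 1, 3, 2, 1, 2, 1, 3, 2, 1, 2, 1, 3, 4, 2, 1, 2, 1, 3, 2, 1, 2, 1, 3, 2, 1, 2, 1, 3, 2, 1, 2, 1,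 3, 2, 1, 2, 1, 3, 4, 2, 1, 2, 1, 3, 2, 1, 2, 1, 3, 2, 1, 2, 1, 3], [1, 2, 1, 3, 2, 1, 2, 1, 3, 4, 2, 1, 2, 1, 3, 2, 1, 2, 1, 3, 2, 1, 2, 1, 3, 2, 1, 2, 1, 3, 2, 1, 2, 1, 3, 4, 2, 1, 2, 1, 3, 2, 1, 2, 1, 3, 2, 1, 2, 1, 3, 2, 1, 2, 1, 3, 2, 1, 2, 1, 3, 4, 2, 1, 2, 1, 3, 2, 1, 2, 1, 3, 2, 1, 2, 1, 3, 2], [2, 1, 3, 2, 1, 2, 1, 3, 4, 2, 1, 2, 1, 3, 2, 1, 2, 1, 3, 2, 1, 2, 1, 3, 2, 1, 2, 1, 3, 2, 1, 2, 1, 3, 4, 2, 1, 2, 1, 3, 2, 1, 2, 1, 3, 2, 1, 2, 1, 3, 2, 1, 2, 1, 3, 2, 1, 2, 1, 3, 4, 2, 1, 2, 1, 3, 2, 1, 2, 1, 3, 2, 1, 2, 1, 3, 2, 1], [1, 3, 2, 1, 2, 1, 3, 4, 2, 1, 2, 1, 3, 2, 1, 2, 1, 3, 2, 1, 2, 1, 3, 2, 1, 2, 1, 3, 2, 1, 2, 1, 3, 4, 2, 1, 2, 1, 3, 2, 1, 2, 1, 3, 2,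 1, 2, 1, 3, 2, 1, 2, 1, 3, 2, 1, 2, 1, 3, 4, 2, 1, 2, 1, 3, 2, 1, 2, 1, 3, 2, 1, 2, 1, 3, 2, 1, 2], [3, 2, 1, 2, 1, 3, 4, 2, 1, 2, 1, 3, 2, 1, 2, 1, 3, 2, 1, 2, 1, 3, 2, 1, 2, 1, 3, 2, 1, 2, 1, 3, 4, 2, 1, 2, 1, 3, 2, 1, 2, 1, 3, 2, 1, 2, 1, 3, 2, 1, 2, 1, 3, 2, 1, 2, 1, 3, 4, 2, 1, 2, 1, 3, 2, 1, 2, 1, 3, 2, 1, 2, 1, 3, 2, 1, 2, 1], [2, 1, 2, 1, 3, 4, 2, 1, 2, 1, 3, 2, 1, 2, 1, 3, 2, 1, 2, 1, 3, 2, 1, 2, 1, 3, 2, 1, 2, 1, 3, 4, 2, 1, 2, 1, 3, 2, 1, 2, 1, 3, 2, 1, 2, 1, 3, 2, 1, 2, 1, 3, 2, 1, 2, 1, 3, 4, 2, 1, 2, 1, 3, 2, 1, 2, 1, 3, 2, 1, 2, 1, 3, 2, 1, 2, 1, 3], [1, 2, 1, 3, 4, 2, 1, 2, 1, 3, 2, 1, 2, 1, 3, 2, 1, 2, 1, 3, 2, 1, 2, 1, 3, 2, 1, 2, 1, 3, 4, 2, 1, 2,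 1, 3, 2, 1, 2, 1, 3, 2, 1, 2, 1, 3, 2, 1, 2, 1, 3, 2, 1, 2, 1, 3, 4, 2, 1, 2, 1, 3, 2, 1, 2, 1, 3, 2, 1, 2, 1, 3, 2, 1, 2, 1, 3, 2], [2, 1, 3, 4, 2, 1, 2, 1, 3, 2, 1, 2, 1, 3, 2, 1, 2, 1, 3, 2, 1, 2, 1, 3, 2, 1, 2, 1, 3, 4, 2, 1, 2, 1, 3, 2, 1, 2, 1, 3, 2, 1, 2, 1, 3, 2, 1, 2, 1, 3, 2, 1, 2, 1, 3, 4, 2, 1, 2, 1, 3, 2, 1, 2, 1, 3, 2, 1, 2, 1, 3, 2, 1, 2, 1, 3, 2, 1], [1, 3, 4, 2, 1, 2, 1, 3, 2, 1, 2, 1, 3, 2, 1, 2, 1, 3, 2, 1, 2, 1, 3, 2, 1, 2, 1, 3, 4, 2, 1, 2, 1, 3, 2, 1, 2, 1, 3, 2, 1, 2, 1, 3, 2, 1, 2, 1, 3, 2, 1, 2, 1, 3, 4, 2, 1, 2, 1, 3, 2, 1, 2, 1, 3, 2, 1, 2, 1, 3, 2, 1, 2, 1, 3, 2, 1, 2], [3, 4, 2, 1, 2, 1, 3, 2, 1, 2, 1, 3, 2, 1, 2, 1, 3, 2, 1, 2, 1, 3, 2,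 1, 2, 1, 3, 4, 2, 1, 2, 1, 3, 2, 1, 2, 1, 3, 2, 1, 2, 1, 3, 2, 1, 2, 1, 3, 2, 1, 2, 1, 3, 4, 2, 1, 2, 1, 3, 2, 1, 2, 1, 3, 2, 1, 2, 1, 3, 2, 1, 2, 1, 3, 2, 1, 2, 1]]]

def swords : List (List ℕ) := [[0], [1], [2], [3]]

def srcs : List (ℕ × ℕ × Bool) := [(0, 0, false), (1, 0, false), (1, 1, false), (2, 0, false), (2, 1, false), (3, 0, false), (3, 1, false), (4, 0, false), (4, 1, false), (7, 0, false), (8, 0, false), (8, 1, false), (9, 0, false), (9, 1, false), (10, 0, false), (10, 1, false), (14, 0, false), (15, 0, false), (15, 1, false), (16, 0, false), (16, 1, false), (21, 0, false), (22, 0, false), (22, 1, false), (28, 0, false), (36, 0, false), (36, 1, false), (36,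 2, false), (36, 3, false), (36, 4, false), (36, 5, false), (36, 6, false), (36, 7, false), (36, 8, false), (36, 0, true), (36, 1, true), (36, 2, true), (36, 3, true), (36, 4, true), (36, 5, true), (36, 6, true), (36, 7, true), (36, 8, true), (38, 0, false), (38, 1, false), (38, 2, false), (38, 3, false), (38, 4, false), (38, 5, false), (38, 6, false), (38, 7, false), (38, 8, false), (38, 9, false), (38, 10, false), (38, 11, false), (38, 12, false), (38, 13, false), (38, 14, false), (38, 15, false), (38, 16, false), (38, 17, false), (38, 18, false), (38, 19, false), (38, 20, false), (38, 21, false), (38, 22, false), (38, 23, false), (38, 24, false), (38, 25, false), (38,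 0, true), (38, 1, true), (38, 2, true), (38, 3, true), (38, 4, true), (38, 5, true), (38, 6, true), (38, 7, true), (38, 8, true), (38, 9, true), (38, 10, true), (38, 11, true), (38, 12, true), (38, 13, true), (38, 14, true), (38, 15, true), (38, 16, true), (38, 17, true), (38, 18, true), (38, 19, true), (38, 20, true), (38, 21, true), (38, 22, true), (38, 23, true), (38, 24, true), (38, 25, true)]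

def cert : TCert where
  k := 5
  M := 3341
  n := 280
  par := par
  lab := lab
  cb := cb
  link := link
  idx := link
  rep := rep
  rwords := rwords
  swords := swords
  nrw := 95
  nlog := 3061
  logw := logw
  logc := logc
  logb := logb
  lt1 := lt1

theorem rwords_src : rwords.flatten = srcs.map pres.srcWord := by decide +kernel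

theorem wok : wordsOK cert.toCert = true := by decide +kernel

theorem head_ok : headOK cert = true := by decide +kernel

end Cfsg.Agent.Lib.Helper98.G24TC5D
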