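import Mathlib
import Cfsg.Agent.Lib.Helper98.G24TC1
import Cfsg.Agent.Lib.Helper98.G24TC2
import Cfsg.Agent.Lib.Helper98.G24TC3
import Cfsg.Agent.Lib.Helper98.G24TC4
import Cfsg.Agent.Lib.Helper98.G24TC5
import Cfsg.Agent.Lib.Helper98.G24TC6
import Cfsg.Agent.Lib.Helper98.G24Model
import Cfsg.Agent.Lib.Helper98.CoxMain
import Cfsg.Agent.Lib.Helper98.CoxMain2
import Cfsg.Agent.Lib.Helper98.G24Kill
import Cfsg.Agent.Lib.Helper98.CoxIso

/-!
# The presented group `G24` is simple of order `251596800`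
-/

set_option autoImplicit false

namespace Cfsg.Agent.Lib.Helper98.G24Main

open Cfsg Cfsg.Spor MulAction
open Cfsg.Agent.Lib.Helper89 Cfsg.Agent.Lib.Helper89.TableChain2
open Cfsg.Agent.Lib.Helper98.CosetCert Cfsg.Agent.Lib.Helper98.CoxPres Cfsg.Agent.Lib.Helper98.CoxMain
open Cfsg.Agent.Lib.Helper98.PermChain Cfsg.Agent.Lib.Helper98.OrbitLower
open Cfsg.Agent.Lib.Helper98.PermCert Cfsg.Agent.Lib.Helper98.PermModel
open Cfsg.Agent.Lib.Helper98.G24Pres Cfsg.Agent.Lib.Helper98.G24Model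

/-! ### The upper bound -/

theorem b0 : Finite (Hk gP 0) ∧ Nat.card (Hk gP 0) ≤ 1 := by
  rw [Hk_zero]
  exact ⟨inferInstance, by simp⟩

theorem lvl1 (h0 : Finite (Hk gP 0)) :
    Finite (Hk gP 1) ∧ Nat.card (Hk gP 1) ≤ 2 * Nat.card (Hk gP 0) :=
  level_bound2 link wf G24TC1D.cert 0 G24TC1D.srcs (by decide) (by decide)
    G24TC1D.rwords_src (by decide) G24TC1D.wok G24TC1.log_ok G24TC1.names_ok
    G24TC1D.head_ok h0

theorem b1 : Finite (Hk gP 1) ∧ Nat.card (Hk gP 1) ≤ 2 := by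
  obtain ⟨h0, c0⟩ := b0
  obtain ⟨h, c⟩ := lvl1 h0
  exact ⟨h, le_trans c (Nat.mul_le_mul_left 2 c0)⟩

theorem lvl2 (h0 : Finite (Hk gP 1)) :
    Finite (Hk gP 2) ∧ Nat.card (Hk gP 2) ≤ 2 * Nat.card (Hk gP 1) :=
  level_bound2 link wf G24TC2D.cert 1 G24TC2D.srcs (by decide) (by decide)
    G24TC2D.rwords_src (by decide) G24TC2D.wok G24TC2.log_ok G24TC2.names_ok
    G24TC2D.head_ok h0

theorem b2 : Finite (Hk gP 2) ∧ Nat.card (Hk gP 2) ≤ 4 := by
  obtain ⟨h0, c0⟩ := b1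
  obtain ⟨h, c⟩ := lvl2 h0
  exact ⟨h, le_trans c (Nat.mul_le_mul_left 2 c0)⟩

theorem lvl3 (h0 : Finite (Hk gP 2)) :
    Finite (Hk gP 3) ∧ Nat.card (Hk gP 3) ≤ 4 * Nat.card (Hk gP 2) :=
  level_bound2 link wf G24TC3D.cert 2 G24TC3D.srcs (by decide) (by decide)
    G24TC3D.rwords_src (by decide) G24TC3D.wok G24TC3.log_ok G24TC3.names_ok
    G24TC3D.head_ok h0

theorem b3 : Finite (Hk gP 3) ∧ Nat.card (Hk gP 3) ≤ 16 := by
  obtain ⟨h0, c0⟩ := b2
  obtain ⟨h, c⟩ := lvl3 h0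
  exact ⟨h, le_trans c (Nat.mul_le_mul_left 4 c0)⟩

theorem lvl4 (h0 : Finite (Hk gP 3)) :
    Finite (Hk gP 4) ∧ Nat.card (Hk gP 4) ≤ 135 * Nat.card (Hk gP 3) :=
  level_bound2 link wf G24TC4D.cert 3 G24TC4D.srcs (by decide) (by decide)
    G24TC4D.rwords_src (by decide) G24TC4D.wok G24TC4.log_ok G24TC4.names_ok
    G24TC4D.head_ok h0

theorem b4 : Finite (Hk gP 4) ∧ Nat.card (Hk gP 4) ≤ 2160 := by
  obtain ⟨h0, c0⟩ := b3
  obtain ⟨h, c⟩ := lvl4 h0
  exact ⟨h, le_trans c (Nat.mul_le_mul_left 135 c0)⟩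

theorem lvl5 (h0 : Finite (Hk gP 4)) :
    Finite (Hk gP 5) ∧ Nat.card (Hk gP 5) ≤ 280 * Nat.card (Hk gP 4) :=
  level_bound2 link wf G24TC5D.cert 4 G24TC5D.srcs (by decide) (by decide)
    G24TC5D.rwords_src (by decide) G24TC5D.wok G24TC5.log_ok G24TC5.names_ok
    G24TC5D.head_ok h0

theorem b5 : Finite (Hk gP 5) ∧ Nat.card (Hk gP 5) ≤ 604800 := by
  obtain ⟨h0, c0⟩ := b4
  obtain ⟨h, c⟩ := lvl5 h0
  exact ⟨h, le_trans c (Nat.mul_le_mul_left 280 c0)⟩

theorem lvl6 (h0 : Finite (Hk gP 5)) :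
    Finite (Hk gP 6) ∧ Nat.card (Hk gP 6) ≤ 416 * Nat.card (Hk gP 5) :=
  level_bound2 link wf G24TC6D.cert 5 G24TC6D.srcs (by decide) (by decide)
    G24TC6D.rwords_src (by decide) G24TC6D.wok G24TC6.log_ok G24TC6.names_ok
    G24TC6D.head_ok h0

theorem b6 : Finite (Hk gP 6) ∧ Nat.card (Hk gP 6) ≤ 251596800 := by
  obtain ⟨h0, c0⟩ := b5
  obtain ⟨h, c⟩ := lvl6 h0
  exact ⟨h, le_trans c (Nat.mul_le_mul_left 416 c0)⟩

theorem finite_X : Finite Cfsg.Agent.Lib.Helper98.G24Def.G24 := finite_of_top link b6.1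

theorem card_X_le : Nat.card Cfsg.Agent.Lib.Helper98.G24Def.G24 ≤ 251596800 := card_le_of_top link b6.2

/-! ### The model -/

theorem htab : TabOK 416 6 tab tab := tabOK_of_invOK tab_ok

/-- the chain data of the model -/
noncomputable abbrev D : Data (Equiv.Perm (Fin 416)) (Fin 416) := data htab

theorem base_genM : ∀ w ∈ pres.baseWords, (w.map D.gen).prod = 1 := by
  intro w hw
  have hlt := Pres.baseWords_lt wf w hw
  rw [relWords_eq] at hw
  exact ev_eq_one_of_fixUpTo htab hlt (rel_all w hw)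

theorem rel_genM : pres.Rel D.gen := Pres.rel_of_base wf base_genM

theorem card_KS_ge : 251596800 ≤ Nat.card (KS D SG 10) := by
  have h4 : 3 * Nat.card (KS D SG 0) ≤ Nat.card (KS D SG 1) :=
    level htab SG sg_lt 1 0 13 3 (by decide) (by decide) orb4 cnt4 fix4
  have h3 : 20 * Nat.card (KS D SG 1) ≤ Nat.card (KS D SG 3) :=
    level htab SG sg_lt 3 1 7 20 (by decide) (by decide) orb3 cnt3 fix3
  have h2 : 32 * Nat.card (KS D SG 3) ≤ Nat.card (KS D SG 4) :=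
    level htab SG sg_lt 4 3 4 32 (by decide) (by decide) orb2 cnt2 fix2
  have h1 : 315 * Nat.card (KS D SG 4) ≤ Nat.card (KS D SG 9) :=
    level htab SG sg_lt 9 4 2 315 (by decide) (by decide) orb1 cnt1 fix1
  have h0 : 416 * Nat.card (KS D SG 9) ≤ Nat.card (KS D SG 10) :=
    level htab SG sg_lt 10 9 0 416 (by decide) (by decide) orb0 cnt0 fix0
  have hz : Nat.card (KS D SG 0) = 1 := by
    rw [KS_zero]; simp
  rw [hz] at h4
  omega

theorem card_M_ge : 251596800 ≤ Nat.card (D.H 6) :=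
  le_trans card_KS_ge (Subgroup.card_le_of_le (KS_le_M htab SG sg_lt 10))

instance pretransM : IsPretransitive (D.H 6) (Fin 416) :=
  pretrans htab SG sg_lt 10 orb0 lab0_ok

instance primM : IsPreprimitive (D.H 6) (Fin 416) :=
  prim_rank_three htab SG sg_lt 9 (by decide) orb1 fix0 2 38 315 100
    cover1 cnt1 cnt1b (by rw [lab1_zero]; decide) (by decide) (by decide)

theorem ev_y_pow : D.ev yw ^ 13 = 1 :=
  ev_pow_eq_one_of_table htab (by decide) yT 13 y_pow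

theorem ev_ay_pow : D.ev (0 :: yw) ^ 13 = 1 :=
  ev_pow_eq_one_of_table htab (by decide) ayT 13 ay_pow

/-- the presented group is simple of the expected order -/
theorem main : IsSimpleGroup Cfsg.Agent.Lib.Helper98.G24Def.G24 ∧ Nat.card Cfsg.Agent.Lib.Helper98.G24Def.G24 = 251596800 :=
  CoxMain2.simple_and_card2 (hprim := primM) link wf D rfl rel_genM 251596800 604800 13 (by norm_num) (by norm_num)
    finite_X card_X_le card_M_ge (by norm_num) yw (by decide) (by decide) ev_y_pow ev_ay_pow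
    (fun g h h0 => G24Kill.kill g h h0)

end Cfsg.Agent.Lib.Helper98.G24Main
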