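import Mathlib
import Cfsg.Prelude.Def_ChevG2
import Cfsg.Prelude.Def_ChevWords
import Cfsg.Agent.Lib.Helper28.Sp44F4
import Cfsg.Agent.Lib.Helper98.G24Model

/-!
# Six involutions of the Chevalley group `G₂(4)`, as words in root elements

They satisfy the relations of the presentation `G24Pres.pres`.
-/

set_option autoImplicit false
set_option maxRecDepth 100000

namespace Cfsg.Agent.Lib.Helper98.G24Mat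

open Matrix Cfsg.Lie Cfsg.Agent.Lib.Helper98.CoxPres
open Cfsg.Agent.Lib.Helper98.G24Pres

/-- the field with four elements -/
abbrev K := Cfsg.Agent.Lib.Helper28.Sp44F4.F4

/-- the index set of the adjoint representation -/
abbrev I14 := Fin 2 ⊕ Fin 12

/-- the matrices -/
abbrev M14 := Matrix I14 I14 K

/-- the numbering of the coordinates -/
def e14 : I14 ≃ Fin (2 + 12) := finSumFinEquiv

/-- the rows of a matrix -/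
def rowsOf (A : M14) : List (List K) :=
  List.ofFn fun i : Fin (2 + 12) => List.ofFn fun j : Fin (2 + 12) => A (e14.symm i) (e14.symm j)

/-- a row times a matrix given by its rows -/
def mulRow (row : List K) (S : List (List K)) : List K :=
  (List.range 14).map fun j => (List.zipWith (fun x r => x * r.getD j 0) row S).sum

/-- the product of two matrices given by their rows -/
def mulL (R S : List (List K)) : List (List K) := R.map fun row => mulRow row S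

theorem rowsOf_mul (A B : M14) : rowsOf (A * B) = mulL (rowsOf A) (rowsOf B) := by
  unfold rowsOf mulL mulRow
  rw [List.map_ofFn]
  congr 1

/-- the identity matrix -/
def idL : List (List K) :=
  (List.range 14).map fun i => (List.range 14).map fun j => if i = j then (1 : K) else 0

theorem rowsOf_one : rowsOf (1 : M14) = idL := by decide

theorem rowsOf_injective : Function.Injective rowsOf := by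
  intro A B h
  have h1 := List.ofFn_injective h
  ext a b
  have h2 := List.ofFn_injective (congrFun h1 (e14 a))
  have h3 := congrFun h2 (e14 b)
  simpa using h3

/-- the root elements used: pairs of a root index and a field element -/
def rt : ℕ → ℕ × K
  | 0 => (5, .i)
  | 1 => (11, .i)
  | 2 => (4, .i)
  | 3 => (7, .i)
  | 4 => (5, .w)
  | 5 => (6, .w)
  | _ => (6, .i)

/-- the matrices of the root elements, with the entries coded by `0, 1, 2, 3` -/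
def tabs : List (List (List ℕ)) := [
  [[1, 0, 0, 0, 0, 0, 0, 0, 0, 0, 0, 0, 0, 0], [0, 1, 0, 0, 0, 0, 0, 0, 1, 0, 0, 0, 0, 0], [0, 0, 1, 1, 0, 0, 0, 0, 0, 0, 0, 0, 0, 0], [0, 0, 0, 1, 0, 0, 0, 0, 0, 0, 0, 0, 0, 0], [0, 0, 0, 0, 1, 0, 0, 0, 0, 0, 0, 0, 0, 0], [0, 0, 0, 0, 0, 1, 1, 0, 0, 0, 0, 0, 0, 0], [0, 0, 0, 0, 0, 0, 1, 0, 0, 0, 0, 0, 0, 0], [1, 0, 0, 0, 0, 0, 0, 1, 1, 0, 0, 0, 0, 0], [0, 0, 0, 0, 0, 0, 0, 0, 1, 0, 0, 0, 0, 0], [0, 0, 0, 0, 0, 0, 0, 0, 0, 1, 1, 0, 0, 0], [0, 0, 0, 0, 0, 0, 0, 0, 0, 0, 1, 0, 0, 0], [0, 0, 0, 0, 0, 0, 0, 0, 0, 0, 0, 1, 0, 0], [0, 0, 0, 0, 0, 0, 0, 0, 0, 0, 0, 0, 1, 1], [0, 0, 0, 0, 0, 0, 0, 0, 0, 0, 0, 0, 0, 1]],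
  [[1, 0, 1, 0, 0, 0, 0, 0, 0, 0, 0, 0, 0, 0], [0, 1, 0, 0, 0, 0, 0, 0, 0, 0, 0, 0, 0, 0], [0, 0, 1, 0, 0, 0, 0, 0, 0, 0, 0, 0, 0, 0], [0, 0, 0, 1, 0, 0, 0, 0, 0, 0, 0, 0, 0, 0], [0, 0, 0, 0, 1, 0, 0, 0, 0, 0, 0, 0, 0, 0], [0, 0, 0, 0, 0, 1, 0, 0, 0, 0, 0, 0, 0, 0], [0, 0, 0, 0, 0, 0, 1, 0, 0, 0, 0, 0, 0, 0], [0, 0, 0, 0, 0, 0, 0, 1, 0, 0, 0, 0, 0, 0], [0, 0, 0, 1, 0, 0, 0, 0, 1, 0, 0, 0, 0, 0], [0, 0, 0, 0, 0, 0, 0, 0, 0, 1, 0, 0, 0, 0], [0, 0, 0, 0, 1, 0, 0, 0, 0, 0, 1, 0, 0, 0], [0, 0, 0, 0, 0, 1, 0, 0, 0, 0, 0, 1, 0, 0], [0, 0, 0, 0, 0, 0, 0, 1, 0, 0, 0, 0, 1, 0], [0, 1, 1, 0, 0, 0, 0, 0, 0, 0, 0, 0, 0, 1]],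
  [[1, 0, 0, 0, 0, 0, 0, 0, 0, 1, 0, 0, 0, 0], [0, 1, 0, 0, 0, 0, 0, 0, 0, 0, 0, 0, 0, 0], [0, 0, 1, 0, 0, 0, 0, 0, 0, 0, 0, 0, 0, 0], [0, 0, 0, 1, 1, 1, 0, 1, 0, 0, 0, 0, 0, 0], [0, 0, 0, 0, 1, 0, 0, 1, 0, 0, 0, 0, 0, 0], [0, 0, 0, 0, 0, 1, 0, 1, 0, 0, 0, 0, 0, 0], [0, 1, 0, 0, 0, 0, 1, 0, 0, 1, 0, 0, 0, 0], [0, 0, 0, 0, 0, 0, 0, 1, 0, 0, 0, 0, 0, 0], [0, 0, 0, 0, 0, 0, 0, 0, 1, 0, 1, 1, 1, 0], [0, 0, 0, 0, 0, 0, 0, 0, 0, 1, 0, 0, 0, 0], [0, 0, 0, 0, 0, 0, 0, 0, 0, 0, 1, 0, 1, 0], [0, 0, 0, 0, 0, 0, 0, 0, 0, 0, 0, 1, 1, 0], [0, 0, 0, 0, 0, 0, 0, 0, 0, 0, 0, 0, 1, 0], [0, 0, 0, 0, 0, 0, 0, 0, 0, 0, 0, 0, 0, 1]],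
  [[1, 0, 0, 0, 0, 0, 1, 0, 0, 0, 0, 0, 0, 0], [0, 1, 0, 0, 0, 0, 0, 0, 0, 0, 0, 0, 0, 0], [0, 0, 1, 0, 0, 0, 0, 0, 0, 0, 0, 0, 0, 0], [0, 0, 0, 1, 0, 0, 0, 0, 0, 0, 0, 0, 0, 0], [0, 0, 0, 1, 1, 0, 0, 0, 0, 0, 0, 0, 0, 0], [0, 0, 0, 1, 0, 1, 0, 0, 0, 0, 0, 0, 0, 0], [0, 0, 0, 0, 0, 0, 1, 0, 0, 0, 0, 0, 0, 0], [0, 0, 0, 1, 1, 1, 0, 1, 0, 0, 0, 0, 0, 0], [0, 0, 0, 0, 0, 0, 0, 0, 1, 0, 0, 0, 0, 0], [0, 1, 0, 0, 0, 0, 1, 0, 0, 1, 0, 0, 0, 0], [0, 0, 0, 0, 0, 0, 0, 0, 1, 0, 1, 0, 0, 0], [0, 0, 0, 0, 0, 0, 0, 0, 1, 0, 0, 1, 0, 0], [0, 0, 0, 0, 0, 0, 0, 0, 1, 0, 1, 1, 1, 0], [0, 0, 0, 0, 0, 0, 0, 0, 0, 0, 0, 0, 0, 1]],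
  [[1, 0, 0, 0, 0, 0, 0, 0, 0, 0, 0, 0, 0, 0], [0, 1, 0, 0, 0, 0, 0, 0, 2, 0, 0, 0, 0, 0], [0, 0, 1, 2, 0, 0, 0, 0, 0, 0, 0, 0, 0, 0], [0, 0, 0, 1, 0, 0, 0, 0, 0, 0, 0, 0, 0, 0], [0, 0, 0, 0, 1, 0, 0, 0, 0, 0, 0, 0, 0, 0], [0, 0, 0, 0, 0, 1, 2, 0, 0, 0, 0, 0, 0, 0], [0, 0, 0, 0, 0, 0, 1, 0, 0, 0, 0, 0, 0, 0], [2, 0, 0, 0, 0, 0, 0, 1, 3, 0, 0, 0, 0, 0], [0, 0, 0, 0, 0, 0, 0, 0, 1, 0, 0, 0, 0, 0], [0, 0, 0, 0, 0, 0, 0, 0, 0, 1, 2, 0, 0, 0], [0, 0, 0, 0, 0, 0, 0, 0, 0, 0, 1, 0, 0, 0], [0, 0, 0, 0, 0, 0, 0, 0, 0, 0, 0, 1, 0, 0], [0, 0, 0, 0, 0, 0, 0, 0, 0, 0, 0, 0, 1, 2], [0, 0, 0, 0, 0, 0, 0, 0, 0, 0, 0, 0, 0, 1]],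
  [[1, 0, 0, 0, 0, 0, 0, 0, 0, 0, 0, 0, 0, 0], [0, 1, 0, 0, 0, 0, 0, 2, 0, 0, 0, 0, 0, 0], [0, 0, 1, 0, 0, 0, 0, 0, 0, 0, 0, 0, 0, 0], [0, 0, 2, 1, 0, 0, 0, 0, 0, 0, 0, 0, 0, 0], [0, 0, 0, 0, 1, 0, 0, 0, 0, 0, 0, 0, 0, 0], [0, 0, 0, 0, 0, 1, 0, 0, 0, 0, 0, 0, 0, 0], [0, 0, 0, 0, 0, 2, 1, 0, 0, 0, 0, 0, 0, 0], [0, 0, 0, 0, 0, 0, 0, 1, 0, 0, 0, 0, 0, 0], [2, 0, 0, 0, 0, 0, 0, 3, 1, 0, 0, 0, 0, 0], [0, 0, 0, 0, 0, 0, 0, 0, 0, 1, 0, 0, 0, 0], [0, 0, 0, 0, 0, 0, 0, 0, 0, 2, 1, 0, 0, 0], [0, 0, 0, 0, 0, 0, 0, 0, 0, 0, 0, 1, 0, 0], [0, 0, 0, 0, 0, 0, 0, 0, 0, 0, 0, 0, 1, 0], [0, 0, 0, 0, 0, 0, 0, 0, 0, 0, 0, 0, 2, 1]],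
  [[1, 0, 0, 0, 0, 0, 0, 0, 0, 0, 0, 0, 0, 0], [0, 1, 0, 0, 0, 0, 0, 1, 0, 0, 0, 0, 0, 0], [0, 0, 1, 0, 0, 0, 0, 0, 0, 0, 0, 0, 0, 0], [0, 0, 1, 1, 0, 0, 0, 0, 0, 0, 0, 0, 0, 0], [0, 0, 0, 0, 1, 0, 0, 0, 0, 0, 0, 0, 0, 0], [0, 0, 0, 0, 0, 1, 0, 0, 0, 0, 0, 0, 0, 0], [0, 0, 0, 0, 0, 1, 1, 0, 0, 0, 0, 0, 0, 0], [0, 0, 0, 0, 0, 0, 0, 1, 0, 0, 0, 0, 0, 0], [1, 0, 0, 0, 0, 0, 0, 1, 1, 0, 0, 0, 0, 0], [0, 0, 0, 0, 0, 0, 0, 0, 0, 1, 0, 0, 0, 0], [0, 0, 0, 0, 0, 0, 0, 0, 0, 1, 1, 0, 0, 0], [0, 0, 0, 0, 0, 0, 0, 0, 0, 0, 0, 1, 0, 0], [0, 0, 0, 0, 0, 0, 0, 0, 0, 0, 0, 0, 1, 0], [0, 0, 0, 0, 0, 0, 0, 0, 0, 0, 0, 0, 1, 1]]]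

/-- the words in root elements of the generators `a, c, d, b, e, f` -/
def gw : ℕ → List ℕ
  | 0 => [0, 1, 0]
  | 1 => [1]
  | 2 => [0, 2, 3, 2, 0]
  | 3 => [4, 2, 0, 2, 4, 0, 1, 0, 4, 2, 0, 2, 4]
  | 4 => [0, 3, 5, 3, 5, 3, 0]
  | _ => [4, 6, 4, 1, 4, 6, 4]

/-- the matrices of the generators, with the entries coded by `0, 1, 2, 3` -/
def gtabs : List (List (List ℕ)) := [
  [[1, 0, 1, 1, 0, 0, 0, 0, 0, 0, 0, 0, 0, 0], [0, 1, 0, 1, 0, 0, 0, 0, 0, 0, 0, 0, 0, 0], [0, 0, 1, 0, 0, 0, 0, 0, 0, 0, 0, 0, 0, 0], [0, 0, 0, 1, 0, 0, 0, 0, 0, 0, 0, 0, 0, 0], [0, 0, 0, 0, 1, 0, 0, 0, 0, 0, 0, 0, 0, 0], [0, 0, 0, 0, 0, 1, 0, 0, 0, 0, 0, 0, 0, 0], [0, 0, 0, 0, 0, 0, 1, 0, 0, 0, 0, 0, 0, 0], [0, 0, 1, 0, 0, 0, 0, 1, 0, 0, 0, 0, 0, 0], [0, 0, 0, 1, 0, 0, 0, 0, 1, 0, 0, 0, 0, 0], [0, 0, 0, 0, 1, 0, 0,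 0, 0, 1, 0, 0, 0, 0], [0, 0, 0, 0, 1, 0, 0, 0, 0, 0, 1, 0, 0, 0], [0, 0, 0, 0, 0, 1, 1, 0, 0, 0, 0, 1, 0, 0], [1, 1, 1, 1, 0, 0, 0, 1, 0, 0, 0, 0, 1, 0], [0, 1, 1, 1, 0, 0, 0, 0, 1, 0, 0, 0, 0, 1]],
  [[1, 0, 1, 0, 0, 0, 0, 0, 0, 0, 0, 0, 0, 0], [0, 1, 0, 0, 0, 0, 0, 0, 0, 0, 0, 0, 0, 0], [0, 0, 1, 0, 0, 0, 0, 0, 0, 0, 0, 0, 0, 0], [0, 0, 0, 1, 0, 0, 0, 0, 0, 0, 0, 0, 0, 0], [0, 0, 0, 0, 1, 0, 0, 0, 0, 0, 0, 0, 0, 0], [0, 0, 0, 0, 0, 1, 0, 0, 0, 0, 0, 0, 0, 0], [0, 0, 0, 0, 0, 0, 1, 0, 0, 0, 0, 0, 0, 0], [0, 0, 0, 0, 0, 0, 0, 1, 0, 0, 0, 0, 0, 0], [0, 0, 0, 1, 0, 0, 0, 0, 1, 0, 0, 0, 0, 0], [0, 0, 0, 0, 0, 0, 0, 0, 0, 1, 0, 0, 0, 0], [0, 0, 0, 0, 1, 0, 0, 0, 0, 0, 1, 0, 0, 0], [0, 0, 0, 0, 0, 1, 0, 0, 0, 0, 0, 1, 0, 0], [0, 0, 0, 0, 0, 0, 0, 1, 0, 0, 0, 0, 1, 0], [0, 1, 1, 0, 0, 0, 0,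 0, 0, 0, 0, 0, 0, 1]],
  [[1, 1, 0, 0, 0, 0, 0, 0, 1, 0, 0, 0, 0, 0], [0, 1, 0, 0, 0, 0, 0, 0, 1, 0, 0, 0, 1, 1], [1, 0, 1, 1, 0, 0, 0, 1, 1, 0, 0, 0, 0, 0], [1, 0, 0, 0, 0, 0, 0, 1, 1, 0, 0, 0, 0, 0], [0, 0, 0, 0, 0, 1, 1, 0, 0, 0, 0, 0, 0, 0], [0, 0, 0, 0, 1, 0, 0, 0, 0, 1, 1, 0, 0, 0], [0, 0, 0, 0, 0, 0, 0, 0, 0, 1, 1, 0, 0, 0], [1, 1, 0, 1, 0, 0, 0, 0, 1, 0, 0, 0, 1, 1], [0, 0, 0, 0, 0, 0, 0, 0, 0, 0, 0, 0, 1, 1], [0, 0, 0, 0, 0, 0, 1, 0, 0, 0, 0, 1, 0, 0], [0, 0, 0, 0, 0, 0, 0, 0, 0, 0, 0, 1, 0, 0], [0, 0, 0, 0, 0, 0, 0, 0, 0, 0, 1, 0, 0, 0], [0, 0, 0, 0, 0, 0, 0, 0, 1, 0, 0, 0, 0, 1], [0, 0, 0, 0, 0, 0, 0, 0, 0, 0, 0, 0, 0, 1]],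
  [[2, 2, 2, 0, 3, 2, 2, 3, 3, 0, 1, 2, 1, 2], [1, 2, 1, 0, 0, 0, 1, 0, 0, 0, 0, 0, 0, 1], [1, 2, 1, 1, 2, 2, 1, 2, 1, 0, 3, 3, 3, 1], [0, 1, 2, 3, 3, 3, 0, 3, 2, 0, 2, 2, 2, 3], [0, 2, 2, 1, 1, 3, 3, 3, 3, 3, 3, 2, 2, 3], [0, 1, 2, 0, 3, 0, 2, 3, 3, 0, 2, 3, 2, 3], [0, 0, 0, 1, 0, 1, 0, 0, 3, 0, 0, 3, 0, 0], [0, 3, 1, 0, 1, 0, 1, 3, 1, 3, 3, 3, 2, 1], [0, 3, 1, 1, 1, 1, 0, 1, 3, 0, 3, 3, 3, 2], [1, 2, 1, 0, 1, 1, 1, 0, 1, 0, 2, 3, 0, 1], [0, 2, 1, 0, 0, 1, 1, 1, 0, 1, 0, 3, 3, 2], [0, 3, 1, 0, 1, 0, 1, 1, 1, 0, 3, 1, 3, 2], [0, 0, 0, 0, 0, 0, 0, 1, 0, 1, 0, 1, 3, 1], [1, 2, 1, 0, 1, 1, 1, 1, 1, 0, 2, 2, 2, 1]],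
  [[1, 0, 3, 3, 0, 2, 3, 0, 0, 0, 0, 0, 0, 0], [0, 1, 2, 0, 1, 2, 0, 0, 0, 0, 0, 0, 0, 0], [0, 0, 1, 0, 0, 0, 0, 0, 0, 0, 0, 0, 0, 0], [0, 0, 0, 1, 0, 0, 0, 0, 0, 0, 0, 0, 0, 0], [0, 0, 2, 3, 1, 0, 0, 0, 0, 0, 0, 0, 0, 0], [0, 0, 1, 2, 0, 1, 0, 0, 0, 0, 0, 0, 0, 0], [0, 0, 3, 1, 0, 0, 1, 0, 0, 0, 0, 0, 0, 0], [0, 0, 0, 1, 2, 3, 0, 1, 0, 0, 0, 0, 0, 0], [0, 0, 1, 1, 3, 0, 2, 0, 1, 0, 0, 0, 0, 0], [0, 3, 1, 2, 3, 1, 2, 2, 0, 1, 0, 0, 0, 0], [2, 2, 1, 2, 3, 3, 1, 0, 3, 0, 1, 0, 0, 0], [1, 0, 1, 2, 0, 3, 3, 3, 2, 0, 0, 1, 0, 0], [0, 3, 1, 3, 2, 2, 2, 1, 1, 1, 2, 3, 1, 0], [2, 3, 0, 1, 1, 1, 1, 1, 0, 3, 1, 2, 0, 1]],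
  [[1, 0, 3, 3, 0, 0, 0, 0, 0, 0, 0, 0, 0, 0], [0, 1, 0, 3, 0, 0, 0, 0, 0, 0, 0, 0, 0, 0], [0, 0, 1, 0, 0, 0, 0, 0, 0, 0, 0, 0, 0, 0], [0, 0, 0, 1, 0, 0, 0, 0, 0, 0, 0, 0, 0, 0], [0, 0, 0, 0, 1, 0, 0, 0, 0, 0, 0, 0, 0, 0], [0, 0, 0, 0, 0, 1, 0, 0, 0, 0, 0, 0, 0, 0], [0, 0, 0, 0, 0, 0, 1, 0, 0, 0, 0, 0, 0, 0], [0, 0, 3, 0, 0, 0, 0, 1, 0, 0, 0, 0, 0, 0], [0, 0, 0, 3, 0, 0, 0, 0, 1, 0, 0, 0, 0, 0], [0, 0, 0, 0, 3, 0, 0, 0, 0, 1, 0, 0, 0, 0], [0, 0, 0, 0, 3, 0, 0, 0, 0, 0, 1, 0, 0, 0], [0, 0, 0, 0, 0, 3, 3, 0, 0, 0, 0, 1, 0, 0], [3, 3, 2, 2, 0, 0, 0, 3, 0, 0, 0, 0, 1, 0], [0, 3, 2, 2, 0, 0, 0, 0, 3, 0, 0, 0, 0, 1]]]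
/-- the field element with a given code -/
def cd : ℕ → K
  | 0 => .o
  | 1 => .i
  | 2 => .w
  | _ => .v

/-- the rows of the matrix of a root element -/
def tabK (k : ℕ) : List (List K) := (tabs.getD k []).map fun r => r.map cd

/-- the rows of the matrix of a generator -/
def GT (j : ℕ) : List (List K) := (gtabs.getD j []).map fun r => r.map cd

/-- the matrix of a root element -/
def Xk (k : ℕ) : M14 := chevG2.x K (rt k).1 (rt k).2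

theorem x_tab : ∀ k < 7, rowsOf (Xk k) = tabK k := by decide +kernel

/-- the product of the matrices of a word in the root elements -/
def prodX (l : List ℕ) : List (List K) := l.foldr (fun k acc => mulL (tabK k) acc) idL

/-- the product of the matrices of a word in the generators -/
def prodGT (l : List ℕ) : List (List K) := l.foldr (fun j acc => mulL (GT j) acc) idL

theorem rowsOf_prodX (l : List ℕ) (hl : ∀ k ∈ l, k < 7) : rowsOf ((l.map Xk).prod) = prodX l := by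
  induction l with
  | nil => exact rowsOf_one
  | cons k t ih =>
    have hk : k < 7 := hl k (List.mem_cons_self)
    have ht : ∀ i ∈ t, i < 7 := fun i hi => hl i (List.mem_cons_of_mem _ hi)
    rw [List.map_cons, List.prod_cons, rowsOf_mul, ih ht, x_tab k hk]
    rfl

theorem gw_lt : ∀ j < 6, ∀ k ∈ gw j, k < 7 := by decide

theorem gt_ok : ∀ j < 6, prodX (gw j) = GT j := by decide +kernel

/-- the matrix of a generator -/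
def Mg (j : ℕ) : M14 := ((gw j).map Xk).prod

theorem rows_Mg (j : ℕ) (hj : j < 6) : rowsOf (Mg j) = GT j := by
  rw [Mg, rowsOf_prodX (gw j) (gw_lt j hj), gt_ok j hj]

/-- powers of a matrix given by its rows -/
def powL (P : List (List K)) : ℕ → List (List K)
  | 0 => idL
  | m + 1 => mulL (powL P m) P

theorem rowsOf_pow (A : M14) (m : ℕ) : rowsOf (A ^ m) = powL (rowsOf A) m := by
  induction m with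
  | zero => rw [pow_zero]; exact rowsOf_one
  | succ m ih => rw [pow_succ, rowsOf_mul, ih]; rfl

/-! ### the relations, for the matrices given by their rows -/

theorem cox_ok0 : ∀ y < 6, powL (mulL (GT 0) (GT y)) (pres.lab 0 y) = idL := by decide +kernel
theorem cox_ok1 : ∀ y < 6, powL (mulL (GT 1) (GT y)) (pres.lab 1 y) = idL := by decide +kernel
theorem cox_ok2 : ∀ y < 6, powL (mulL (GT 2) (GT y)) (pres.lab 2 y) = idL := by decide +kernel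
theorem cox_ok3 : ∀ y < 6, powL (mulL (GT 3) (GT y)) (pres.lab 3 y) = idL := by decide +kernel
theorem cox_ok4 : ∀ y < 6, powL (mulL (GT 4) (GT y)) (pres.lab 4 y) = idL := by decide +kernel
theorem cox_ok5 : ∀ y < 6, powL (mulL (GT 5) (GT y)) (pres.lab 5 y) = idL := by decide +kernel

theorem cox_ok (x : ℕ) (hx : x < 6) (y : ℕ) (hy : y < 6) :
    powL (mulL (GT x) (GT y)) (pres.lab x y) = idL := by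
  interval_cases x
  · exact cox_ok0 y hy
  · exact cox_ok1 y hy
  · exact cox_ok2 y hy
  · exact cox_ok3 y hy
  · exact cox_ok4 y hy
  · exact cox_ok5 y hy

theorem e1_ok : powL (mulL (GT 1) (GT 2)) 4 = GT 0 := by decide +kernel

theorem e2_ok : powL (mulL (mulL (mulL (GT 0) (GT 3)) (GT 1)) (GT 5)) 5 = idL := by decide +kernel

theorem e3_ok : powL (mulL (powL (mulL (mulL (mulL (mulL (GT 3) (GT 1)) (GT 2)) (GT 1)) (GT 2)) 5)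
    (GT 4)) 3 = idL := by decide +kernel

theorem sq_ok : ∀ k < 7, mulL (tabK k) (tabK k) = idL := by decide +kernel

theorem gt1_ne : GT 1 ≠ idL := by decide +kernel

/-! ### the root elements in the general linear group -/

theorem Xk_sq (k : ℕ) (hk : k < 7) : Xk k * Xk k = 1 := by
  apply rowsOf_injective
  rw [rowsOf_mul, x_tab k hk, sq_ok k hk, rowsOf_one]

/-- the root elements as units -/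
def xU (k : ℕ) : GL I14 K :=
  if hk : k < 7 then ⟨Xk k, Xk k, Xk_sq k hk, Xk_sq k hk⟩ else 1

theorem xU_coe (k : ℕ) (hk : k < 7) : ((xU k : GL I14 K) : M14) = Xk k := by
  rw [xU, dif_pos hk]

theorem rt_lt : ∀ k < 7, (rt k).1 < 12 := by decide

theorem xU_mem (k : ℕ) : xU k ∈ chevG2.group K := by
  by_cases hk : k < 7
  · apply Subgroup.subset_closure
    refine ⟨⟨(rt k).1, rt_lt k hk⟩, (rt k).2, ?_⟩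
    rw [xU_coe k hk, Xk, ChevalleyDatum.x]
    exact dif_pos (rt_lt k hk)
  · rw [xU, dif_neg hk]
    exact one_mem _

/-- the generators as units -/
def genU (j : ℕ) : GL I14 K := ((gw j).map xU).prod

theorem genU_mem (j : ℕ) : genU j ∈ chevG2.group K := by
  apply Subgroup.list_prod_mem
  intro g hg
  obtain ⟨k, _, rfl⟩ := List.mem_map.1 hg
  exact xU_mem k

theorem coe_list_prod (l : List (GL I14 K)) :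
    ((l.prod : GL I14 K) : M14) = (l.map Units.val).prod := by
  induction l with
  | nil => rfl
  | cons g t ih => rw [List.prod_cons, Units.val_mul, ih, List.map_cons, List.prod_cons]

theorem genU_coe (j : ℕ) (hj : j < 6) : ((genU j : GL I14 K) : M14) = Mg j := by
  rw [genU, coe_list_prod, Mg, List.map_map]
  congr 1
  apply List.map_congr_left
  intro k hk
  exact xU_coe k (gw_lt j hj k hk)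

/-- the rows of a unit -/
def rowsU (u : GL I14 K) : List (List K) := rowsOf (u : M14)

theorem rowsU_injective : Function.Injective rowsU := by
  intro u v h
  exact Units.ext (rowsOf_injective h)

theorem rowsU_mul (u v : GL I14 K) : rowsU (u * v) = mulL (rowsU u) (rowsU v) := by
  rw [rowsU, Units.val_mul, rowsOf_mul]
  rfl

theorem rowsU_pow (u : GL I14 K) (m : ℕ) : rowsU (u ^ m) = powL (rowsU u) m := by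
  rw [rowsU, Units.val_pow_eq_pow_val, rowsOf_pow]
  rfl

theorem rowsU_one : rowsU 1 = idL := rowsOf_one

theorem rowsU_genU (j : ℕ) (hj : j < 6) : rowsU (genU j) = GT j := by
  rw [rowsU, genU_coe j hj, rows_Mg j hj]

theorem rel_genU : pres.Rel genU := by
  refine ⟨?_, ?_⟩
  · intro x hx y hy
    apply rowsU_injective
    rw [rowsU_pow, rowsU_mul, rowsU_genU x hx, rowsU_genU y hy, rowsU_one]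
    exact cox_ok x hx y hy
  · intro e he
    have he' : e = (.mul (.gen 0) (.inv (.pow (.mul (.gen 1) (.gen 2)) 4))) ∨
        e = (.pow (.mul (.mul (.mul (.gen 0) (.gen 3)) (.gen 1)) (.gen 5)) 5) ∨
        e = (.pow (.mul (.pow (.mul (.mul (.mul (.mul (.gen 3) (.gen 1)) (.gen 2)) (.gen 1)) (.gen 2)) 5) (.gen 4)) 3) := by
      simpa [pres] using he
    rcases he' with rfl | rfl | rfl
    · show genU 0 * ((genU 1 * genU 2) ^ 4)⁻¹ = 1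
      rw [mul_inv_eq_one]
      apply rowsU_injective
      rw [rowsU_pow, rowsU_mul, rowsU_genU 0 (by decide), rowsU_genU 1 (by decide),
        rowsU_genU 2 (by decide)]
      exact e1_ok.symm
    · show (genU 0 * genU 3 * genU 1 * genU 5) ^ 5 = 1
      apply rowsU_injective
      rw [rowsU_pow, rowsU_mul, rowsU_mul, rowsU_mul, rowsU_genU 0 (by decide),
        rowsU_genU 3 (by decide), rowsU_genU 1 (by decide), rowsU_genU 5 (by decide), rowsU_one]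
      exact e2_ok
    · show ((genU 3 * genU 1 * genU 2 * genU 1 * genU 2) ^ 5 * genU 4) ^ 3 = 1
      apply rowsU_injective
      rw [rowsU_pow, rowsU_mul, rowsU_pow, rowsU_mul, rowsU_mul, rowsU_mul, rowsU_mul,
        rowsU_genU 3 (by decide), rowsU_genU 1 (by decide), rowsU_genU 2 (by decide),
        rowsU_genU 4 (by decide), rowsU_one]
      exact e3_ok

theorem genU1_ne_one : genU 1 ≠ 1 := by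
  intro h
  apply gt1_ne
  rw [← rowsU_genU 1 (by decide), h, rowsU_one]

end Cfsg.Agent.Lib.Helper98.G24Mat
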