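import Mathlib
import Cfsg.Prelude.Def_Spor_Suz
import Cfsg.Agent.Lib.Helper98.CosetCert

/-!
# The presented sporadic Suzuki group: relations as statements about a family `g : ℕ → G`

`SuzRel g` says that `g 0, …, g 6` satisfy the relations of `Cfsg.Spor.Suz` (generators `a, …, g`).
It holds for the presented group by definition, and for a permutation model by computation.
From it we derive that the *base words* (lists of generator indices) have trivial product, and
so have their rotations and reversals, which are the words used by the coset enumeration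
certificates.
-/

set_option autoImplicit false

namespace Cfsg.Agent.Lib.Helper98.SuzPres

open Cfsg Cfsg.Spor

/-- the generator with a given index -/
def genOfNat : ℕ → Suz.Gen
  | 0 => .a
  | 1 => .b
  | 2 => .c
  | 3 => .d
  | 4 => .e
  | 5 => .f
  | _ => .g

/-- Coxeter labels on indices -/
def labN (x y : ℕ) : ℕ := coxLabel Suz.edges (genOfNat x) (genOfNat y)

/-- the relations of the presentation -/
structure SuzRel {G : Type*} [Group G] (g : ℕ → G) : Prop where
  cox : ∀ x < 7, ∀ y < 7, (g x * g y) ^ labN x y = 1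
  e1 : g 0 * ((g 2 * g 3) ^ 4)⁻¹ = 1
  e2 : g 0 * ((g 5 * g 6) ^ 2)⁻¹ = 1
  e3 : (g 0 * g 1 * g 2 * g 5) ^ 5 = 1
  e4 : (g 1 * g 5 * g 6) ^ 5 = 1
  e5 : ((g 1 * g 2 * g 3 * g 2 * g 3) ^ 5 * g 4) ^ 3 = 1

/-- power of a word -/
def pw (w : List ℕ) (m : ℕ) : List ℕ := (List.replicate m w).flatten

theorem prod_pw {G : Type*} [Group G] (g : ℕ → G) (w : List ℕ) (m : ℕ) :
    ((pw w m).map g).prod = ((w.map g).prod) ^ m := by
  induction m with
  | zero => simp [pw]
  | succ m ih =>
    unfold pw at ih ⊢
    rw [List.replicate_succ, List.flatten_cons, List.map_append, List.prod_append, ih, pow_succ']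

/-- all ordered pairs -/
def coxWords : List (List ℕ) :=
  (List.range 7).flatMap fun x => (List.range 7).map fun y => pw [x, y] (labN x y)

def extraWords : List (List ℕ) :=
  [[0] ++ (pw [2, 3] 4).reverse, [0] ++ (pw [5, 6] 2).reverse, pw [0, 1, 2, 5] 5, pw [1, 5, 6] 5,
    pw (pw [1, 2, 3, 2, 3] 5 ++ [4]) 3]

/-- the base relator words -/
def baseWords : List (List ℕ) := coxWords ++ extraWords

section rel

variable {G : Type*} [Group G] {g : ℕ → G}

theorem SuzRel.sq (h : SuzRel g) (x : ℕ) (hx : x < 7) : g x * g x = 1 := by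
  have := h.cox x hx x hx
  have hl : labN x x = 1 := by
    unfold labN coxLabel
    simp
  rwa [hl, pow_one] at this

theorem prod_reverse_of_sq (w : List ℕ) (hw : ∀ x ∈ w, g x * g x = 1) :
    (w.reverse.map g).prod = ((w.map g).prod)⁻¹ := by
  rw [List.prod_inv_reverse, List.map_map, List.map_reverse]
  congr 2
  apply List.map_congr_left
  intro x hx
  exact (inv_eq_of_mul_eq_one_right (hw x hx)).symm

theorem SuzRel.base (h : SuzRel g) : ∀ w ∈ baseWords, (w.map g).prod = 1 := by
  intro w hw
  unfold baseWords at hw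
  rcases List.mem_append.1 hw with hw | hw
  · unfold coxWords at hw
    obtain ⟨x, hx, hw⟩ := List.mem_flatMap.1 hw
    obtain ⟨y, hy, rfl⟩ := List.mem_map.1 hw
    rw [prod_pw]
    simpa using h.cox x (List.mem_range.1 hx) y (List.mem_range.1 hy)
  · have s2 := h.sq 2 (by decide)
    have s3 := h.sq 3 (by decide)
    have s5 := h.sq 5 (by decide)
    have s6 := h.sq 6 (by decide)
    unfold extraWords at hw
    simp only [List.mem_cons, List.not_mem_nil, or_false] at hw
    rcases hw with rfl | rfl | rfl | rfl | rfl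
    · rw [List.map_append, List.prod_append, prod_reverse_of_sq, prod_pw]
      · simpa using h.e1
      · intro x hx
        have : x = 2 ∨ x = 3 := by
          simp [pw] at hx
          omega
        rcases this with rfl | rfl <;> assumption
    · rw [List.map_append, List.prod_append, prod_reverse_of_sq, prod_pw]
      · simpa using h.e2
      · intro x hx
        have : x = 5 ∨ x = 6 := by
          simp [pw] at hx
          omega
        rcases this with rfl | rfl <;> assumption
    · rw [prod_pw]
      simpa [mul_assoc] using h.e3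
    · rw [prod_pw]
      simpa [mul_assoc] using h.e4
    · rw [prod_pw, List.map_append, List.prod_append, prod_pw]
      simpa [mul_assoc] using h.e5

/-- the word given by a source description: base word, rotation, reversal -/
def srcWord (s : ℕ × ℕ × Bool) : List ℕ :=
  cond s.2.2 ((baseWords.getD s.1 []).reverse.rotate s.2.1) ((baseWords.getD s.1 []).rotate s.2.1)

theorem baseWords_lt : ∀ w ∈ baseWords, ∀ x ∈ w, x < 7 := by decide +kernel

theorem SuzRel.src (h : SuzRel g) (s : ℕ × ℕ × Bool) :
    ((srcWord s).reverse.map g).prod = 1 := by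
  have key : ∀ w : List ℕ, (∀ x ∈ w, x < 7) → (w.map g).prod = 1 →
      ∀ i, (((w.rotate i).reverse).map g).prod = 1 := by
    intro w hlt hw i
    have hsq : ∀ x ∈ w.rotate i, g x * g x = 1 := fun x hx =>
      h.sq x (hlt x (List.mem_rotate.1 hx))
    rw [prod_reverse_of_sq _ hsq, List.map_rotate,
      List.prod_rotate_eq_one_of_prod_eq_one (by simpa using hw), inv_one]
  rcases CosetCert.getD_mem_or baseWords s.1 [] with h0 | h0
  · unfold srcWord
    rw [h0]
    cases s.2.2 <;> simp
  · have hlt := baseWords_lt _ h0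
    have hw := h.base _ h0
    unfold srcWord
    cases s.2.2
    · exact key _ hlt hw _
    · refine key _ (fun x hx => hlt x (List.mem_reverse.1 hx)) ?_ _
      rw [prod_reverse_of_sq _ (fun x hx => h.sq x (hlt x hx)), hw, inv_one]

end rel

/-! ### The presented group satisfies the relations -/

/-- the generators of the presented group -/
noncomputable def genP (x : ℕ) : Suz :=
  PresentedGroup.of (genOfNat x)

theorem mem_nodes (x : Suz.Gen) : x ∈ coxNodes Suz.edges := by
  cases x <;> decide

theorem suzRel_genP : SuzRel genP := by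
  have hmk : ∀ r ∈ (coxRelators Suz.edges ∪ {r | r ∈ Suz.extra}),
      PresentedGroup.mk (coxRelators Suz.edges ∪ {r | r ∈ Suz.extra}) r = 1 :=
    fun r hr => PresentedGroup.one_of_mem hr
  have hex : ∀ r ∈ Suz.extra,
      PresentedGroup.mk (coxRelators Suz.edges ∪ {r | r ∈ Suz.extra}) r = 1 :=
    fun r hr => hmk r (Or.inr hr)
  refine ⟨?_, ?_, ?_, ?_, ?_, ?_⟩
  · intro x _ y _
    have := hmk ((FreeGroup.of (genOfNat x) * FreeGroup.of (genOfNat y)) ^ labN x y)
      (Or.inl ⟨genOfNat x, mem_nodes _, genOfNat y, mem_nodes _, rfl⟩)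
    simpa [genP, PresentedGroup.of] using this
  · have := hex (Suz.a * ((Suz.c * Suz.d) ^ 4)⁻¹) (by simp [Suz.extra])
    simpa [genP, PresentedGroup.of, genOfNat] using this
  · have := hex (Suz.a * ((Suz.f * Suz.g) ^ 2)⁻¹) (by simp [Suz.extra])
    simpa [genP, PresentedGroup.of, genOfNat] using this
  · have := hex ((Suz.a * Suz.b * Suz.c * Suz.f) ^ 5) (by simp [Suz.extra])
    simpa [genP, PresentedGroup.of, genOfNat] using this
  · have := hex ((Suz.b * Suz.f * Suz.g) ^ 5) (by simp [Suz.extra])
    simpa [genP, PresentedGroup.of, genOfNat] using this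
  · have := hex (((Suz.b * Suz.c * Suz.d * Suz.c * Suz.d) ^ 5 * Suz.e) ^ 3) (by simp [Suz.extra])
    simpa [genP, PresentedGroup.of, genOfNat] using this

theorem Hk_genP_top : CosetCert.Hk genP 7 = ⊤ := by
  rw [eq_top_iff]
  intro x _
  have hx : x ∈ Subgroup.closure (Set.range (PresentedGroup.of (rels := coxRelators Suz.edges ∪ {r | r ∈ Suz.extra}))) := by
    rw [PresentedGroup.closure_range_of]; trivial
  refine (Subgroup.closure_le _).2 ?_ hx
  rintro _ ⟨a, rfl⟩
  apply Subgroup.subset_closure
  cases a
  · exact ⟨0, by decide, rfl⟩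
  · exact ⟨1, by decide, rfl⟩
  · exact ⟨2, by decide, rfl⟩
  · exact ⟨3, by decide, rfl⟩
  · exact ⟨4, by decide, rfl⟩
  · exact ⟨5, by decide, rfl⟩
  · exact ⟨6, by decide, rfl⟩

end Cfsg.Agent.Lib.Helper98.SuzPres
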