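import Mathlib
import Cfsg.Agent.Lib.Helper98.SuzPres

/-!
# More on the relations of the presented Suzuki group

The converse of `SuzRel.base`, images of the relations under homomorphisms, and the fact that the
relations force every generator to be trivial once the first one is.
-/

set_option autoImplicit false

namespace Cfsg.Agent.Lib.Helper98.SuzPres

open Cfsg Cfsg.Spor

section

variable {G : Type*} [Group G] {g : ℕ → G}

theorem mem_coxWords (x y : ℕ) (hx : x < 7) (hy : y < 7) : pw [x, y] (labN x y) ∈ coxWords := by
  unfold coxWords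
  exact List.mem_flatMap.2 ⟨x, List.mem_range.2 hx, List.mem_map.2 ⟨y, List.mem_range.2 hy, rfl⟩⟩

theorem labN_self (x : ℕ) : labN x x = 1 := by
  unfold labN coxLabel
  simp

theorem suzRel_of_base (hb : ∀ w ∈ baseWords, (w.map g).prod = 1) : SuzRel g := by
  have hcox : ∀ x < 7, ∀ y < 7, (g x * g y) ^ labN x y = 1 := by
    intro x hx y hy
    have := hb _ (List.mem_append_left _ (mem_coxWords x y hx hy))
    rw [prod_pw] at this
    simpa using this
  have hsq : ∀ x < 7, g x * g x = 1 := by
    intro x hx
    have := hcox x hx x hx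
    rwa [labN_self, pow_one] at this
  have hex : ∀ w ∈ extraWords, (w.map g).prod = 1 := fun w hw => hb w (List.mem_append_right _ hw)
  have s2 := hsq 2 (by decide)
  have s3 := hsq 3 (by decide)
  have s5 := hsq 5 (by decide)
  have s6 := hsq 6 (by decide)
  refine ⟨hcox, ?_, ?_, ?_, ?_, ?_⟩
  · have := hex ([0] ++ (pw [2, 3] 4).reverse) (by simp [extraWords])
    rw [List.map_append, List.prod_append, prod_reverse_of_sq, prod_pw] at this
    · simpa using this
    · intro x hx
      have : x = 2 ∨ x = 3 := by
        simp [pw] at hx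
        omega
      rcases this with rfl | rfl <;> assumption
  · have := hex ([0] ++ (pw [5, 6] 2).reverse) (by simp [extraWords])
    rw [List.map_append, List.prod_append, prod_reverse_of_sq, prod_pw] at this
    · simpa using this
    · intro x hx
      have : x = 5 ∨ x = 6 := by
        simp [pw] at hx
        omega
      rcases this with rfl | rfl <;> assumption
  · have := hex (pw [0, 1, 2, 5] 5) (by simp [extraWords])
    rw [prod_pw] at this
    simpa [mul_assoc] using this
  · have := hex (pw [1, 5, 6] 5) (by simp [extraWords])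
    rw [prod_pw] at this
    simpa [mul_assoc] using this
  · have := hex (pw (pw [1, 2, 3, 2, 3] 5 ++ [4]) 3) (by simp [extraWords])
    rw [prod_pw, List.map_append, List.prod_append, prod_pw] at this
    simpa [mul_assoc] using this

theorem SuzRel.map {H : Type*} [Group H] (h : SuzRel g) (f : G →* H) :
    SuzRel (fun x => f (g x)) := by
  refine ⟨?_, ?_, ?_, ?_, ?_, ?_⟩
  · intro x hx y hy
    rw [← map_mul, ← map_pow, h.cox x hx y hy, map_one]
  · have := congrArg f h.e1
    simpa using this
  · have := congrArg f h.e2
    simpa using this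
  · have := congrArg f h.e3
    simpa using this
  · have := congrArg f h.e4
    simpa using this
  · have := congrArg f h.e5
    simpa using this

theorem eq_one_of_sq_of_cube {x : G} (h2 : x * x = 1) (h3 : x ^ 3 = 1) : x = 1 := by
  have : x ^ 3 = x * (x * x) := by rw [pow_succ, pow_two, mul_assoc]
  rw [this, h2, mul_one] at h3
  exact h3

theorem eq_one_of_sq_of_pow_five {x : G} (h2 : x * x = 1) (h5 : x ^ 5 = 1) : x = 1 := by
  have : x ^ 5 = x * (x * x) * (x * x) := by
    simp only [pow_succ, pow_zero, one_mul, mul_assoc]
  rw [this, h2, mul_one, mul_one] at h5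
  exact h5

theorem lab01 : labN 0 1 = 5 := by decide
theorem lab12 : labN 1 2 = 3 := by decide
theorem lab15 : labN 1 5 = 3 := by decide
theorem lab61 : labN 6 1 = 3 := by decide
theorem lab34 : labN 3 4 = 3 := by decide

/-- if the first generator is trivial then all are -/
theorem SuzRel.all_one (h : SuzRel g) (h0 : g 0 = 1) : ∀ x < 7, g x = 1 := by
  have c01 := h.cox 0 (by decide) 1 (by decide)
  rw [lab01, h0, one_mul] at c01
  have g1 : g 1 = 1 := eq_one_of_sq_of_pow_five (h.sq 1 (by decide)) c01
  have c12 := h.cox 1 (by decide) 2 (by decide)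
  rw [lab12, g1, one_mul] at c12
  have g2 : g 2 = 1 := eq_one_of_sq_of_cube (h.sq 2 (by decide)) c12
  have c15 := h.cox 1 (by decide) 5 (by decide)
  rw [lab15, g1, one_mul] at c15
  have g5 : g 5 = 1 := eq_one_of_sq_of_cube (h.sq 5 (by decide)) c15
  have c61 := h.cox 6 (by decide) 1 (by decide)
  rw [lab61, g1, mul_one] at c61
  have g6 : g 6 = 1 := eq_one_of_sq_of_cube (h.sq 6 (by decide)) c61
  have e5 := h.e5
  rw [g1, g2, one_mul, one_mul, mul_one, h.sq 3 (by decide), one_pow, one_mul] at e5
  have g4 : g 4 = 1 := eq_one_of_sq_of_cube (h.sq 4 (by decide)) e5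
  have c34 := h.cox 3 (by decide) 4 (by decide)
  rw [lab34, g4, mul_one] at c34
  have g3 : g 3 = 1 := eq_one_of_sq_of_cube (h.sq 3 (by decide)) c34
  intro x hx
  interval_cases x <;> assumption

end

/-- indices of the generators -/
def natOfGen : Suz.Gen → ℕ
  | .a => 0
  | .b => 1
  | .c => 2
  | .d => 3
  | .e => 4
  | .f => 5
  | .g => 6

theorem genOfNat_natOfGen (s : Suz.Gen) : genOfNat (natOfGen s) = s := by
  cases s <;> rfl

theorem natOfGen_lt (s : Suz.Gen) : natOfGen s < 7 := by
  cases s <;> decide

theorem natOfGen_genOfNat (x : ℕ) (hx : x < 7) : natOfGen (genOfNat x) = x := by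
  interval_cases x <;> rfl

/-- a family satisfying the relations defines a homomorphism from the presented group -/
theorem lift_rel {G : Type*} [Group G] {g : ℕ → G} (h : SuzRel g) :
    ∀ r ∈ (coxRelators Suz.edges ∪ {r | r ∈ Suz.extra}),
      FreeGroup.lift (fun s => g (natOfGen s)) r = 1 := by
  intro r hr
  rcases hr with ⟨x, _, y, _, rfl⟩ | hr
  · rw [map_pow, map_mul, FreeGroup.lift_apply_of, FreeGroup.lift_apply_of]
    have := h.cox (natOfGen x) (natOfGen_lt x) (natOfGen y) (natOfGen_lt y)
    rw [labN, genOfNat_natOfGen, genOfNat_natOfGen] at this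
    exact this
  · have hr' : r ∈ Suz.extra := hr
    simp only [Suz.extra, List.mem_cons, List.not_mem_nil, or_false] at hr'
    rcases hr' with rfl | rfl | rfl | rfl | rfl
    · simpa [natOfGen] using h.e1
    · simpa [natOfGen] using h.e2
    · simpa [natOfGen] using h.e3
    · simpa [natOfGen] using h.e4
    · simpa [natOfGen] using h.e5

end Cfsg.Agent.Lib.Helper98.SuzPres
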