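import Mathlib
import Cfsg.Agent.Lib.Helper98.SuzModel
import Cfsg.Agent.Lib.Helper98.SuzPres2
import Cfsg.Agent.Lib.Helper98.PrimSimple2

/-!
# The permutation model of the Suzuki group on 1782 points

From the certificates of `SuzModel`: the generators satisfy the relations, the group they generate
has at least `448345497600` elements, is primitive, and a normal subgroup containing the elements
of order 11 contains the first generator.
-/

set_option autoImplicit false

namespace Cfsg.Agent.Lib.Helper98.SuzGroup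

open Cfsg Cfsg.Spor MulAction
open Cfsg.Agent.Lib.Helper89 Cfsg.Agent.Lib.Helper89.TableChain2
open Cfsg.Agent.Lib.Helper98.PermChain Cfsg.Agent.Lib.Helper98.OrbitLower
open Cfsg.Agent.Lib.Helper98.PermCert Cfsg.Agent.Lib.Helper98.SuzModel
open Cfsg.Agent.Lib.Helper98.SuzPres

theorem htab : TabOK 1782 7 tab tab := tabOK_of_invOK tab_ok

/-- the chain data of the model -/
noncomputable def D : Data (Equiv.Perm (Fin 1782)) (Fin 1782) := data htab

theorem D_m : D.m = 7 := rfl
theorem D_N : D.N = 1782 := rfl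
theorem D_tab : D.tab = tab := rfl

theorem D_pt_val (a : Fin 1782) : D.pt a.val = a := ofNat_val a

/-- the generators of the model -/
noncomputable def genM (x : ℕ) : Equiv.Perm (Fin 1782) := D.gen x

theorem ev_eq_prod (w : List ℕ) : D.ev w = (w.map genM).prod := rfl

theorem ev_eq_one {w : List ℕ} (hw : ∀ c ∈ w, c < 7) (h : fixAll tab 1782 w = true) :
    D.ev w = 1 := by
  have := D.ev_eq_of_act (l := w) (l' := []) hw (by simp) (by
    intro x hx
    rw [act_nil]
    exact fixAll_spec h x (D.chk_lt x hx))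
  rw [this]; rfl

theorem base_genM : ∀ w ∈ baseWords, (w.map genM).prod = 1 := by
  intro w hw
  have hlt := baseWords_lt w hw
  rw [relWords_eq] at hw
  rw [← ev_eq_prod]
  exact ev_eq_one hlt (rel_all w hw)

theorem suzRel_genM : SuzRel genM := suzRel_of_base base_genM

/-! ### Strong generators -/

theorem sg_lt' : ∀ w ∈ SG, ∀ c ∈ w, c < D.m := by
  intro w hw c hc
  have := List.all_eq_true.1 (List.all_eq_true.1 sg_lt w hw) c hc
  show c < 7
  simpa using this

theorem sg_take_lt (k : ℕ) : ∀ w ∈ SG.take k, ∀ c ∈ w, c < D.m :=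
  fun w hw => sg_lt' w (List.mem_of_mem_take hw)

theorem fix_spec {k b : ℕ} (h : (SG.take k).all (fun w => Nat.beq (act tab w b) b) = true) :
    ∀ w ∈ SG.take k, act D.tab w b = b := by
  intro w hw
  exact Nat.eq_of_beq_eq_true (List.all_eq_true.1 h w hw)

theorem level {lab par pg rk : ℕ → ℕ} (k k' b n : ℕ) (hk : k' ≤ k) (hb : b < 1782)
    (horb : orbOK tab 1782 SG k lab par pg rk = true)
    (hcnt : ((List.range 1782).filter fun x => Nat.beq (lab x) b).length = n)
    (hfix : (SG.take k').all (fun w => Nat.beq (act tab w b) b) = true) :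
    n * Nat.card (KS D SG k') ≤ Nat.card (KS D SG k) := by
  refine card_mul_le_of_orb D SG k k' b n (lab := lab) hk hb (sg_take_lt k) (fix_spec hfix) ?_
    (le_of_eq hcnt.symm)
  intro x hx hl
  obtain ⟨_, g, hg, hgx⟩ := exists_of_orbOK D SG k (sg_take_lt k) horb x hx
  rw [hl] at hgx
  exact ⟨g, hg, hgx⟩

theorem card_KS_ge : 448345497600 ≤ Nat.card (KS D SG 10) := by
  have h5 := level 1 0 46 3 (by decide) (by decide) orb5 cnt5 fix5
  have h4 := level 2 1 2 8 (by decide) (by decide) orb4 cnt4 fix4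
  have h3 := level 3 2 1 252 (by decide) (by decide) orb3 cnt3 fix3
  have h2 := level 8 3 135 100 (by decide) (by decide) orb2 cnt2 fix2
  have h1 := level 9 8 1781 416 (by decide) (by decide) orb1 cnt1 fix1
  have h0 := level 10 9 0 1782 (by decide) (by decide) orb0 cnt0 fix0
  have hz : Nat.card (KS D SG 0) = 1 := by
    rw [KS_zero]; simp
  rw [hz] at h5
  omega

/-- the group generated by the seven tables -/
noncomputable abbrev M : Subgroup (Equiv.Perm (Fin 1782)) := D.H 7

theorem KS_le_M (k : ℕ) : KS D SG k ≤ M := KS_le_H D SG k (sg_take_lt k)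

theorem card_M_ge : 448345497600 ≤ Nat.card M :=
  le_trans card_KS_ge (Subgroup.card_le_of_le (KS_le_M 10))

/-! ### Primitivity -/

theorem card_filter_fin (N : ℕ) (p : ℕ → Bool) :
    (Finset.univ.filter fun a : Fin N => p a.val = true).card =
      ((List.range N).filter p).length := by
  have h1 : ((Finset.range N).filter fun x => p x = true).card =
      ((List.range N).filter p).length := by
    rw [Finset.card_def, Finset.filter_val, Finset.range_val, Multiset.range,
      Multiset.filter_coe, Multiset.coe_card]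
    congr 1
    apply List.filter_congr
    intro x _
    simp
  rw [← h1]
  refine Finset.card_bij (fun a _ => a.val) ?_ ?_ ?_
  · intro a ha
    simp only [Finset.mem_filter, Finset.mem_univ, true_and] at ha
    simp only [Finset.mem_filter, Finset.mem_range]
    exact ⟨a.isLt, ha⟩
  · intro a _ b _ h
    exact Fin.ext h
  · intro b hb
    simp only [Finset.mem_filter, Finset.mem_range] at hb
    exact ⟨⟨b, hb.1⟩, by simp [hb.2], rfl⟩

theorem lab0_all (x : ℕ) (hx : x < 1782) : lab0 x = 0 :=
  Nat.eq_of_beq_eq_true ((allBelow_iff _ _).1 lab0_ok x hx)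

instance pretrans : IsPretransitive M (Fin 1782) := by
  refine ⟨fun a a' => ?_⟩
  obtain ⟨_, g, hg, hga⟩ := exists_of_orbOK D SG 10 (sg_take_lt 10) orb0 a.val a.isLt
  obtain ⟨_, g', hg', hga'⟩ := exists_of_orbOK D SG 10 (sg_take_lt 10) orb0 a'.val a'.isLt
  rw [lab0_all _ a.isLt, D_pt_val] at hga
  rw [lab0_all _ a'.isLt, D_pt_val] at hga'
  refine ⟨⟨g' * g⁻¹, M.mul_mem (KS_le_M 10 hg') (M.inv_mem (KS_le_M 10 hg))⟩, ?_⟩
  show (g' * g⁻¹) • a = a'
  rw [mul_smul, ← hga, inv_smul_smul, hga']

theorem D_pt_zero : D.pt 0 = (0 : Fin 1782) := D_pt_val 0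

theorem same_orbit (x y : Fin 1782) (h : lab1 x.val = lab1 y.val) :
    ∃ g : M, g • (0 : Fin 1782) = 0 ∧ g • x = y := by
  obtain ⟨_, g, hg, hgx⟩ := exists_of_orbOK D SG 9 (sg_take_lt 9) orb1 x.val x.isLt
  obtain ⟨_, g', hg', hgy⟩ := exists_of_orbOK D SG 9 (sg_take_lt 9) orb1 y.val y.isLt
  rw [D_pt_val] at hgx hgy
  rw [h] at hgx
  have hst := KS_le_stabilizer D SG 9 0 (by decide) (sg_take_lt 9) (fix_spec fix0)
  have hgg : g' * g⁻¹ ∈ KS D SG 9 := Subgroup.mul_mem _ hg' (Subgroup.inv_mem _ hg)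
  refine ⟨⟨g' * g⁻¹, KS_le_M 9 hgg⟩, ?_, ?_⟩
  · have := hst hgg
    rw [D_pt_zero] at this
    exact this
  · show (g' * g⁻¹) • x = y
    rw [mul_smul, ← hgx, inv_smul_smul, hgy]

instance prim : IsPreprimitive M (Fin 1782) := by
  refine PrimSimple.isPreprimitive_of_rank_three (0 : Fin 1782)
    (Finset.univ.filter fun a : Fin 1782 => Nat.beq (lab1 a.val) 1781 = true)
    (Finset.univ.filter fun a : Fin 1782 => Nat.beq (lab1 a.val) 1 = true) ?_ ?_ ?_ ?_ ?_ ?_ ?_
  · intro x
    have := (allBelow_iff _ _).1 cover1 x.val x.isLt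
    simp only [Bool.or_eq_true] at this
    rcases this with (h | h) | h
    · left
      exact Fin.ext (Nat.eq_of_beq_eq_true h)
    · right; left
      simp only [Finset.mem_filter, Finset.mem_univ, true_and]
      exact h
    · right; right
      simp only [Finset.mem_filter, Finset.mem_univ, true_and]
      exact h
  · intro x hx y hy
    simp only [Finset.mem_filter, Finset.mem_univ, true_and] at hx hy
    exact same_orbit x y (by rw [Nat.eq_of_beq_eq_true hx, Nat.eq_of_beq_eq_true hy])
  · intro x hx y hy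
    simp only [Finset.mem_filter, Finset.mem_univ, true_and] at hx hy
    exact same_orbit x y (by rw [Nat.eq_of_beq_eq_true hx, Nat.eq_of_beq_eq_true hy])
  · simp only [Finset.mem_filter, Finset.mem_univ, true_and]
    show ¬ Nat.beq (lab1 0) 1781 = true
    rw [lab1_zero]
    decide
  · simp only [Finset.mem_filter, Finset.mem_univ, true_and]
    show ¬ Nat.beq (lab1 0) 1 = true
    rw [lab1_zero]
    decide
  · rw [card_filter_fin 1782 (fun x => Nat.beq (lab1 x) 1781), cnt1, Fintype.card_fin]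
    decide
  · rw [card_filter_fin 1782 (fun x => Nat.beq (lab1 x) 1), cnt1b, Fintype.card_fin]
    decide

/-! ### Elements of order 11 -/

theorem yw_lt : ∀ c ∈ yw, c < 7 := by decide

theorem ev_pow (w : List ℕ) (n : ℕ) : D.ev (pw w n) = D.ev w ^ n := by
  rw [ev_eq_prod, ev_eq_prod, prod_pw]

theorem ev_y_pow : D.ev yw ^ 11 = 1 := by
  rw [← ev_pow, y_pw1]
  exact ev_eq_one (by decide) y_ok1

theorem ev_ay_pow : D.ev (0 :: yw) ^ 11 = 1 := by
  rw [← ev_pow, y_pw2]
  exact ev_eq_one (by decide) y_ok2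

/-- a normal subgroup containing all elements of order dividing 11 contains the first generator -/
theorem gen_zero_mem (N : Subgroup M) (h11 : ∀ s : M, s ^ 11 = 1 → s ∈ N) :
    (⟨D.gen 0, D.gen_mem 0 (by decide)⟩ : M) ∈ N := by
  have hy : D.ev yw ∈ M := D.ev_mem 7 yw yw_lt
  have hay : D.ev (0 :: yw) ∈ M := D.ev_mem 7 (0 :: yw) (by decide)
  have h1 : (⟨D.ev yw, hy⟩ : M) ∈ N := h11 _ (Subtype.ext (by simpa using ev_y_pow))
  have h2 : (⟨D.ev (0 :: yw), hay⟩ : M) ∈ N := h11 _ (Subtype.ext (by simpa using ev_ay_pow))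
  have : (⟨D.gen 0, D.gen_mem 0 (by decide)⟩ : M) =
      (⟨D.ev (0 :: yw), hay⟩ : M) * (⟨D.ev yw, hy⟩ : M)⁻¹ := by
    apply Subtype.ext
    simp [Data.ev_cons]
  rw [this]
  exact N.mul_mem h2 (N.inv_mem h1)

end Cfsg.Agent.Lib.Helper98.SuzGroup
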