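import Mathlib
import Cfsg.Agent.Lib.Helper98.CosetCert
import Cfsg.Agent.Lib.Helper98.SuzPres

/-! Coset enumeration certificate, level k = 1: index at most 2. -/

set_option autoImplicit false
set_option maxRecDepth 1000000

namespace Cfsg.Agent.Lib.Helper98.SuzTC1

open Cfsg.Agent.Lib.Helper98.CosetCert

noncomputable def entT : BT := (.leaf 0x100000000020000000000000001100000)

noncomputable def ent (v : ℕ) : ℕ := BT.get 64 18446744073709551615 127 6 entT 0 v

noncomputable def par (v : ℕ) : ℕ := Nat.land (ent v) 1048575

noncomputable def lab (v : ℕ) : ℕ := Nat.land (Nat.shiftRight (ent v) 20) 15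

noncomputable def cb (v : ℕ) : ℕ := Nat.land (Nat.shiftRight (ent v) 24) 1048575

noncomputable def link (v : ℕ) : ℕ := Nat.land (Nat.shiftRight (ent v) 44) 1048575

noncomputable def idxT : BT := (.leaf 0x100000)

noncomputable def idx (v : ℕ) : ℕ := BT.get 20 1048575 127 6 idxT 0 v

noncomputable def repT : BT := (.leaf 0x100000)

noncomputable def rep (v : ℕ) : ℕ := BT.get 20 1048575 127 6 repT 0 v

noncomputable def lgeT : BT := (.leaf 0x2000020000)

noncomputable def lge (v : ℕ) : ℕ := BT.get 64 18446744073709551615 127 6 lgeT 0 v

noncomputable def logw (i : ℕ) : ℕ := Nat.land (lge i) 65535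

noncomputable def logc (i : ℕ) : ℕ := Nat.land (Nat.shiftRight (lge i) 16) 1048575

noncomputable def logb (i : ℕ) : ℕ := Nat.land (Nat.shiftRight (lge i) 36) 1048575

def rwords : List (List (List ℕ)) := [
  [[0, 0]]]

def swords : List (List ℕ) := []

def srcs : List (ℕ × ℕ × Bool) := [(0, 0, false)]

noncomputable def cert : Cert where
  k := 1
  M := 3
  n := 2
  par := par
  lab := lab
  cb := cb
  link := link
  idx := idx
  rep := rep
  rwords := rwords
  swords := swords
  nrw := 1
  nlog := 1
  logw := logw
  logc := logc
  logb := logb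

theorem rwords_src : rwords.flatten = srcs.map SuzPres.srcWord := by decide +kernel

theorem wok : wordsOK cert = true := by decide +kernel

def mask1 : ℕ := 0x4

theorem seg1 : runOK cert 1 1 0 mask1 = true := by decide +kernel

theorem reach : Relation.ReflTransGen (Steps cert) 0 mask1 :=
  (Relation.ReflTransGen.refl).tail (steps_of_runOK seg1)

theorem final_ok : finalCheck cert mask1 = true := by decide +kernel

end Cfsg.Agent.Lib.Helper98.SuzTC1
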