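import Mathlib
import Cfsg.Agent.Lib.Helper98.CosetCert
import Cfsg.Agent.Lib.Helper98.SuzPres

/-! Coset enumeration certificate, level k = 2: index at most 5. -/

set_option autoImplicit false
set_option maxRecDepth 1000000

namespace Cfsg.Agent.Lib.Helper98.SuzTC2

open Cfsg.Agent.Lib.Helper98.CosetCert

noncomputable def entT : BT := (.leaf 0x7000001000070000600000000007000030000010000600000000090000060000000007100003000020000000000300000000001000020000000005000002000000000310000000000000000000000000000001200000)

noncomputable def ent (v : ℕ) : ℕ := BT.get 64 18446744073709551615 127 6 entT 0 v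

noncomputable def par (v : ℕ) : ℕ := Nat.land (ent v) 1048575

noncomputable def lab (v : ℕ) : ℕ := Nat.land (Nat.shiftRight (ent v) 20) 15

noncomputable def cb (v : ℕ) : ℕ := Nat.land (Nat.shiftRight (ent v) 24) 1048575

noncomputable def link (v : ℕ) : ℕ := Nat.land (Nat.shiftRight (ent v) 44) 1048575

noncomputable def idxT : BT := (.leaf 0x400003000000000000002000010000000000)

noncomputable def idx (v : ℕ) : ℕ := BT.get 20 1048575 127 6 idxT 0 v

noncomputable def repT : BT := (.leaf 0x700006000030000200000)

noncomputable def rep (v : ℕ) : ℕ := BT.get 20 1048575 127 6 repT 0 v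

noncomputable def lgeT : BT := (.leaf 0x9000090000000000a0000700010000008000080003000000500005000000000040000400030000001000000004)

noncomputable def lge (v : ℕ) : ℕ := BT.get 64 18446744073709551615 127 6 lgeT 0 v

noncomputable def logw (i : ℕ) : ℕ := Nat.land (lge i) 65535

noncomputable def logc (i : ℕ) : ℕ := Nat.land (Nat.shiftRight (lge i) 16) 1048575

noncomputable def logb (i : ℕ) : ℕ := Nat.land (Nat.shiftRight (lge i) 36) 1048575

def rwords : List (List (List ℕ)) := [
  [[0, 0], [0, 1, 0, 1, 0, 1, 0, 1, 0, 1], [1, 0, 1, 0, 1, 0, 1, 0, 1, 0], [1, 1]]]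

def swords : List (List ℕ) := [[0]]

def srcs : List (ℕ × ℕ × Bool) := [(0, 0, false), (1, 0, false), (1, 1, false), (8, 0, false)]

noncomputable def cert : Cert where
  k := 2
  M := 11
  n := 5
  par := par
  lab := lab
  cb := cb
  link := link
  idx := idx
  rep := rep
  rwords := rwords
  swords := swords
  nrw := 4
  nlog := 6
  logw := logw
  logc := logc
  logb := logb

theorem rwords_src : rwords.flatten = srcs.map SuzPres.srcWord := by decide +kernel

theorem wok : wordsOK cert = true := by decide +kernel

def mask1 : ℕ := 0x732

theorem seg1 : runOK cert 6 6 0 mask1 = true := by decide +kernel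

theorem reach : Relation.ReflTransGen (Steps cert) 0 mask1 :=
  (Relation.ReflTransGen.refl).tail (steps_of_runOK seg1)

theorem final_ok : finalCheck cert mask1 = true := by decide +kernel

end Cfsg.Agent.Lib.Helper98.SuzTC2
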