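import Mathlib
import Cfsg.Agent.Lib.Helper98.SuzTC1
import Cfsg.Agent.Lib.Helper98.SuzTC2
import Cfsg.Agent.Lib.Helper98.SuzTC4
import Cfsg.Agent.Lib.Helper98.SuzTC5
import Cfsg.Agent.Lib.Helper98.SuzTC6
import Cfsg.Agent.Lib.Helper98.SuzTC7
import Cfsg.Agent.Lib.Helper98.SuzPres

/-!
# The presented Suzuki group has at most `448345497600` elements

Chain of subgroups generated by initial segments of the generators, with indices bounded by the
coset enumeration certificates.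
-/

set_option autoImplicit false

namespace Cfsg.Agent.Lib.Helper98.SuzUpper

open Cfsg Cfsg.Spor
open Cfsg.Agent.Lib.Helper98.CosetCert Cfsg.Agent.Lib.Helper98.SuzPres

theorem level_bound (C : Cert) (k' : ℕ) (srcs : List (ℕ × ℕ × Bool)) (hk' : k' ≤ C.k)
    (hk7 : C.k ≤ 7) (hsrc : C.rwords.flatten = srcs.map srcWord)
    (hsw : C.swords.all (fun w => w.all fun x => Nat.blt x k') = true)
    (hwok : wordsOK C = true) {mask : ℕ} (hr : Relation.ReflTransGen (Steps C) 0 mask)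
    (hfc : finalCheck C mask = true) (hfin : Finite (Hk genP k')) :
    Finite (Hk genP C.k) ∧ Nat.card (Hk genP C.k) ≤ C.n * Nat.card (Hk genP k') := by
  refine card_le_of_reach genP C k' hk' ?_ ?_ ?_ hwok hr hfc hfin
  · intro x hx
    exact suzRel_genP.sq x (lt_of_lt_of_le hx hk7)
  · intro ch hch w hw
    have hmem : w ∈ C.rwords.flatten := List.mem_flatten.2 ⟨ch, hch, hw⟩
    rw [hsrc] at hmem
    obtain ⟨s, _, rfl⟩ := List.mem_map.1 hmem
    exact suzRel_genP.src s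
  · intro w hw
    apply prod_mem_Hk
    intro x hx
    have := List.all_eq_true.1 (List.all_eq_true.1 hsw w hw) x (List.mem_reverse.1 hx)
    simpa using this

theorem b0 : Finite (Hk genP 0) ∧ Nat.card (Hk genP 0) ≤ 1 := by
  rw [Hk_zero]
  exact ⟨inferInstance, by simp⟩

theorem b1 : Finite (Hk genP 1) ∧ Nat.card (Hk genP 1) ≤ 2 := by
  obtain ⟨h0, c0⟩ := b0
  obtain ⟨h, c⟩ := level_bound SuzTC1.cert 0 SuzTC1.srcs (by decide) (by decide)
    SuzTC1.rwords_src (by decide) SuzTC1.wok SuzTC1.reach SuzTC1.final_ok h0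
  exact ⟨h, le_trans c (Nat.mul_le_mul_left 2 c0)⟩

theorem b2 : Finite (Hk genP 2) ∧ Nat.card (Hk genP 2) ≤ 10 := by
  obtain ⟨h0, c0⟩ := b1
  obtain ⟨h, c⟩ := level_bound SuzTC2.cert 1 SuzTC2.srcs (by decide) (by decide)
    SuzTC2.rwords_src (by decide) SuzTC2.wok SuzTC2.reach SuzTC2.final_ok h0
  exact ⟨h, le_trans c (Nat.mul_le_mul_left 5 c0)⟩

theorem b4 : Finite (Hk genP 4) ∧ Nat.card (Hk genP 4) ≤ 2160 := by
  obtain ⟨h0, c0⟩ := b2
  obtain ⟨h, c⟩ := level_bound SuzTC4.cert 2 SuzTC4.srcs (by decide) (by decide)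
    SuzTC4.rwords_src (by decide) SuzTC4.wok SuzTC4.reach SuzTC4.final_ok h0
  exact ⟨h, le_trans c (Nat.mul_le_mul_left 216 c0)⟩

theorem b5 : Finite (Hk genP 5) ∧ Nat.card (Hk genP 5) ≤ 604800 := by
  obtain ⟨h0, c0⟩ := b4
  obtain ⟨h, c⟩ := level_bound SuzTC5.cert 4 SuzTC5.srcs (by decide) (by decide)
    SuzTC5.rwords_src (by decide) SuzTC5.wok SuzTC5.reach SuzTC5.final_ok h0
  exact ⟨h, le_trans c (Nat.mul_le_mul_left 280 c0)⟩

theorem b6 : Finite (Hk genP 6) ∧ Nat.card (Hk genP 6) ≤ 251596800 := by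
  obtain ⟨h0, c0⟩ := b5
  obtain ⟨h, c⟩ := level_bound SuzTC6.cert 5 SuzTC6.srcs (by decide) (by decide)
    SuzTC6.rwords_src (by decide) SuzTC6.wok SuzTC6.reach SuzTC6.final_ok h0
  exact ⟨h, le_trans c (Nat.mul_le_mul_left 416 c0)⟩

theorem b7 : Finite (Hk genP 7) ∧ Nat.card (Hk genP 7) ≤ 448345497600 := by
  obtain ⟨h0, c0⟩ := b6
  obtain ⟨h, c⟩ := level_bound SuzTC7.cert 6 SuzTC7.srcs (by decide) (by decide)
    SuzTC7.rwords_src (by decide) SuzTC7.wok SuzTC7.reach SuzTC7.final_ok h0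
  exact ⟨h, le_trans c (Nat.mul_le_mul_left 1782 c0)⟩

/-- the presented group is finite of order at most `448345497600` -/
theorem finite_suz : Finite Suz := by
  have h := b7.1
  rw [Hk_genP_top] at h
  exact Finite.of_equiv _ Subgroup.topEquiv.toEquiv

theorem card_suz_le : Nat.card Suz ≤ 448345497600 := by
  have h := b7.2
  rw [Hk_genP_top] at h
  rwa [Nat.card_congr Subgroup.topEquiv.toEquiv] at h

end Cfsg.Agent.Lib.Helper98.SuzUpper
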