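import Mathlib
import Cfsg.Agent.Lib.Helper98.SuzUpper
import Cfsg.Agent.Lib.Helper98.SuzGroup

/-!
# The presented Suzuki group is simple of order `448345497600`
-/

set_option autoImplicit false

namespace Cfsg.Agent.Lib.Helper98.SuzMain

open Cfsg Cfsg.Spor MulAction
open Cfsg.Agent.Lib.Helper89 Cfsg.Agent.Lib.Helper89.TableChain2
open Cfsg.Agent.Lib.Helper98.CosetCert Cfsg.Agent.Lib.Helper98.SuzPres
open Cfsg.Agent.Lib.Helper98.SuzGroup Cfsg.Agent.Lib.Helper98.SuzUpper

/-- the homomorphism from the presented group to the permutation model -/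
noncomputable def phi : Suz →* Equiv.Perm (Fin 1782) :=
  PresentedGroup.toGroup (f := fun s => genM (natOfGen s)) (lift_rel suzRel_genM)

theorem phi_of (s : Suz.Gen) : phi (PresentedGroup.of s) = genM (natOfGen s) :=
  PresentedGroup.toGroup.of _

theorem phi_genP (x : ℕ) (hx : x < 7) : phi (genP x) = genM x := by
  unfold genP
  rw [phi_of, natOfGen_genOfNat x hx]

theorem range_le : phi.range ≤ M := by
  rw [MonoidHom.range_eq_map, ← PresentedGroup.closure_range_of, MonoidHom.map_closure,
    Subgroup.closure_le]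
  rintro _ ⟨_, ⟨s, rfl⟩, rfl⟩
  rw [phi_of]
  exact D.gen_mem _ (natOfGen_lt s)

theorem le_range : M ≤ phi.range := by
  show D.H 7 ≤ phi.range
  rw [Data.H, Subgroup.closure_le]
  rintro g ⟨j, hj, rfl⟩
  exact ⟨genP j, phi_genP j hj⟩

theorem phi_mem (s : Suz) : phi s ∈ M := range_le ⟨s, rfl⟩

/-- the homomorphism onto the model -/
noncomputable def phiM : Suz →* M := phi.codRestrict M phi_mem

theorem phiM_surj : Function.Surjective phiM := by
  rintro ⟨g, hg⟩
  obtain ⟨s, hs⟩ := le_range hg
  exact ⟨s, Subtype.ext hs⟩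

theorem card_M_le : Nat.card M ≤ Nat.card Suz := by
  have := finite_suz
  exact Nat.card_le_card_of_surjective _ phiM_surj

theorem card_suz : Nat.card Suz = 448345497600 :=
  le_antisymm card_suz_le (le_trans card_M_ge card_M_le)

theorem card_M : Nat.card M = 448345497600 :=
  le_antisymm (le_trans card_M_le card_suz_le) card_M_ge

theorem phiM_bij : Function.Bijective phiM := by
  have := finite_suz
  exact phiM_surj.bijective_of_nat_card_le (by rw [card_suz, card_M])

/-- the presented group is isomorphic to the model -/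
noncomputable def equivM : Suz ≃* M := MulEquiv.ofBijective phiM phiM_bij

theorem normal_top (N : Subgroup M) (hN : N.Normal) (h11 : ∀ s : M, s ^ 11 = 1 → s ∈ N) :
    N = ⊤ := by
  have ha := gen_zero_mem N h11
  let f : Suz →* M ⧸ N := (QuotientGroup.mk' N).comp phiM
  have hrel : SuzRel (fun x => f (genP x)) := suzRel_genP.map f
  have h0 : f (genP 0) = 1 := by
    show QuotientGroup.mk' N (phiM (genP 0)) = 1
    rw [QuotientGroup.mk'_apply, QuotientGroup.eq_one_iff]
    have : phiM (genP 0) = ⟨D.gen 0, D.gen_mem 0 (by decide)⟩ :=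
      Subtype.ext (phi_genP 0 (by decide))
    rw [this]
    exact ha
  have hall := hrel.all_one h0
  have hker : f.ker = ⊤ := by
    rw [eq_top_iff, ← Hk_genP_top, Hk, Subgroup.closure_le]
    rintro _ ⟨x, hx, rfl⟩
    exact hall x hx
  rw [eq_top_iff]
  intro g _
  obtain ⟨s, rfl⟩ := phiM_surj g
  have hs : s ∈ f.ker := by rw [hker]; trivial
  have : (QuotientGroup.mk' N) (phiM s) = 1 := hs
  rwa [QuotientGroup.mk'_apply, QuotientGroup.eq_one_iff] at this

theorem simple_M : IsSimpleGroup M :=
  PrimSimple.isSimpleGroup_of_primitive' M (0 : Fin 1782) 11 251596800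
    (by rw [card_M]) (by norm_num) (by norm_num) normal_top

theorem simple_suz : IsSimpleGroup Suz := by
  have := simple_M
  exact equivM.isSimpleGroup

end Cfsg.Agent.Lib.Helper98.SuzMain
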