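import Mathlib
import Cfsg.Prelude.Def_Spor_Suz
import Cfsg.Agent.Lib.Helper98.G24Mat
import Cfsg.Agent.Lib.Helper98.G24Main
import Cfsg.Agent.Lib.Helper98.SuzMain
import Cfsg.Agent.S1059

/-!
# The subgroup `⟨a, …, f⟩` of the presented sporadic Suzuki group is isomorphic to `G₂(4)`
-/

set_option autoImplicit false
set_option maxRecDepth 100000

namespace Cfsg.Agent.Lib.Helper98.G24Iso

open Matrix Cfsg Cfsg.Spor Cfsg.Lie Cfsg.Agent.Lib.Helper98.CoxPres
open Cfsg.Agent.Lib.Helper98.G24Pres Cfsg.Agent.Lib.Helper98.G24Mat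
open Cfsg.Agent.Lib.Helper98.G24Def

/-! ### the presented group -/

instance simple_G24 : IsSimpleGroup G24 := G24Main.main.1

theorem card_G24 : Nat.card G24 = 251596800 := G24Main.main.2

/-! ### the Chevalley group -/

/-- the images of the generators -/
def genC (j : ℕ) : GL chevG2.Idx K := genU j

theorem rel_genC : pres.Rel genC := rel_genU

theorem genC_mem (j : ℕ) : genC j ∈ chevG2.group K := genU_mem j

theorem genC1_ne_one : genC 1 ≠ 1 := genU1_ne_one

/-- the homomorphism to the general linear group -/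
noncomputable def theta0 : G24 →* GL chevG2.Idx K :=
  PresentedGroup.toGroup (f := fun s => genC (natOfGen s)) (link.lift_rel wf rel_genC)

theorem theta0_of (s : G24Def.Gen) : theta0 (PresentedGroup.of s) = genC (natOfGen s) :=
  PresentedGroup.toGroup.of _

theorem theta0_gP (x : ℕ) (hx : x < 6) : theta0 (gP x) = genC x := by
  show theta0 (PresentedGroup.of (genOfNat x)) = _
  rw [theta0_of, link.ng x hx]

theorem theta0_mem (x : G24) : theta0 x ∈ chevG2.group K := by
  have h : theta0.range ≤ chevG2.group K := by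
    rw [MonoidHom.range_eq_map, ← PresentedGroup.closure_range_of, MonoidHom.map_closure,
      Subgroup.closure_le]
    rintro _ ⟨_, ⟨s, rfl⟩, rfl⟩
    rw [theta0_of]
    exact genC_mem _
  exact h ⟨x, rfl⟩

/-- the homomorphism to the Chevalley group -/
noncomputable def theta1 : G24 →* ↥(chevG2.group K) := theta0.codRestrict (chevG2.group K) theta0_mem

theorem theta1_injective : Function.Injective theta1 := by
  rw [← MonoidHom.ker_eq_bot_iff]
  rcases (MonoidHom.normal_ker theta1).eq_bot_or_eq_top with h | h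
  · exact h
  · exfalso
    have hx : gP 1 ∈ theta1.ker := by rw [h]; trivial
    rw [MonoidHom.mem_ker] at hx
    have h1 : theta0 (gP 1) = 1 := congrArg Subtype.val hx
    rw [theta0_gP 1 (by decide)] at h1
    exact genC1_ne_one h1

theorem card_G2 : Nat.card ↥(chevG2.group K) = 251596800 := by
  rw [Cfsg.Agent.S1059.result (F := K) (q := 4) Cfsg.Agent.Lib.Helper28.Sp44F4.F4.card_eq]
  norm_num

theorem theta1_bijective : Function.Bijective theta1 := by
  have : Finite ↥(chevG2.group K) := Nat.finite_of_card_ne_zero (by rw [card_G2]; norm_num)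
  apply theta1_injective.bijective_of_nat_card_le
  rw [card_G24, card_G2]

/-! ### the subgroup of the presented Suzuki group -/

/-- the generators of `Suz` with the indices of `G24Pres` -/
def genSuz : ℕ → Suz.Gen
  | 0 => .a
  | 1 => .c
  | 2 => .d
  | 3 => .b
  | 4 => .e
  | _ => .f

/-- their images in the presented group -/
noncomputable def gSuz (x : ℕ) : Cfsg.Spor.Suz := PresentedGroup.of (genSuz x)

theorem lab_eq : ∀ x < 6, ∀ y < 6, coxLabel Suz.edges (genSuz x) (genSuz y) = pres.lab x y := by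
  decide

theorem node_mem : ∀ x < 6, genSuz x ∈ coxNodes Suz.edges := by decide

theorem mk_eq_one (r : FreeGroup Suz.Gen)
    (hr : r ∈ (coxRelators Suz.edges ∪ {r | r ∈ Suz.extra})) :
    PresentedGroup.mk (coxRelators Suz.edges ∪ {r | r ∈ Suz.extra}) r = 1 :=
  PresentedGroup.one_of_mem hr

theorem rel_gSuz : pres.Rel gSuz := by
  refine ⟨?_, ?_⟩
  · intro x hx y hy
    have := mk_eq_one ((FreeGroup.of (genSuz x) * FreeGroup.of (genSuz y)) ^ pres.lab x y)
      (Or.inl ⟨genSuz x, node_mem x hx, genSuz y, node_mem y hy, by rw [lab_eq x hx y hy]⟩)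
    simpa [gSuz, PresentedGroup.of] using this
  · intro e he
    have he' : e = (.mul (.gen 0) (.inv (.pow (.mul (.gen 1) (.gen 2)) 4))) ∨
        e = (.pow (.mul (.mul (.mul (.gen 0) (.gen 3)) (.gen 1)) (.gen 5)) 5) ∨
        e = (.pow (.mul (.pow (.mul (.mul (.mul (.mul (.gen 3) (.gen 1)) (.gen 2)) (.gen 1)) (.gen 2)) 5) (.gen 4)) 3) := by
      simpa [pres] using he
    rcases he' with rfl | rfl | rfl
    · have hmem : Suz.a * ((Suz.c * Suz.d) ^ 4)⁻¹ ∈
          (coxRelators Suz.edges ∪ {r | r ∈ Suz.extra}) := Or.inr (by simp [Suz.extra])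
      have := mk_eq_one _ hmem
      simpa [WExp.eval, gSuz, PresentedGroup.of, genSuz] using this
    · have hmem : (Suz.a * Suz.b * Suz.c * Suz.f) ^ 5 ∈
          (coxRelators Suz.edges ∪ {r | r ∈ Suz.extra}) := Or.inr (by simp [Suz.extra])
      have := mk_eq_one _ hmem
      simpa [WExp.eval, gSuz, PresentedGroup.of, genSuz] using this
    · have hmem : ((Suz.b * Suz.c * Suz.d * Suz.c * Suz.d) ^ 5 * Suz.e) ^ 3 ∈
          (coxRelators Suz.edges ∪ {r | r ∈ Suz.extra}) := Or.inr (by simp [Suz.extra])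
      have := mk_eq_one _ hmem
      simpa [WExp.eval, gSuz, PresentedGroup.of, genSuz] using this

/-- the homomorphism from the presented group `G24` -/
noncomputable def pi : G24 →* Cfsg.Spor.Suz :=
  PresentedGroup.toGroup (f := fun s => gSuz (natOfGen s)) (link.lift_rel wf rel_gSuz)

theorem pi_of (s : G24Def.Gen) : pi (PresentedGroup.of s) = gSuz (natOfGen s) :=
  PresentedGroup.toGroup.of _

/-- the subgroup `⟨a, …, f⟩` -/
noncomputable abbrev H : Subgroup Cfsg.Spor.Suz :=
  (Subgroup.closure ({Suz.a, Suz.b, Suz.c, Suz.d, Suz.e, Suz.f} :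
    Set (FreeGroup Suz.Gen))).map
    (PresentedGroup.mk (coxRelators Suz.edges ∪ {r | r ∈ Suz.extra}))

theorem range_pi : pi.range = H := by
  rw [MonoidHom.range_eq_map, ← PresentedGroup.closure_range_of, MonoidHom.map_closure]
  show _ = (Subgroup.closure _).map _
  rw [MonoidHom.map_closure]
  congr 1
  ext x
  constructor
  · rintro ⟨_, ⟨s, rfl⟩, rfl⟩
    rw [pi_of]
    cases s
    · exact ⟨Suz.a, by simp, rfl⟩
    · exact ⟨Suz.b, by simp, rfl⟩
    · exact ⟨Suz.c, by simp, rfl⟩
    · exact ⟨Suz.d, by simp, rfl⟩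
    · exact ⟨Suz.e, by simp, rfl⟩
    · exact ⟨Suz.f, by simp, rfl⟩
  · rintro ⟨_, hs, rfl⟩
    simp only [Set.mem_insert_iff, Set.mem_singleton_iff] at hs
    rcases hs with rfl | rfl | rfl | rfl | rfl | rfl
    · exact ⟨_, ⟨G24Def.Gen.a, rfl⟩, by rw [pi_of]; rfl⟩
    · exact ⟨_, ⟨G24Def.Gen.b, rfl⟩, by rw [pi_of]; rfl⟩
    · exact ⟨_, ⟨G24Def.Gen.c, rfl⟩, by rw [pi_of]; rfl⟩
    · exact ⟨_, ⟨G24Def.Gen.d, rfl⟩, by rw [pi_of]; rfl⟩
    · exact ⟨_, ⟨G24Def.Gen.e, rfl⟩, by rw [pi_of]; rfl⟩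
    · exact ⟨_, ⟨G24Def.Gen.f, rfl⟩, by rw [pi_of]; rfl⟩

theorem card_Suz : Nat.card Cfsg.Spor.Suz = 448345497600 := SuzMain.card_suz

/-- if the generators `a, …, f` were trivial, so would be the whole group -/
theorem pi_ne_one : ∃ x : G24, pi x ≠ 1 := by
  by_contra hcon
  push Not at hcon
  have hof : ∀ s : G24Def.Gen, gSuz (natOfGen s) = 1 := fun s => by rw [← pi_of]; exact hcon _
  have hb : (PresentedGroup.of Suz.Gen.b : Cfsg.Spor.Suz) = 1 := hof G24Def.Gen.b
  have hg : (PresentedGroup.of Suz.Gen.g : Cfsg.Spor.Suz) = 1 := by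
    have h1 := mk_eq_one ((FreeGroup.of Suz.Gen.g * FreeGroup.of Suz.Gen.b) ^ 3)
      (Or.inl ⟨Suz.Gen.g, by decide, Suz.Gen.b, by decide, by decide⟩)
    have h2 := mk_eq_one ((FreeGroup.of Suz.Gen.g * FreeGroup.of Suz.Gen.g) ^ 1)
      (Or.inl ⟨Suz.Gen.g, by decide, Suz.Gen.g, by decide, by decide⟩)
    have h1' : ((PresentedGroup.of Suz.Gen.g : Cfsg.Spor.Suz) *
        PresentedGroup.of Suz.Gen.b) ^ 3 = 1 := by simpa [PresentedGroup.of] using h1
    have h2' : ((PresentedGroup.of Suz.Gen.g : Cfsg.Spor.Suz) *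
        PresentedGroup.of Suz.Gen.g) = 1 := by simpa [PresentedGroup.of] using h2
    rw [hb, mul_one] at h1'
    calc (PresentedGroup.of Suz.Gen.g : Cfsg.Spor.Suz)
        = (PresentedGroup.of Suz.Gen.g) ^ 3 *
          ((PresentedGroup.of Suz.Gen.g * PresentedGroup.of Suz.Gen.g))⁻¹ := by group
      _ = 1 := by rw [h1', h2']; simp
  have hall : ∀ s : Suz.Gen, (PresentedGroup.of s : Cfsg.Spor.Suz) = 1 := by
    intro s
    cases s
    · exact hof G24Def.Gen.a
    · exact hof G24Def.Gen.b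
    · exact hof G24Def.Gen.c
    · exact hof G24Def.Gen.d
    · exact hof G24Def.Gen.e
    · exact hof G24Def.Gen.f
    · exact hg
  have htop : (⊤ : Subgroup Cfsg.Spor.Suz) = ⊥ := by
    rw [← PresentedGroup.closure_range_of, Subgroup.closure_eq_bot_iff]
    rintro _ ⟨s, rfl⟩
    exact hall s
  have hcard : Nat.card Cfsg.Spor.Suz = 1 := by
    rw [← Subgroup.card_top, htop, Subgroup.card_bot]
  rw [card_Suz] at hcard
  norm_num at hcard

theorem pi_injective : Function.Injective pi := by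
  rw [← MonoidHom.ker_eq_bot_iff]
  rcases (MonoidHom.normal_ker pi).eq_bot_or_eq_top with h | h
  · exact h
  · exfalso
    obtain ⟨x, hx⟩ := pi_ne_one
    apply hx
    have : x ∈ pi.ker := by rw [h]; trivial
    exact this

/-- the subgroup `⟨a, …, f⟩` is isomorphic to `G₂(4)` -/
theorem main : Nonempty (H ≃* ↥(chevG2.group K)) := by
  let e1 : G24 ≃* pi.range := MonoidHom.ofInjective pi_injective
  let e2 : pi.range ≃* H := MulEquiv.subgroupCongr range_pi
  let e3 : G24 ≃* ↥(chevG2.group K) := MulEquiv.ofBijective theta1 theta1_bijective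
  exact ⟨(e2.symm.trans e1.symm).trans e3⟩

end Cfsg.Agent.Lib.Helper98.G24Iso
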