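import Mathlib
import Cfsg.Agent.Lib.Helper98.PermChain

/-!
# Certificate data for the Hall-Janko group on 100 points

Generators `3`, `4` have order 5; generators `0`, `1`, `2` are words in them generating the
stabiliser chain for the base `[0, 37, 41, 1]`.
-/

set_option autoImplicit false
set_option maxRecDepth 100000

namespace Cfsg.Agent.Lib.Helper98.J2Data

open Cfsg.Agent.Lib.Helper89 Cfsg.Agent.Lib.Helper89.TableChain2 Cfsg.Agent.Lib.Helper89.NormChain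
open Cfsg.Agent.Lib.Helper98.PermChain

def tabC : List ℕ := [
  1675782092577760409722080101553374836924730320091998037685623815260501714258207505301696704747651816097614482647333046278326969278312776168912734287154310280369263035199552794865171791656035830150941084618200859619260791707960014829685448960,
  1154831515168005192176159495075203091272743531990544938428842758666484761070226955551763163619483296890916421188145529737143080740323528616339050281298235975957699307581070323581681510424511156658317159038403218930297626736849332743716609280,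
  1572516016179396022582415982222919309902771228257008808647265947706396150841824196221366445583629622681534793820160491357016384214502802971426800181783254624441312707153932986407296787582907348755419471602876905481221922074978321805669894400,
  2301208483378048270611116089151615022026983454851987611673303299828099845921474946176633214787031641878011302903150300757382884543443143702128561477348377428430096682653074197657635730714501790544029272001322273228361207491182505513908441360,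
  783773651447578803207706392913005516288407424799952416109071069948784367108584027972779458031603192326727678531849253242709413828348931023406640690858358714172513519837892892052314023073742136391427052594442552409448090195615848720984007180]

def tabIC : List ℕ := [
  1622476031456745625234684134498432633122253704020559882872792442676215879869767982550427530153470998228065366900813713605645056139320361128905403307062823439240190109887395263040024319901236478192912297685362882917487613187857576497393173760,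
  1545555741397183850758663670525641884385934272088913339741540758637634322117836464128509204854640527868555065281048530062076556300726500829326067131105852701539447031048308968956071214834140674052372458593325500559466449062414829950442145280,
  2326455387052234095196111512596026134275795616764701079400877091277017221201002059988122757027854686573566293364335608865050980138250059533312065348102640766496558684543599488299003922512643862488581000809977342435808907176346956835853702400,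
  524524488073918870581358713143709037297373770904995634727722547102428669476241415498559299956535115151101352807525531806906038679883351877588781465919530611336190052146992515269334385773245856806055279058313782725800494070676693650605626910,
  625235302969890981519884513959458237771808645499409881912458034761750200910944699802208786283775987671790621815116371177911661527905023235434081406384022142634029759237240952448106186948800878256990892223761796531952818248139591530284080655]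

def tab (j x : ℕ) : ℕ := ((tabC.getD j 0) >>> (8 * x)) &&& 255

def tabI (j x : ℕ) : ℕ := ((tabIC.getD j 0) >>> (8 * x)) &&& 255

theorem tab_ok : tabCheck 100 5 tab tabI = true := by decide +kernel

def T0 : List (List ℕ) := [
  [],
  [1, 4, 2, 3],
  [2, 2, 3],
  [0, 3, 0, 3],
  [4, 1, 1, 3],
  [2, 4, 2, 3],
  [4, 2, 3],
  [0, 1, 2, 2, 3],
  [3, 4, 2, 0, 3],
  [3, 0, 3],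
  [1, 2, 1, 3],
  [1, 1, 0, 3],
  [4],
  [3, 1, 1, 3],
  [1, 2, 3],
  [0, 2, 3],
  [3],
  [2, 3, 0, 3],
  [0, 3],
  [4, 2, 0, 3],
  [2, 3],
  [3, 4, 3],
  [1, 2, 2, 3],
  [4, 3, 0, 0, 3],
  [0, 1, 3],
  [1, 0, 3],
  [1, 1, 3],
  [1, 3],
  [2, 0, 3],
  [1, 1, 4, 2, 3],
  [2, 4],
  [2, 1, 0, 3],
  [2, 1, 3],
  [2, 2, 2, 3],
  [4, 2, 4],
  [0, 0, 3],
  [2, 0, 0, 3],
  [4, 1, 2, 3],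
  [4, 1, 3],
  [3, 1, 4, 3],
  [1, 3, 3, 0, 3],
  [3, 3],
  [3, 4, 2, 3],
  [4, 1, 2, 2, 3],
  [3, 3, 0, 3],
  [0, 3, 3, 3],
  [4, 3, 2, 2, 3],
  [2, 1, 3, 3],
  [4, 4, 2, 3],
  [1, 4, 4],
  [3, 3, 4, 0, 3],
  [1, 2, 3, 3],
  [0, 4, 3, 3],
  [3, 3, 4],
  [4, 1, 3, 3],
  [0, 3, 3, 0, 3],
  [4, 3],
  [2, 4, 3, 3],
  [3, 4, 0, 3],
  [3, 4, 2, 1, 3],
  [3, 2, 2, 3],
  [4, 2, 0, 0, 3],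
  [2, 3, 4],
  [4, 3, 4],
  [4, 4, 0, 3],
  [4, 4, 3, 3],
  [3, 2, 3, 3],
  [2, 3, 3],
  [2, 2, 3, 4],
  [1, 4, 3, 3],
  [3, 4, 3, 3],
  [0, 4, 0, 3],
  [4, 1, 1, 0, 3],
  [2, 2, 3, 3],
  [3, 4, 1, 3],
  [0, 3, 3, 4],
  [1, 4, 3],
  [3, 3, 3],
  [3, 4],
  [3, 2, 2, 2, 3],
  [1, 3, 3],
  [1, 1, 3, 3],
  [2, 3, 3, 4],
  [4, 4],
  [2, 0, 4, 3, 3],
  [4, 4, 4],
  [2, 4, 0, 3],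
  [3, 1, 1, 0, 3],
  [4, 3, 3],
  [3, 3, 0, 0, 3],
  [0, 3, 4],
  [4, 2, 2, 2, 3],
  [1, 3, 3, 3],
  [3, 0, 3, 4],
  [3, 2, 0, 3],
  [3, 1, 0, 3],
  [4, 2, 1, 3],
  [4, 0, 3],
  [3, 0, 0, 3],
  [3, 2, 3]]

def E0 : List (List (ℕ × List ℕ)) := [
  [(0, [0]), (33, [0, 1, 2, 0, 0, 2, 1, 1, 1, 1, 1, 1, 0, 0]), (14, [2, 0, 0, 2, 0, 1, 0, 0]), (28, [0, 1, 0, 2, 1, 1, 1, 0, 1, 0, 0]), (2, [1, 1, 0, 2, 1, 0, 1, 0, 0, 1, 0]), (1, [1, 1, 0, 0, 1, 0, 1, 0, 0]), (36, [0, 1, 2, 0, 0, 2, 0, 1, 0, 1, 0, 0]), (29, [2, 1, 1, 0, 0, 2, 0, 0, 1, 0, 1, 0, 0]), (10, [1, 2, 1, 1, 0, 2, 1, 1, 1, 0, 1, 0, 0]), (3, []), (23, [1, 0, 1, 2, 2, 1, 1]), (13, [1, 2, 1, 2, 0, 1]), (27, [1, 1, 2, 1, 1, 2, 1, 1, 0, 1, 0, 0, 1]), (26, [1, 2, 2, 1, 2, 1, 1, 1, 0, 1, 0, 0]),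 (4, [1, 0, 1, 2, 1, 1, 1, 0, 0, 1]), (17, [0, 1, 2, 0, 0, 2, 0, 1, 0, 1, 0, 0]), (18, []), (20, [0, 1, 0, 2, 1, 1, 1, 0, 1, 0, 0]), (35, []), (30, [1, 0, 1, 2, 1, 1, 1, 1, 1, 1, 0, 0]), (15, []), (25, [1, 1, 1, 2, 0, 0, 1]), (7, []), (8, [1, 1, 0, 1, 2, 1, 0, 1, 0, 1, 0, 0]), (12, [2, 2, 1, 1, 2, 1, 1, 1, 1, 0, 0, 1, 0]), (34, [1, 1, 2, 1, 1, 2, 0, 1, 0]), (11, []), (24, []), (9, [0, 1, 2, 0, 0, 2, 0, 1, 0, 1, 0, 0]), (22, [2, 1, 1, 2, 1, 1, 2, 1, 1, 1, 0, 1, 0, 0, 1, 0]), (32, [1, 1, 0, 1, 0, 1, 0]), (6, [1, 1, 2, 1, 1, 1, 1, 1, 1, 0, 0]), (19, [2, 1, 0]), (5, [0, 1, 0, 2, 1, 1, 1, 0, 1, 0, 0]), (21, [1, 1, 0, 0, 2, 1, 0, 1, 0, 0, 1, 0]), (16, []), (31, [2, 0, 0, 2, 0, 1, 0, 0, 1, 0, 0]), (37, [1, 2, 2, 2, 1, 0, 0, 1, 0, 0, 1, 0, 0]), (78,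 [1, 2, 1, 1, 0, 1, 0, 1, 0, 0]), (82, [0, 1, 0, 2, 1, 1, 0, 1]), (59, [1, 0, 1, 2, 2, 0, 0, 1]), (41, [1, 1, 1, 0, 1, 2, 1, 1, 1, 0, 1, 0, 0, 1]), (63, [2, 1, 1, 0, 0, 2, 0, 1, 0, 0, 1, 0]), (77, [1, 2, 1, 2, 0, 0, 2, 1, 1, 0, 0, 1, 0, 0, 1]), (55, []), (43, [2, 2, 1, 1, 0, 2, 1, 1, 0, 1, 0, 0, 1, 0, 0]), (66, [1, 2, 2, 1, 2, 1, 1, 1, 1, 0, 1]), (89, [1, 0, 1, 0, 2, 0, 0, 1, 0, 0, 1, 0]), (39, [0, 1, 0, 1, 0, 2, 1, 1, 0, 1, 0, 1, 0]), (94, [2, 1, 1, 0, 0, 1, 0, 1, 0]), (79, [1, 2, 1, 1, 0, 0, 1, 0, 0, 1]), (51, [0, 1, 0, 2, 0, 0]), (56, [1, 0, 0, 2, 1, 1, 1, 1, 0, 0]), (75, []), (67, [1, 0, 1, 2, 2, 1, 1, 1]), (61, [2, 2, 0, 1, 0, 0, 1, 0]), (88, [1, 1, 2, 1, 0, 0, 1]), (84, [2, 1, 1, 0, 1, 2, 1, 1, 1, 0]), (58, [2, 1, 0]), (72, [1, 2, 2,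 1, 0, 1, 0, 1, 0]), (49, [1, 2, 2, 1, 0, 0]), (44, [2, 1, 2, 0, 0, 2, 1, 1, 1, 0, 0, 1, 0, 0]), (99, [0, 2, 1, 1, 0, 0, 2, 1, 1, 1, 0, 0, 1, 0, 1, 0]), (65, [1, 0, 2, 0, 1, 0, 0, 1, 0]), (62, [1, 1, 0, 2, 1, 1, 0, 0, 1, 0, 0, 1, 0, 0]), (42, [2, 1, 1, 0, 1, 2, 1, 0, 0, 1, 0, 0, 1]), (87, [1, 0, 1, 0, 0, 1, 0, 0]), (76, [2, 1, 0, 1, 2, 2, 1, 1, 1, 0, 1, 0, 0]), (53, [1, 2, 1, 1, 2, 1, 1, 1, 0, 1, 0]), (47, [2, 2, 1, 0, 1, 2, 2, 1, 1, 1, 1, 0]), (50, [2, 2, 1, 1, 0, 2, 1, 0, 1]), (93, [1, 2, 1, 2, 0, 0, 2, 1, 1, 0, 0, 1, 0, 1, 0]), (40, [0, 1, 0, 2, 0, 0, 1, 0, 1, 0, 0]), (73, [1, 1, 1, 0, 1, 2, 1, 1, 1, 0, 1, 0, 0, 1]), (98, [2, 1, 0, 1, 2, 2, 1, 1, 1, 1, 1, 1, 0, 0]), (68, [2, 2, 1, 1, 0, 2, 0, 1, 0, 0, 1, 0]), (54, [1, 2, 2, 1, 2, 0, 1,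 0, 1, 0, 1, 0, 0]), (45, []), (90, []), (70, [2, 1, 1, 0, 2, 1, 0, 0, 1, 0, 1]), (85, [0, 1, 2, 1, 1, 1, 0, 0, 1]), (81, [1, 1, 1, 0, 1, 2, 1, 1, 1, 0, 1, 0, 0, 1]), (48, [1, 2, 1, 2, 0, 0]), (83, [1, 2, 1, 1, 0, 0, 1, 0, 0, 1, 0, 0]), (91, [1, 1, 0, 0, 2, 0, 0, 1, 0, 0, 1, 0]), (96, [1, 2, 1, 2, 1, 1, 1, 0, 0, 1]), (74, [2, 2, 1, 1, 1, 0, 1, 2, 1, 0, 0, 1, 0]), (46, [2, 1, 2, 0, 0, 2, 1, 1, 1, 0, 0]), (52, []), (69, [0, 1, 0, 1, 0, 2, 1, 0, 1]), (38, [2, 1, 1, 0, 0, 1, 0, 1, 0]), (57, [2, 1, 2, 0, 0, 2, 1, 1, 1, 1, 1, 1, 0]), (92, [2, 1, 2, 2, 1, 2, 1, 1, 1, 1, 0, 1]), (97, [2, 2, 1, 1, 2, 1, 1, 0, 1, 0, 0, 1]), (60, [1, 1, 0, 0, 2, 1, 0, 1, 0, 0]), (95, [0, 2, 1]), (80, [2, 2, 1, 0, 1, 2, 1, 1, 0, 0, 1, 0, 0, 1, 0]), (71, []), (86, [2,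 1, 1, 1, 0, 1, 2, 1, 1, 1, 1, 1]), (64, [2, 2, 1, 2, 1, 0, 1, 0, 0, 1, 0])],
  [(0, [1]), (29, []), (22, []), (33, [1, 1, 0, 2, 1, 1, 1, 0, 1, 0, 0]), (8, [0, 1, 2, 2, 1, 0, 0]), (19, [1, 0, 1, 2, 1, 2, 1, 1, 1, 0, 0, 1, 0, 1]), (1, []), (4, [2, 2, 1, 1, 1, 0, 1, 2, 0, 0, 1, 0, 1]), (36, [1, 0, 2, 1, 1, 0, 1, 0, 1]), (3, [2, 2, 1, 1, 0, 2, 1, 1, 1, 1, 0, 1]), (20, [1, 2, 1, 2, 1, 0, 0, 1, 0, 1]), (12, [2, 1, 1, 1, 0, 1, 2, 1, 1, 1, 1, 1, 1, 0, 0]), (18, [1, 2, 1, 2, 1, 0, 0, 1, 0]), (24, [2, 1, 2, 2, 1, 2, 0, 1, 0, 1, 0, 1, 0, 0]), (28, [1, 1, 2, 1, 1, 2, 1, 1, 1, 1, 0]), (17, [0, 1, 2, 2, 1, 0]), (27, []), (9, [0, 0, 2, 1, 1]), (25, []), (30, [1, 2, 1, 2, 0, 0, 1, 0, 0, 1, 0]), (14, []), (13, [2, 0, 1, 0, 1, 0, 2, 0, 0, 1, 0, 0, 1, 0]),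 (31, [1, 0, 1, 0, 1, 2, 2, 1, 1, 0, 0, 1, 0, 1, 0]), (7, [1, 0, 1, 0, 2, 1, 0, 1, 0, 1]), (35, [2, 2]), (11, []), (34, [1, 1, 1, 2, 1, 2, 0, 0, 1, 0]), (26, []), (6, [1, 0, 2, 1, 0, 0]), (32, [2, 1, 1, 2, 0]), (15, [0, 1, 2, 1, 1, 1, 0, 1, 0, 0, 1]), (23, [0, 1, 2, 2, 0, 0, 1, 0]), (10, []), (5, [2, 1, 2, 2, 1, 2, 1, 1, 1, 0, 0, 1, 0, 1, 0]), (16, [2, 0, 0, 2, 1, 1, 1, 1, 1, 0]), (21, [2, 2, 2, 0, 0, 1, 0, 0, 1]), (2, [2, 1, 2, 2, 1, 2, 1, 1, 0, 1, 0, 1, 0]), (37, [2, 1, 2, 1, 0, 1, 0, 0, 1]), (78, [1, 2, 1, 2, 1, 1, 1]), (59, [1, 2, 1, 1, 2, 1, 1, 1, 1, 1, 1]), (82, [2, 2, 1, 1, 1, 1, 0, 0, 1, 0]), (80, []), (71, [0, 1, 0, 1, 2, 2, 1, 1, 1, 0, 0, 1, 0, 1]), (60, [2, 2, 1, 1, 0, 2, 1, 0, 1, 0, 0, 1, 0]), (40, []), (42, [2, 1, 2, 2, 1, 2,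 0, 0, 1, 0, 0]), (87, [2, 1, 2, 0, 0, 2, 1, 1, 1, 0]), (83, [0, 0, 1, 2, 0, 1, 0, 1, 0, 1, 0, 0]), (53, [2, 2, 1, 0, 1, 2, 2, 0, 0, 1, 0, 0, 1]), (73, [1, 2, 2, 1, 2, 1, 1, 1, 0, 0, 1, 0, 1]), (48, [2, 1, 2, 2, 2, 1, 1, 0, 1, 0, 0, 1]), (65, [2, 1, 2, 0, 0, 2, 1, 1, 1, 0, 0]), (95, [2, 1, 1, 2, 1, 1, 2, 1, 0, 1, 0, 0, 1, 0]), (62, [2, 1, 2, 2, 2, 1, 0]), (96, [0, 1, 2, 1, 0, 0, 1, 0, 0, 1, 0]), (50, [2, 1, 1, 2, 1, 0, 0, 1, 0, 0]), (76, []), (91, [1, 1, 0, 2, 0, 1, 0, 1, 0, 1]), (47, [1, 1, 1, 0, 1, 2, 1, 1, 1, 0, 0, 1, 0, 1, 0]), (99, [2, 2, 1, 1, 2, 1, 1, 1, 1]), (93, [2, 2, 1, 0, 1, 2, 1, 1, 1, 0, 0]), (64, [2, 1, 0, 1, 2, 1, 1, 1, 1]), (66, [2, 1, 1, 0, 0, 2, 1, 1, 1, 1, 0, 0, 1, 0]), (88, [2, 1, 1, 2, 1, 1, 2, 1, 1, 1, 1, 1, 1]), (39,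 [2, 1, 1, 2, 1, 1, 2, 0, 0]), (58, [2, 0, 1, 0, 0, 1]), (72, [1, 1, 2, 1, 0, 1, 0, 0, 1]), (51, []), (75, [2, 2, 1, 0, 1, 2, 2, 1, 1, 0, 1, 0, 0]), (43, [2, 0, 1, 0, 1, 0, 1, 0, 0]), (79, [2, 2, 1, 2, 0, 1, 0, 0, 1, 0, 0]), (89, [0, 2, 1, 1, 0, 0, 2, 0, 0, 1, 0, 1, 0, 0]), (84, [1, 1, 0, 0, 2, 1, 1, 1, 1, 1, 0, 0]), (67, [2, 0, 0, 2, 1, 1, 0, 0, 1, 0]), (90, [2, 0, 1, 0, 1, 0, 1]), (46, [0, 1, 0, 2, 0]), (45, [2, 1, 1, 0, 1, 2, 0, 1, 0]), (92, []), (38, [1, 0, 1, 2, 0, 1, 0, 1, 0, 0]), (68, [2, 1, 2, 2, 2, 1, 1, 0, 0, 1, 0, 1, 0, 0]), (81, []), (52, [0, 1, 2, 1, 2, 1, 1, 0, 1, 0, 1]), (61, [1, 0, 1, 2, 0, 0, 1, 0, 0, 1, 0]), (49, []), (55, [0, 0, 2, 1, 1, 0, 1, 0, 1, 0, 0]), (94, [2, 2, 2, 0]), (98, [1, 0, 1, 0, 1, 2, 2, 1, 1, 0, 1, 0, 0]),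 (57, [0, 1, 0, 1, 0, 2, 0, 1, 0, 0, 1, 0]), (69, []), (85, [0, 0, 1]), (74, [2, 1, 1, 2, 1, 1, 0, 0, 1, 0, 0, 1, 0, 0]), (70, [1, 2, 1, 2, 0, 0, 2, 1, 1, 0, 0, 1, 0, 0]), (97, [2, 1, 2, 1, 1, 0, 1, 0, 1, 0]), (54, [2, 1, 0, 1, 2, 2, 0]), (56, [2, 2, 1, 1, 2, 1, 1, 1, 0, 0, 1, 0]), (77, [0, 0, 1, 2, 1, 1, 1, 1, 1, 1, 0]), (63, [0, 1, 0, 1, 2, 2, 0, 1, 0, 0, 1, 0]), (41, [2, 2, 1, 0, 1, 2, 2, 0, 0, 1, 0, 0, 1, 0, 0]), (86, [0, 1, 0, 1, 0, 2]), (44, [1, 0, 2, 0, 1, 0, 1, 0])],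
  [(0, [2]), (9, [2, 1, 1, 2, 0, 1, 0, 1]), (33, []), (11, [0, 2, 1, 1, 0, 0, 2, 1, 0, 0, 1, 0]), (26, [1, 2, 1, 1, 0, 0, 2, 1, 1, 1, 0, 1]), (13, [1, 0, 1, 0, 1, 2, 2, 1, 1, 0, 1, 0, 0, 1]), (5, []), (23, [2, 2, 2, 0, 1, 0, 1]), (8, [1, 1, 2, 1, 1, 2, 1, 1, 1, 0, 1, 0, 0]), (17, []), (22, [0, 2, 1, 0, 1, 2, 1, 0, 0, 1, 0, 1, 0]), (25, [0, 2, 0, 1, 0, 1, 0, 1, 0]), (30, []), (15, [0, 2, 1, 0, 1, 0, 1]), (34, [2, 2, 1, 2, 1, 1, 1, 0, 1, 0, 0]), (6, [0, 1, 0, 2, 1, 1, 1, 0, 1, 0, 0]), (20, []), (21, [2, 1, 1, 1, 0, 1, 2, 1, 1, 1, 0, 0, 1]), (28, []), (19, [0, 0, 2, 1, 1]), (2, []), (1, [2, 1, 1, 1, 0, 1, 2, 1, 1, 0, 1, 0, 0, 1]), (10, [1, 1, 2, 1, 1, 1, 0, 0, 1]), (7, [2, 1, 2, 2, 1, 2, 1, 0, 0, 1, 0, 0, 1, 0]), (24, [1, 1, 2, 1, 1, 2, 1, 1,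 1, 1, 0]), (31, []), (35, [1, 2, 2, 1, 2, 0, 0, 1, 0, 0, 1, 0]), (32, []), (14, [2, 0, 0, 2, 0, 1, 0, 0]), (29, [0, 1, 2, 1, 2, 1, 0, 1]), (12, [0, 2, 1, 1, 0, 0, 2, 0, 1, 0]), (3, [1, 1, 2, 0, 1, 0, 1, 0, 1, 0]), (27, [2, 2, 1, 0, 1, 2, 0, 1, 0, 1, 0, 1, 0, 0]), (16, []), (18, [2, 2, 1, 0, 1, 2, 0, 0, 1]), (36, []), (4, [0, 1, 2, 1, 0, 0, 1, 0, 0, 1]), (55, [0, 1, 2, 1, 1, 1, 1, 0, 1, 0, 0]), (49, [1, 0, 1, 2, 2, 0, 0, 1]), (94, [1, 0, 1, 0, 2, 1, 1, 1, 0, 0, 1, 0, 1, 0, 0]), (61, [2, 1, 2, 2, 1, 2, 1, 1, 1, 1, 1, 0, 0]), (67, []), (79, [1, 2, 1, 2, 0, 0, 2, 1, 0, 1, 0, 0, 1]), (89, [2, 2, 1, 1, 2, 1, 1, 1, 0, 1, 0]), (72, [1, 1, 1, 2, 1, 2, 0, 0]), (78, [2, 1, 0, 1, 2, 1, 0, 0, 1, 0]), (41, [1, 1, 1, 2, 1, 2, 0, 1]), (39, [2, 2, 1, 0, 1,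 2, 2, 0, 1, 0, 0, 1, 0]), (77, [2, 1, 1, 2, 1, 1, 2, 0, 0, 1, 0, 0, 1, 0]), (75, [1, 0, 1, 2, 2, 0, 1, 0, 1, 0, 0]), (58, [1, 2, 1, 2, 1, 1, 1, 0, 1, 0, 0, 1]), (59, [1, 0, 1, 0, 0]), (84, []), (82, []), (66, [2, 1, 1, 0, 1, 2, 1, 1, 0, 1, 0, 0, 1, 0, 0]), (51, [0, 1, 2, 1, 1, 1, 0, 0, 1, 0, 0]), (56, [2, 1, 2, 1, 1, 1, 0]), (88, [1, 2, 2, 1, 2, 1, 1, 1, 1, 1, 0]), (63, [2, 1, 1, 2, 1, 1, 2, 1, 1, 0, 1, 0, 0]), (37, [0, 1, 2, 1, 2, 1, 0, 1, 0, 1]), (43, [2, 1, 1, 0, 1, 2, 1, 0, 1, 0, 0, 1]), (44, [2, 2, 2, 1, 1, 0, 1, 0, 0, 1, 0, 0]), (68, []), (92, [2, 0, 0]), (48, [2, 1, 1, 0, 2, 1, 1, 1, 0, 0]), (42, [2, 1, 1, 0, 1, 2, 1, 0, 0, 1, 0, 1]), (87, [1, 0, 1, 2, 1, 1, 0, 0]), (73, []), (45, [2, 2, 1, 1, 1, 0, 1, 2, 1, 1, 1, 0, 1, 0, 0, 1, 0]),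 (38, [1, 1, 0, 2, 1, 1, 1, 1, 0, 1]), (65, [2, 2, 1, 0, 1, 2, 1, 0, 1, 0, 1]), (81, [2, 2, 1, 0, 1, 2, 2, 1, 0, 1, 0, 0, 1]), (40, [0, 1, 0, 2, 1, 1, 0]), (46, [1, 2, 2, 1, 2, 1, 0, 1, 0, 0]), (93, [0, 1, 2, 2, 0, 1, 0, 0, 1, 0, 0]), (69, [0, 1, 0, 2, 1, 1, 1, 1, 0, 1]), (54, [2, 1, 2, 0, 0, 2, 1, 1, 0, 0, 1, 0, 0, 1, 0]), (96, [2, 1, 2, 2, 2, 1, 0]), (62, []), (70, [1, 1, 0, 0, 2, 1, 0, 0, 1, 0, 1]), (47, []), (98, [0, 1, 2, 1, 2, 1, 1, 1, 1, 0, 0, 1, 0]), (90, [2, 2, 1, 1, 0, 2, 0, 1, 0, 0, 1, 0]), (83, [0, 0, 1, 2, 1, 1, 1]), (52, [1, 2, 2, 1, 2, 1, 1, 1, 1, 1, 0]), (53, [2, 1, 1, 2, 1, 1, 2, 1, 1, 0, 0, 1, 0, 0]), (74, [2, 2, 1, 0, 1, 2, 0, 1, 0, 0]), (76, [0, 2, 1, 1, 0, 0, 2, 1, 1, 1, 0, 1, 0, 0, 1, 0, 0]), (57, []), (99, [0, 1, 0,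 1, 0, 2, 1, 1, 0, 0, 1, 0, 1, 0, 0]), (85, [1, 0, 2, 1, 1, 0, 1, 0, 1]), (91, [1, 2, 2, 2, 0, 1, 0, 0, 1]), (50, [2, 1, 1, 0, 2, 0, 0, 1, 0, 0, 1, 0]), (97, [1, 1, 1, 2, 1, 1, 1, 0, 0, 1]), (80, [1, 1, 0, 0, 2, 1, 0, 1]), (71, [2, 1, 2, 0, 0, 2, 0, 1, 0, 1, 0, 1]), (64, [2, 2, 1, 0, 1, 2, 0, 0, 1, 0, 0, 1, 0, 0]), (86, []), (95, [1, 2, 1, 1, 0, 2, 0, 1, 0, 1, 0, 0]), (60, [2, 2, 2, 1, 1, 1, 0, 0])],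
  [(16, []), (17, [0, 1, 0, 1, 2, 2, 1, 0, 0, 1, 0, 1]), (60, []), (63, [1, 0, 1, 2, 1, 2, 1, 1, 1, 1, 1, 0]), (38, [0, 2, 0, 1, 0, 0, 1, 0]), (23, [2, 0, 0, 2, 1, 1, 1, 0]), (42, []), (37, [0, 2, 1, 1, 0, 0, 2, 1, 1, 1]), (68, [1, 0, 1, 2, 1, 2, 0, 1, 0, 1, 0, 0]), (44, []), (27, [1, 1, 0, 1, 2, 1, 1, 0, 0, 1, 0]), (87, []), (78, []), (67, [1, 1, 1, 0, 1, 2, 1, 1, 0, 0, 1, 0, 1]), (36, [1, 1, 1, 2, 0, 0, 1, 0, 0]), (19, [0, 1, 2, 2, 0]), (41, []), (5, [0, 0, 2, 1, 0, 0, 1, 0, 1, 0]), (9, []), (8, []), (99, []), (64, [1, 1, 1, 1, 2, 1, 2, 0, 1, 0]), (11, [0, 2, 1, 0, 1, 2, 1, 1, 0, 0, 1, 0, 0]), (86, [2, 2, 2, 1, 1, 1, 1, 0, 0, 1, 0]), (31, [0, 1, 2, 1, 1, 1, 0, 1, 0, 0]), (95, []), (13, []), (18, [1, 2, 1, 1, 1, 0, 1, 0]), (94, []), (57,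 [2, 2, 1, 0, 1, 2, 1, 1, 1, 0, 1, 0]), (0, [1, 2, 1, 1, 0, 0, 2, 1, 1, 1, 1, 0, 0, 1, 0, 0]), (61, [2, 1, 2, 2, 1, 2, 1, 1, 1, 1, 1, 1, 0, 0]), (34, [1, 1, 0, 2, 0, 1, 0, 1, 0]), (79, []), (47, [2, 0, 0, 1, 0, 1, 0, 0]), (98, []), (35, [2, 1, 1, 0, 0, 2, 1, 1, 0, 0, 1, 0, 1, 0, 0]), (76, [2, 1, 2, 2, 2, 1, 1, 1, 1, 1]), (74, []), (84, [2, 2, 1, 1, 2, 1, 1, 1, 1, 0]), (20, [0, 0, 1, 2, 1, 1, 1, 0, 1]), (77, []), (75, [2, 0, 1, 0, 1, 0, 2, 1, 0, 1, 0, 1]), (83, [2, 2, 2, 0, 0, 1]), (10, [2, 1, 1, 0, 1, 2, 1, 1, 1, 0, 1, 0]), (85, [1, 1, 1, 2, 1, 1, 1, 0, 0, 1, 0, 0]), (48, [2, 1, 1, 2, 1, 1, 1, 1, 1]), (45, [0, 1, 2, 0, 0, 2, 1, 1, 1, 1, 0, 0, 1, 0, 0]), (82, [2, 1, 1, 2, 1, 1, 2, 1, 1, 0, 0, 1, 0, 0]), (12, [2, 1, 1, 1, 0, 1, 2, 1, 0, 0, 1,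 0, 0, 1, 0, 0]), (80, [2, 2, 1, 1, 1, 0, 1, 2, 1, 1, 0, 1, 0, 0, 1, 0, 0]), (49, [2, 1, 1, 2, 1, 1, 1, 1, 0, 1, 0, 0]), (2, [1, 2, 1, 1, 2, 0, 1, 0, 1]), (51, [1, 1, 2, 1, 2, 1, 1, 1, 0, 0, 1, 0, 1, 0, 0]), (81, [1, 0, 0, 2, 1, 1, 0, 0, 1, 0, 0, 1, 0]), (15, [2, 2, 1, 1, 2, 1, 1, 0, 1, 0, 1, 0, 0]), (21, []), (46, [0, 0, 2, 1, 1, 1, 0, 1, 0, 0, 1]), (50, []), (4, [2, 1, 1, 2, 1, 1, 1, 1, 0, 1, 0, 0]), (28, [0, 1, 2, 1, 2, 1, 1, 1, 0, 0, 1, 0, 1]), (43, [2, 1, 0, 1, 2, 2, 1, 1, 1, 1, 1, 1]), (97, [0, 1, 0, 1, 2, 2, 1, 1, 1, 1, 0, 0, 1]), (56, [2, 1, 1, 2, 1, 1, 2, 1]), (3, [0, 1, 0, 2, 0, 1, 0, 1, 0, 0]), (92, [1, 2, 1, 2, 0, 0, 2, 1, 1, 1, 1]), (91, [2, 1, 2, 1, 1, 0, 0, 1, 0]), (66, []), (55, [1, 1, 1, 1, 2, 1, 2, 1, 1, 1, 0]), (25, [1,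 2, 1, 2, 1, 1, 0]), (40, [1, 2, 1, 2, 0, 0, 2, 1, 1, 1, 0, 0, 1]), (65, [1, 1, 2, 1, 0, 0, 1, 0, 1, 0]), (73, [0, 1, 2, 0, 0, 2, 1, 1, 0, 1, 0, 1, 0]), (71, [2, 1, 1, 0, 0, 2, 1, 1, 0, 0, 1, 0, 0, 1, 0, 0]), (96, [2, 2, 1, 1, 1, 0, 1, 2, 1, 1, 1, 1, 0, 0]), (90, [1, 0, 2, 1, 0, 0, 1, 0, 1, 0, 0]), (39, []), (30, [2, 2, 1, 0, 1, 2, 2, 1, 0, 0, 1, 0]), (53, []), (69, [2, 1, 2, 2, 1, 2, 1, 1, 1, 0]), (62, [0, 0, 1, 2, 1, 1, 1, 0, 1, 0, 0]), (22, [2, 1, 2, 1, 1, 0, 1, 0, 1, 0, 0]), (29, [1, 2, 2, 2, 1, 1, 1, 0, 1, 0, 0]), (24, [1, 0, 0, 2, 1, 1, 1, 1, 0]), (7, [2, 2, 1, 1, 0, 2, 1, 1, 0, 1, 0, 0, 1, 0, 0]), (32, [2, 2, 1, 1, 1, 0, 1, 2, 0, 1]), (1, [0, 0, 2, 1, 1, 1, 1]), (54, [1, 0, 1, 2, 0, 0, 1, 0, 0, 1]), (70, []), (14, [1, 0, 1, 2, 1, 2,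 1, 1, 1, 1, 0, 0, 1, 0]), (93, []), (26, [2, 1, 1, 0, 2, 1, 1, 1, 0, 1, 0, 0, 1]), (72, [0, 1, 0, 2, 1, 1, 0, 1]), (6, [1, 0, 1, 0, 2, 1, 1, 1, 0]), (52, [2, 1, 1, 0, 2, 1, 0, 1, 0, 0, 1, 0]), (33, [0, 1, 2, 0, 0, 2, 0, 1, 0, 1, 0, 1]), (59, []), (58, []), (89, []), (88, [2, 1, 1, 0, 1, 0, 1, 0])],
  [(12, []), (98, [1, 1, 0, 0, 2, 0, 0]), (13, [1, 2, 2, 1, 2, 0, 0, 1, 0]), (71, [2, 1, 1, 1, 0, 1, 2, 1, 1, 0, 0, 1, 0, 0, 1]), (53, [1, 0, 0, 2, 1, 1, 1, 0, 0, 1, 0, 1, 0, 0]), (52, [1, 1, 2, 1, 1, 2, 1, 1, 0, 1, 0, 0, 1, 0]), (48, []), (51, [2, 1, 0, 1, 2, 1, 1, 1, 0, 0, 1, 0, 1, 0, 0]), (84, [1, 0, 1, 2, 1, 1, 1, 1, 0, 1]), (27, [2, 1, 2, 2, 1, 2, 1, 1, 1, 1, 1, 0, 0]), (24, [0, 2, 1, 1, 0, 1, 0, 1]), (72, []), (83, []), (75, [2, 0, 1, 0,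 1, 0, 1, 0, 0]), (37, []), (0, [0, 0, 2, 0]), (56, []), (21, [1, 1, 2, 1, 1, 1, 1, 0, 0, 1, 0, 0]), (97, []), (22, [2, 1, 1, 0, 1, 2, 1, 0, 1, 0, 1, 0]), (6, []), (90, [2, 1, 1, 2, 1, 1, 2, 1, 1, 0, 1, 0, 0, 1, 0]), (43, []), (74, [2, 2, 1, 0, 1, 2, 1, 1, 1, 0, 0, 1, 0, 1]), (99, [2, 2, 1, 0, 1, 2, 1, 0, 1, 0, 1]), (35, [1, 2, 1, 2, 1, 1, 1, 0, 1]), (4, []), (38, []), (19, []), (28, [1, 0, 1, 2, 1, 2, 1, 1, 0, 0, 1, 0, 1]), (34, []), (9, [0, 0, 2, 1, 1, 1, 1, 0]), (96, []), (91, []), (10, [1, 0, 1, 2, 1, 2, 0, 1, 0, 1]), (32, [1, 1, 2, 0, 1, 0, 1, 0, 1, 0]), (61, []), (69, [1, 2, 1, 1, 2, 0, 1, 0, 1]), (49, [2, 1, 2, 0, 0, 2, 1, 1, 1, 1, 0]), (36, [1, 2, 2]), (26, [2, 1, 1, 0, 1, 0, 0]), (88, []), (57, [2, 1, 1, 2, 0, 1, 0, 0, 1, 0, 0]),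 (29, [2, 1, 2, 0, 0, 2, 1, 1, 1, 0, 0, 1, 0, 0]), (58, [0, 1, 0, 1, 2, 2, 1, 1, 1, 1, 1]), (66, [2, 1, 2, 0]), (76, [1, 1, 0, 1, 2, 1, 0, 1, 0, 1, 0, 0]), (92, [1, 0, 0, 2, 0, 0, 1, 0, 1]), (80, [1, 1, 2, 1, 1, 2, 1, 0, 0, 1, 0, 1, 0]), (31, [0, 1, 2, 0, 0, 2, 1, 0, 1, 0, 0, 1, 0]), (11, [0, 1, 0, 1, 0, 2, 1, 1, 0, 0, 1, 0, 0, 1, 0]), (39, [2, 1, 2, 0]), (8, [0, 1, 0, 1, 0, 2, 0, 1, 0, 0, 1, 0]), (68, [1, 0, 2, 1, 1, 1]), (20, [2, 1, 2, 2, 2, 1, 0, 1, 0, 0, 1]), (33, [2, 2, 1, 1, 2, 1, 1, 0, 0, 1, 0, 0, 1, 0, 0]), (78, [2, 1, 1, 2, 1, 1, 2, 1, 1, 0, 0, 1, 0, 0]), (67, [1, 2, 1, 2, 0, 1, 0]), (42, [2, 1, 1, 1, 0, 1, 2, 0, 0, 1, 0, 1, 0]), (70, [2, 1, 1, 2, 1, 0]), (46, []), (7, [2, 2, 1, 0, 1, 2, 2, 1, 1, 1, 1, 0, 0]), (95, [1, 1, 2, 1, 2,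 1, 0, 0]), (93, [0, 1, 2, 1, 1, 1, 1, 1]), (86, [2, 1, 1, 0, 0, 2, 1, 1, 1, 0, 0]), (81, [1, 1, 2, 1, 2, 1, 1, 0, 1, 0]), (55, [2, 1, 1, 0, 0, 1, 0, 1]), (44, [0, 0, 2, 0, 1, 0, 0]), (40, [1, 1, 1, 1, 2, 1, 2, 0, 0]), (59, [2, 2, 1, 1, 1, 0, 1, 2, 0, 1, 0, 1]), (14, [1, 1, 0, 0, 2, 0, 1, 0]), (60, [2, 1, 1, 2, 1, 1, 0, 1, 0, 1]), (89, [1, 0, 1, 2, 1, 2, 1, 1, 0, 1]), (18, [1, 1, 1, 0, 0, 1, 0]), (94, [1, 2, 1, 1, 0, 0, 2, 1, 1, 0, 1]), (47, [2, 1, 1, 2, 1, 1, 2]), (3, [1, 1, 1, 0, 1, 2, 1, 1, 1, 0, 1, 0, 0, 1, 0, 0]), (25, [1, 2, 1, 1, 2, 1, 1, 1, 1, 1, 0, 0]), (63, []), (50, [0, 0, 1, 2, 0]), (54, []), (87, [1, 2, 2, 2, 1, 1, 1, 0, 0, 1, 0, 1, 0, 0]), (5, [1, 1, 2, 1, 2, 1, 1, 1, 0, 0, 1, 0, 1, 0, 0]), (85, []), (82, [1, 1, 0, 0]), (15,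 [1, 0, 0, 2, 1, 1, 0, 1, 0, 1]), (73, [2, 1, 1, 0, 0, 2, 0, 0]), (41, [1, 1, 1, 2, 1, 2, 0, 1]), (65, []), (79, [2, 0, 1, 0, 1, 0, 2, 0, 0, 1, 0]), (62, [1, 2, 2, 1, 0, 1, 0, 0, 1, 0, 0]), (45, [1, 0, 2, 1, 1, 1, 0, 0, 1, 0, 1]), (2, [1, 0, 0, 2, 1, 1, 1, 0, 1, 0, 0, 1, 0, 0]), (16, [1, 2, 2, 1, 1, 0, 0, 1, 0, 1, 0]), (1, [2, 0, 0, 2, 1, 1, 1, 0, 0, 1, 0, 1]), (17, [2, 1, 1, 2, 1, 1, 2, 1, 1, 1, 0, 1, 0, 0, 1]), (77, [0, 1, 2, 2, 1, 0, 1, 0, 0, 1]), (64, []), (23, []), (30, [2, 1, 0, 1, 2, 1, 1, 1, 1, 0, 0])]]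

theorem level0 : levelCheck tab 5 3 0 (List.range 100) T0 E0 = true := by
  decide +kernel

def T1 : List (List ℕ) := [
  [],
  [0, 2, 1, 1, 0, 0, 2],
  [1, 1, 0, 2],
  [1, 0, 0, 2],
  [2, 1, 1, 1, 0, 1, 2],
  [0, 1, 2, 2],
  [0, 2, 1, 0, 1, 2],
  [0, 0, 2],
  [2, 1, 0, 1, 2],
  [1, 1, 1, 0, 1, 2],
  [1, 2, 1, 2],
  [1, 1, 2],
  [1, 1, 1, 2, 1, 2],
  [1, 2],
  [2, 2],
  [2, 1, 2, 0, 0, 2],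
  [1, 1, 1, 2],
  [1, 0, 1, 0, 1, 2, 2],
  [2],
  [1, 2, 1, 1, 0, 2],
  [2, 1, 2, 2, 1, 2],
  [2, 1, 2],
  [2, 2, 2],
  [2, 1, 2, 2, 2],
  [0, 2],
  [0, 1, 0, 2],
  [2, 2, 1, 2],
  [1, 0, 2],
  [1, 2, 2],
  [1, 0, 1, 0, 2],
  [2, 2, 1, 1, 1, 0, 1, 2],
  [1, 0, 1, 2],
  [2, 1, 1, 0, 1, 2],
  [0, 0, 1, 2],
  [1, 0, 1, 2, 2],
  [2, 0, 0, 2],
  [1, 1, 1, 1, 2, 1, 2],
  [1, 2, 1, 1, 0, 0, 2],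
  [1, 1, 0, 1, 2],
  [2, 0, 1, 0, 1, 0, 2],
  [2, 1, 1, 2],
  [2, 2, 1, 0, 1, 2],
  [0, 1, 2],
  [2, 2, 1, 1, 0, 2],
  [2, 1, 0, 1, 2, 2],
  [1, 1, 0, 0, 2],
  [1, 1, 2, 1, 2],
  [1, 2, 0, 0, 2],
  [1, 0, 1, 2, 1, 2],
  [2, 1, 1, 2, 1, 1, 2],
  [0, 1, 0, 1, 0, 2],
  [1, 2, 2, 1, 2],
  [0, 1, 2, 1, 2],
  [2, 1, 1, 0, 0, 2],
  [0, 1, 2, 0, 0, 2],
  [1, 2, 1, 1, 2],
  [0, 1, 0, 1, 2, 2],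
  [2, 1, 1, 0, 2],
  [1, 2, 1, 2, 0, 0, 2],
  [2, 2, 1, 1, 2],
  [1, 1, 2, 1, 1, 2],
  [2, 2, 1, 0, 1, 2, 2],
  [1, 2, 2, 2]]

def E1 : List (List (ℕ × List ℕ)) := [
  [(0, [0]), (41, [1, 1, 1, 1, 1, 0]), (45, []), (22, [1, 1, 0, 1, 0, 0, 1, 0, 0]), (4, [1, 1, 0, 0, 1, 0, 0, 1, 0, 0]), (26, [1, 0, 0, 1, 0, 1, 0]), (40, [1, 1, 0, 0, 1]), (18, []), (6, []), (29, [1, 0, 0, 1, 0, 0]), (52, []), (2, []), (57, [1, 1, 0, 0, 1, 0, 1, 0]), (42, []), (14, [0]), (19, [1, 0, 1, 0, 0, 1, 0]), (38, []), (30, [1, 1, 1, 1, 0, 0, 1, 0]), (24, []), (51, [1, 1, 1, 0, 1, 0]), (47, [0, 0, 1, 0, 1, 0, 0]), (21, [1, 1, 0, 0, 1, 0, 0, 1, 0, 0]), (35, [0, 0]), (12, [0, 1, 0, 1]), (7, []), (62, [1, 0, 0, 1, 0, 0, 1, 0]), (28, [1, 1, 1, 0, 0, 1, 0, 1, 0]), (25, []),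 (5, []), (50, []), (39, [1, 1, 1, 1, 1, 1, 0]), (16, [1, 1, 0, 1]), (10, [1, 1, 1, 0, 0]), (13, []), (56, []), (3, [1, 1, 0, 1, 0, 1]), (36, [1, 1, 0, 0, 1, 0, 0, 1, 0, 0]), (61, [1, 0, 1, 0, 1, 0, 0]), (31, [1, 1, 1, 1, 1, 0, 0]), (17, [1, 1, 1, 1, 0, 0, 1]), (8, [1, 1, 1, 1, 1, 0]), (53, [1, 1, 0, 0, 1]), (33, []), (48, [1, 1, 1, 1]), (44, [1, 1, 1, 0, 1, 0, 0]), (11, []), (46, [1, 1, 0, 0, 1, 0, 0, 1, 0, 0]), (54, []), (59, [1, 1, 1, 1]), (37, [0, 0, 1]), (9, [1, 0, 0, 1, 0, 0]), (15, [1, 1, 1, 1, 0, 0, 1, 0, 0]), (32, [1, 1, 1, 1, 0, 1]), (1, []), (20, [0, 0, 1, 0, 1, 0, 0]), (55, [1, 1, 0, 1, 0, 0, 1]), (60, [1, 1, 0, 1, 0, 1, 0, 0]), (23, [0, 1, 0, 0, 1, 0, 0]), (58, [1, 1, 0, 1, 0, 0, 1]), (43, []), (34, [1, 1, 0, 1, 0, 0, 1, 0, 0]),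 (49, [0]), (27, [0, 1, 0, 0])],
  [(0, [1]), (41, [1, 1, 1, 0, 0, 1]), (22, [1, 1, 0]), (45, []), (43, [1, 1, 1, 0, 0, 1, 0, 1, 0, 0]), (34, []), (23, [1, 1, 1, 0, 1, 0, 0]), (3, []), (5, [1, 0, 1, 0, 0, 1, 0]), (50, [1, 1, 0, 1]), (46, []), (16, []), (36, []), (11, []), (28, []), (58, []), (25, [1, 1, 0, 1]), (59, [0, 1, 0, 1, 0, 1, 0]), (13, []), (39, [0, 0]), (54, [1, 1, 0, 0, 1, 0]), (10, []), (62, []), (56, [1, 1, 1, 0, 0]), (27, []), (29, []), (51, []), (2, []), (21, [1, 1, 1]), (35, [1, 1]), (14, [1, 1, 0, 1, 0]), (38, []), (6, [1, 1, 1, 0, 1, 0, 0, 1, 0]), (42, [1, 1, 1, 1, 1, 0, 0]), (52, [1, 1, 1]), (47, []), (30, [0, 0, 1, 0, 0, 1]), (53, [0, 1]), (9, []), (8, [0, 1, 0, 1, 0, 0]), (55, []), (1, [1, 1, 1, 1, 0, 0, 1]), (31, []),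 (44, [1, 1, 0, 0]), (15, [1, 1, 1]), (24, [1, 1, 0, 1]), (12, []), (18, [1, 1, 1, 0, 0]), (57, [1, 1, 0, 0, 1, 0, 1, 0]), (61, [0, 1, 0, 0]), (20, [1, 0, 1, 0, 1, 0, 0]), (32, [1, 1, 1, 0, 0, 1, 0, 1]), (48, []), (37, []), (33, [1, 1, 1, 1, 1, 1]), (60, []), (17, []), (19, []), (40, [1, 1, 0, 0, 1, 0, 0, 1, 0]), (26, [1, 1, 1, 0, 0, 1, 0]), (4, [1, 1, 0]), (49, [1, 1, 0, 1, 0, 0, 1, 0, 0]), (7, [1, 1, 1, 0])],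
  [(18, []), (12, [1, 1, 0, 0, 1, 0, 0, 1, 0]), (57, []), (24, [1, 1, 0, 0, 1, 0, 0, 1, 0, 0]), (30, []), (42, [1, 1, 0, 1, 0]), (52, [1, 1, 1, 1, 1, 1]), (35, []), (41, []), (4, []), (2, [1, 1, 1, 1, 0, 0, 1]), (40, []), (38, [1, 1, 0, 1, 0, 1, 0]), (21, []), (22, []), (47, [0, 0, 1, 0, 1, 0, 0]), (45, [0]), (29, [1, 0, 1, 0, 1]), (14, []), (19, [0, 1, 0]), (51, [0, 0, 1, 0, 1, 0, 0]), (26, []), (0, []), (6, [1, 0, 0, 1, 0, 1, 0, 0]), (7, [0, 0]), (31, [1, 0, 0, 1]), (55, [1, 0, 1, 0]), (11, [1, 1, 1, 1, 0, 1]), (5, [1, 1, 1, 0, 0, 1, 0]), (50, [1, 1, 0, 0, 1, 0, 1]), (36, [1, 1, 1, 1, 1, 1]), (8, []), (1, [0]), (28, [1, 0]), (44, []), (3, [1, 1, 0, 1, 0, 1, 0, 0]), (9, [1, 1]), (56, [1, 0, 1, 0, 1, 0]), (32, []), (17, [1, 1, 1, 0, 1, 0,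 0, 1]), (59, []), (25, [0, 0, 1, 0, 0, 1, 0, 0]), (33, [1, 1, 0, 1, 0, 1, 0]), (10, [1, 1, 1, 0]), (61, []), (53, []), (46, [1, 1, 1, 0, 0, 1, 0, 0]), (15, []), (16, [1, 1, 1, 1, 0, 0]), (37, [1]), (39, []), (20, []), (62, [1, 0, 1, 0, 0, 1, 0]), (48, [1, 1, 1, 1]), (54, [1, 1, 0, 1, 0]), (13, [1, 0, 1, 0]), (60, [0]), (43, []), (34, [1, 0, 0, 1, 0, 0, 1, 0]), (27, [1, 1, 1, 0, 0]), (49, []), (58, [0, 1, 0, 0]), (23, [])]]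

theorem level1 : levelCheck tab 3 2 37 (List.range 100) T1 E1 = true := by
  decide +kernel

def T2 : List (List ℕ) := [
  [],
  [0, 0, 1, 0, 0, 1],
  [1, 1, 1, 1, 0, 0, 1],
  [1, 1, 1, 1, 0, 1],
  [1, 1, 0, 1, 0, 0, 1],
  [0, 0, 1, 0, 1],
  [1, 1, 1, 0, 0, 1, 0, 1],
  [1, 1, 1],
  [1, 1, 0, 1, 0, 1],
  [1, 1, 0, 1],
  [1, 0, 1, 0, 0, 1],
  [0, 1, 0, 1],
  [1, 0, 0, 1],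
  [0, 1, 0, 0, 1],
  [1, 1, 0, 0, 1, 0, 1],
  [1, 1, 1, 0, 0, 1],
  [1, 0, 0, 1, 0, 0, 1],
  [1, 0, 0, 1, 0, 1],
  [1, 1, 1, 0, 1],
  [1, 1, 1, 1, 1],
  [1],
  [1, 1],
  [1, 1, 1, 0, 1, 0, 0, 1],
  [0, 1],
  [1, 1, 0, 0, 1],
  [1, 1, 0, 0, 1, 0, 0, 1],
  [1, 1, 1, 1, 1, 1],
  [1, 0, 1, 0, 1],
  [1, 0, 1],
  [1, 1, 1, 1],
  [0, 0, 1],
  [0, 1, 0, 1, 0, 1]]

def E2 : List (List (ℕ × List ℕ)) := [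
  [(0, [0]), (12, []), (19, []), (2, []), (25, []), (28, []), (6, [0, 0]), (9, []), (14, []), (24, []), (10, [0, 0]), (5, []), (13, []), (1, []), (18, []), (4, []), (27, [0, 0]), (17, [0, 0]), (8, []), (3, []), (23, []), (21, [0]), (22, [0, 0]), (30, []), (7, []), (15, []), (26, [0]), (31, []), (11, []), (29, [0]), (20, []), (16, [0])],
  [(20, []), (16, []), (11, [0]), (1, [0, 0]), (22, []), (17, []), (13, [0, 0]), (29, []), (30, [0, 0]), (18, []), (4, []), (27, []), (24, []), (10, []), (6, []), (2, []), (25, []), (14, []), (3, []), (26, []), (21, []), (7, []), (5, [0]), (28, []), (15, []), (23, [0]), (31, [0]), (8, []), (9, []), (19, []), (12, []), (0, [0, 0])]]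

theorem level2 : levelCheck tab 2 1 41 (List.range 100) T2 E2 = true := by
  decide +kernel

def T3 : List (List ℕ) := [
  [],
  [0, 0],
  [0]]

def E3 : List (List (ℕ × List ℕ)) := [
  [(2, []), (0, []), (1, [])]]

theorem level3 : levelCheck tab 1 0 1 (List.range 100) T3 E3 = true := by
  decide +kernel

def W0L : List (List ℕ) := [
  [],
  [1, 4, 2, 3],
  [2, 2, 3],
  [0, 3, 0, 3],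
  [4, 1, 1, 3],
  [2, 4, 2, 3],
  [4, 2, 3],
  [0, 1, 2, 2, 3],
  [3, 4, 2, 0, 3],
  [3, 0, 3],
  [1, 2, 1, 3],
  [1, 1, 0, 3],
  [4],
  [3, 1, 1, 3],
  [1, 2, 3],
  [0, 2, 3],
  [3],
  [2, 3, 0, 3],
  [0, 3],
  [4, 2, 0, 3],
  [2, 3],
  [3, 4, 3],
  [1, 2, 2, 3],
  [4, 3, 0, 0, 3],
  [0, 1, 3],
  [1, 0, 3],
  [1, 1, 3],
  [1, 3],
  [2, 0, 3],
  [1, 1, 4, 2, 3],
  [2, 4],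
  [2, 1, 0, 3],
  [2, 1, 3],
  [2, 2, 2, 3],
  [4, 2, 4],
  [0, 0, 3],
  [2, 0, 0, 3],
  [4, 1, 2, 3],
  [4, 1, 3],
  [3, 1, 4, 3],
  [1, 3, 3, 0, 3],
  [3, 3],
  [3, 4, 2, 3],
  [4, 1, 2, 2, 3],
  [3, 3, 0, 3],
  [0, 3, 3, 3],
  [4, 3, 2, 2, 3],
  [2, 1, 3, 3],
  [4, 4, 2, 3],
  [1, 4, 4],
  [3, 3, 4, 0, 3],
  [1, 2, 3, 3],
  [0, 4, 3, 3],
  [3, 3, 4],
  [4, 1, 3, 3],
  [0, 3, 3, 0, 3],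
  [4, 3],
  [2, 4, 3, 3],
  [3, 4, 0, 3],
  [3, 4, 2, 1, 3],
  [3, 2, 2, 3],
  [4, 2, 0, 0, 3],
  [2, 3, 4],
  [4, 3, 4],
  [4, 4, 0, 3],
  [4, 4, 3, 3],
  [3, 2, 3, 3],
  [2, 3, 3],
  [2, 2, 3, 4],
  [1, 4, 3, 3],
  [3, 4, 3, 3],
  [0, 4, 0, 3],
  [4, 1, 1, 0, 3],
  [2, 2, 3, 3],
  [3, 4, 1, 3],
  [0, 3, 3, 4],
  [1, 4, 3],
  [3, 3, 3],
  [3, 4],
  [3, 2, 2, 2, 3],
  [1, 3, 3],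
  [1, 1, 3, 3],
  [2, 3, 3, 4],
  [4, 4],
  [2, 0, 4, 3, 3],
  [4, 4, 4],
  [2, 4, 0, 3],
  [3, 1, 1, 0, 3],
  [4, 3, 3],
  [3, 3, 0, 0, 3],
  [0, 3, 4],
  [4, 2, 2, 2, 3],
  [1, 3, 3, 3],
  [3, 0, 3, 4],
  [3, 2, 0, 3],
  [3, 1, 0, 3],
  [4, 2, 1, 3],
  [4, 0, 3],
  [3, 0, 0, 3],
  [3, 2, 3]]

def W0 (x : ℕ) : List ℕ := W0L.getD x []

theorem orb0 : orbCheck tab 100 5 (fun _ => 0) W0 = true := by decide +kernel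

def labL : List ℕ := [0, 1, 1, 1, 1, 1, 1, 1, 1, 1, 1, 1, 1, 1, 1, 1, 1, 1, 1, 1, 1, 1, 1, 1, 1, 1, 1, 1, 1, 1, 1, 1, 1, 1, 1, 1, 1, 37, 37, 37, 37, 37, 37, 37, 37, 37, 37, 37, 37, 37, 37, 37, 37, 37, 37, 37, 37, 37, 37, 37, 37, 37, 37, 37, 37, 37, 37, 37, 37, 37, 37, 37, 37, 37, 37, 37, 37, 37, 37, 37, 37, 37, 37, 37, 37, 37, 37, 37, 37, 37, 37, 37, 37, 37, 37, 37, 37, 37, 37, 37]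

def lab (x : ℕ) : ℕ := labL.getD x 0

def WL : List (List ℕ) := [
  [],
  [],
  [2, 2, 2, 0],
  [0, 2],
  [1, 0, 0, 1],
  [0, 0],
  [0, 1, 0, 1],
  [0, 0, 1],
  [1, 1, 0, 0, 1],
  [2],
  [2, 0, 1],
  [2, 0, 2],
  [1, 2, 0, 2],
  [2, 0, 0],
  [1, 2, 2, 0],
  [2, 2, 0, 0],
  [2, 0],
  [2, 2],
  [0, 2, 0],
  [1, 0, 0],
  [2, 2, 0],
  [2, 2, 2],
  [0, 1],
  [2, 0, 0, 1],
  [1, 2, 0, 0],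
  [1, 0, 2, 0],
  [0, 2, 0, 0],
  [1, 2, 0],
  [0, 0, 2],
  [1],
  [0, 1, 0, 0],
  [1, 0, 1],
  [1, 1],
  [0],
  [1, 0, 2, 0, 0],
  [0, 0, 2, 0],
  [2, 0, 0, 2, 0],
  [],
  [0, 2, 1, 1, 0, 0, 2],
  [1, 1, 0, 2],
  [1, 0, 0, 2],
  [2, 1, 1, 1, 0, 1, 2],
  [0, 1, 2, 2],
  [0, 2, 1, 0, 1, 2],
  [0, 0, 2],
  [2, 1, 0, 1, 2],
  [1, 1, 1, 0, 1, 2],
  [1, 2, 1, 2],
  [1, 1, 2],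
  [1, 1, 1, 2, 1, 2],
  [1, 2],
  [2, 2],
  [2, 1, 2, 0, 0, 2],
  [1, 1, 1, 2],
  [1, 0, 1, 0, 1, 2, 2],
  [2],
  [1, 2, 1, 1, 0, 2],
  [2, 1, 2, 2, 1, 2],
  [2, 1, 2],
  [2, 2, 2],
  [2, 1, 2, 2, 2],
  [0, 2],
  [0, 1, 0, 2],
  [2, 2, 1, 2],
  [1, 0, 2],
  [1, 2, 2],
  [1, 0, 1, 0, 2],
  [2, 2, 1, 1, 1, 0, 1, 2],
  [1, 0, 1, 2],
  [2, 1, 1, 0, 1, 2],
  [0, 0, 1, 2],
  [1, 0, 1, 2, 2],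
  [2, 0, 0, 2],
  [1, 1, 1, 1, 2, 1, 2],
  [1, 2, 1, 1, 0, 0, 2],
  [1, 1, 0, 1, 2],
  [2, 0, 1, 0, 1, 0, 2],
  [2, 1, 1, 2],
  [2, 2, 1, 0, 1, 2],
  [0, 1, 2],
  [2, 2, 1, 1, 0, 2],
  [2, 1, 0, 1, 2, 2],
  [1, 1, 0, 0, 2],
  [1, 1, 2, 1, 2],
  [1, 2, 0, 0, 2],
  [1, 0, 1, 2, 1, 2],
  [2, 1, 1, 2, 1, 1, 2],
  [0, 1, 0, 1, 0, 2],
  [1, 2, 2, 1, 2],
  [0, 1, 2, 1, 2],
  [2, 1, 1, 0, 0, 2],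
  [0, 1, 2, 0, 0, 2],
  [1, 2, 1, 1, 2],
  [0, 1, 0, 1, 2, 2],
  [2, 1, 1, 0, 2],
  [1, 2, 1, 2, 0, 0, 2],
  [2, 2, 1, 1, 2],
  [1, 1, 2, 1, 1, 2],
  [2, 2, 1, 0, 1, 2, 2],
  [1, 2, 2, 2]]

def W (x : ℕ) : List ℕ := WL.getD x []

theorem orb1 : orbCheck tab 100 3 lab W = true := by decide +kernel

def GWL : List (List ℕ) := [
  [4, 4, 4, 4, 4, 4, 4, 4, 3, 3, 3, 3, 3, 3, 3, 3, 3, 3, 3, 3, 4, 4, 4, 4, 3, 3, 3, 3, 4, 4, 4, 4, 3, 4, 4, 4, 3, 4, 3, 4, 4, 4, 4],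
  [4, 4, 4, 4, 3, 3, 3, 3, 4, 4, 4, 4, 3, 3, 3, 3, 3, 3, 3, 3, 4, 3, 3, 4, 4, 3, 4, 4, 3, 4, 3],
  [3, 4, 4, 3, 4, 4],
  [3],
  [4]]

def GW (j : ℕ) : List ℕ := GWL.getD j []

theorem gen_ok : genCheck 100 5 5 tab [3, 4] GW = true := by decide +kernel

end Cfsg.Agent.Lib.Helper98.J2Data
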