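import Mathlib
import Cfsg.Prelude.Def_SporCoxeter

/-!
# A presentation of `L₃(7):2` on six involutions

The Coxeter path `a –3– b –3– c –8– d –3– e –3– f` with the further relation `a f = (c d)^4`; these are
the relations of the presented O'Nan group which only involve `a, …, f`.
-/

set_option autoImplicit false

namespace Cfsg.Agent.Lib.Helper98.L37Def

/-- the generators -/
inductive Gen
  | a
  | b
  | c
  | d
  | e
  | f
  deriving DecidableEq

/-- the generator a as a word -/ abbrev a : FreeGroup Gen := FreeGroup.of Gen.a
/-- the generator b as a word -/ abbrev b : FreeGroup Gen := FreeGroup.of Gen.b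
/-- the generator c as a word -/ abbrev c : FreeGroup Gen := FreeGroup.of Gen.c
/-- the generator d as a word -/ abbrev d : FreeGroup Gen := FreeGroup.of Gen.d
/-- the generator e as a word -/ abbrev e : FreeGroup Gen := FreeGroup.of Gen.e
/-- the generator f as a word -/ abbrev f : FreeGroup Gen := FreeGroup.of Gen.f

/-- the Coxeter path -/
def edges : List (Gen × ℕ × Gen) :=
  [(.a, 3, .b), (.b, 3, .c), (.c, 8, .d), (.d, 3, .e), (.e, 3, .f)]

/-- the further relator -/
def extra : List (FreeGroup Gen) := [
  (a * f) * (((c * d) ^ 4)⁻¹) ]

/-- the presented group -/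
abbrev L37 : Type := Cfsg.Spor.CoxPresented Gen edges extra

end Cfsg.Agent.Lib.Helper98.L37Def
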