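import Mathlib

set_option autoImplicit false

namespace Cfsg.Agent.Lib.Helper98.L37Mat

open Matrix

abbrev F7 := ZMod 7
abbrev M3 := Matrix (Fin 3) (Fin 3) F7
abbrev S3 := Matrix.SpecialLinearGroup (Fin 3) F7

theorem sl_ext {A B : S3} (h : (A : M3) = (B : M3)) : A = B := Subtype.ext h

theorem tr_mul (A B : S3) : (A * B).transpose = B.transpose * A.transpose :=
  Subtype.ext (by simp [Matrix.SpecialLinearGroup.coe_transpose, transpose_mul])

theorem tr_one : (1 : S3).transpose = 1 :=
  Subtype.ext (by simp [Matrix.SpecialLinearGroup.coe_transpose])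

theorem tr_tr (A : S3) : A.transpose.transpose = A :=
  Subtype.ext (by simp [Matrix.SpecialLinearGroup.coe_transpose])

theorem tr_inv (A : S3) : (A⁻¹).transpose = (A.transpose)⁻¹ := by
  apply eq_inv_of_mul_eq_one_left
  rw [← tr_mul, mul_inv_cancel, tr_one]

/-- the inverse transpose automorphism -/
def tau : MulAut S3 where
  toFun A := (A⁻¹).transpose
  invFun A := (A⁻¹).transpose
  left_inv A := by
    show (((A⁻¹).transpose)⁻¹).transpose = A
    rw [tr_inv, tr_tr, inv_inv]
  right_inv A := by
    show (((A⁻¹).transpose)⁻¹).transpose = A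
    rw [tr_inv, tr_tr, inv_inv]
  map_mul' A B := by
    show ((A * B)⁻¹).transpose = (A⁻¹).transpose * (B⁻¹).transpose
    rw [_root_.mul_inv_rev, tr_mul]

theorem tau_apply (A : S3) : tau A = (A⁻¹).transpose := rfl

theorem tau_tau : tau * tau = 1 := by
  ext A : 1
  show tau (tau A) = A
  rw [tau_apply, tau_apply, tr_inv, tr_tr, inv_inv]

theorem tau_conj (B : S3) : tau * MulAut.conj B = MulAut.conj (tau B) * tau := by
  ext A : 1
  show tau (MulAut.conj B A) = MulAut.conj (tau B) (tau A)
  rw [MulAut.conj_apply, MulAut.conj_apply, map_mul, map_mul, map_inv]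

/-- the outer automorphism attached to a matrix -/
def rho (A : S3) : MulAut S3 := MulAut.conj A * tau

theorem rho_mul (A B : S3) : rho A * rho B = MulAut.conj (A * tau B) := by
  unfold rho
  calc MulAut.conj A * tau * (MulAut.conj B * tau)
      = MulAut.conj A * (tau * MulAut.conj B) * tau := by group
    _ = MulAut.conj A * (MulAut.conj (tau B) * tau) * tau := by rw [tau_conj]
    _ = MulAut.conj A * MulAut.conj (tau B) * (tau * tau) := by group
    _ = MulAut.conj (A * tau B) := by rw [tau_tau, mul_one, map_mul]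

theorem rho_mul_tau (A : S3) : rho A * tau = MulAut.conj A := by
  unfold rho
  rw [mul_assoc, tau_tau, mul_one]

theorem conj_eq_one_of_scalar (A : S3) (r : F7) (h : A.1 = r • (1 : M3)) : MulAut.conj A = 1 := by
  ext X : 1
  show MulAut.conj A X = X
  rw [MulAut.conj_apply, mul_inv_eq_iff_eq_mul]
  apply sl_ext
  rw [Matrix.SpecialLinearGroup.coe_mul, Matrix.SpecialLinearGroup.coe_mul, h]
  simp

theorem tau_eq (A B : S3) (h : A.1 * B.1.transpose = 1) : tau A = B := by
  rw [tau_apply]
  have h1 : A * B.transpose = 1 := sl_ext (by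
    rw [Matrix.SpecialLinearGroup.coe_mul, Matrix.SpecialLinearGroup.coe_transpose, Matrix.SpecialLinearGroup.coe_one]; exact h)
  have h2 : A⁻¹ = B.transpose := inv_eq_of_mul_eq_one_right h1
  rw [h2, tr_tr]

end Cfsg.Agent.Lib.Helper98.L37Mat
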