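import Mathlib
import Cfsg.Agent.Lib.Helper98.L37Mat

/-!
# `SL(3, 7)` is generated by the six elementary transvections `1 + E_{ij}`
-/

set_option autoImplicit false
set_option maxRecDepth 100000

namespace Cfsg.Agent.Lib.Helper98.L37Gen

open Matrix Cfsg.Agent.Lib.Helper98.L37Mat

instance fact_prime_seven : Fact (Nat.Prime 7) := ⟨by norm_num⟩

/-- a matrix of determinant one as an element of the special linear group -/
def mkS (A : M3) (h : A.det = 1) : S3 := ⟨A, h⟩

theorem mkS_coe (A : M3) (h : A.det = 1) : ((mkS A h : S3) : M3) = A := rfl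

/-- the elementary transvection in the special linear group -/
def tv {i j : Fin 3} (hij : i ≠ j) (b : F7) : S3 := Matrix.SpecialLinearGroup.transvection hij b

theorem tv_coe {i j : Fin 3} (hij : i ≠ j) (b : F7) : ((tv hij b : S3) : M3) = transvection i j b :=
  rfl

theorem tv_add {i j : Fin 3} (hij : i ≠ j) (b c : F7) : tv hij (b + c) = tv hij b * tv hij c := by
  apply sl_ext
  rw [Matrix.SpecialLinearGroup.coe_mul, tv_coe, tv_coe, tv_coe,
    transvection_mul_transvection_same _ _ hij]

theorem tv_zero {i j : Fin 3} (hij : i ≠ j) : tv hij 0 = 1 := by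
  apply sl_ext
  rw [tv_coe, transvection_zero, Matrix.SpecialLinearGroup.coe_one]

/-- the Whitehead matrix with `u` and `u⁻¹` in the positions `i` and `j` of the diagonal -/
def hmat (i j : Fin 3) (u : F7) : M3 :=
  transvection i j u * transvection j i (-(u ^ 5)) * transvection i j u *
    (transvection i j (-1) * transvection j i 1 * transvection i j (-1))

theorem diag_decomp : ∀ d0 d1 d2 : F7, d0 * d1 * d2 = 1 →
    Matrix.diagonal ![d0, d1, d2] = hmat 0 1 d0 * hmat 1 2 (d0 * d1) := by decide

section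

variable (T : Subgroup S3) (hT : ∀ (i j : Fin 3) (hij : i ≠ j), tv hij 1 ∈ T)
include hT

theorem tv_mem {i j : Fin 3} (hij : i ≠ j) (b : F7) : tv hij b ∈ T := by
  have hn : ∀ n : ℕ, tv hij (n : F7) ∈ T := by
    intro n
    induction n with
    | zero => rw [Nat.cast_zero, tv_zero]; exact T.one_mem
    | succ n ih => rw [Nat.cast_succ, tv_add]; exact T.mul_mem ih (hT i j hij)
  have := hn b.val
  rwa [ZMod.natCast_zmod_val] at this

theorem mem_of_hmat (i j : Fin 3) (hij : i ≠ j) (u : F7) (A : S3) (h : (A : M3) = hmat i j u) :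
    A ∈ T := by
  have hA : A = tv hij u * tv hij.symm (-(u ^ 5)) * tv hij u *
      (tv hij (-1) * tv hij.symm 1 * tv hij (-1)) := by
    apply sl_ext
    rw [h]
    simp only [Matrix.SpecialLinearGroup.coe_mul, tv_coe]
    rfl
  rw [hA]
  exact T.mul_mem (T.mul_mem (T.mul_mem (tv_mem T hT _ _) (tv_mem T hT _ _)) (tv_mem T hT _ _))
    (T.mul_mem (T.mul_mem (tv_mem T hT _ _) (tv_mem T hT _ _)) (tv_mem T hT _ _))

theorem eq_top : T = ⊤ := by
  rw [eq_top_iff]
  intro M _
  let P : M3 → Prop := fun A => ∃ h : A.det = 1, mkS A h ∈ T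
  have hP : P M.1 := by
    apply diagonal_transvection_induction P
    · intro D hD
      have hdet : (Matrix.diagonal D).det = 1 := by rw [hD]; exact M.2
      refine ⟨hdet, ?_⟩
      have hprod : D 0 * D 1 * D 2 = 1 := by
        rw [Matrix.det_diagonal, Fin.prod_univ_three] at hdet
        exact hdet
      have hD' : D = ![D 0, D 1, D 2] := by
        funext i
        fin_cases i <;> rfl
      have hmatrix : Matrix.diagonal D = hmat 0 1 (D 0) * hmat 1 2 (D 0 * D 1) := by
        rw [← diag_decomp _ _ _ hprod, ← hD']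
      have hdet1 : (hmat 0 1 (D 0)).det = 1 := by
        simp [hmat, Matrix.det_mul, Matrix.det_transvection_of_ne]
      have hdet2 : (hmat 1 2 (D 0 * D 1)).det = 1 := by
        simp [hmat, Matrix.det_mul, Matrix.det_transvection_of_ne]
      have hsplit : mkS (Matrix.diagonal D) hdet =
          mkS (hmat 0 1 (D 0)) hdet1 * mkS (hmat 1 2 (D 0 * D 1)) hdet2 := by
        apply sl_ext
        rw [Matrix.SpecialLinearGroup.coe_mul, mkS_coe, mkS_coe, mkS_coe]
        exact hmatrix
      rw [hsplit]
      exact T.mul_mem (mem_of_hmat T hT 0 1 (by decide) _ _ rfl)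
        (mem_of_hmat T hT 1 2 (by decide) _ _ rfl)
    · intro t
      exact ⟨t.det, tv_mem T hT t.hij t.c⟩
    · rintro A B ⟨hA, hAT⟩ ⟨hB, hBT⟩
      refine ⟨by rw [Matrix.det_mul, hA, hB, one_mul], ?_⟩
      have : mkS (A * B) (by rw [Matrix.det_mul, hA, hB, one_mul]) = mkS A hA * mkS B hB := by
        apply sl_ext
        rw [Matrix.SpecialLinearGroup.coe_mul, mkS_coe, mkS_coe, mkS_coe]
      rw [this]
      exact T.mul_mem hAT hBT
  obtain ⟨_, h⟩ := hP
  exact h

end

end Cfsg.Agent.Lib.Helper98.L37Gen
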