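import Mathlib
import Cfsg.Agent.Lib.Helper98.L37Def
import Cfsg.Agent.Lib.Helper98.CoxPres

/-! The presentation of `Cfsg.Agent.Lib.Helper98.L37Def` in the form used by `CoxPres`. -/

set_option autoImplicit false
set_option maxRecDepth 100000

namespace Cfsg.Agent.Lib.Helper98.L37Pres

open Cfsg Cfsg.Spor Cfsg.Agent.Lib.Helper98.CoxPres

/-- the generator with a given index -/
def genOfNat : ℕ → Cfsg.Agent.Lib.Helper98.L37Def.Gen
  | 0 => .f
  | 1 => .e
  | 2 => .d
  | 3 => .a
  | 4 => .c
  | _ => .b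

/-- the index of a generator -/
def natOfGen : Cfsg.Agent.Lib.Helper98.L37Def.Gen → ℕ
  | .a => 3
  | .b => 5
  | .c => 4
  | .d => 2
  | .e => 1
  | .f => 0

/-- the presentation -/
def pres : Pres where
  n := 6
  lab := fun x y => coxLabel Cfsg.Agent.Lib.Helper98.L37Def.edges (genOfNat x) (genOfNat y)
  extras := [
    (.mul (.mul (.gen 3) (.gen 0)) (.inv (.pow (.mul (.gen 4) (.gen 2)) 4)))]

theorem wf : pres.WF := by
  refine ⟨fun x _ => ?_, ?_⟩
  · show coxLabel Cfsg.Agent.Lib.Helper98.L37Def.edges (genOfNat x) (genOfNat x) = 1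
    simp [coxLabel]
  · decide

theorem link : Link Cfsg.Agent.Lib.Helper98.L37Def.edges Cfsg.Agent.Lib.Helper98.L37Def.extra genOfNat natOfGen pres where
  gn := fun s => by cases s <;> rfl
  lt := fun s => by cases s <;> decide
  ng := fun x hx => by
    have hx' : x < 6 := hx
    interval_cases x <;> rfl
  nodes := fun s => by cases s <;> decide
  lab := fun _ _ => rfl
  extra := rfl

/-- the generators of the presented group -/
noncomputable abbrev gP : ℕ → Cfsg.Agent.Lib.Helper98.L37Def.L37 := genP Cfsg.Agent.Lib.Helper98.L37Def.edges Cfsg.Agent.Lib.Helper98.L37Def.extra genOfNat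

end Cfsg.Agent.Lib.Helper98.L37Pres
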