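import Mathlib
import Cfsg.Agent.Lib.Helper98.L37Mat
import Cfsg.Agent.Lib.Helper98.L37Pres

/-!
# Six polarities of the projective plane of order seven

Explicit symmetric matrices over the field with seven elements such that the outer automorphisms
`X ↦ A (X⁻¹)ᵀ A⁻¹` of `SL(3, 7)` satisfy the relations of the presentation `L37Pres.pres`.
-/

set_option autoImplicit false
set_option maxRecDepth 100000

namespace Cfsg.Agent.Lib.Helper98.L37Rel

open Matrix Cfsg.Agent.Lib.Helper98.CoxPres Cfsg.Agent.Lib.Helper98.L37Mat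
open Cfsg.Agent.Lib.Helper98.L37Pres

/-- the symmetric matrices, in the order `f, e, d, a, c, b` -/
def mats : Fin 6 → M3 :=
  ![!![0,0,1;0,6,0;1,0,0], !![0,1,0;1,0,0;0,0,6], !![0,0,3;0,3,0;3,0,0], !![1,0,0;0,1,0;0,0,1],
    !![1,2,2;2,1,5;2,5,1], !![1,0,0;0,2,0;0,0,4]]

/-- their inverses -/
def invs : Fin 6 → M3 :=
  ![!![0,0,1;0,6,0;1,0,0], !![0,1,0;1,0,0;0,0,6], !![0,0,5;0,5,0;5,0,0], !![1,0,0;0,1,0;0,0,1],
    !![4,1,1;1,4,6;1,6,4], !![1,0,0;0,4,0;0,0,2]]

theorem det_mats : ∀ i, (mats i).det = 1 := by decide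

theorem det_invs : ∀ i, (invs i).det = 1 := by decide

theorem mats_invs : ∀ i, mats i * (invs i).transpose = 1 := by decide

/-- the matrices as elements of the special linear group -/
def sA (i : Fin 6) : S3 := ⟨mats i, det_mats i⟩

/-- their inverses as elements of the special linear group -/
def sB (i : Fin 6) : S3 := ⟨invs i, det_invs i⟩

theorem tau_sA (i : Fin 6) : tau (sA i) = sB i := tau_eq _ _ (mats_invs i)

theorem scal : ∀ x y : Fin 6, (mats x * invs y) ^ (pres.lab x y) =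
    (((mats x * invs y) ^ (pres.lab x y)) 0 0) • (1 : M3) := by decide

theorem extra_eq : mats 3 * invs 0 = (mats 4 * invs 2) ^ 4 := by decide

/-- the images of the generators -/
def g (i : ℕ) : MulAut S3 := if h : i < 6 then rho (sA ⟨i, h⟩) else 1

theorem g_of_lt (i : ℕ) (h : i < 6) : g i = rho (sA ⟨i, h⟩) := by rw [g, dif_pos h]

theorem g_mul (x y : ℕ) (hx : x < 6) (hy : y < 6) :
    g x * g y = MulAut.conj (sA ⟨x, hx⟩ * sB ⟨y, hy⟩) := by
  rw [g_of_lt x hx, g_of_lt y hy, rho_mul, tau_sA]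

theorem coe_pow_mul (x y : Fin 6) (m : ℕ) :
    (((sA x * sB y) ^ m : S3) : M3) = (mats x * invs y) ^ m := by
  rw [Matrix.SpecialLinearGroup.coe_pow, Matrix.SpecialLinearGroup.coe_mul]
  rfl

theorem extra_aux (a b c d : MulAut S3) (A B : S3) (h1 : a * b = MulAut.conj A)
    (h2 : c * d = MulAut.conj B) (h : A = B ^ 4) : a * b * ((c * d) ^ 4)⁻¹ = 1 := by
  rw [h1, h2, ← map_pow, ← h, mul_inv_cancel]

theorem extra_sl : sA 3 * sB 0 = (sA 4 * sB 2) ^ 4 := by
  apply sl_ext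
  rw [coe_pow_mul, Matrix.SpecialLinearGroup.coe_mul]
  exact extra_eq

theorem extra_g : g 3 * g 0 * ((g 4 * g 2) ^ 4)⁻¹ = 1 :=
  extra_aux _ _ _ _ _ _ (g_mul 3 0 (by decide) (by decide)) (g_mul 4 2 (by decide) (by decide))
    extra_sl

theorem rel_g : pres.Rel g := by
  refine ⟨?_, ?_⟩
  · intro x hx y hy
    have hx' : x < 6 := hx
    have hy' : y < 6 := hy
    rw [g_mul x y hx' hy', ← map_pow]
    apply conj_eq_one_of_scalar _ _
    rw [coe_pow_mul]
    exact scal ⟨x, hx'⟩ ⟨y, hy'⟩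
  · intro e he
    have he' : e = (.mul (.mul (.gen 3) (.gen 0)) (.inv (.pow (.mul (.gen 4) (.gen 2)) 4))) := by
      simpa [pres] using he
    subst he'
    show g 3 * g 0 * ((g 4 * g 2) ^ 4)⁻¹ = 1
    exact extra_g

end Cfsg.Agent.Lib.Helper98.L37Rel
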