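import Mathlib
import Cfsg.Agent.Lib.Helper98.L37Rel
import Cfsg.Agent.Lib.Helper98.L37Gen

/-!
# The even part of the presented group `L37` maps onto the inner automorphisms of `SL(3, 7)`
-/

set_option autoImplicit false
set_option maxRecDepth 100000

namespace Cfsg.Agent.Lib.Helper98.L37Iso

open Matrix Cfsg.Agent.Lib.Helper98.CoxPres Cfsg.Agent.Lib.Helper98.L37Mat
open Cfsg.Agent.Lib.Helper98.L37Pres Cfsg.Agent.Lib.Helper98.L37Rel Cfsg.Agent.Lib.Helper98.L37Gen
open Cfsg.Agent.Lib.Helper98.L37Def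

/-- the homomorphism to the automorphisms of `SL(3, 7)` -/
noncomputable def theta : L37 →* MulAut S3 :=
  PresentedGroup.toGroup (f := fun s => g (natOfGen s)) (link.lift_rel wf rel_g)

theorem theta_gP (x : ℕ) (hx : x < 6) : theta (gP x) = g x := by
  show PresentedGroup.toGroup _ (PresentedGroup.of (genOfNat x)) = _
  rw [PresentedGroup.toGroup.of, link.ng x hx]

/-- the sign homomorphism -/
noncomputable def sgn : L37 →* ℤˣ :=
  PresentedGroup.toGroup (f := fun _ => (-1 : ℤˣ)) (link.lift_rel wf (g := fun _ => (-1 : ℤˣ))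
    ⟨fun _ _ _ _ => by simp, by
      intro e he
      have he' : e = (.mul (.mul (.gen 3) (.gen 0)) (.inv (.pow (.mul (.gen 4) (.gen 2)) 4))) := by
        simpa [pres] using he
      subst he'
      simp [WExp.eval]⟩)

theorem sgn_gP (x : ℕ) : sgn (gP x) = -1 := by
  show PresentedGroup.toGroup _ (PresentedGroup.of (genOfNat x)) = _
  rw [PresentedGroup.toGroup.of]

/-! ### products of pairs of generators -/

/-- the product of pairs of generators in the presented group -/
noncomputable def xProd (w : List (Fin 6 × Fin 6)) : L37 := (w.map fun p => gP p.1 * gP p.2).prod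

/-- the corresponding product in the special linear group -/
def sProd (w : List (Fin 6 × Fin 6)) : S3 := (w.map fun p => sA p.1 * sB p.2).prod

/-- the corresponding product of matrices -/
def mProd (w : List (Fin 6 × Fin 6)) : M3 := (w.map fun p => mats p.1 * invs p.2).prod

theorem theta_xProd (w : List (Fin 6 × Fin 6)) : theta (xProd w) = MulAut.conj (sProd w) := by
  induction w with
  | nil => simp [xProd, sProd]
  | cons p t ih =>
    have h1 : xProd (p :: t) = gP p.1 * gP p.2 * xProd t := by simp [xProd]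
    have h2 : sProd (p :: t) = sA p.1 * sB p.2 * sProd t := by simp [sProd]
    rw [h1, h2, map_mul, map_mul, map_mul, ih, theta_gP _ p.1.2, theta_gP _ p.2.2,
      g_mul _ _ p.1.2 p.2.2]

theorem sProd_coe (w : List (Fin 6 × Fin 6)) : ((sProd w : S3) : M3) = mProd w := by
  induction w with
  | nil => simp [sProd, mProd]
  | cons p t ih =>
    have h2 : sProd (p :: t) = sA p.1 * sB p.2 * sProd t := by simp [sProd]
    have h3 : mProd (p :: t) = mats p.1 * invs p.2 * mProd t := by simp [mProd]
    rw [h2, h3, Matrix.SpecialLinearGroup.coe_mul, Matrix.SpecialLinearGroup.coe_mul, ih]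
    rfl

theorem sgn_xProd (w : List (Fin 6 × Fin 6)) : sgn (xProd w) = 1 := by
  induction w with
  | nil => simp [xProd]
  | cons p t ih =>
    have h1 : xProd (p :: t) = gP p.1 * gP p.2 * xProd t := by simp [xProd]
    rw [h1, map_mul, map_mul, ih, sgn_gP, sgn_gP]
    simp

theorem conj_eq_of_smul (A B : S3) (r : F7) (h : (A : M3) = r • (B : M3)) :
    MulAut.conj A = MulAut.conj B := by
  have h1 : MulAut.conj (B⁻¹ * A) = 1 := by
    apply conj_eq_one_of_scalar _ r
    rw [Matrix.SpecialLinearGroup.coe_mul, h, Matrix.mul_smul, ← Matrix.SpecialLinearGroup.coe_mul,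
      inv_mul_cancel, Matrix.SpecialLinearGroup.coe_one]
  have h2 : A = B * (B⁻¹ * A) := by group
  rw [h2, map_mul, h1, mul_one]

/-! ### the six elementary transvections -/

def w01 : List (Fin 6 × Fin 6) := [(3, 5), (4, 2), (4, 5), (2, 1), (2, 4), (2, 4), (5, 4), (1, 2), (4, 5), (2, 4), (1, 2), (4, 5), (3, 5)]
def w02 : List (Fin 6 × Fin 6) := [(5, 3), (1, 0), (4, 2), (4, 5), (1, 2), (4, 5), (2, 4), (2, 1), (2, 4), (5, 4), (2, 4), (1, 2), (4, 5), (0, 1)]
def w10 : List (Fin 6 × Fin 6) := [(5, 3), (4, 2), (4, 5), (1, 2), (4, 5), (2, 4), (2, 1), (2, 4), (5, 4), (2, 4), (1, 2), (4, 5)]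
def w12 : List (Fin 6 × Fin 6) := [(3, 5), (4, 2), (4, 5), (0, 1), (2, 4), (5, 3), (2, 4), (1, 2), (5, 4), (2, 1), (5, 4), (2, 4), (5, 3), (1, 0)]
def w20 : List (Fin 6 × Fin 6) := [(3, 5), (2, 1), (2, 4), (2, 4), (1, 2), (5, 4), (5, 3), (2, 4), (1, 2), (5, 4), (2, 1), (5, 4), (2, 4), (5, 3), (2, 1)]
def w21 : List (Fin 6 × Fin 6) := [(5, 3), (4, 2), (4, 5), (0, 1), (2, 4), (2, 4), (5, 4), (1, 2), (4, 5), (2, 4), (1, 2), (4, 2), (3, 5)]

theorem m01 : mProd w01 = (mProd w01 0 0) • transvection 0 1 1 := by decide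
theorem m02 : mProd w02 = (mProd w02 0 0) • transvection 0 2 1 := by decide
theorem m10 : mProd w10 = (mProd w10 0 0) • transvection 1 0 1 := by decide
theorem m12 : mProd w12 = (mProd w12 0 0) • transvection 1 2 1 := by decide
theorem m20 : mProd w20 = (mProd w20 0 0) • transvection 2 0 1 := by decide
theorem m21 : mProd w21 = (mProd w21 0 0) • transvection 2 1 1 := by decide

theorem conj_tv {i j : Fin 3} (hij : i ≠ j) (w : List (Fin 6 × Fin 6))
    (h : mProd w = (mProd w 0 0) • transvection i j 1) :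
    MulAut.conj (tv hij 1) = theta (xProd w) := by
  rw [theta_xProd]
  symm
  apply conj_eq_of_smul _ _ (mProd w 0 0)
  rw [sProd_coe, tv_coe]
  exact h

/-- the even part: the subgroup generated by the products of two generators -/
noncomputable def E : Subgroup L37 := Subgroup.closure {x | ∃ p q : Fin 6, x = gP p * gP q}

theorem xProd_mem (w : List (Fin 6 × Fin 6)) : xProd w ∈ E := by
  apply Subgroup.list_prod_mem
  intro x hx
  obtain ⟨p, _, rfl⟩ := List.mem_map.1 hx
  exact Subgroup.subset_closure ⟨p.1, p.2, rfl⟩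

theorem E_le_ker : E ≤ sgn.ker := by
  rw [E, Subgroup.closure_le]
  rintro _ ⟨p, q, rfl⟩
  rw [SetLike.mem_coe, MonoidHom.mem_ker, map_mul, sgn_gP, sgn_gP]
  simp

theorem map_E_le : E.map theta ≤ (MulAut.conj : S3 →* MulAut S3).range := by
  rw [E, MonoidHom.map_closure, Subgroup.closure_le]
  rintro _ ⟨_, ⟨p, q, rfl⟩, rfl⟩
  rw [map_mul, theta_gP _ p.2, theta_gP _ q.2, g_mul _ _ p.2 q.2]
  exact ⟨_, rfl⟩

theorem range_le_map_E : (MulAut.conj : S3 →* MulAut S3).range ≤ E.map theta := by
  have hT : (E.map theta).comap (MulAut.conj : S3 →* MulAut S3) = ⊤ := by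
    apply L37Gen.eq_top
    intro i j hij
    rw [Subgroup.mem_comap]
    have hmem : ∀ w, theta (xProd w) ∈ E.map theta := fun w => ⟨_, xProd_mem w, rfl⟩
    fin_cases i <;> fin_cases j
    · exact absurd rfl hij
    · rw [conj_tv _ w01 m01]; exact hmem _
    · rw [conj_tv _ w02 m02]; exact hmem _
    · rw [conj_tv _ w10 m10]; exact hmem _
    · exact absurd rfl hij
    · rw [conj_tv _ w12 m12]; exact hmem _
    · rw [conj_tv _ w20 m20]; exact hmem _
    · rw [conj_tv _ w21 m21]; exact hmem _
    · exact absurd rfl hij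
  rintro _ ⟨M, rfl⟩
  have : M ∈ (E.map theta).comap (MulAut.conj : S3 →* MulAut S3) := by rw [hT]; trivial
  exact this

theorem map_E_eq : E.map theta = (MulAut.conj : S3 →* MulAut S3).range :=
  le_antisymm map_E_le range_le_map_E

end Cfsg.Agent.Lib.Helper98.L37Iso
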