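import Mathlib
import Cfsg.Agent.Lib.Helper98.L37TC3D
import Cfsg.Agent.Lib.Helper98.L37TC3S0

/-! Coset enumeration certificate, level 3: index at most 4. -/

set_option autoImplicit false
set_option maxRecDepth 1000000

namespace Cfsg.Agent.Lib.Helper98.L37TC3

open Cfsg.Agent.Lib.Helper98.CosetCert Cfsg.Agent.Lib.Helper98.CosetCert2

open Cfsg.Agent.Lib.Helper98.L37TC3D

theorem log_ok : LogUpTo cert cert.nlog :=
  (logUpTo_zero cert).addF L37TC3S0.seg0 (by decide : 9 = 0 + 9)

theorem names_ok : NamesUpTo cert cert.M :=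
  (namesUpTo_zero cert).addF L37TC3S0.nseg0 (by decide : 13 = 0 + 13)

end Cfsg.Agent.Lib.Helper98.L37TC3
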