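import Mathlib

/-! chunk literals of the coset enumeration certificate L37TC4 -/

namespace Cfsg.Agent.Lib.Helper98.L37TC4D

def entC0 : ℕ := 0x70000000000300004000000060000400000200004000000050000400000100004000000040000400000000004000000000000100005300000000000030000000000200000000000020000000000100000000000010000000000000000000000000000000001400000

def lgeC0 : ℕ := 0x8000080006000000700004000e000000600004000b0000005000040006000000300000001200000020000000110000001000000010

def repC0 : ℕ := 0x400000

end Cfsg.Agent.Lib.Helper98.L37TC4D
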