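import Mathlib

/-! chunk literals of the coset enumeration certificate L37TC5 -/

namespace Cfsg.Agent.Lib.Helper98.L37TC5D

def entC0 : ℕ := 0x390002f0000040003c000000380003c0000030003c000000370003c0000020003c00000035000320000010003c000000360003c0000000003c000000340002600000400032000000320003200000300032000000310002d00000200032000000330003c00000100032000000300002d00000000032000000000000d0004240002f0000002e0002f0000030002f0000002d0002f0000020002f0000002f000260000010002f0000002c0002f0000000002f0000002b000210000040002d000000280002d0000030002d0000002a000320000020002d000000270002d0000010002d00000029000320000000002d000000000000c0003d400026000000250002600000300026000000260001e00000200026000000000000b00038100026000000240002100000000026000000000000a000334000210000002100021000003000210000002300014000002000210000002000021000001000210000002200026000000000210000001f000100000040001e0000001e0001e0000030001e00000000000090002e20001e0000001d0001e0000010001e0000001c000140000000001e0000001b0000c00000400014000000190001400000300014000000000000800029200014000000180000f000001000140000001a0001e00000000014000000000000700024400010000000160001000000300010000000150001000000200010000000140001000000100010000000170000c0000000001000000013000080000040000f000000100000f0000030000f000000110000f0000020000f00000012000140000010000f0000000f0000f0000000000f00000000000060001f40000c0000000d0000c0000030000c0000000c0000c0000020000c0000000e000080000010000c00000000000050001a00000c0000000000004000154000080000000a00008000003000080000000b000050000020000800000000000030001010000800000009000080000000000800000008000000000040000500000007000050000030000500000000000020000b200005000000060000500000100005000000050000500000000005000000000000100006400000000000040000000000300000000000030000000000200000000000020000000000100000000000010000000000000000000000000000000001500000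

def lgeC0 : ℕ := 0x4600046000800000450003c000c00000440003c000a00000420003c0002000004300032000f0000041000410008000003e0003c000f0000040000320005000003f0002d001e000003d0002d00080000039000390002000003b0002f000c000003a0002f000a00000380002f00020000037000370008000003500032001e000003300032000800000360002d001700000340002d000f00000300003000040000031000260005000002e000210004000002b0002b00040000029000260004000002c000210011000002a00021000b000002800028000800000270001e000500000250001e000100000240001400080000023000230008000001f0001e0008000002200014000c00000200000f000f000001a0001a0000000001d000100005000001c000100003000001b0001000010000019000190008000001600014000f00000170000f001c00000180000f001700000150000f0008000001100011000900000130000c000c00000120000c000a000000d0000d0004000000e000080011000000b000080004000000a0000a00080000009000050017000000700005000f00000060000500080000004000000030000000300000002f000000200000002e000000100000002d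

def repC0 : ℕ := 0x3c000320002f0002d00026000210001e00014000100000f0000c000080000500000

end Cfsg.Agent.Lib.Helper98.L37TC5D
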