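import Mathlib
import Cfsg.Agent.Lib.Helper98.L37TC6C0
import Cfsg.Agent.Lib.Helper98.CosetCert2
import Cfsg.Agent.Lib.Helper98.L37Pres

/-! Coset enumeration certificate, level 6: index at most 5586; data. -/

set_option autoImplicit false
set_option maxRecDepth 1000000

namespace Cfsg.Agent.Lib.Helper98.L37TC6D

open Cfsg.Agent.Lib.Helper98.CosetCert Cfsg.Agent.Lib.Helper98.CosetCert2

open Cfsg.Agent.Lib.Helper98.L37Pres

def entN0 (c : ℕ) : ℕ := (Bool.rec (motive := fun _ => ℕ) entC0 (Bool.rec (motive := fun _ => ℕ) entC1 entC2 (Nat.ble 2 c)) (Nat.ble 1 c))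

def entN1 (c : ℕ) : ℕ := (Bool.rec (motive := fun _ => ℕ) entC3 (Bool.rec (motive := fun _ => ℕ) entC4 entC5 (Nat.ble 5 c)) (Nat.ble 4 c))

def entN2 (c : ℕ) : ℕ := (Bool.rec (motive := fun _ => ℕ) entC6 (Bool.rec (motive := fun _ => ℕ) entC7 entC8 (Nat.ble 8 c)) (Nat.ble 7 c))

def entN3 (c : ℕ) : ℕ := (Bool.rec (motive := fun _ => ℕ) (entN0 c) (Bool.rec (motive := fun _ => ℕ) (entN1 c) (entN2 c) (Nat.ble 6 c)) (Nat.ble 3 c))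

def entN4 (c : ℕ) : ℕ := (Bool.rec (motive := fun _ => ℕ) entC9 (Bool.rec (motive := fun _ => ℕ) entC10 entC11 (Nat.ble 11 c)) (Nat.ble 10 c))

def entN5 (c : ℕ) : ℕ := (Bool.rec (motive := fun _ => ℕ) entC12 (Bool.rec (motive := fun _ => ℕ) entC13 entC14 (Nat.ble 14 c)) (Nat.ble 13 c))

def entN6 (c : ℕ) : ℕ := (Bool.rec (motive := fun _ => ℕ) entC15 (Bool.rec (motive := fun _ => ℕ) entC16 entC17 (Nat.ble 17 c)) (Nat.ble 16 c))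

def entN7 (c : ℕ) : ℕ := (Bool.rec (motive := fun _ => ℕ) (entN4 c) (Bool.rec (motive := fun _ => ℕ) (entN5 c) (entN6 c) (Nat.ble 15 c)) (Nat.ble 12 c))

def entN8 (c : ℕ) : ℕ := (Bool.rec (motive := fun _ => ℕ) entC18 (Bool.rec (motive := fun _ => ℕ) entC19 entC20 (Nat.ble 20 c)) (Nat.ble 19 c))

def entN9 (c : ℕ) : ℕ := (Bool.rec (motive := fun _ => ℕ) entC21 (Bool.rec (motive := fun _ => ℕ) entC22 entC23 (Nat.ble 23 c)) (Nat.ble 22 c))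

def entN10 (c : ℕ) : ℕ := (Bool.rec (motive := fun _ => ℕ) entC24 (Bool.rec (motive := fun _ => ℕ) entC25 entC26 (Nat.ble 26 c)) (Nat.ble 25 c))

def entN11 (c : ℕ) : ℕ := (Bool.rec (motive := fun _ => ℕ) (entN8 c) (Bool.rec (motive := fun _ => ℕ) (entN9 c) (entN10 c) (Nat.ble 24 c)) (Nat.ble 21 c))

def entN12 (c : ℕ) : ℕ := (Bool.rec (motive := fun _ => ℕ) entC27 entC28 (Nat.ble 28 c))

def entN13 (c : ℕ) : ℕ := (Bool.rec (motive := fun _ => ℕ) entC29 entC30 (Nat.ble 30 c))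

def entN14 (c : ℕ) : ℕ := (Bool.rec (motive := fun _ => ℕ) entC31 entC32 (Nat.ble 32 c))

def entN15 (c : ℕ) : ℕ := (Bool.rec (motive := fun _ => ℕ) (entN12 c) (Bool.rec (motive := fun _ => ℕ) (entN13 c) (entN14 c) (Nat.ble 31 c)) (Nat.ble 29 c))

def entN16 (c : ℕ) : ℕ := (Bool.rec (motive := fun _ => ℕ) (Bool.rec (motive := fun _ => ℕ) (entN3 c) (entN7 c) (Nat.ble 9 c)) (Bool.rec (motive := fun _ => ℕ) (entN11 c) (entN15 c) (Nat.ble 27 c)) (Nat.ble 18 c))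

def entSel (c : ℕ) : ℕ := (entN16 c)

def entRaw (u : ℕ) : ℕ :=
  Nat.land (Nat.shiftRight (strict entSel (Nat.shiftRight u 10)) (Nat.mul 96 (Nat.land u 1023))) 79228162514264337593543950335

def ent (u : ℕ) : ℕ := strict entRaw u

def lgeN0 (c : ℕ) : ℕ := (Bool.rec (motive := fun _ => ℕ) lgeC0 lgeC1 (Nat.ble 1 c))

def lgeN1 (c : ℕ) : ℕ := (Bool.rec (motive := fun _ => ℕ) lgeC2 lgeC3 (Nat.ble 3 c))

def lgeN2 (c : ℕ) : ℕ := (Bool.rec (motive := fun _ => ℕ) lgeC4 lgeC5 (Nat.ble 5 c))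

def lgeN3 (c : ℕ) : ℕ := (Bool.rec (motive := fun _ => ℕ) (Bool.rec (motive := fun _ => ℕ) (lgeN0 c) (lgeN1 c) (Nat.ble 2 c)) (Bool.rec (motive := fun _ => ℕ) (lgeN2 c) lgeC6 (Nat.ble 6 c)) (Nat.ble 4 c))

def lgeN4 (c : ℕ) : ℕ := (Bool.rec (motive := fun _ => ℕ) lgeC7 lgeC8 (Nat.ble 8 c))

def lgeN5 (c : ℕ) : ℕ := (Bool.rec (motive := fun _ => ℕ) lgeC9 lgeC10 (Nat.ble 10 c))

def lgeN6 (c : ℕ) : ℕ := (Bool.rec (motive := fun _ => ℕ) lgeC11 lgeC12 (Nat.ble 12 c))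

def lgeN7 (c : ℕ) : ℕ := (Bool.rec (motive := fun _ => ℕ) (Bool.rec (motive := fun _ => ℕ) (lgeN4 c) (lgeN5 c) (Nat.ble 9 c)) (Bool.rec (motive := fun _ => ℕ) (lgeN6 c) lgeC13 (Nat.ble 13 c)) (Nat.ble 11 c))

def lgeN8 (c : ℕ) : ℕ := (Bool.rec (motive := fun _ => ℕ) lgeC14 lgeC15 (Nat.ble 15 c))

def lgeN9 (c : ℕ) : ℕ := (Bool.rec (motive := fun _ => ℕ) lgeC16 lgeC17 (Nat.ble 17 c))

def lgeN10 (c : ℕ) : ℕ := (Bool.rec (motive := fun _ => ℕ) lgeC18 lgeC19 (Nat.ble 19 c))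

def lgeN11 (c : ℕ) : ℕ := (Bool.rec (motive := fun _ => ℕ) (Bool.rec (motive := fun _ => ℕ) (lgeN8 c) (lgeN9 c) (Nat.ble 16 c)) (Bool.rec (motive := fun _ => ℕ) (lgeN10 c) lgeC20 (Nat.ble 20 c)) (Nat.ble 18 c))

def lgeN12 (c : ℕ) : ℕ := (Bool.rec (motive := fun _ => ℕ) lgeC21 lgeC22 (Nat.ble 22 c))

def lgeN13 (c : ℕ) : ℕ := (Bool.rec (motive := fun _ => ℕ) lgeC23 lgeC24 (Nat.ble 24 c))

def lgeN14 (c : ℕ) : ℕ := (Bool.rec (motive := fun _ => ℕ) lgeC25 lgeC26 (Nat.ble 26 c))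

def lgeN15 (c : ℕ) : ℕ := (Bool.rec (motive := fun _ => ℕ) (Bool.rec (motive := fun _ => ℕ) (lgeN12 c) (lgeN13 c) (Nat.ble 23 c)) (Bool.rec (motive := fun _ => ℕ) (lgeN14 c) lgeC27 (Nat.ble 27 c)) (Nat.ble 25 c))

def lgeN16 (c : ℕ) : ℕ := (Bool.rec (motive := fun _ => ℕ) (Bool.rec (motive := fun _ => ℕ) (lgeN3 c) (lgeN7 c) (Nat.ble 7 c)) (Bool.rec (motive := fun _ => ℕ) (lgeN11 c) (lgeN15 c) (Nat.ble 21 c)) (Nat.ble 14 c))

def lgeSel (c : ℕ) : ℕ := (lgeN16 c)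

def lgeRaw (u : ℕ) : ℕ :=
  Nat.land (Nat.shiftRight (strict lgeSel (Nat.shiftRight u 10)) (Nat.mul 64 (Nat.land u 1023))) 18446744073709551615

def lge (u : ℕ) : ℕ := strict lgeRaw u

def repN0 (c : ℕ) : ℕ := (Bool.rec (motive := fun _ => ℕ) repC0 repC1 (Nat.ble 1 c))

def repN1 (c : ℕ) : ℕ := (Bool.rec (motive := fun _ => ℕ) repC2 repC3 (Nat.ble 3 c))

def repN2 (c : ℕ) : ℕ := (Bool.rec (motive := fun _ => ℕ) repC4 repC5 (Nat.ble 5 c))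

def repN3 (c : ℕ) : ℕ := (Bool.rec (motive := fun _ => ℕ) (repN0 c) (Bool.rec (motive := fun _ => ℕ) (repN1 c) (repN2 c) (Nat.ble 4 c)) (Nat.ble 2 c))

def repSel (c : ℕ) : ℕ := (repN3 c)

def repRaw (u : ℕ) : ℕ :=
  Nat.land (Nat.shiftRight (strict repSel (Nat.shiftRight u 10)) (Nat.mul 20 (Nat.land u 1023))) 1048575

def rep (u : ℕ) : ℕ := strict repRaw u

def par (v : ℕ) : ℕ := Nat.land (ent v) 1048575

def lab (v : ℕ) : ℕ := Nat.land (Nat.shiftRight (ent v) 20) 15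

def cb (v : ℕ) : ℕ := Nat.land (Nat.shiftRight (ent v) 24) 1048575

def link (v : ℕ) : ℕ := Nat.land (Nat.shiftRight (ent v) 44) 1048575

def lt1 (v : ℕ) : ℕ := Nat.shiftRight (ent v) 64

def logw (i : ℕ) : ℕ := Nat.land (lge i) 65535

def logc (i : ℕ) : ℕ := Nat.land (Nat.shiftRight (lge i) 16) 1048575

def logb (i : ℕ) : ℕ := Nat.shiftRight (lge i) 36

def rwords : List (List (List ℕ)) := [
  [[0, 0], [0, 1, 0, 1, 0, 1], [1, 0, 1, 0, 1, 0], [0, 2, 0, 2], [2, 0, 2, 0], [0, 3, 0, 3], [3, 0, 3, 0], [0, 4, 0, 4], [4, 0, 4, 0], [0, 5, 0, 5], [5, 0, 5, 0], [1, 1], [1, 2, 1, 2, 1, 2], [2, 1, 2, 1, 2, 1], [1, 3, 1, 3], [3, 1, 3, 1]],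
  [[1, 4, 1, 4], [4, 1, 4, 1], [1, 5, 1, 5], [5, 1, 5, 1], [2, 2], [2, 3, 2, 3], [3, 2, 3, 2], [2, 4, 2, 4, 2, 4, 2, 4, 2, 4, 2, 4, 2, 4, 2, 4], [4, 2, 4, 2, 4, 2, 4, 2, 4, 2, 4, 2, 4, 2, 4, 2], [2, 5, 2, 5], [5, 2, 5, 2], [3, 3], [3, 4, 3, 4], [4, 3, 4, 3], [3, 5, 3, 5, 3, 5], [5, 3, 5, 3, 5, 3]],
  [[4, 4], [4, 5, 4, 5, 4, 5], [5, 4, 5, 4, 5, 4], [5, 5], [3, 0, 2, 4, 2, 4, 2, 4, 2, 4], [0, 2, 4, 2, 4, 2, 4, 2, 4, 3], [2, 4, 2, 4, 2, 4, 2, 4, 3, 0], [4, 2, 4, 2, 4, 2, 4, 3, 0, 2], [2, 4, 2, 4, 2, 4, 3, 0, 2, 4], [4, 2, 4, 2, 4, 3, 0, 2, 4, 2], [2, 4, 2, 4, 3, 0, 2, 4, 2, 4], [4, 2, 4, 3, 0, 2, 4, 2, 4, 2], [2, 4, 3, 0, 2, 4, 2, 4, 2, 4], [4, 3, 0, 2, 4, 2, 4, 2, 4, 2], [4, 2, 4, 2, 4, 2, 4, 2, 0, 3], [2, 4, 2, 4, 2, 4, 2, 0, 3, 4]],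
  [[4, 2, 4, 2, 4, 2, 0, 3, 4, 2], [2, 4, 2, 4, 2, 0, 3, 4, 2, 4], [4, 2, 4, 2, 0, 3, 4, 2, 4, 2], [2, 4, 2, 0, 3, 4, 2, 4, 2, 4], [4, 2, 0, 3, 4, 2, 4, 2, 4, 2], [2, 0, 3, 4, 2, 4, 2, 4, 2, 4], [0, 3, 4, 2, 4, 2, 4, 2, 4, 2], [3, 4, 2, 4, 2, 4, 2, 4, 2, 0]]]

def swords : List (List ℕ) := [[0], [1], [2], [3], [4]]

def srcs : List (ℕ × ℕ × Bool) := [(0, 0, false), (1, 0, false), (1, 1, false), (2, 0, false), (2, 1, false), (3, 0, false), (3, 1, false), (4, 0, false), (4, 1, false), (5, 0, false), (5, 1, false), (7, 0, false), (8, 0, false), (8, 1, false), (9, 0, false), (9, 1, false), (10, 0, false), (10, 1, false), (11, 0, false), (11, 1, false), (14, 0, false), (15, 0, false), (15, 1, false), (16, 0, false), (16, 1, false), (17, 0, false), (17, 1, false), (21, 0, false), (22, 0, false), (22, 1, false), (23, 0, false), (23, 1, false), (28, 0, false),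 (29, 0, false), (29, 1, false), (35, 0, false), (36, 0, false), (36, 1, false), (36, 2, false), (36, 3, false), (36, 4, false), (36, 5, false), (36, 6, false), (36, 7, false), (36, 8, false), (36, 9, false), (36, 0, true), (36, 1, true), (36, 2, true), (36, 3, true), (36, 4, true), (36, 5, true), (36, 6, true), (36, 7, true), (36, 8, true), (36, 9, true)]

def cert : TCert where
  k := 6
  M := 33565
  n := 5586
  par := par
  lab := lab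
  cb := cb
  link := link
  idx := link
  rep := rep
  rwords := rwords
  swords := swords
  nrw := 56
  nlog := 27979
  logw := logw
  logc := logc
  logb := logb
  lt1 := lt1

theorem rwords_src : rwords.flatten = srcs.map pres.srcWord := by decide +kernel

theorem wok : wordsOK cert.toCert = true := by decide +kernel

theorem head_ok : headOK cert = true := by decide +kernel

end Cfsg.Agent.Lib.Helper98.L37TC6D
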