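import Mathlib
import Cfsg.Agent.Lib.Helper98.L37TC6D

/-! Coset enumeration certificate L37TC6: checks, part 0. -/

set_option autoImplicit false
set_option maxRecDepth 1000000

namespace Cfsg.Agent.Lib.Helper98.L37TC6S0

open Cfsg.Agent.Lib.Helper98.CosetCert Cfsg.Agent.Lib.Helper98.CosetCert2

open Cfsg.Agent.Lib.Helper98.L37TC6D

theorem seg0 : rangeOKF cert 0 4742 = true := by decide +kernel

theorem seg1 : rangeOKF cert 4742 4734 = true := by decide +kernel

theorem seg2 : rangeOKF cert 9476 4681 = true := by decide +kernel

theorem seg3 : rangeOKF cert 14157 4668 = true := by decide +kernel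

theorem seg4 : rangeOKF cert 18825 4603 = true := by decide +kernel

theorem seg5 : rangeOKF cert 23428 4551 = true := by decide +kernel

theorem nseg0 : nameRangeOKF cert 0 8828 = true := by decide +kernel

theorem nseg1 : nameRangeOKF cert 8828 9339 = true := by decide +kernel

theorem nseg2 : nameRangeOKF cert 18167 10079 = true := by decide +kernel

theorem nseg3 : nameRangeOKF cert 28246 5319 = true := by decide +kernel

end Cfsg.Agent.Lib.Helper98.L37TC6S0
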