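import Mathlib
import Cfsg.Agent.Lib.Helper98.L37TC6D
import Cfsg.Agent.Lib.Helper98.L37TC6S0

/-! Coset enumeration certificate, level 6: index at most 5586. -/

set_option autoImplicit false
set_option maxRecDepth 1000000

namespace Cfsg.Agent.Lib.Helper98.L37TC6

open Cfsg.Agent.Lib.Helper98.CosetCert Cfsg.Agent.Lib.Helper98.CosetCert2

open Cfsg.Agent.Lib.Helper98.L37TC6D

theorem log_ok : LogUpTo cert cert.nlog :=
  ((((((logUpTo_zero cert).addF L37TC6S0.seg0 (by decide : 4742 = 0 + 4742)).addF L37TC6S0.seg1 (by decide : 9476 = 4742 + 4734)).addF L37TC6S0.seg2 (by decide : 14157 = 9476 + 4681)).addF L37TC6S0.seg3 (by decide : 18825 = 14157 + 4668)).addF L37TC6S0.seg4 (by decide : 23428 = 18825 + 4603)).addF L37TC6S0.seg5 (by decide : 27979 = 23428 + 4551)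

theorem names_ok : NamesUpTo cert cert.M :=
  ((((namesUpTo_zero cert).addF L37TC6S0.nseg0 (by decide : 8828 = 0 + 8828)).addF L37TC6S0.nseg1 (by decide : 18167 = 8828 + 9339)).addF L37TC6S0.nseg2 (by decide : 28246 = 18167 + 10079)).addF L37TC6S0.nseg3 (by decide : 33565 = 28246 + 5319)

end Cfsg.Agent.Lib.Helper98.L37TC6
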