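import Mathlib
import Cfsg.Agent.Lib.Helper98.L37TC1
import Cfsg.Agent.Lib.Helper98.L37TC2
import Cfsg.Agent.Lib.Helper98.L37TC3
import Cfsg.Agent.Lib.Helper98.L37TC4
import Cfsg.Agent.Lib.Helper98.L37TC5
import Cfsg.Agent.Lib.Helper98.L37TC6
import Cfsg.Agent.Lib.Helper98.L37Model
import Cfsg.Agent.Lib.Helper98.CoxMain
import Cfsg.Agent.Lib.Helper98.CoxIso

/-!
# The presented group `L37` is simple of order `3753792`
-/

set_option autoImplicit false

namespace Cfsg.Agent.Lib.Helper98.L37Main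

open Cfsg Cfsg.Spor MulAction
open Cfsg.Agent.Lib.Helper89 Cfsg.Agent.Lib.Helper89.TableChain2
open Cfsg.Agent.Lib.Helper98.CosetCert Cfsg.Agent.Lib.Helper98.CoxPres Cfsg.Agent.Lib.Helper98.CoxMain
open Cfsg.Agent.Lib.Helper98.PermChain Cfsg.Agent.Lib.Helper98.OrbitLower
open Cfsg.Agent.Lib.Helper98.PermCert Cfsg.Agent.Lib.Helper98.PermModel
open Cfsg.Agent.Lib.Helper98.L37Pres Cfsg.Agent.Lib.Helper98.L37Model

/-! ### The upper bound -/

theorem b0 : Finite (Hk gP 0) ∧ Nat.card (Hk gP 0) ≤ 1 := by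
  rw [Hk_zero]
  exact ⟨inferInstance, by simp⟩

theorem lvl1 (h0 : Finite (Hk gP 0)) :
    Finite (Hk gP 1) ∧ Nat.card (Hk gP 1) ≤ 2 * Nat.card (Hk gP 0) :=
  level_bound2 link wf L37TC1D.cert 0 L37TC1D.srcs (by decide) (by decide)
    L37TC1D.rwords_src (by decide) L37TC1D.wok L37TC1.log_ok L37TC1.names_ok
    L37TC1D.head_ok h0

theorem b1 : Finite (Hk gP 1) ∧ Nat.card (Hk gP 1) ≤ 2 := by
  obtain ⟨h0, c0⟩ := b0
  obtain ⟨h, c⟩ := lvl1 h0
  exact ⟨h, le_trans c (Nat.mul_le_mul_left 2 c0)⟩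

theorem lvl2 (h0 : Finite (Hk gP 1)) :
    Finite (Hk gP 2) ∧ Nat.card (Hk gP 2) ≤ 3 * Nat.card (Hk gP 1) :=
  level_bound2 link wf L37TC2D.cert 1 L37TC2D.srcs (by decide) (by decide)
    L37TC2D.rwords_src (by decide) L37TC2D.wok L37TC2.log_ok L37TC2.names_ok
    L37TC2D.head_ok h0

theorem b2 : Finite (Hk gP 2) ∧ Nat.card (Hk gP 2) ≤ 6 := by
  obtain ⟨h0, c0⟩ := b1
  obtain ⟨h, c⟩ := lvl2 h0
  exact ⟨h, le_trans c (Nat.mul_le_mul_left 3 c0)⟩

theorem lvl3 (h0 : Finite (Hk gP 2)) :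
    Finite (Hk gP 3) ∧ Nat.card (Hk gP 3) ≤ 4 * Nat.card (Hk gP 2) :=
  level_bound2 link wf L37TC3D.cert 2 L37TC3D.srcs (by decide) (by decide)
    L37TC3D.rwords_src (by decide) L37TC3D.wok L37TC3.log_ok L37TC3.names_ok
    L37TC3D.head_ok h0

theorem b3 : Finite (Hk gP 3) ∧ Nat.card (Hk gP 3) ≤ 24 := by
  obtain ⟨h0, c0⟩ := b2
  obtain ⟨h, c⟩ := lvl3 h0
  exact ⟨h, le_trans c (Nat.mul_le_mul_left 4 c0)⟩

theorem lvl4 (h0 : Finite (Hk gP 3)) :
    Finite (Hk gP 4) ∧ Nat.card (Hk gP 4) ≤ 2 * Nat.card (Hk gP 3) :=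
  level_bound2 link wf L37TC4D.cert 3 L37TC4D.srcs (by decide) (by decide)
    L37TC4D.rwords_src (by decide) L37TC4D.wok L37TC4.log_ok L37TC4.names_ok
    L37TC4D.head_ok h0

theorem b4 : Finite (Hk gP 4) ∧ Nat.card (Hk gP 4) ≤ 48 := by
  obtain ⟨h0, c0⟩ := b3
  obtain ⟨h, c⟩ := lvl4 h0
  exact ⟨h, le_trans c (Nat.mul_le_mul_left 2 c0)⟩

theorem lvl5 (h0 : Finite (Hk gP 4)) :
    Finite (Hk gP 5) ∧ Nat.card (Hk gP 5) ≤ 14 * Nat.card (Hk gP 4) :=
  level_bound2 link wf L37TC5D.cert 4 L37TC5D.srcs (by decide) (by decide)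
    L37TC5D.rwords_src (by decide) L37TC5D.wok L37TC5.log_ok L37TC5.names_ok
    L37TC5D.head_ok h0

theorem b5 : Finite (Hk gP 5) ∧ Nat.card (Hk gP 5) ≤ 672 := by
  obtain ⟨h0, c0⟩ := b4
  obtain ⟨h, c⟩ := lvl5 h0
  exact ⟨h, le_trans c (Nat.mul_le_mul_left 14 c0)⟩

theorem lvl6 (h0 : Finite (Hk gP 5)) :
    Finite (Hk gP 6) ∧ Nat.card (Hk gP 6) ≤ 5586 * Nat.card (Hk gP 5) :=
  level_bound2 link wf L37TC6D.cert 5 L37TC6D.srcs (by decide) (by decide)
    L37TC6D.rwords_src (by decide) L37TC6D.wok L37TC6.log_ok L37TC6.names_ok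
    L37TC6D.head_ok h0

theorem b6 : Finite (Hk gP 6) ∧ Nat.card (Hk gP 6) ≤ 3753792 := by
  obtain ⟨h0, c0⟩ := b5
  obtain ⟨h, c⟩ := lvl6 h0
  exact ⟨h, le_trans c (Nat.mul_le_mul_left 5586 c0)⟩

theorem finite_X : Finite Cfsg.Agent.Lib.Helper98.L37Def.L37 := finite_of_top link b6.1

theorem card_X_le : Nat.card Cfsg.Agent.Lib.Helper98.L37Def.L37 ≤ 3753792 := card_le_of_top link b6.2

/-! ### The model -/

theorem htab : TabOK 5586 6 tab tab := tabOK_of_invOK tab_ok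

/-- the chain data of the model -/
noncomputable abbrev D : Data (Equiv.Perm (Fin 5586)) (Fin 5586) := data htab

theorem base_genM : ∀ w ∈ pres.baseWords, (w.map D.gen).prod = 1 := by
  intro w hw
  have hlt := Pres.baseWords_lt wf w hw
  rw [relWords_eq] at hw
  exact ev_eq_one_of_fixUpTo htab hlt (rel_all w hw)

theorem rel_genM : pres.Rel D.gen := Pres.rel_of_base wf base_genM

theorem card_KS_ge : 3753792 ≤ Nat.card (KS D SG 6) := by
  have h5 : 2 * Nat.card (KS D SG 0) ≤ Nat.card (KS D SG 1) :=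
    level htab SG sg_lt 1 0 0 2 (by decide) (by decide) orb5 cnt5 fix5
  have h4 : 3 * Nat.card (KS D SG 1) ≤ Nat.card (KS D SG 2) :=
    level htab SG sg_lt 2 1 2 3 (by decide) (by decide) orb4 cnt4 fix4
  have h3 : 4 * Nat.card (KS D SG 2) ≤ Nat.card (KS D SG 3) :=
    level htab SG sg_lt 3 2 5547 4 (by decide) (by decide) orb3 cnt3 fix3
  have h2 : 28 * Nat.card (KS D SG 3) ≤ Nat.card (KS D SG 4) :=
    level htab SG sg_lt 4 3 5583 28 (by decide) (by decide) orb2 cnt2 fix2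
  have h1 : 1 * Nat.card (KS D SG 4) ≤ Nat.card (KS D SG 5) :=
    level htab SG sg_lt 5 4 5585 1 (by decide) (by decide) orb1 cnt1 fix1
  have h0 : 5586 * Nat.card (KS D SG 5) ≤ Nat.card (KS D SG 6) :=
    level htab SG sg_lt 6 5 5585 5586 (by decide) (by decide) orb0 cnt0 fix0
  have hz : Nat.card (KS D SG 0) = 1 := by
    rw [KS_zero]; simp
  rw [hz] at h5
  omega

theorem card_M_ge : 3753792 ≤ Nat.card (D.H 6) :=
  le_trans card_KS_ge (Subgroup.card_le_of_le (KS_le_M htab SG sg_lt 6))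

/-- the order of the presented group, and the embedding into the model -/
theorem card_X : Nat.card Cfsg.Agent.Lib.Helper98.L37Def.L37 = 3753792 := by
  obtain ⟨φ, hinj, _, hrange⟩ := exists_embedding link wf D rfl rel_genM 3753792 finite_X card_X_le card_M_ge
  apply le_antisymm card_X_le
  have hfin := finite_X
  have h1 : Nat.card (D.H 6) ≤ Nat.card Cfsg.Agent.Lib.Helper98.L37Def.L37 := by
    have hrange' : φ.range = D.H 6 := hrange
    rw [← hrange']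
    exact Nat.card_le_card_of_surjective _ φ.rangeRestrict_surjective
  exact le_trans card_M_ge h1

end Cfsg.Agent.Lib.Helper98.L37Main
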