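import Mathlib
import Cfsg.Agent.Lib.Helper98.L37Iso
import Cfsg.Agent.Lib.Helper98.L37Main
import Cfsg.Agent.Lib.Helper41.SL3Iota

/-!
# The kernel of the sign on the presented group `L37` is isomorphic to `PSL(3, 7)`
-/

set_option autoImplicit false
set_option maxRecDepth 100000

namespace Cfsg.Agent.Lib.Helper98.L37Fin

open Matrix Cfsg.Agent.Lib.Helper98.CoxPres Cfsg.Agent.Lib.Helper98.L37Mat
open Cfsg.Agent.Lib.Helper98.L37Pres Cfsg.Agent.Lib.Helper98.L37Rel Cfsg.Agent.Lib.Helper98.L37Gen
open Cfsg.Agent.Lib.Helper98.L37Def Cfsg.Agent.Lib.Helper98.L37Iso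

instance finite_L37 : Finite L37 := L37Main.finite_X

theorem card_L37 : Nat.card L37 = 3753792 := L37Main.card_X

theorem sgn_surj : Function.Surjective sgn := by
  intro u
  rcases Int.units_eq_one_or u with rfl | rfl
  · exact ⟨1, map_one _⟩
  · exact ⟨gP 0, sgn_gP 0⟩

theorem index_ker : sgn.ker.index = 2 := by
  rw [Subgroup.index_ker, MonoidHom.range_eq_top.2 sgn_surj, Subgroup.card_top,
    Nat.card_eq_fintype_card, Fintype.card_units_int]

theorem card_ker : Nat.card sgn.ker = 1876896 := by
  have h := Subgroup.card_mul_index sgn.ker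
  rw [index_ker, card_L37] at h
  omega

theorem card_S3 : Nat.card S3 = 5630688 := by
  have h := Cfsg.Agent.Lib.Helper41.SL3.card_SL3 (F := F7)
  rw [ZMod.card] at h
  rw [h]
  norm_num

theorem ker_conj : (MulAut.conj : S3 →* MulAut S3).ker = Subgroup.center S3 := by
  ext M
  rw [MonoidHom.mem_ker, Subgroup.mem_center_iff]
  constructor
  · intro h X
    have := DFunLike.congr_fun h X
    rw [MulAut.conj_apply, MulAut.one_apply, mul_inv_eq_iff_eq_mul] at this
    exact this.symm
  · intro h
    ext X : 1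
    rw [MulAut.conj_apply, MulAut.one_apply, mul_inv_eq_iff_eq_mul]
    exact (h X).symm

theorem card_center_le : Nat.card (Subgroup.center S3) ≤ 3 := by
  rw [Nat.card_congr (Matrix.SpecialLinearGroup.center_equiv_rootsOfUnity' (0 : Fin 3)).toEquiv,
    Fintype.card_fin]
  exact card_rootsOfUnity F7 3

/-- the group of inner automorphisms -/
noncomputable abbrev Inn : Subgroup (MulAut S3) := (MulAut.conj : S3 →* MulAut S3).range

theorem card_inn_ge : 1876896 ≤ Nat.card Inn := by
  have e : S3 ⧸ (MulAut.conj : S3 →* MulAut S3).ker ≃* Inn :=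
    QuotientGroup.quotientKerEquivRange _
  have h := Subgroup.card_eq_card_quotient_mul_card_subgroup (MulAut.conj : S3 →* MulAut S3).ker
  rw [card_S3, Nat.card_congr e.toEquiv, ker_conj] at h
  have hc := card_center_le
  have hc0 : 0 < Nat.card (Subgroup.center S3) := Nat.card_pos
  by_contra hlt
  push Not at hlt
  have : Nat.card Inn * Nat.card (Subgroup.center S3) ≤ 1876895 * 3 :=
    Nat.mul_le_mul (by omega) hc
  omega

theorem card_map_E_le : Nat.card (E.map theta) ≤ Nat.card E :=
  Nat.card_le_card_of_surjective _ (theta.subgroupMap_surjective E)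

theorem E_eq_ker : E = sgn.ker := by
  apply Subgroup.eq_of_le_of_card_ge E_le_ker
  rw [card_ker]
  refine le_trans ?_ card_map_E_le
  rw [map_E_eq]
  exact card_inn_ge

theorem card_E : Nat.card E = 1876896 := by rw [E_eq_ker, card_ker]

/-- the even part is isomorphic to the projective special linear group -/
theorem even_iso : Nonempty (sgn.ker ≃* Matrix.ProjectiveSpecialLinearGroup (Fin 3) (ZMod 7)) := by
  have hbij : Function.Bijective (theta.subgroupMap E) := by
    apply (theta.subgroupMap_surjective E).bijective_of_nat_card_le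
    rw [card_E, map_E_eq]
    exact card_inn_ge
  let e1 : sgn.ker ≃* E := MulEquiv.subgroupCongr E_eq_ker.symm
  let e2 : E ≃* E.map theta := MulEquiv.ofBijective _ hbij
  let e3 : E.map theta ≃* Inn := MulEquiv.subgroupCongr map_E_eq
  let e4 : S3 ⧸ (MulAut.conj : S3 →* MulAut S3).ker ≃* Inn := QuotientGroup.quotientKerEquivRange _
  let e5 : S3 ⧸ (MulAut.conj : S3 →* MulAut S3).ker ≃* S3 ⧸ Subgroup.center S3 :=
    QuotientGroup.quotientMulEquivOfEq ker_conj
  exact ⟨((e1.trans e2).trans e3).trans (e4.symm.trans e5)⟩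

end Cfsg.Agent.Lib.Helper98.L37Fin
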