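import Mathlib
import Cfsg.Prelude.Def_Spor_ON
import Cfsg.Agent.Lib.Helper98.L37Fin
import Cfsg.Agent.Lib.Helper28.ONOrderC

/-!
# The subgroup `⟨a, …, f⟩` of the presented O'Nan group

It is isomorphic to the presented group `L37`; the kernel of the sign gives a normal subgroup of
index two isomorphic to `PSL(3, 7)`.
-/

set_option autoImplicit false
set_option maxRecDepth 100000

namespace Cfsg.Agent.Lib.Helper98.L37ON

open Cfsg Cfsg.Spor
open Cfsg.Agent.Lib.Helper98.CoxPres Cfsg.Agent.Lib.Helper98.L37Pres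
open Cfsg.Agent.Lib.Helper98.L37Def Cfsg.Agent.Lib.Helper98.L37Iso Cfsg.Agent.Lib.Helper98.L37Fin

/-- the generators of the O'Nan group with the indices of `L37Pres` -/
def genON : ℕ → ON.Gen
  | 0 => .f
  | 1 => .e
  | 2 => .d
  | 3 => .a
  | 4 => .c
  | _ => .b

/-- their images in the presented group -/
noncomputable def gON (x : ℕ) : Cfsg.Spor.ON := PresentedGroup.of (genON x)

theorem lab_eq : ∀ x < 6, ∀ y < 6, coxLabel ON.edges (genON x) (genON y) = pres.lab x y := by decide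

theorem node_mem : ∀ x < 6, genON x ∈ coxNodes ON.edges := by decide

theorem rel_gON : pres.Rel gON := by
  have hmk : ∀ r ∈ (coxRelators ON.edges ∪ {r | r ∈ ON.extra}),
      PresentedGroup.mk (coxRelators ON.edges ∪ {r | r ∈ ON.extra}) r = 1 :=
    fun r hr => PresentedGroup.one_of_mem hr
  refine ⟨?_, ?_⟩
  · intro x hx y hy
    have := hmk ((FreeGroup.of (genON x) * FreeGroup.of (genON y)) ^ pres.lab x y)
      (Or.inl ⟨genON x, node_mem x hx, genON y, node_mem y hy, by rw [lab_eq x hx y hy]⟩)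
    simpa [gON, PresentedGroup.of] using this
  · intro e he
    have he' : e = (.mul (.mul (.gen 3) (.gen 0)) (.inv (.pow (.mul (.gen 4) (.gen 2)) 4))) := by
      simpa [pres] using he
    subst he'
    have hmem : (ON.a * ON.f) * (((ON.c * ON.d) ^ 4)⁻¹) ∈
        (coxRelators ON.edges ∪ {r | r ∈ ON.extra}) := Or.inr (by simp [ON.extra])
    have := hmk _ hmem
    simpa [WExp.eval, gON, PresentedGroup.of, genON] using this

/-- the homomorphism from the presented group `L37` -/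
noncomputable def pi : L37 →* Cfsg.Spor.ON :=
  PresentedGroup.toGroup (f := fun s => gON (natOfGen s)) (link.lift_rel wf rel_gON)

theorem pi_of (s : L37Def.Gen) : pi (PresentedGroup.of s) = gON (natOfGen s) :=
  PresentedGroup.toGroup.of _

/-- the subgroup `⟨a, …, f⟩` -/
noncomputable abbrev H : Subgroup Cfsg.Spor.ON := Cfsg.Agent.Lib.Helper28.ONOrderC.H

theorem card_H : Nat.card H = 3753792 := by
  obtain ⟨φ, hS⟩ := Cfsg.Agent.S1692.setup
  exact (Cfsg.Agent.Lib.Helper28.ONOrderC.chain hS).1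

theorem range_pi : pi.range = H := by
  rw [MonoidHom.range_eq_map, ← PresentedGroup.closure_range_of, MonoidHom.map_closure]
  show _ = (Subgroup.closure Cfsg.Agent.S1692.subS).map
    (PresentedGroup.mk Cfsg.Agent.Lib.Helper28.ONGlueR.relSet)
  rw [MonoidHom.map_closure]
  congr 1
  ext x
  constructor
  · rintro ⟨_, ⟨s, rfl⟩, rfl⟩
    rw [pi_of]
    cases s
    · exact ⟨ON.a, by simp [Cfsg.Agent.S1692.subS], rfl⟩
    · exact ⟨ON.b, by simp [Cfsg.Agent.S1692.subS], rfl⟩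
    · exact ⟨ON.c, by simp [Cfsg.Agent.S1692.subS], rfl⟩
    · exact ⟨ON.d, by simp [Cfsg.Agent.S1692.subS], rfl⟩
    · exact ⟨ON.e, by simp [Cfsg.Agent.S1692.subS], rfl⟩
    · exact ⟨ON.f, by simp [Cfsg.Agent.S1692.subS], rfl⟩
  · rintro ⟨_, hs, rfl⟩
    simp only [Cfsg.Agent.S1692.subS, Set.mem_insert_iff, Set.mem_singleton_iff] at hs
    rcases hs with rfl | rfl | rfl | rfl | rfl | rfl
    · exact ⟨_, ⟨L37Def.Gen.a, rfl⟩, by rw [pi_of]; rfl⟩
    · exact ⟨_, ⟨L37Def.Gen.b, rfl⟩, by rw [pi_of]; rfl⟩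
    · exact ⟨_, ⟨L37Def.Gen.c, rfl⟩, by rw [pi_of]; rfl⟩
    · exact ⟨_, ⟨L37Def.Gen.d, rfl⟩, by rw [pi_of]; rfl⟩
    · exact ⟨_, ⟨L37Def.Gen.e, rfl⟩, by rw [pi_of]; rfl⟩
    · exact ⟨_, ⟨L37Def.Gen.f, rfl⟩, by rw [pi_of]; rfl⟩

/-- `L37` is isomorphic to the subgroup `⟨a, …, f⟩` -/
theorem exists_iso : ∃ _ : L37 ≃* H, True := by
  have hmem : ∀ x, pi x ∈ H := fun x => by rw [← range_pi]; exact ⟨x, rfl⟩
  let f : L37 →* H := pi.codRestrict H hmem
  have hsurj : Function.Surjective f := by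
    rintro ⟨y, hy⟩
    rw [← range_pi] at hy
    obtain ⟨x, rfl⟩ := hy
    exact ⟨x, rfl⟩
  have hbij : Function.Bijective f :=
    hsurj.bijective_of_nat_card_le (by rw [card_L37, card_H])
  exact ⟨MulEquiv.ofBijective f hbij, trivial⟩

/-- the subgroup `⟨a, …, f⟩` has a normal subgroup of index two isomorphic to `PSL(3, 7)` -/
theorem main : ∃ N : Subgroup H, N.Normal ∧ N.index = 2 ∧
    Nonempty (N ≃* Matrix.ProjectiveSpecialLinearGroup (Fin 3) (ZMod 7)) := by
  obtain ⟨e, _⟩ := exists_iso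
  obtain ⟨i⟩ := even_iso
  refine ⟨sgn.ker.map (e : L37 →* H), ?_, ?_, ⟨?_⟩⟩
  · exact Subgroup.Normal.map (MonoidHom.normal_ker sgn) _ (by simpa using e.surjective)
  · rw [Subgroup.index_map_equiv]
    exact index_ker
  · exact (e.subgroupMap sgn.ker).symm.trans i

end Cfsg.Agent.Lib.Helper98.L37ON
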