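import Mathlib

set_option autoImplicit false

/-!
Arithmetic for the bound on nilpotent subgroups of symmetric groups.
`B n` is the 2-part of `n !`, `G n` is the bound (equal to `B n` unless `n % 4 = 3`).
-/

namespace Cfsg.Agent.Lib.Helper98.NilpArith

open Nat

/-- the 2-part of `n !` -/
def B (n : ℕ) : ℕ := 2 ^ padicValNat 2 n !

/-- the bound for nilpotent subgroups of the symmetric group of degree `n` -/
def G (n : ℕ) : ℕ := if n % 4 = 3 then 3 * B (n - 3) else B n

theorem B_pos (n : ℕ) : 0 < B n := by unfold B; positivity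

theorem G_pos (n : ℕ) : 0 < G n := by
  unfold G; split_ifs
  · have := B_pos (n - 3); omega
  · exact B_pos n

theorem B_zero : B 0 = 1 := by simp [B]
theorem B_one : B 1 = 1 := by simp [B]

theorem B_two_mul (k : ℕ) : B (2 * k) = 2 ^ k * B k := by
  unfold B
  rw [padicValNat_factorial_mul, pow_add, mul_comm]

theorem B_two_mul_add_one (k : ℕ) : B (2 * k + 1) = 2 ^ k * B k := by
  rw [← B_two_mul]
  unfold B
  rw [padicValNat_factorial_mul_add k (by norm_num : 1 < 2)]

theorem B_eq_ordProj (n : ℕ) : B n = 2 ^ (n !).factorization 2 := by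
  unfold B
  rw [Nat.factorization_def _ Nat.prime_two]

theorem B_mul_le (a b : ℕ) : B a * B b ≤ B (a + b) := by
  rw [B_eq_ordProj, B_eq_ordProj, B_eq_ordProj,
    ← Nat.ordProj_mul 2 (Nat.factorial_ne_zero a) (Nat.factorial_ne_zero b)]
  exact Nat.le_of_dvd (by positivity)
    (Nat.ordProj_dvd_ordProj_of_dvd (Nat.factorial_ne_zero _)
      (Nat.factorial_mul_factorial_dvd_factorial_add a b) 2)

theorem B_2 : B 2 = 2 := by
  have := B_two_mul 1; rw [B_one] at this; simpa using this
theorem B_3 : B 3 = 2 := by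
  have := B_two_mul_add_one 1; rw [B_one] at this; simpa using this
theorem B_4 : B 4 = 8 := by
  have := B_two_mul 2; rw [B_2] at this; simpa using this
theorem B_5 : B 5 = 8 := by
  have := B_two_mul_add_one 2; rw [B_2] at this; simpa using this
theorem B_6 : B 6 = 16 := by
  have := B_two_mul 3; rw [B_3] at this; simpa using this
theorem B_8 : B 8 = 128 := by
  have := B_two_mul 4; rw [B_4] at this; simpa using this
theorem B_9 : B 9 = 128 := by
  have := B_two_mul_add_one 4; rw [B_4] at this; simpa using this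
theorem B_12 : B 12 = 2 ^ 10 := by
  have := B_two_mul 6; rw [B_6] at this; simpa using this
theorem B_24 : B 24 = 2 ^ 22 := by
  have := B_two_mul 12; rw [B_12] at this; simpa using this
theorem B_25 : B 25 = 2 ^ 22 := by
  have := B_two_mul_add_one 12; rw [B_12] at this; simpa using this

/-- `B (m + 3) = 2 * B m` when `4 ∣ m`. -/
theorem B_add_three_of_mod (m : ℕ) (hm : m % 4 = 0) : B (m + 3) = 2 * B m := by
  obtain ⟨k, rfl⟩ : ∃ k, m = 4 * k := ⟨m / 4, by omega⟩
  have h1 : 4 * k + 3 = 2 * (2 * k + 1) + 1 := by ring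
  have h2 : 4 * k = 2 * (2 * k) := by ring
  rw [h1, B_two_mul_add_one, B_two_mul_add_one, h2, B_two_mul, B_two_mul]
  ring

/-- `4 * B m ≤ B (m + 3)` when `4 ∤ m`. -/
theorem four_mul_B_le (m : ℕ) (hm : m % 4 ≠ 0) : 4 * B m ≤ B (m + 3) := by
  have hB : ∀ j, B j ≤ B (j + 1) := fun j => by
    have := B_mul_le j 1; rwa [B_one, mul_one] at this
  have hm' : m % 4 = 1 ∨ m % 4 = 2 ∨ m % 4 = 3 := by omega
  rcases hm' with h | h | h
  · obtain ⟨k, rfl⟩ : ∃ k, m = 4 * k + 1 := ⟨m / 4, by omega⟩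
    have h1 : 4 * k + 1 + 3 = 2 * (2 * (k + 1)) := by ring
    have h2 : 4 * k + 1 = 2 * (2 * k) + 1 := by ring
    rw [h1, B_two_mul, B_two_mul, h2, B_two_mul_add_one, B_two_mul]
    have := hB k
    calc 4 * (2 ^ (2 * k) * (2 ^ k * B k)) ≤ 4 * (2 ^ (2 * k) * (2 ^ k * B (k + 1))) := by gcongr
      _ ≤ 2 ^ (2 * (k + 1)) * (2 ^ (k + 1) * B (k + 1)) := by
        have : 2 ^ (2 * (k + 1)) * (2 ^ (k + 1) * B (k + 1))
            = 8 * (2 ^ (2 * k) * (2 ^ k * B (k + 1))) := by ring
        rw [this]; gcongr; norm_num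
  · obtain ⟨k, rfl⟩ : ∃ k, m = 4 * k + 2 := ⟨m / 4, by omega⟩
    have h1 : 4 * k + 2 + 3 = 2 * (2 * (k + 1)) + 1 := by ring
    have h2 : 4 * k + 2 = 2 * (2 * k + 1) := by ring
    rw [h1, B_two_mul_add_one, B_two_mul, h2, B_two_mul, B_two_mul_add_one]
    have := hB k
    calc 4 * (2 ^ (2 * k + 1) * (2 ^ k * B k))
        ≤ 4 * (2 ^ (2 * k + 1) * (2 ^ k * B (k + 1))) := by gcongr
      _ = 2 ^ (2 * (k + 1)) * (2 ^ (k + 1) * B (k + 1)) := by ring
  · obtain ⟨k, rfl⟩ : ∃ k, m = 4 * k + 3 := ⟨m / 4, by omega⟩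
    have h1 : 4 * k + 3 + 3 = 2 * (2 * (k + 1) + 1) := by ring
    have h2 : 4 * k + 3 = 2 * (2 * k + 1) + 1 := by ring
    rw [h1, B_two_mul, B_two_mul_add_one, h2, B_two_mul_add_one, B_two_mul_add_one]
    have := hB k
    calc 4 * (2 ^ (2 * k + 1) * (2 ^ k * B k))
        ≤ 4 * (2 ^ (2 * k + 1) * (2 ^ k * B (k + 1))) := by gcongr
      _ ≤ 2 ^ (2 * (k + 1) + 1) * (2 ^ (k + 1) * B (k + 1)) := by
        have : 2 ^ (2 * (k + 1) + 1) * (2 ^ (k + 1) * B (k + 1))
            = 8 * (2 ^ (2 * k + 1) * (2 ^ k * B (k + 1))) := by ring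
        rw [this]; gcongr; norm_num

theorem B_le_G (n : ℕ) : B n ≤ G n := by
  unfold G; split_ifs with h
  · obtain ⟨m, rfl⟩ : ∃ m, n = m + 3 := ⟨n - 3, by omega⟩
    rw [Nat.add_sub_cancel, B_add_three_of_mod m (by omega)]
    have := B_pos m; omega
  · exact le_rfl

theorem G_of_mod {n : ℕ} (h : n % 4 ≠ 3) : G n = B n := by unfold G; rw [if_neg h]
theorem G_add_three {m : ℕ} (h : m % 4 = 0) : G (m + 3) = 3 * B m := by
  unfold G; rw [if_pos (by omega), Nat.add_sub_cancel]

/-- superadditivity of the bound -/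
theorem G_mul_le (a b : ℕ) : G a * G b ≤ G (a + b) := by
  by_cases ha : a % 4 = 3
  · obtain ⟨a', rfl⟩ : ∃ m, a = m + 3 := ⟨a - 3, by omega⟩
    have ha' : a' % 4 = 0 := by omega
    rw [G_add_three ha']
    by_cases hb : b % 4 = 3
    · obtain ⟨b', rfl⟩ : ∃ m, b = m + 3 := ⟨b - 3, by omega⟩
      have hb' : b' % 4 = 0 := by omega
      rw [G_add_three hb', G_of_mod (by omega)]
      have h1 := B_mul_le a' b'
      have h2 := B_mul_le 6 (a' + b')
      rw [B_6] at h2
      have h3 : a' + 3 + (b' + 3) = 6 + (a' + b') := by ring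
      rw [h3]
      calc 3 * B a' * (3 * B b') = 9 * (B a' * B b') := by ring
        _ ≤ 16 * B (a' + b') := by nlinarith
        _ ≤ _ := h2
    · rw [G_of_mod hb]
      have h1 := B_mul_le a' b
      have h3 : a' + 3 + b = (a' + b) + 3 := by ring
      rw [h3]
      by_cases hab : (a' + b) % 4 = 0
      · rw [G_add_three hab]
        calc 3 * B a' * B b = 3 * (B a' * B b) := by ring
          _ ≤ _ := by gcongr
      · rw [G_of_mod (by omega)]
        have h2 := four_mul_B_le (a' + b) hab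
        calc 3 * B a' * B b = 3 * (B a' * B b) := by ring
          _ ≤ 4 * B (a' + b) := by nlinarith
          _ ≤ _ := h2
  · rw [G_of_mod ha]
    by_cases hb : b % 4 = 3
    · obtain ⟨b', rfl⟩ : ∃ m, b = m + 3 := ⟨b - 3, by omega⟩
      have hb' : b' % 4 = 0 := by omega
      rw [G_add_three hb']
      have h1 := B_mul_le a b'
      have h3 : a + (b' + 3) = (a + b') + 3 := by ring
      rw [h3]
      by_cases hab : (a + b') % 4 = 0
      · rw [G_add_three hab]
        calc B a * (3 * B b') = 3 * (B a * B b') := by ring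
          _ ≤ _ := by gcongr
      · rw [G_of_mod (by omega)]
        have h2 := four_mul_B_le (a + b') hab
        calc B a * (3 * B b') = 3 * (B a * B b') := by ring
          _ ≤ 4 * B (a + b') := by nlinarith
          _ ≤ _ := h2
    · rw [G_of_mod hb]
      exact (B_mul_le a b).trans (B_le_G _)

theorem G_zero : G 0 = 1 := by rw [G_of_mod (by norm_num), B_zero]
theorem G_one : G 1 = 1 := by rw [G_of_mod (by norm_num), B_one]

theorem G_mono {a b : ℕ} (h : a ≤ b) : G a ≤ G b := by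
  induction b, h using Nat.le_induction with
  | base => exact le_rfl
  | succ n _ ih =>
    have := G_mul_le n 1
    rw [G_one, mul_one] at this
    exact ih.trans this

theorem G_pow_le (m k : ℕ) : G m ^ k ≤ G (k * m) := by
  induction k with
  | zero => simp [G_zero]
  | succ k ih =>
    rw [pow_succ, Nat.succ_mul]
    exact (Nat.mul_le_mul_right _ ih).trans (G_mul_le _ _)

/-- exponent of `p` in `(p ^ a)!` -/
theorem padic_pow_factorial_succ (p : ℕ) [hp : Fact p.Prime] (a : ℕ) :
    padicValNat p (p ^ (a + 1))! = padicValNat p (p ^ a)! + p ^ a := by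
  rw [pow_succ', padicValNat_factorial_mul]

theorem sub_one_mul_padic_pow_factorial (p : ℕ) [hp : Fact p.Prime] (a : ℕ) :
    (p - 1) * padicValNat p (p ^ a)! + 1 = p ^ a := by
  induction a with
  | zero => simp
  | succ a ih =>
    rw [padic_pow_factorial_succ, mul_add, pow_succ']
    have hp1 : 1 ≤ p := hp.out.one_lt.le
    obtain ⟨q, rfl⟩ : ∃ q, p = q + 1 := ⟨p - 1, by omega⟩
    simp only [Nat.add_sub_cancel] at ih ⊢
    nlinarith

theorem padic_pow_factorial_succ' (p : ℕ) [hp : Fact p.Prime] (a : ℕ) :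
    padicValNat p (p ^ (a + 1))! = p * padicValNat p (p ^ a)! + 1 := by
  rw [padic_pow_factorial_succ]
  have h := sub_one_mul_padic_pow_factorial p a
  have hp1 : 1 ≤ p := hp.out.one_lt.le
  obtain ⟨q, rfl⟩ : ∃ q, p = q + 1 := ⟨p - 1, by omega⟩
  simp only [Nat.add_sub_cancel] at h
  nlinarith

/-- the `p`-part of `(p ^ a)!` -/
def A (p a : ℕ) : ℕ := p ^ padicValNat p (p ^ a)!

theorem A_succ (p : ℕ) [hp : Fact p.Prime] (a : ℕ) : A p (a + 1) = p * A p a ^ p := by
  unfold A
  rw [padic_pow_factorial_succ', pow_succ, ← pow_mul, mul_comm (p ^ _) p, mul_comm p (padicValNat _ _)]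

theorem A_zero (p : ℕ) : A p 0 = 1 := by simp [A]

theorem two_mul_le_two_pow (p : ℕ) (hp : 1 ≤ p) : 2 * p ≤ 2 ^ p := by
  obtain ⟨q, rfl⟩ : ∃ q, p = q + 1 := ⟨p - 1, by omega⟩
  have := Nat.lt_two_pow_self (n := q)
  rw [pow_succ]; omega

theorem A_step (p : ℕ) [hp : Fact p.Prime] (a : ℕ) (h : 2 * A p a ≤ G (p ^ a)) :
    2 * A p (a + 1) ≤ G (p ^ (a + 1)) := by
  rw [A_succ]
  calc 2 * (p * A p a ^ p) = (2 * p) * A p a ^ p := by ring
    _ ≤ 2 ^ p * A p a ^ p := by
      gcongr; exact two_mul_le_two_pow p hp.out.one_lt.le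
    _ = (2 * A p a) ^ p := by rw [mul_pow]
    _ ≤ G (p ^ a) ^ p := by gcongr
    _ ≤ G (p * p ^ a) := G_pow_le _ _
    _ = G (p ^ (a + 1)) := by rw [pow_succ']

theorem A_le_of_base (p : ℕ) [hp : Fact p.Prime] (a₀ : ℕ) (h : 2 * A p a₀ ≤ G (p ^ a₀))
    (a : ℕ) (ha : a₀ ≤ a) : A p a ≤ G (p ^ a) := by
  have : 2 * A p a ≤ G (p ^ a) := by
    induction a, ha using Nat.le_induction with
    | base => exact h
    | succ n _ ih => exact A_step p n ih
  omega

theorem G_2 : G 2 = 2 := by rw [G_of_mod (by norm_num), B_2]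
theorem G_3 : G 3 = 3 := by
  have := G_add_three (m := 0) (by norm_num); rw [B_zero] at this; simpa using this
theorem G_7 : G 7 = 24 := by
  have := G_add_three (m := 4) (by norm_num); rw [B_4] at this; simpa using this
theorem G_27 : G 27 = 3 * 2 ^ 22 := by
  have := G_add_three (m := 24) (by norm_num); rw [B_24] at this; simpa using this

theorem two_mul_le_G (n : ℕ) (hn : 7 ≤ n) : 2 * n ≤ G n := by
  induction n using Nat.strong_induction_on with
  | _ n ih =>
    by_cases h7 : n = 7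
    · subst h7; rw [G_7]; norm_num
    by_cases h8 : n = 8
    · subst h8; rw [G_of_mod (by norm_num), B_8]; norm_num
    obtain ⟨m, rfl⟩ : ∃ m, n = m + 2 := ⟨n - 2, by omega⟩
    have h1 := ih m (by omega) (by omega)
    have h2 := G_mul_le m 2
    rw [G_2] at h2
    omega

theorem A_le_G (p : ℕ) [hp : Fact p.Prime] (hp2 : p ≠ 2) (a : ℕ) : A p a ≤ G (p ^ a) := by
  have hp3 : 3 ≤ p := by
    have := hp.out.two_le; omega
  have hA1 : A p 1 = p := by
    have := A_succ p 0; rw [A_zero] at this; simpa using this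
  by_cases h3 : p = 3
  · subst h3
    have hA2 : A 3 2 = 81 := by
      have := A_succ 3 1; rw [hA1] at this; simpa using this
    have hA3 : A 3 3 = 3 ^ 13 := by
      have := A_succ 3 2; rw [hA2] at this; rw [this]; norm_num
    by_cases ha : 3 ≤ a
    · refine A_le_of_base 3 3 ?_ a ha
      rw [hA3]; norm_num [G_27]
    · interval_cases a
      · simp [A_zero, G_one]
      · rw [hA1]; simp [G_3]
      · rw [hA2]; norm_num [G_of_mod, B_9]
  by_cases h5 : p = 5
  · subst h5
    have hA2 : A 5 2 = 5 ^ 6 := by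
      have := A_succ 5 1; rw [hA1] at this; rw [this]; norm_num
    by_cases ha : 2 ≤ a
    · refine A_le_of_base 5 2 ?_ a ha
      rw [hA2]; norm_num [G_of_mod, B_25]
    · interval_cases a
      · simp [A_zero, G_one]
      · rw [hA1]; norm_num [G_of_mod, B_5]
  have hp7 : 7 ≤ p := by
    by_contra hlt
    have : p = 4 ∨ p = 6 := by omega
    rcases this with rfl | rfl
    · exact absurd hp.out (by norm_num)
    · exact absurd hp.out (by norm_num)
  by_cases ha : 1 ≤ a
  · refine A_le_of_base p 1 ?_ a ha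
    rw [hA1, pow_one]; exact two_mul_le_G p hp7
  · obtain rfl : a = 0 := by omega
    simp [A_zero, G_one]

end Cfsg.Agent.Lib.Helper98.NilpArith
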