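import Mathlib
import Cfsg.Agent.Lib.Helper98.NilpArith

set_option autoImplicit false

namespace Cfsg.Agent.Lib.Helper98.NilpBound

open Cfsg.Agent.Lib.Helper98.NilpArith
open Nat

/-- In a nilpotent group, elements of coprime (finite) orders commute. -/
theorem commute_of_coprime_nilp (G : Type*) [Group G] [Group.IsNilpotent G] :
    ∀ (x e : G) (m n : ℕ), x ^ m = 1 → e ^ n = 1 → Nat.Coprime m n → Commute x e := by
  refine Group.nilpotent_center_quotient_ind
    (P := fun G _ _ => ∀ (x e : G) (m n : ℕ), x ^ m = 1 → e ^ n = 1 → Nat.Coprime m n →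
      Commute x e) G ?_ ?_
  · intro G _ _ x e m n _ _ _
    exact Subsingleton.elim _ _
  · intro G _ _ ih x e m n hx he hmn
    have hc := ih (x : G ⧸ Subgroup.center G) (e : G ⧸ Subgroup.center G) m n
      (by rw [← QuotientGroup.mk_pow, hx]; rfl) (by rw [← QuotientGroup.mk_pow, he]; rfl) hmn
    have hz : x * e * x⁻¹ * e⁻¹ ∈ Subgroup.center G := by
      rw [← QuotientGroup.eq_one_iff]
      simp only [QuotientGroup.mk_mul, QuotientGroup.mk_inv]
      rw [hc.eq]; group
    set z := x * e * x⁻¹ * e⁻¹ with hzdef
    have hzc : ∀ g : G, Commute z g := fun g => (Subgroup.mem_center_iff.mp hz g).symm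
    have hzn : z ^ n = 1 := by
      have e1 : x * e * x⁻¹ = z * e := by rw [hzdef]; group
      have e2 : (x * e * x⁻¹) ^ n = 1 := by rw [conj_pow, he]; group
      rw [e1, (hzc e).mul_pow, he, mul_one] at e2
      exact e2
    have hzm : z ^ m = 1 := by
      have e1 : e * x⁻¹ * e⁻¹ = x⁻¹ * z := by rw [hzdef]; group
      have e2 : (e * x⁻¹ * e⁻¹) ^ m = 1 := by rw [conj_pow, inv_pow, hx]; group
      rw [e1, ((hzc x⁻¹).symm).mul_pow, inv_pow, hx, inv_one, one_mul] at e2
      exact e2
    have h1 : orderOf z ∣ Nat.gcd m n :=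
      Nat.dvd_gcd (orderOf_dvd_of_pow_eq_one hzm) (orderOf_dvd_of_pow_eq_one hzn)
    rw [hmn.gcd_eq_one, Nat.dvd_one, orderOf_eq_one_iff] at h1
    show x * e = e * x
    have : x * e = z * (e * x) := by rw [hzdef]; group
    rw [this, h1, one_mul]

/-- If a transitive faithful group is the product of two commuting subgroups, each of them acts
faithfully on each of its orbits. -/
theorem faithful_orbit {T Ω : Type*} [Group T] [MulAction T Ω] [FaithfulSMul T Ω]
    [MulAction.IsPretransitive T Ω] (A B : Subgroup T)
    (hcomm : ∀ a ∈ A, ∀ b ∈ B, a * b = b * a)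
    (hprod : ∀ t : T, ∃ a ∈ A, ∃ b ∈ B, t = a * b) (x : Ω) :
    FaithfulSMul A (MulAction.orbit A x) := by
  constructor
  intro a₁ a₂ h
  apply Subtype.ext
  apply FaithfulSMul.eq_of_smul_eq_smul (α := Ω)
  intro z
  obtain ⟨t, rfl⟩ := MulAction.exists_smul_eq T x z
  obtain ⟨a, ha, b, hb, rfl⟩ := hprod t
  have hy : a • x ∈ MulAction.orbit A x := ⟨⟨a, ha⟩, rfl⟩
  have h1 := congrArg Subtype.val (h ⟨a • x, hy⟩)
  have h1' : (a₁ : T) • (a • x) = (a₂ : T) • (a • x) := h1
  have e1 : (a₁ : T) • ((a * b) • x) = b • ((a₁ : T) • (a • x)) := by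
    rw [← mul_smul, ← mul_smul, ← mul_smul, hcomm a ha b hb, ← mul_assoc, hcomm _ a₁.2 b hb, mul_assoc]
  have e2 : (a₂ : T) • ((a * b) • x) = b • ((a₂ : T) • (a • x)) := by
    rw [← mul_smul, ← mul_smul, ← mul_smul, hcomm a ha b hb, ← mul_assoc, hcomm _ a₂.2 b hb, mul_assoc]
  rw [e1, e2, h1']

/-- the complement of a `SubMulAction` of a group action -/
def complSub {T Ω : Type*} [Group T] [MulAction T Ω] (S : SubMulAction T Ω) : SubMulAction T Ω where
  carrier := (S : Set Ω)ᶜ
  smul_mem' := by
    intro t y hy h
    apply hy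
    have := S.smul_mem t⁻¹ h
    simpa using this

theorem mem_complSub {T Ω : Type*} [Group T] [MulAction T Ω] (S : SubMulAction T Ω) (y : Ω) :
    y ∈ complSub S ↔ y ∉ S := Iff.rfl

/-- the orbit of a point as a `SubMulAction` -/
def orbitSub (T : Type*) {Ω : Type*} [Group T] [MulAction T Ω] (x : Ω) : SubMulAction T Ω where
  carrier := MulAction.orbit T x
  smul_mem' := fun t _ hy => MulAction.mem_orbit_of_mem_orbit t hy

theorem mem_orbitSub {T Ω : Type*} [Group T] [MulAction T Ω] (x y : Ω) :
    y ∈ orbitSub T x ↔ y ∈ MulAction.orbit T x := Iff.rfl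

theorem card_le_of_cover {T Ω : Type*} [Group T] [Finite T] [MulAction T Ω] [FaithfulSMul T Ω]
    (S S' : SubMulAction T Ω) (h : ∀ y, y ∈ S ∨ y ∈ S') :
    Nat.card T ≤ Nat.card (MulAction.toPermHom T S).range *
      Nat.card (MulAction.toPermHom T S').range := by
  have : Finite (MulAction.toPermHom T S).range :=
    Finite.of_surjective (MulAction.toPermHom T S).rangeRestrict
      (MonoidHom.rangeRestrict_surjective _)
  have : Finite (MulAction.toPermHom T S').range :=
    Finite.of_surjective (MulAction.toPermHom T S').rangeRestrict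
      (MonoidHom.rangeRestrict_surjective _)
  rw [← Nat.card_prod]
  refine Nat.card_le_card_of_injective
    (fun t => (⟨MulAction.toPermHom T S t, ⟨t, rfl⟩⟩, ⟨MulAction.toPermHom T S' t, ⟨t, rfl⟩⟩)) ?_
  intro t₁ t₂ ht
  simp only [Prod.mk.injEq] at ht
  have ht1 : MulAction.toPermHom T S t₁ = MulAction.toPermHom T S t₂ := congrArg Subtype.val ht.1
  have ht2 : MulAction.toPermHom T S' t₁ = MulAction.toPermHom T S' t₂ :=
    congrArg Subtype.val ht.2
  apply FaithfulSMul.eq_of_smul_eq_smul (α := Ω)
  intro y
  rcases h y with hy | hy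
  · have := congrArg (fun σ => ((σ ⟨y, hy⟩ : S) : Ω)) ht1
    simpa using this
  · have := congrArg (fun σ => ((σ ⟨y, hy⟩ : S') : Ω)) ht2
    simpa using this

theorem card_le_G : ∀ n : ℕ, ∀ (Ω : Type) [Finite Ω], Nat.card Ω = n →
    ∀ (T : Type) [Group T] [Finite T] [MulAction T Ω] [FaithfulSMul T Ω],
      Group.IsNilpotent T → Nat.card T ≤ G n := by
  intro n
  induction n using Nat.strong_induction_on with
  | _ n ih =>
  intro Ω _ hΩ T _ _ _ _ hnil
  have hdvd : Nat.card T ∣ n ! := by
    have := Subgroup.card_dvd_of_injective (MulAction.toPermHom T Ω) MulAction.toPerm_injective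
    rwa [Nat.card_perm, hΩ] at this
  by_cases htr : MulAction.IsPretransitive T Ω
  · -- the transitive case
    by_cases hn1 : n ≤ 1
    · have : n ! = 1 := by interval_cases n <;> rfl
      rw [this, Nat.dvd_one] at hdvd
      rw [hdvd]; exact G_pos n
    push Not at hn1
    have hne : Nonempty Ω := by
      have : 0 < Nat.card Ω := by omega
      exact (Nat.card_pos_iff.mp this).1
    obtain ⟨x⟩ := hne
    have hnT : n ∣ Nat.card T := by
      rw [← hΩ, ← MulAction.index_stabilizer_of_transitive T x]
      exact Subgroup.index_dvd_card _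
    have hTpos : 0 < Nat.card T := Nat.card_pos
    have hT1 : Nat.card T ≠ 1 := by
      intro h; rw [h, Nat.dvd_one] at hnT; omega
    obtain ⟨p, hp, hpT⟩ := Nat.exists_prime_and_dvd hT1
    have : Fact p.Prime := ⟨hp⟩
    let P : Sylow p T := default
    have h3 : ∀ (p : ℕ) (_ : Fact p.Prime) (P : Sylow p T), (P : Subgroup T).Normal :=
      ((Group.isNilpotent_of_finite_tfae (G := T)).out 0 3).mp hnil
    have hPn : (P : Subgroup T).Normal := h3 p inferInstance P
    obtain ⟨Q, hQ⟩ := Subgroup.exists_right_complement'_of_coprime P.card_coprime_index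
    have hcard : Nat.card P * Nat.card Q = Nat.card T := hQ.card_mul_card
    have hPcard : Nat.card P = p ^ (Nat.card T).factorization p := P.card_eq_multiplicity
    have hPpos : 0 < Nat.card P := Nat.card_pos
    have hk : 1 ≤ (Nat.card T).factorization p :=
      (hp.dvd_iff_one_le_factorization hTpos.ne').mp hpT
    have hcop : (Nat.card P).Coprime (Nat.card Q) := by
      have : Nat.card Q = (P : Subgroup T).index := by
        have h1 := (P : Subgroup T).card_mul_index
        exact Nat.eq_of_mul_eq_mul_left hPpos (by rw [hcard, h1])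
      rw [this]; exact P.card_coprime_index
    have hcomm : ∀ a ∈ (P : Subgroup T), ∀ b ∈ Q, a * b = b * a := by
      intro a ha b hb
      refine (commute_of_coprime_nilp T a b (Nat.card P) (Nat.card Q) ?_ ?_ hcop).eq
      · have := pow_card_eq_one' (x := (⟨a, ha⟩ : (P : Subgroup T)))
        exact congrArg Subtype.val this
      · have := pow_card_eq_one' (x := (⟨b, hb⟩ : Q))
        exact congrArg Subtype.val this
    have hprod : ∀ t : T, ∃ a ∈ (P : Subgroup T), ∃ b ∈ Q, t = a * b := by
      intro t
      obtain ⟨⟨u, v⟩, huv, -⟩ := hQ.existsUnique t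
      exact ⟨u, u.2, v, v.2, huv.symm⟩
    have hprod' : ∀ t : T, ∃ b ∈ Q, ∃ a ∈ (P : Subgroup T), t = b * a := by
      intro t
      obtain ⟨a, ha, b, hb, rfl⟩ := hprod t
      exact ⟨b, hb, a, ha, hcomm a ha b hb⟩
    by_cases hQ1 : Nat.card Q = 1
    · -- `T` is a `p`-group
      rw [hQ1, mul_one] at hcard
      rw [← hcard, hPcard] at hdvd hnT ⊢
      set k := (Nat.card T).factorization p
      obtain ⟨b, -, rfl⟩ := (Nat.dvd_prime_pow hp).mp hnT
      have hkle : k ≤ padicValNat p (p ^ b)! :=
        (padicValNat_dvd_iff_le (Nat.factorial_ne_zero _)).mp hdvd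
      by_cases hp2 : p = 2
      · subst hp2
        refine le_trans ?_ (B_le_G _)
        exact Nat.pow_le_pow_right (by norm_num) hkle
      · refine le_trans ?_ (A_le_G p hp2 b)
        exact Nat.pow_le_pow_right hp.pos hkle
    · -- both factors are nontrivial
      have hQn : Q.Normal := by
        constructor
        intro q hq t
        obtain ⟨a, ha, b, hb, rfl⟩ := hprod t
        have hbq : b * q * b⁻¹ ∈ Q := Q.mul_mem (Q.mul_mem hb hq) (Q.inv_mem hb)
        have h1 := hcomm a ha _ hbq
        have : a * b * q * (a * b)⁻¹ = b * q * b⁻¹ := by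
          calc a * b * q * (a * b)⁻¹ = (a * (b * q * b⁻¹)) * a⁻¹ := by group
            _ = (b * q * b⁻¹ * a) * a⁻¹ := by rw [h1]
            _ = b * q * b⁻¹ := by group
        rw [this]; exact hbq
      have hfP : FaithfulSMul (P : Subgroup T) (MulAction.orbit (P : Subgroup T) x) :=
        faithful_orbit (P : Subgroup T) Q hcomm hprod x
      have hfQ : FaithfulSMul Q (MulAction.orbit Q x) :=
        faithful_orbit Q (P : Subgroup T) (fun b hb a ha => (hcomm a ha b hb).symm) hprod' x
      set a := Nat.card (MulAction.orbit (P : Subgroup T) x) with ha_def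
      set b := Nat.card (MulAction.orbit Q x) with hb_def
      have han : a ∣ n := by
        rw [ha_def, Nat.card_coe_set_eq, ← hΩ]
        exact (MulAction.IsBlock.orbit_of_normal (G := T) (N := (P : Subgroup T)) x).ncard_dvd_card
          ⟨x, MulAction.mem_orbit_self x⟩
      have hbn : b ∣ n := by
        rw [hb_def, Nat.card_coe_set_eq, ← hΩ]
        exact (MulAction.IsBlock.orbit_of_normal (G := T) (N := Q) x).ncard_dvd_card
          ⟨x, MulAction.mem_orbit_self x⟩
      have haP : a ∣ Nat.card P := by
        rw [ha_def, Nat.card_coe_set_eq, ← MulAction.index_stabilizer]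
        exact Subgroup.index_dvd_card _
      have hbQ : b ∣ Nat.card Q := by
        rw [hb_def, Nat.card_coe_set_eq, ← MulAction.index_stabilizer]
        exact Subgroup.index_dvd_card _
      have hPa : Nat.card P ∣ a ! := by
        have := Subgroup.card_dvd_of_injective
          (MulAction.toPermHom (P : Subgroup T) (MulAction.orbit (P : Subgroup T) x))
          MulAction.toPerm_injective
        rwa [Nat.card_perm] at this
      have hQb : Nat.card Q ∣ b ! := by
        have := Subgroup.card_dvd_of_injective
          (MulAction.toPermHom Q (MulAction.orbit Q x)) MulAction.toPerm_injective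
        rwa [Nat.card_perm] at this
      have hP1 : Nat.card P ≠ 1 := by
        rw [hPcard]
        have h1 : p ^ 1 ≤ p ^ (Nat.card T).factorization p := Nat.pow_le_pow_right hp.pos hk
        rw [pow_one] at h1
        have := hp.two_le
        omega
      have ha2 : 2 ≤ a := by
        by_contra hlt
        have : a ! = 1 := by
          have : a = 0 ∨ a = 1 := by omega
          rcases this with h | h <;> rw [h] <;> rfl
        rw [this, Nat.dvd_one] at hPa
        exact hP1 hPa
      have hb2 : 2 ≤ b := by
        by_contra hlt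
        have : b ! = 1 := by
          have : b = 0 ∨ b = 1 := by omega
          rcases this with h | h <;> rw [h] <;> rfl
        rw [this, Nat.dvd_one] at hQb
        exact hQ1 hQb
      have habn : a * b ∣ n :=
        Nat.Coprime.mul_dvd_of_dvd_of_dvd
          (Nat.Coprime.coprime_dvd_left haP (Nat.Coprime.coprime_dvd_right hbQ hcop)) han hbn
      have hab_le : a * b ≤ n := Nat.le_of_dvd (by omega) habn
      have ha_lt : a < n := by nlinarith
      have hb_lt : b < n := by nlinarith
      have hsum : a + b ≤ n := by nlinarith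
      have h1 : Nat.card P ≤ G a :=
        ih a ha_lt (MulAction.orbit (P : Subgroup T) x) rfl (P : Subgroup T) inferInstance
      have h2 : Nat.card Q ≤ G b :=
        ih b hb_lt (MulAction.orbit Q x) rfl Q inferInstance
      calc Nat.card T = Nat.card P * Nat.card Q := hcard.symm
        _ ≤ G a * G b := Nat.mul_le_mul h1 h2
        _ ≤ G (a + b) := G_mul_le a b
        _ ≤ G n := G_mono hsum
  · -- the intransitive case
    have hex : ∃ x y : Ω, ∀ g : T, g • x ≠ y := by
      by_contra h
      push Not at h
      exact htr ⟨h⟩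
    obtain ⟨x, y, hxy⟩ := hex
    set S := orbitSub T x with hS
    set S' := complSub S with hS'
    have hcover : ∀ z, z ∈ S ∨ z ∈ S' := fun z => by
      by_cases hz : z ∈ S
      · exact Or.inl hz
      · exact Or.inr hz
    have hyS : y ∉ S := by
      rintro ⟨g, hg⟩
      exact hxy g hg
    have hxS' : x ∉ S' := by
      intro h
      exact h (MulAction.mem_orbit_self x)
    have hs_lt : Nat.card S < n := by
      rw [← hΩ]; exact Finite.card_subtype_lt (p := fun z => z ∈ S) hyS
    have hs'_lt : Nat.card S' < n := by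
      rw [← hΩ]; exact Finite.card_subtype_lt (p := fun z => z ∈ S') hxS'
    have hsum : Nat.card S + Nat.card S' = n := by
      have := Set.ncard_add_ncard_compl (S : Set Ω) (Set.toFinite _) (Set.toFinite _)
      rw [← hΩ, ← this, ← Nat.card_coe_set_eq, ← Nat.card_coe_set_eq]
      rfl
    have hle := card_le_of_cover S S' hcover
    have : Group.IsNilpotent (MulAction.toPermHom T S).range :=
      Group.nilpotent_of_surjective (MulAction.toPermHom T S).rangeRestrict
        (MonoidHom.rangeRestrict_surjective _)
    have : Group.IsNilpotent (MulAction.toPermHom T S').range :=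
      Group.nilpotent_of_surjective (MulAction.toPermHom T S').rangeRestrict
        (MonoidHom.rangeRestrict_surjective _)
    have : Finite (MulAction.toPermHom T S).range :=
      Finite.of_surjective (MulAction.toPermHom T S).rangeRestrict
        (MonoidHom.rangeRestrict_surjective _)
    have : Finite (MulAction.toPermHom T S').range :=
      Finite.of_surjective (MulAction.toPermHom T S').rangeRestrict
        (MonoidHom.rangeRestrict_surjective _)
    have h1 : Nat.card (MulAction.toPermHom T S).range ≤ G (Nat.card S) :=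
      ih _ hs_lt S rfl (MulAction.toPermHom T S).range inferInstance
    have h2 : Nat.card (MulAction.toPermHom T S').range ≤ G (Nat.card S') :=
      ih _ hs'_lt S' rfl (MulAction.toPermHom T S').range inferInstance
    calc Nat.card T ≤ _ := hle
      _ ≤ G (Nat.card S) * G (Nat.card S') := Nat.mul_le_mul h1 h2
      _ ≤ G (Nat.card S + Nat.card S') := G_mul_le _ _
      _ = G n := by rw [hsum]

end Cfsg.Agent.Lib.Helper98.NilpBound
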