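import Mathlib
import Cfsg.Agent.Lib.Helper98.NilpBound

set_option autoImplicit false

namespace Cfsg.Agent.Lib.Helper98.NilpExtremal

open Cfsg.Agent.Lib.Helper98.NilpArith Cfsg.Agent.Lib.Helper98.NilpBound
open Nat

/-- translation action of `ZMod 3` as permutations -/
def tau : Multiplicative (ZMod 3) →* Equiv.Perm (ZMod 3) :=
  MulAction.toPermHom (Multiplicative (ZMod 3)) (ZMod 3)

theorem tau_injective : Function.Injective tau := by
  intro a b h
  have := congrArg (fun σ : Equiv.Perm (ZMod 3) => σ 0) h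
  simp only [tau, MulAction.toPermHom_apply, MulAction.toPerm_apply] at this
  have h2 : Multiplicative.toAdd a + 0 = Multiplicative.toAdd b + 0 := this
  simpa using h2

/-- the embedding of `Perm (Fin (n - 3)) × Perm (ZMod 3)` into `Perm (Fin n)` -/
noncomputable def emb (n : ℕ) (hn : 3 ≤ n) :
    Equiv.Perm (Fin (n - 3)) × Equiv.Perm (ZMod 3) →* Equiv.Perm (Fin n) :=
  (Equiv.permCongrHom
    ((Equiv.sumCongr (Equiv.refl (Fin (n - 3))) (ZMod.finEquiv 3).symm.toEquiv).trans
      (finSumFinEquiv.trans (finCongr (by omega : n - 3 + 3 = n))))).toMonoidHom.comp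
    (Equiv.Perm.sumCongrHom (Fin (n - 3)) (ZMod 3))

theorem emb_injective (n : ℕ) (hn : 3 ≤ n) : Function.Injective (emb n hn) := by
  intro a b h
  exact Equiv.Perm.sumCongrHom_injective ((Equiv.permCongrHom _).injective h)

theorem exists_extremal (n : ℕ) (hn : 3 ≤ n) (P : Sylow 2 (Equiv.Perm (Fin (n - 3)))) :
    ∃ M : Subgroup (Equiv.Perm (Fin n)), Group.IsNilpotent M ∧ Nat.card M = 3 * Nat.card P ∧
      Nonempty (M ≃* (↥(P : Subgroup (Equiv.Perm (Fin (n - 3)))) × Multiplicative (ZMod 3))) := by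
  set ψ : ↥(P : Subgroup (Equiv.Perm (Fin (n - 3)))) × Multiplicative (ZMod 3) →*
      Equiv.Perm (Fin n) :=
    (emb n hn).comp (MonoidHom.prodMap (P : Subgroup (Equiv.Perm (Fin (n - 3)))).subtype tau)
    with hψ
  have hinj : Function.Injective ψ := by
    rw [hψ]
    refine (emb_injective n hn).comp ?_
    intro ⟨a, b⟩ ⟨a', b'⟩ h
    simp only [MonoidHom.prodMap] at h
    have h1 := (Prod.mk.injEq _ _ _ _).mp h
    simp only [MonoidHom.coe_comp, Function.comp, MonoidHom.coe_fst, MonoidHom.coe_snd] at h1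
    exact Prod.ext (Subtype.ext h1.1) (tau_injective h1.2)
  have e : ↥(P : Subgroup (Equiv.Perm (Fin (n - 3)))) × Multiplicative (ZMod 3) ≃* ψ.range :=
    MonoidHom.ofInjective hinj
  have : Group.IsNilpotent ↥(P : Subgroup (Equiv.Perm (Fin (n - 3)))) := P.2.isNilpotent
  refine ⟨ψ.range, Group.nilpotent_of_mulEquiv e, ?_, ⟨e.symm⟩⟩
  rw [← Nat.card_congr e.toEquiv, Nat.card_prod]
  have : Nat.card (Multiplicative (ZMod 3)) = 3 := by
    rw [Nat.card_eq_fintype_card]; rfl
  rw [this, mul_comm]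


theorem B_mono {a b : ℕ} (h : a ≤ b) : B a ≤ B b := by
  obtain ⟨c, rfl⟩ := Nat.exists_eq_add_of_le h
  have := B_mul_le a c
  have hc := B_pos c
  calc B a = B a * 1 := (mul_one _).symm
    _ ≤ B a * B c := Nat.mul_le_mul_left _ hc
    _ ≤ _ := this

theorem B_lt_of_even (m : ℕ) (hm : m % 2 = 0) (hm2 : 2 ≤ m) : B (m - 1) < B m := by
  obtain ⟨j, rfl⟩ : ∃ j, m = 2 * (j + 1) := ⟨m / 2 - 1, by omega⟩
  have h1 : 2 * (j + 1) - 1 = 2 * j + 1 := by omega
  rw [h1, B_two_mul_add_one, B_two_mul]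
  have h2 := B_mono (Nat.le_succ j)
  have h3 := B_pos (j + 1)
  have h4 : 0 < 2 ^ j := by positivity
  calc 2 ^ j * B j ≤ 2 ^ j * B (j + 1) := Nat.mul_le_mul_left _ h2
    _ < 2 ^ (j + 1) * B (j + 1) := by
      rw [pow_succ]; nlinarith

open Equiv

theorem isThreeCycle_of_centralizer {n : ℕ} (hn : n % 4 = 3) (σ : Perm (Fin n))
    (hσ : orderOf σ = 3) (K : Subgroup (Perm (Fin n))) (hK : K ≤ Subgroup.centralizer {σ})
    (hcard : Nat.card K = B (n - 3)) : σ.IsThreeCycle := by
  obtain ⟨k, hk⟩ := Equiv.Perm.cycleType_prime_order (σ := σ) (by rw [hσ]; norm_num)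
  rw [hσ] at hk
  by_cases hk0 : k = 0
  · subst hk0
    show σ.cycleType = {3}
    rw [hk]; rfl
  exfalso
  have hsum : σ.cycleType.sum ≤ n := by
    rw [Equiv.Perm.sum_cycleType]
    exact (Finset.card_le_univ _).trans (by simp)
  have hsum' : σ.cycleType.sum = (k + 1) * 3 := by
    rw [hk, Multiset.sum_replicate, smul_eq_mul]
  have hcent := Equiv.Perm.nat_card_centralizer σ
  have hfin : (Multiset.replicate (k + 1) 3).toFinset = {3} := by
    rw [Multiset.toFinset_replicate, if_neg (Nat.succ_ne_zero k)]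
  rw [hsum', hk, hfin, Finset.prod_singleton, Multiset.count_replicate_self, Multiset.prod_replicate,
    Fintype.card_fin] at hcent
  have hdvd := Subgroup.card_dvd_of_le hK
  rw [hcent, hcard] at hdvd
  set X := (n - (k + 1) * 3)! * (k + 1)! with hX
  have hX0 : X ≠ 0 := by positivity
  have hdvd2 : B (n - 3) ∣ X := by
    have h1 : (n - (k + 1) * 3)! * 3 ^ (k + 1) * (k + 1)! = 3 ^ (k + 1) * X := by rw [hX]; ring
    rw [h1] at hdvd
    refine Nat.Coprime.dvd_of_dvd_mul_left ?_ hdvd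
    unfold B
    exact Nat.Coprime.pow _ _ (by norm_num)
  have hle : B (n - 3) ≤ B (n - (k + 1) * 3) * B (k + 1) := by
    rw [B_eq_ordProj, B_eq_ordProj, B_eq_ordProj,
      ← Nat.ordProj_mul 2 (Nat.factorial_ne_zero _) (Nat.factorial_ne_zero _)]
    rw [B_eq_ordProj] at hdvd2
    exact Nat.pow_le_pow_right (by norm_num)
      ((Nat.prime_two.pow_dvd_iff_le_factorization hX0).mp hdvd2)
  have h2 := B_mul_le (n - (k + 1) * 3) (k + 1)
  have h3 : B (n - (k + 1) * 3 + (k + 1)) ≤ B (n - 3 - 1) := B_mono (by omega)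
  have h4 := B_lt_of_even (n - 3) (by omega) (by omega)
  omega

theorem fixes_support_of_commute {α : Type*} [Fintype α] [DecidableEq α] (σ g : Perm α)
    (hσ : σ.IsThreeCycle) (hc : Commute g σ) (j : ℕ) (hg : g ^ (2 ^ j) = 1) :
    ∀ x ∈ σ.support, g x = x := by
  intro x hx
  rw [Equiv.Perm.mem_support] at hx
  have hgx : σ (g x) ≠ g x := by
    intro h
    have h1 : σ (g x) = g (σ x) := by
      have := congrArg (fun τ : Perm α => τ x) hc.eq
      simpa using this.symm
    rw [h1] at h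
    exact hx (g.injective h)
  obtain ⟨i, hi⟩ := hσ.isCycle.exists_pow_eq hx hgx
  have hcomm : ∀ m : ℕ, ∀ y, g ((σ ^ m) y) = (σ ^ m) (g y) := by
    intro m y
    have := congrArg (fun τ : Perm α => τ y) (hc.pow_right m).eq
    simpa using this
  have key : ∀ m : ℕ, (g ^ m) x = (σ ^ (i * m)) x := by
    intro m
    induction m with
    | zero => simp
    | succ m ih =>
      rw [_root_.pow_succ', Equiv.Perm.mul_apply, ih, hcomm, ← hi, ← Equiv.Perm.mul_apply, ← pow_add]
      congr 2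
  have h1 := key (2 ^ j)
  rw [hg, Equiv.Perm.one_apply] at h1
  have h2 : σ ^ (i * 2 ^ j) = 1 := (hσ.isCycle.pow_eq_one_iff' hx).mpr h1.symm
  have h3 : 3 ∣ i * 2 ^ j := by
    rw [← hσ.orderOf]; exact orderOf_dvd_of_pow_eq_one h2
  have h4 : 3 ∣ i := by
    refine Nat.Coprime.dvd_of_dvd_mul_right ?_ h3
    exact Nat.Coprime.pow_right _ (by norm_num)
  have h5 : σ ^ i = 1 := by
    rw [← hσ.orderOf] at h4
    exact orderOf_dvd_iff_pow_eq_one.mp h4
  rw [← hi, h5, Equiv.Perm.one_apply]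


theorem structure_of_extremal {n : ℕ} (hn : n % 4 = 3) (N : Subgroup (Perm (Fin n)))
    (hN : Group.IsNilpotent N) (hcard : Nat.card N = 3 * B (n - 3)) :
    ∃ (c : Perm (Fin n)) (K : Subgroup (Perm (Fin n))), c.IsThreeCycle ∧
      Nat.card K = B (n - 3) ∧ (∀ g ∈ K, ∀ x ∈ c.support, g x = x) ∧
      N = K ⊔ Subgroup.zpowers c := by
  set a := padicValNat 2 (n - 3)! with ha
  have hBa : B (n - 3) = 2 ^ a := rfl
  have : Fact (Nat.Prime 3) := ⟨by norm_num⟩
  obtain ⟨c₀, hc₀⟩ := exists_prime_orderOf_dvd_card' (G := N) 3 (by rw [hcard]; exact dvd_mul_right _ _)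
  let S : Sylow 2 N := default
  have hScard : Nat.card S = 2 ^ a := by
    rw [S.card_eq_multiplicity, hcard, hBa,
      Nat.factorization_mul (by norm_num) (by positivity), Nat.prime_two.factorization_pow]
    have : (Nat.factorization 3) 2 = 0 :=
      Nat.factorization_eq_zero_of_not_dvd (by norm_num)
    simp [this]
  set K : Subgroup (Perm (Fin n)) := (S : Subgroup N).map N.subtype with hKdef
  have hKcard : Nat.card K = 2 ^ a := by
    rw [hKdef, Subgroup.card_map_of_injective N.subtype_injective, hScard]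
  set c : Perm (Fin n) := (c₀ : Perm (Fin n)) with hcdef
  have hc3 : orderOf c = 3 := by rw [hcdef, Subgroup.orderOf_coe, hc₀]
  have hcomm : ∀ g ∈ K, Commute g c := by
    rintro g ⟨s, hs, rfl⟩
    have h1 : Commute s c₀ := by
      refine commute_of_coprime_nilp N s c₀ (2 ^ a) 3 ?_ ?_ (Nat.Coprime.pow_left _ (by norm_num))
      · have := pow_card_eq_one' (x := (⟨s, hs⟩ : (S : Subgroup N)))
        rw [hScard] at this
        exact congrArg Subtype.val this
      · rw [← hc₀]; exact pow_orderOf_eq_one c₀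
    have := congrArg Subtype.val h1.eq
    exact this
  have hpow : ∀ g ∈ K, g ^ (2 ^ a) = 1 := by
    intro g hg
    have := pow_card_eq_one' (x := (⟨g, hg⟩ : K))
    rw [hKcard] at this
    exact congrArg Subtype.val this
  have hKcent : K ≤ Subgroup.centralizer {c} := by
    intro g hg
    rw [Subgroup.mem_centralizer_iff]
    intro h hh
    rw [Set.mem_singleton_iff] at hh
    subst hh
    exact ((hcomm g hg).eq).symm
  have h3c : c.IsThreeCycle := isThreeCycle_of_centralizer hn c hc3 K hKcent hKcard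
  refine ⟨c, K, h3c, hKcard, ?_, ?_⟩
  · intro g hg
    exact fixes_support_of_commute c g h3c (hcomm g hg) a (hpow g hg)
  · symm
    have hle : K ⊔ Subgroup.zpowers c ≤ N := by
      refine sup_le ?_ ?_
      · rw [hKdef]; exact Subgroup.map_subtype_le _
      · rw [Subgroup.zpowers_le]; exact c₀.2
    refine Subgroup.eq_of_le_of_card_ge hle ?_
    have h1 : Nat.card K ∣ Nat.card (K ⊔ Subgroup.zpowers c : Subgroup (Perm (Fin n))) :=
      Subgroup.card_dvd_of_le le_sup_left
    have h2 : Nat.card (Subgroup.zpowers c) ∣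
        Nat.card (K ⊔ Subgroup.zpowers c : Subgroup (Perm (Fin n))) :=
      Subgroup.card_dvd_of_le le_sup_right
    rw [Nat.card_zpowers, hc3] at h2
    rw [hKcard] at h1
    have h3 : 3 * 2 ^ a ∣ Nat.card (K ⊔ Subgroup.zpowers c : Subgroup (Perm (Fin n))) :=
      Nat.Coprime.mul_dvd_of_dvd_of_dvd (Nat.Coprime.pow_right _ (by norm_num)) h2 h1
    rw [hcard, hBa]
    exact Nat.le_of_dvd Nat.card_pos h3

theorem conj_same_cycle {n : ℕ} (c : Perm (Fin n)) (K K' : Subgroup (Perm (Fin n)))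
    (hc : c.IsThreeCycle) (hK : Nat.card K = B (n - 3)) (hK' : Nat.card K' = B (n - 3))
    (hfix : ∀ g ∈ K, ∀ x ∈ c.support, g x = x) (hfix' : ∀ g ∈ K', ∀ x ∈ c.support, g x = x) :
    ∃ h : Perm (Fin n), h * c * h⁻¹ = c ∧ K.map (MulAut.conj h).toMonoidHom = K' := by
  classical
  let ofS : Perm {x : Fin n // x ∉ c.support} →* Perm (Fin n) := Equiv.Perm.ofSubtype
  have hrange : ∀ (L : Subgroup (Perm (Fin n))), (∀ g ∈ L, ∀ x ∈ c.support, g x = x) →
      L ≤ ofS.range := by
    intro L hL g hg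
    have h₁ : ∀ x, (g x ∉ c.support) ↔ (x ∉ c.support) := by
      intro x
      rw [not_iff_not]
      constructor
      · intro hx
        have h1 := hL g hg (g x) hx
        have h2 : g x = x := g.injective h1
        rwa [h2] at hx
      · intro hx
        rw [hL g hg x hx]; exact hx
    have h₂ : ∀ x, g x ≠ x → x ∉ c.support := by
      intro x hx hxs
      exact hx (hL g hg x hxs)
    exact ⟨g.subtypePerm h₁, Equiv.Perm.ofSubtype_subtypePerm h₁ h₂⟩
  have hcardΩ : Nat.card {x : Fin n // x ∉ c.support} = n - 3 := by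
    rw [Nat.card_eq_fintype_card, Fintype.card_subtype_compl, Fintype.card_fin,
      Fintype.card_coe, hc.card_support]
  have hsyl : ∀ (L : Subgroup (Perm (Fin n))), Nat.card L = B (n - 3) →
      (∀ g ∈ L, ∀ x ∈ c.support, g x = x) →
      Nat.card (L.comap ofS) =
        2 ^ (Nat.card (Perm {x : Fin n // x ∉ c.support})).factorization 2 := by
    intro L hLc hL
    rw [Nat.card_perm, hcardΩ, ← B_eq_ordProj, ← hLc]
    conv_rhs => rw [← Subgroup.map_comap_eq_self (hrange L hL)]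
    exact (Subgroup.card_map_of_injective Equiv.Perm.ofSubtype_injective).symm
  let S₁ : Sylow 2 (Perm {x : Fin n // x ∉ c.support}) :=
    Sylow.ofCard (K.comap ofS) (hsyl K hK hfix)
  let S₂ : Sylow 2 (Perm {x : Fin n // x ∉ c.support}) :=
    Sylow.ofCard (K'.comap ofS) (hsyl K' hK' hfix')
  obtain ⟨hbar, hh⟩ := MulAction.exists_smul_eq (Perm {x : Fin n // x ∉ c.support}) S₁ S₂
  have hh' : (K.comap ofS).map (MulAut.conj hbar).toMonoidHom = K'.comap ofS := by
    have := congrArg (fun S : Sylow 2 (Perm {x : Fin n // x ∉ c.support}) =>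
      (S : Subgroup (Perm {x : Fin n // x ∉ c.support}))) hh
    simp only [Sylow.coe_subgroup_smul] at this
    exact this
  refine ⟨ofS hbar, ?_, ?_⟩
  · have hdis : Equiv.Perm.Disjoint (ofS hbar) c := by
      intro x
      by_cases hx : x ∈ c.support
      · left
        exact Equiv.Perm.ofSubtype_apply_of_not_mem hbar (not_not.mpr hx)
      · right
        exact Equiv.Perm.notMem_support.mp hx
    rw [hdis.commute.eq, mul_inv_cancel_right]
  · have hcompat : ofS.comp (MulAut.conj hbar).toMonoidHom =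
        (MulAut.conj (ofS hbar)).toMonoidHom.comp ofS := by
      ext1 y
      simp [map_mul, map_inv]
    rw [← Subgroup.map_comap_eq_self (hrange K hfix), Subgroup.map_map, ← hcompat,
      ← Subgroup.map_map, hh', Subgroup.map_comap_eq_self (hrange K' hfix')]

theorem conj_of_data {n : ℕ} (c c' : Perm (Fin n)) (K K' : Subgroup (Perm (Fin n)))
    (hc : c.IsThreeCycle) (hc' : c'.IsThreeCycle)
    (hK : Nat.card K = B (n - 3)) (hK' : Nat.card K' = B (n - 3))
    (hfix : ∀ g ∈ K, ∀ x ∈ c.support, g x = x) (hfix' : ∀ g ∈ K', ∀ x ∈ c'.support, g x = x) :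
    ∃ g : Perm (Fin n), g * c * g⁻¹ = c' ∧ K.map (MulAut.conj g).toMonoidHom = K' := by
  have hconj : IsConj c c' := by
    rw [Equiv.Perm.isConj_iff_cycleType_eq]
    have h1 : c.cycleType = {3} := hc
    have h2 : c'.cycleType = {3} := hc'
    rw [h1, h2]
  obtain ⟨g₀, hg₀⟩ := isConj_iff.mp hconj
  set K₀ := K.map (MulAut.conj g₀).toMonoidHom with hK₀
  have hK₀card : Nat.card K₀ = B (n - 3) := by
    rw [hK₀, Subgroup.card_map_of_injective (MulAut.conj g₀).injective, hK]
  have hfix₀ : ∀ g ∈ K₀, ∀ x ∈ c'.support, g x = x := by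
    rintro g ⟨k, hk, rfl⟩ x hx
    rw [← hg₀, Equiv.Perm.support_conj, Finset.mem_map] at hx
    obtain ⟨y, hy, rfl⟩ := hx
    have := hfix k hk y hy
    simp [MulAut.conj_apply, this]
  obtain ⟨h, hh1, hh2⟩ := conj_same_cycle c' K₀ K' hc' hK₀card hK' hfix₀ hfix'
  refine ⟨h * g₀, ?_, ?_⟩
  · rw [mul_inv_rev, ← hh1, ← hg₀]; group
  · rw [← hh2, hK₀, Subgroup.map_map]
    congr 1

theorem conj_of_extremal {n : ℕ} (hn : n % 4 = 3) (N₁ N₂ : Subgroup (Perm (Fin n)))
    (h₁ : Group.IsNilpotent N₁) (h₂ : Group.IsNilpotent N₂)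
    (hc₁ : Nat.card N₁ = 3 * B (n - 3)) (hc₂ : Nat.card N₂ = 3 * B (n - 3)) :
    ∃ g : Perm (Fin n), N₂ = N₁.map (MulAut.conj g).toMonoidHom := by
  obtain ⟨c₁, K₁, h3₁, hK₁, hf₁, hN₁⟩ := structure_of_extremal hn N₁ h₁ hc₁
  obtain ⟨c₂, K₂, h3₂, hK₂, hf₂, hN₂⟩ := structure_of_extremal hn N₂ h₂ hc₂
  obtain ⟨g, hg1, hg2⟩ := conj_of_data c₁ c₂ K₁ K₂ h3₁ h3₂ hK₁ hK₂ hf₁ hf₂
  refine ⟨g, ?_⟩
  rw [hN₁, hN₂, Subgroup.map_sup, MonoidHom.map_zpowers, hg2]
  congr 2
  rw [← hg1]
  rfl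

end Cfsg.Agent.Lib.Helper98.NilpExtremal
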