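import Mathlib
import Cfsg.Agent.Lib.Helper98.NilpExtremal

set_option autoImplicit false

namespace Cfsg.Agent.Lib.Helper98.NilpAltArith

open Nat Cfsg.Agent.Lib.Helper98.NilpArith Cfsg.Agent.Lib.Helper98.NilpExtremal

/-- the exceptional degrees -/
def Exc (n : ℕ) : Prop := n = 0 ∨ n = 1 ∨ n = 3 ∨ n = 5 ∨ n = 6 ∨ n = 9

instance (n : ℕ) : Decidable (Exc n) := by unfold Exc; infer_instance

/-- the bound for nilpotent subgroups of the alternating group of degree `n` -/
def G' (n : ℕ) : ℕ :=
  if n = 0 ∨ n = 1 then 1 else if n = 3 then 3 else if n = 5 then 5 else if n = 6 then 9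
  else if n = 9 then 81 else G n / 2

theorem B_even {n : ℕ} (hn : 2 ≤ n) : 2 ∣ B n := by
  have h1 := B_mono hn
  have h2 := B_mul_le 2 (n - 2)
  rw [B_2, show 2 + (n - 2) = n by omega] at h2
  unfold B at *
  have : 1 ≤ padicValNat 2 n ! := by
    by_contra h
    have h0 : padicValNat 2 n ! = 0 := by omega
    rw [h0] at h2
    have := B_pos (n - 2)
    unfold B at this
    omega
  exact dvd_pow_self 2 (by omega)

theorem G_even {n : ℕ} (hn : 2 ≤ n) (h3 : n ≠ 3) : 2 ∣ G n := by
  unfold G
  split_ifs with h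
  · exact Dvd.dvd.mul_left (B_even (by omega)) 3
  · exact B_even hn

theorem two_mul_G' {n : ℕ} (h : ¬ Exc n) : 2 * G' n = G n := by
  unfold Exc at h
  push Not at h
  obtain ⟨h0, h1, h3, h5, h6, h9⟩ := h
  unfold G'
  rw [if_neg (by omega), if_neg h3, if_neg h5, if_neg h6, if_neg h9]
  exact Nat.mul_div_cancel' (G_even (by omega) h3)

theorem B_7 : B 7 = 16 := by
  have := B_two_mul_add_one 3; rw [B_3] at this; simpa using this
theorem B_10 : B 10 = 256 := by
  have := B_two_mul 5; rw [B_5] at this; simpa using this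
theorem B_14 : B 14 = 2048 := by
  have := B_two_mul 7; rw [B_7] at this; simpa using this
theorem B_18 : B 18 = 65536 := by
  have := B_two_mul 9; rw [B_9] at this; simpa using this

theorem G_5 : G 5 = 8 := by rw [G_of_mod (by norm_num), B_5]
theorem G_6 : G 6 = 16 := by rw [G_of_mod (by norm_num), B_6]
theorem G_9 : G 9 = 128 := by rw [G_of_mod (by norm_num), B_9]
theorem G_4 : G 4 = 8 := by rw [G_of_mod (by norm_num), B_4]

theorem G'_0 : G' 0 = 1 := by simp [G']
theorem G'_1 : G' 1 = 1 := by simp [G']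
theorem G'_2 : G' 2 = 1 := by simp [G', G_2]
theorem G'_3 : G' 3 = 3 := by simp [G']
theorem G'_4 : G' 4 = 4 := by simp [G', G_4]
theorem G'_5 : G' 5 = 5 := by simp [G']
theorem G'_6 : G' 6 = 9 := by simp [G']
theorem G'_7 : G' 7 = 12 := by simp [G', G_7]
theorem G'_8 : G' 8 = 64 := by simp [G', G_of_mod, B_8]
theorem G'_9 : G' 9 = 81 := by simp [G']
theorem G'_10 : G' 10 = 128 := by simp [G', G_of_mod, B_10]
theorem G'_11 : G' 11 = 192 := by
  have := G_add_three (m := 8) (by norm_num); rw [B_8] at this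
  simp [G', this]
theorem G'_12 : G' 12 = 512 := by simp [G', G_of_mod, B_12]
theorem G'_14 : G' 14 = 1024 := by simp [G', G_of_mod, B_14]
theorem G'_15 : G' 15 = 1536 := by
  have := G_add_three (m := 12) (by norm_num); rw [B_12] at this
  simp [G', this]
theorem G'_18 : G' 18 = 32768 := by simp [G', G_of_mod, B_18]

theorem G_le_two_mul_G' (n : ℕ) : G n ≤ 2 * G' n := by
  by_cases h : Exc n
  · unfold Exc at h
    rcases h with rfl | rfl | rfl | rfl | rfl | rfl
    · rw [G_zero, G'_0]; norm_num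
    · rw [G_one, G'_1]; norm_num
    · rw [G_3, G'_3]; norm_num
    · rw [G_5, G'_5]; norm_num
    · rw [G_6, G'_6]; norm_num
    · rw [G_9, G'_9]; norm_num
  · rw [two_mul_G' h]

theorem G'_le_G (n : ℕ) : G' n ≤ G n := by
  by_cases h : Exc n
  · unfold Exc at h
    rcases h with rfl | rfl | rfl | rfl | rfl | rfl
    · rw [G_zero, G'_0]
    · rw [G_one, G'_1]
    · rw [G_3, G'_3]
    · rw [G_5, G'_5]; norm_num
    · rw [G_6, G'_6]; norm_num
    · rw [G_9, G'_9]; norm_num
  · have := two_mul_G' h; omega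

theorem G'_mul_le (a b : ℕ) : G' a * G' b ≤ G' (a + b) := by
  by_cases ha : Exc a
  · by_cases hb : Exc b
    · unfold Exc at ha hb
      rcases ha with rfl | rfl | rfl | rfl | rfl | rfl <;>
      rcases hb with rfl | rfl | rfl | rfl | rfl | rfl <;>
      norm_num [G'_0, G'_1, G'_2, G'_3, G'_4, G'_5, G'_6, G'_7, G'_8, G'_9, G'_10, G'_11, G'_12,
        G'_14, G'_15, G'_18]
    · have h1 := two_mul_G' hb
      have h2 := G'_le_G a
      have h3 := G_mul_le a b
      have h4 := G_le_two_mul_G' (a + b)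
      have : 2 * (G' a * G' b) ≤ 2 * G' (a + b) := by
        calc 2 * (G' a * G' b) = G' a * (2 * G' b) := by ring
          _ = G' a * G b := by rw [h1]
          _ ≤ G a * G b := Nat.mul_le_mul_right _ h2
          _ ≤ G (a + b) := h3
          _ ≤ _ := h4
      omega
  · have h1 := two_mul_G' ha
    have h2 := G'_le_G b
    have h3 := G_mul_le a b
    have h4 := G_le_two_mul_G' (a + b)
    have : 2 * (G' a * G' b) ≤ 2 * G' (a + b) := by
      calc 2 * (G' a * G' b) = (2 * G' a) * G' b := by ring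
        _ = G a * G' b := by rw [h1]
        _ ≤ G a * G b := Nat.mul_le_mul_left _ h2
        _ ≤ G (a + b) := h3
        _ ≤ _ := h4
    omega

/-- from `2 * x ≤ G n` to `x ≤ G' n` -/
theorem le_G'_of_two_mul_le {n x : ℕ} (h : 2 * x ≤ G n) : x ≤ G' n := by
  have := G_le_two_mul_G' n; omega

/-- the transitive non-prime-power case -/
theorem le_G'_of_prod {d a b x : ℕ} (ha : 2 ≤ a) (hb : 2 ≤ b) (hab : a * b ∣ d) (hd : 0 < d)
    (hx : x ≤ G a * G b) : x ≤ G' d := by
  have hle : a * b ≤ d := Nat.le_of_dvd hd hab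
  have h1 := G_mul_le a b
  by_cases h : a + b + 2 ≤ d
  · apply le_G'_of_two_mul_le
    have h2 := G_mul_le (a + b) 2
    rw [G_2] at h2
    have h3 := G_mono h
    calc 2 * x ≤ 2 * (G a * G b) := by omega
      _ ≤ G (a + b) * 2 := by omega
      _ ≤ G (a + b + 2) := h2
      _ ≤ G d := h3
  · have h5 : (a - 1) * (b - 1) ≤ 2 := by
      obtain ⟨a', rfl⟩ : ∃ a', a = a' + 1 := ⟨a - 1, by omega⟩
      obtain ⟨b', rfl⟩ : ∃ b', b = b' + 1 := ⟨b - 1, by omega⟩
      simp only [Nat.add_sub_cancel]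
      nlinarith
    have ha3 : a ≤ 3 := by
      by_contra hlt
      have : 3 * 1 ≤ (a - 1) * (b - 1) := Nat.mul_le_mul (by omega) (by omega)
      omega
    have hb3 : b ≤ 3 := by
      by_contra hlt
      have : 1 * 3 ≤ (a - 1) * (b - 1) := Nat.mul_le_mul (by omega) (by omega)
      omega
    interval_cases a <;> interval_cases b
    · -- a = b = 2, d ∈ {4, 5}
      have hd4 : d = 4 := by
        obtain ⟨c, hc⟩ := hab
        omega
      subst hd4
      rw [G_2] at hx
      rw [G'_4]; omega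
    · -- (2, 3): d = 6
      have hd6 : d = 6 := by
        obtain ⟨c, hc⟩ := hab
        omega
      subst hd6
      rw [G_2, G_3] at hx
      rw [G'_6]; omega
    · have hd6 : d = 6 := by
        obtain ⟨c, hc⟩ := hab
        omega
      subst hd6
      rw [G_2, G_3] at hx
      rw [G'_6]; omega
    · -- (3, 3): (a-1)(b-1) = 4 > 2
      omega


theorem two_mul_A_le_of_base (p : ℕ) [hp : Fact p.Prime] (a₀ : ℕ) (h : 2 * A p a₀ ≤ G (p ^ a₀))
    (a : ℕ) (ha : a₀ ≤ a) : 2 * A p a ≤ G (p ^ a) := by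
  induction a, ha using Nat.le_induction with
  | base => exact h
  | succ n _ ih => exact A_step p n ih

theorem A_le_G' (p : ℕ) [hp : Fact p.Prime] (hp2 : p ≠ 2) (a : ℕ) (ha : 1 ≤ a) :
    A p a ≤ G' (p ^ a) := by
  have hp3 : 3 ≤ p := by
    have := hp.out.two_le; omega
  have hA1 : A p 1 = p := by
    have := A_succ p 0; rw [A_zero] at this; simpa using this
  by_cases h3 : p = 3
  · subst h3
    have hA2 : A 3 2 = 81 := by
      have := A_succ 3 1; rw [hA1] at this; simpa using this
    have hA3 : A 3 3 = 3 ^ 13 := by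
      have := A_succ 3 2; rw [hA2] at this; rw [this]; norm_num
    by_cases ha3 : 3 ≤ a
    · apply le_G'_of_two_mul_le
      refine two_mul_A_le_of_base 3 3 ?_ a ha3
      rw [hA3]; norm_num [G_27]
    · interval_cases a
      · rw [hA1]; norm_num [G'_3]
      · rw [hA2]; norm_num [G'_9]
  by_cases h5 : p = 5
  · subst h5
    have hA2 : A 5 2 = 5 ^ 6 := by
      have := A_succ 5 1; rw [hA1] at this; rw [this]; norm_num
    by_cases ha2 : 2 ≤ a
    · apply le_G'_of_two_mul_le
      refine two_mul_A_le_of_base 5 2 ?_ a ha2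
      rw [hA2]; norm_num [G_of_mod, B_25]
    · interval_cases a
      rw [hA1]; norm_num [G'_5]
  have hp7 : 7 ≤ p := by
    by_contra hlt
    have : p = 4 ∨ p = 6 := by omega
    rcases this with rfl | rfl
    · exact absurd hp.out (by norm_num)
    · exact absurd hp.out (by norm_num)
  apply le_G'_of_two_mul_le
  refine two_mul_A_le_of_base p 1 ?_ a ha
  rw [hA1, pow_one]; exact two_mul_le_G p hp7

end Cfsg.Agent.Lib.Helper98.NilpAltArith
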