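import Mathlib
import Cfsg.Agent.Lib.Helper98.NilpAltArith

set_option autoImplicit false

namespace Cfsg.Agent.Lib.Helper98.NilpAlt

open Nat Cfsg.Agent.Lib.Helper98.NilpArith Cfsg.Agent.Lib.Helper98.NilpBound
  Cfsg.Agent.Lib.Helper98.NilpAltArith

/-- The two cases for a transitive nilpotent group: a `p`-group of prime power degree, or a
product of two groups of smaller coprime degrees. -/
theorem transitive_cases (Ω T : Type) [Finite Ω] [Group T] [Finite T] [MulAction T Ω]
    [FaithfulSMul T Ω] [htr : MulAction.IsPretransitive T Ω] (hnil : Group.IsNilpotent T)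
    (hd : 2 ≤ Nat.card Ω) :
    (∃ p k b : ℕ, p.Prime ∧ Nat.card T = p ^ k ∧ Nat.card Ω = p ^ b) ∨
    (∃ a b : ℕ, 2 ≤ a ∧ 2 ≤ b ∧ a * b ∣ Nat.card Ω ∧ Nat.card T ≤ G a * G b) := by
  set n := Nat.card Ω with hΩ
  have hne : Nonempty Ω := by
    have : 0 < Nat.card Ω := by omega
    exact (Nat.card_pos_iff.mp this).1
  obtain ⟨x⟩ := hne
  have hnT : n ∣ Nat.card T := by
    rw [hΩ, ← MulAction.index_stabilizer_of_transitive T x]
    exact Subgroup.index_dvd_card _
  have hTpos : 0 < Nat.card T := Nat.card_pos
  have hT1 : Nat.card T ≠ 1 := by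
    intro h; rw [h, Nat.dvd_one] at hnT; omega
  obtain ⟨p, hp, hpT⟩ := Nat.exists_prime_and_dvd hT1
  have : Fact p.Prime := ⟨hp⟩
  let P : Sylow p T := default
  have h3 : ∀ (p : ℕ) (_ : Fact p.Prime) (P : Sylow p T), (P : Subgroup T).Normal :=
    ((Group.isNilpotent_of_finite_tfae (G := T)).out 0 3).mp hnil
  have hPn : (P : Subgroup T).Normal := h3 p inferInstance P
  obtain ⟨Q, hQ⟩ := Subgroup.exists_right_complement'_of_coprime P.card_coprime_index
  have hcard : Nat.card P * Nat.card Q = Nat.card T := hQ.card_mul_card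
  have hPcard : Nat.card P = p ^ (Nat.card T).factorization p := P.card_eq_multiplicity
  have hPpos : 0 < Nat.card P := Nat.card_pos
  have hk : 1 ≤ (Nat.card T).factorization p :=
    (hp.dvd_iff_one_le_factorization hTpos.ne').mp hpT
  have hcop : (Nat.card P).Coprime (Nat.card Q) := by
    have : Nat.card Q = (P : Subgroup T).index := by
      have h1 := (P : Subgroup T).card_mul_index
      exact Nat.eq_of_mul_eq_mul_left hPpos (by rw [hcard, h1])
    rw [this]; exact P.card_coprime_index
  have hcomm : ∀ a ∈ (P : Subgroup T), ∀ b ∈ Q, a * b = b * a := by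
    intro a ha b hb
    refine (commute_of_coprime_nilp T a b (Nat.card P) (Nat.card Q) ?_ ?_ hcop).eq
    · have := pow_card_eq_one' (x := (⟨a, ha⟩ : (P : Subgroup T)))
      exact congrArg Subtype.val this
    · have := pow_card_eq_one' (x := (⟨b, hb⟩ : Q))
      exact congrArg Subtype.val this
  have hprod : ∀ t : T, ∃ a ∈ (P : Subgroup T), ∃ b ∈ Q, t = a * b := by
    intro t
    obtain ⟨⟨u, v⟩, huv, -⟩ := hQ.existsUnique t
    exact ⟨u, u.2, v, v.2, huv.symm⟩
  have hprod' : ∀ t : T, ∃ b ∈ Q, ∃ a ∈ (P : Subgroup T), t = b * a := by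
    intro t
    obtain ⟨a, ha, b, hb, rfl⟩ := hprod t
    exact ⟨b, hb, a, ha, hcomm a ha b hb⟩
  by_cases hQ1 : Nat.card Q = 1
  · left
    rw [hQ1, mul_one] at hcard
    rw [← hcard, hPcard] at hnT
    obtain ⟨b, -, hb⟩ := (Nat.dvd_prime_pow hp).mp hnT
    exact ⟨p, (Nat.card T).factorization p, b, hp, hcard.symm.trans hPcard, hb⟩
  · right
    have hQn : Q.Normal := by
      constructor
      intro q hq t
      obtain ⟨a, ha, b, hb, rfl⟩ := hprod t
      have hbq : b * q * b⁻¹ ∈ Q := Q.mul_mem (Q.mul_mem hb hq) (Q.inv_mem hb)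
      have h1 := hcomm a ha _ hbq
      have : a * b * q * (a * b)⁻¹ = b * q * b⁻¹ := by
        calc a * b * q * (a * b)⁻¹ = (a * (b * q * b⁻¹)) * a⁻¹ := by group
          _ = (b * q * b⁻¹ * a) * a⁻¹ := by rw [h1]
          _ = b * q * b⁻¹ := by group
      rw [this]; exact hbq
    have hfP : FaithfulSMul (P : Subgroup T) (MulAction.orbit (P : Subgroup T) x) :=
      faithful_orbit (P : Subgroup T) Q hcomm hprod x
    have hfQ : FaithfulSMul Q (MulAction.orbit Q x) :=
      faithful_orbit Q (P : Subgroup T) (fun b hb a ha => (hcomm a ha b hb).symm) hprod' x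
    set a := Nat.card (MulAction.orbit (P : Subgroup T) x) with ha_def
    set b := Nat.card (MulAction.orbit Q x) with hb_def
    have han : a ∣ n := by
      rw [ha_def, Nat.card_coe_set_eq, hΩ]
      exact (MulAction.IsBlock.orbit_of_normal (G := T) (N := (P : Subgroup T)) x).ncard_dvd_card
        ⟨x, MulAction.mem_orbit_self x⟩
    have hbn : b ∣ n := by
      rw [hb_def, Nat.card_coe_set_eq, hΩ]
      exact (MulAction.IsBlock.orbit_of_normal (G := T) (N := Q) x).ncard_dvd_card
        ⟨x, MulAction.mem_orbit_self x⟩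
    have haP : a ∣ Nat.card P := by
      rw [ha_def, Nat.card_coe_set_eq, ← MulAction.index_stabilizer]
      exact Subgroup.index_dvd_card _
    have hbQ : b ∣ Nat.card Q := by
      rw [hb_def, Nat.card_coe_set_eq, ← MulAction.index_stabilizer]
      exact Subgroup.index_dvd_card _
    have hPa : Nat.card P ∣ a ! := by
      have := Subgroup.card_dvd_of_injective
        (MulAction.toPermHom (P : Subgroup T) (MulAction.orbit (P : Subgroup T) x))
        MulAction.toPerm_injective
      rwa [Nat.card_perm] at this
    have hQb : Nat.card Q ∣ b ! := by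
      have := Subgroup.card_dvd_of_injective
        (MulAction.toPermHom Q (MulAction.orbit Q x)) MulAction.toPerm_injective
      rwa [Nat.card_perm] at this
    have hP1 : Nat.card P ≠ 1 := by
      rw [hPcard]
      have h1 : p ^ 1 ≤ p ^ (Nat.card T).factorization p := Nat.pow_le_pow_right hp.pos hk
      rw [pow_one] at h1
      have := hp.two_le
      omega
    have ha2 : 2 ≤ a := by
      by_contra hlt
      have : a ! = 1 := by
        have : a = 0 ∨ a = 1 := by omega
        rcases this with h | h <;> rw [h] <;> rfl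
      rw [this, Nat.dvd_one] at hPa
      exact hP1 hPa
    have hb2 : 2 ≤ b := by
      by_contra hlt
      have : b ! = 1 := by
        have : b = 0 ∨ b = 1 := by omega
        rcases this with h | h <;> rw [h] <;> rfl
      rw [this, Nat.dvd_one] at hQb
      exact hQ1 hQb
    have habn : a * b ∣ n :=
      Nat.Coprime.mul_dvd_of_dvd_of_dvd
        (Nat.Coprime.coprime_dvd_left haP (Nat.Coprime.coprime_dvd_right hbQ hcop)) han hbn
    have h1 : Nat.card P ≤ G a :=
      card_le_G a (MulAction.orbit (P : Subgroup T) x) rfl (P : Subgroup T) inferInstance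
    have h2 : Nat.card Q ≤ G b :=
      card_le_G b (MulAction.orbit Q x) rfl Q inferInstance
    exact ⟨a, b, ha2, hb2, habn, by rw [← hcard]; exact Nat.mul_le_mul h1 h2⟩


open Equiv

theorem sign_eq_mul_subtypePerm {Ω : Type*} [Fintype Ω] [DecidableEq Ω] (p : Ω → Prop)
    [DecidablePred p] (σ : Perm Ω) (h : ∀ x, p (σ x) ↔ p x) :
    Perm.sign σ = Perm.sign (σ.subtypePerm h) *
      Perm.sign (σ.subtypePerm (p := fun x => ¬ p x) (fun x => not_congr (h x))) := by
  have : σ = Perm.subtypeCongr (σ.subtypePerm h)
      (σ.subtypePerm (p := fun x => ¬ p x) (fun x => not_congr (h x))) := by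
    ext x
    by_cases hx : p x
    · rw [Perm.subtypeCongr.left_apply _ _ hx]; rfl
    · rw [Perm.subtypeCongr.right_apply _ _ hx]; rfl
  conv_lhs => rw [this]
  exact Perm.sign_subtypeCongr _ _

/-- restriction of an action to an invariant predicate -/
def res {T Ω : Type*} [Group T] [MulAction T Ω] (p : Ω → Prop)
    (hp : ∀ (t : T) (x : Ω), p (t • x) ↔ p x) : T →* Perm {x // p x} where
  toFun t := (MulAction.toPerm t).subtypePerm (fun x => hp t x)
  map_one' := by ext x; exact one_smul T (x : Ω)
  map_mul' := by intro a b; ext x; exact mul_smul a b (x : Ω)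

theorem res_apply {T Ω : Type*} [Group T] [MulAction T Ω] (p : Ω → Prop)
    (hp : ∀ (t : T) (x : Ω), p (t • x) ↔ p x) (t : T) (x : {x // p x}) :
    ((res p hp t x : {x // p x}) : Ω) = t • (x : Ω) := rfl

theorem units_int_mul_eq_one {a b : ℤˣ} (h : a * b = 1) : a = b := by
  rcases Int.units_eq_one_or a with rfl | rfl <;> rcases Int.units_eq_one_or b with rfl | rfl <;>
    simp_all

theorem card_le_G'_of_even : ∀ n : ℕ, ∀ (Ω : Type) [Fintype Ω] [DecidableEq Ω],
    Fintype.card Ω = n → ∀ (T : Type) [Group T] [Finite T] [MulAction T Ω] [FaithfulSMul T Ω],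
      Group.IsNilpotent T → (∀ t : T, Perm.sign (MulAction.toPerm t : Perm Ω) = 1) →
      Nat.card T ≤ G' n := by
  intro n
  induction n using Nat.strong_induction_on with
  | _ n ih =>
  intro Ω _ _ hΩ T _ _ _ _ hnil heven
  classical
  have hΩ' : Nat.card Ω = n := by rw [Nat.card_eq_fintype_card, hΩ]
  have hdvd : Nat.card T ∣ n ! := by
    have := Subgroup.card_dvd_of_injective (MulAction.toPermHom T Ω) MulAction.toPerm_injective
    rwa [Nat.card_perm, hΩ'] at this
  have hG'pos : ∀ m, 0 < G' m := fun m => by
    have := G_le_two_mul_G' m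
    have := G_pos m
    omega
  by_cases htr : MulAction.IsPretransitive T Ω
  · by_cases hn1 : n ≤ 1
    · have : n ! = 1 := by interval_cases n <;> rfl
      rw [this, Nat.dvd_one] at hdvd
      rw [hdvd]; exact hG'pos n
    push Not at hn1
    rcases transitive_cases Ω T hnil (by omega) with ⟨p, k, b, hp, hTk, hnb⟩ | ⟨a, b, ha, hb, hab, hT⟩
    · rw [hΩ'] at hnb
      have : Fact p.Prime := ⟨hp⟩
      have hb1 : 1 ≤ b := by
        by_contra h
        have : b = 0 := by omega
        rw [this, pow_zero] at hnb
        omega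
      by_cases hp2 : p = 2
      · subst hp2
        -- even 2-group
        have : Nontrivial Ω := Fintype.one_lt_card_iff_nontrivial.mp (by omega)
        let ψ : T →* alternatingGroup Ω :=
          (MulAction.toPermHom T Ω).codRestrict (alternatingGroup Ω) (fun t => by
            rw [Equiv.Perm.mem_alternatingGroup]; exact heven t)
        have hψ : Function.Injective ψ := by
          intro t t' h
          have := congrArg Subtype.val h
          exact MulAction.toPerm_injective this
        have hdvd2 := Subgroup.card_dvd_of_injective ψ hψ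
        rw [nat_card_alternatingGroup, hΩ', hTk] at hdvd2
        have h2n : 2 ∣ n ! := Nat.prime_two.dvd_factorial.mpr (by omega)
        have hdvd3 : 2 ^ (k + 1) ∣ n ! := by
          rw [pow_succ]
          obtain ⟨c, hc⟩ := hdvd2
          refine ⟨c, ?_⟩
          have := Nat.div_mul_cancel h2n
          rw [← this, hc]; ring
        have hk1 : k + 1 ≤ padicValNat 2 n ! :=
          (padicValNat_dvd_iff_le (Nat.factorial_ne_zero _)).mp hdvd3
        apply le_G'_of_two_mul_le
        have hmod : n % 4 ≠ 3 := by
          rw [hnb]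
          rcases Nat.lt_or_ge b 2 with h | h
          · interval_cases b; all_goals norm_num
          · obtain ⟨c, rfl⟩ := Nat.exists_eq_add_of_le h
            rw [pow_add]; norm_num [Nat.mul_mod]
        rw [G_of_mod hmod, hTk]
        unfold B
        calc 2 * 2 ^ k = 2 ^ (k + 1) := by ring
          _ ≤ _ := Nat.pow_le_pow_right (by norm_num) hk1
      · rw [hnb, hTk] at hdvd
        have hkle : k ≤ padicValNat p (p ^ b)! :=
          (padicValNat_dvd_iff_le (Nat.factorial_ne_zero _)).mp hdvd
        rw [hTk, hnb]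
        refine le_trans ?_ (A_le_G' p hp2 b hb1)
        exact Nat.pow_le_pow_right hp.pos hkle
    · rw [hΩ'] at hab
      exact le_G'_of_prod ha hb hab (by omega) hT
  · -- the intransitive case
    have hex : ∃ x y : Ω, ∀ g : T, g • x ≠ y := by
      by_contra h
      push Not at h
      exact htr ⟨h⟩
    obtain ⟨x, y, hxy⟩ := hex
    set p : Ω → Prop := fun z => z ∈ MulAction.orbit T x with hpdef
    have hp : ∀ (t : T) (z : Ω), p (t • z) ↔ p z := by
      intro t z
      constructor
      · intro h
        have := MulAction.mem_orbit_of_mem_orbit t⁻¹ h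
        rwa [inv_smul_smul] at this
      · intro h
        exact MulAction.mem_orbit_of_mem_orbit t h
    have hnp : ∀ (t : T) (z : Ω), ¬ p (t • z) ↔ ¬ p z := fun t z => not_congr (hp t z)
    have hpx : p x := MulAction.mem_orbit_self x
    have hpy : ¬ p y := by
      rintro ⟨g, hg⟩
      exact hxy g hg
    set s := Fintype.card {z // p z} with hs
    set s' := Fintype.card {z // ¬ p z} with hs'
    have hsum : s + s' = n := by
      rw [hs, hs', Fintype.card_subtype_compl, ← hΩ]
      have := Fintype.card_subtype_le p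
      omega
    have hs_lt : s < n := by
      rw [← hΩ]; exact Fintype.card_subtype_lt hpy
    have hs'_lt : s' < n := by
      rw [← hΩ]; exact Fintype.card_subtype_lt (p := fun z => ¬ p z) (x := x) (not_not.mpr hpx)
    set ρ := res p hp with hρ
    set ρ' := res (fun z => ¬ p z) hnp with hρ'
    have hsign : ∀ t : T, Perm.sign (ρ t) * Perm.sign (ρ' t) = 1 := by
      intro t
      have := sign_eq_mul_subtypePerm p (MulAction.toPerm t : Perm Ω) (fun z => hp t z)
      rw [heven t] at this
      exact this.symm
    have hinj : ∀ t t' : T, ρ t = ρ t' → ρ' t = ρ' t' → t = t' := by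
      intro t t' h1 h2
      apply FaithfulSMul.eq_of_smul_eq_smul (α := Ω)
      intro z
      by_cases hz : p z
      · have := congrArg (fun σ : Perm {z // p z} => ((σ ⟨z, hz⟩ : {z // p z}) : Ω)) h1
        exact this
      · have := congrArg (fun σ : Perm {z // ¬ p z} => ((σ ⟨z, hz⟩ : {z // ¬ p z}) : Ω)) h2
        exact this
    have : Finite ρ.range := Finite.of_surjective ρ.rangeRestrict ρ.rangeRestrict_surjective
    have : Finite ρ'.range := Finite.of_surjective ρ'.rangeRestrict ρ'.rangeRestrict_surjective
    have : Group.IsNilpotent ρ.range :=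
      Group.nilpotent_of_surjective ρ.rangeRestrict ρ.rangeRestrict_surjective
    have : Group.IsNilpotent ρ'.range :=
      Group.nilpotent_of_surjective ρ'.rangeRestrict ρ'.rangeRestrict_surjective
    by_cases hE : ∀ t : T, Perm.sign (ρ t) = 1
    · have hE' : ∀ t : T, Perm.sign (ρ' t) = 1 := by
        intro t
        have := hsign t
        rwa [hE t, one_mul] at this
      have h1 : Nat.card ρ.range ≤ G' s := by
        refine ih s hs_lt {z // p z} rfl ρ.range inferInstance ?_
        rintro ⟨r, t, rfl⟩
        exact hE t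
      have h2 : Nat.card ρ'.range ≤ G' s' := by
        refine ih s' hs'_lt {z // ¬ p z} rfl ρ'.range inferInstance ?_
        rintro ⟨r, t, rfl⟩
        exact hE' t
      have hle : Nat.card T ≤ Nat.card ρ.range * Nat.card ρ'.range := by
        rw [← Nat.card_prod]
        refine Nat.card_le_card_of_injective
          (fun t => ((⟨ρ t, t, rfl⟩ : ρ.range), (⟨ρ' t, t, rfl⟩ : ρ'.range))) ?_
        intro t t' h
        simp only [Prod.mk.injEq] at h
        exact hinj t t' (congrArg Subtype.val h.1) (congrArg Subtype.val h.2)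
      calc Nat.card T ≤ _ := hle
        _ ≤ G' s * G' s' := Nat.mul_le_mul h1 h2
        _ ≤ G' (s + s') := G'_mul_le s s'
        _ = G' n := by rw [hsum]
    · push Not at hE
      obtain ⟨t₀, ht₀⟩ := hE
      have h1 : Nat.card ρ.range ≤ G s :=
        card_le_G s {z // p z} (by rw [Nat.card_eq_fintype_card]) ρ.range inferInstance
      have h2 : Nat.card ρ'.range ≤ G s' :=
        card_le_G s' {z // ¬ p z} (by rw [Nat.card_eq_fintype_card]) ρ'.range inferInstance
      have hle : 2 * Nat.card T ≤ Nat.card ρ.range * Nat.card ρ'.range := by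
        rw [← Nat.card_prod]
        have hcard : Nat.card (T × Bool) = 2 * Nat.card T := by
          rw [Nat.card_prod, Nat.card_eq_fintype_card (α := Bool), Fintype.card_bool, mul_comm]
        rw [← hcard]
        refine Nat.card_le_card_of_injective
          (fun tb => ((⟨ρ tb.1 * (if tb.2 then ρ t₀ else 1),
            ρ.range.mul_mem ⟨tb.1, rfl⟩ (by split_ifs; exact ⟨t₀, rfl⟩; exact ρ.range.one_mem)⟩ :
              ρ.range), (⟨ρ' tb.1, tb.1, rfl⟩ : ρ'.range))) ?_
        rintro ⟨t, b⟩ ⟨t', b'⟩ h
        simp only [Prod.mk.injEq] at h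
        obtain ⟨h3', h4'⟩ := h
        have h3 : ρ t * (if b then ρ t₀ else 1) = ρ t' * (if b' then ρ t₀ else 1) :=
          congrArg Subtype.val h3'
        have h4 : ρ' t = ρ' t' := congrArg Subtype.val h4'
        have hs1 : Perm.sign (ρ t) = Perm.sign (ρ t') := by
          rw [units_int_mul_eq_one (hsign t), units_int_mul_eq_one (hsign t'), h4]
        have h5 := congrArg Perm.sign h3
        rw [map_mul, map_mul, hs1] at h5
        have h6 := mul_left_cancel h5
        have hbb : b = b' := by
          cases b <;> cases b' <;> simp_all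
        subst hbb
        have h7 : ρ t = ρ t' := mul_right_cancel h3
        rw [hinj t t' h7 h4]
      apply le_G'_of_two_mul_le
      calc 2 * Nat.card T ≤ _ := hle
        _ ≤ G s * G s' := Nat.mul_le_mul h1 h2
        _ ≤ G (s + s') := G_mul_le s s'
        _ = G n := by rw [hsum]


/-- order of a Sylow 2-subgroup of the alternating group -/
theorem two_mul_card_sylow_alt (n : ℕ) (hn : 2 ≤ n) (P : Sylow 2 (alternatingGroup (Fin n))) :
    2 * Nat.card P = B n := by
  have : Nontrivial (Fin n) := Fin.nontrivial_iff_two_le.mpr hn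
  have h2n : 2 ∣ n ! := Nat.prime_two.dvd_factorial.mpr hn
  have hpos : n ! / 2 ≠ 0 := by
    have := Nat.div_mul_cancel h2n
    have := Nat.factorial_pos n
    omega
  rw [P.card_eq_multiplicity, nat_card_alternatingGroup, Nat.card_fin, B_eq_ordProj]
  have h1 : (n !).factorization 2 = (n ! / 2).factorization 2 + 1 := by
    conv_lhs => rw [← Nat.mul_div_cancel' h2n]
    rw [Nat.factorization_mul (by norm_num) hpos, Finsupp.add_apply,
      Nat.prime_two.factorization_self, add_comm]
  rw [h1, pow_succ, mul_comm]

theorem card_le_sylow_alt (n : ℕ) (hn : n % 4 ≠ 3) (h5 : n ≠ 5) (h6 : n ≠ 6) (h9 : n ≠ 9)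
    (N : Subgroup (alternatingGroup (Fin n))) (hN : Group.IsNilpotent N)
    (P : Sylow 2 (alternatingGroup (Fin n))) :
    Nat.card N ≤ Nat.card P := by
  have heven : ∀ t : N, Perm.sign (MulAction.toPerm t : Perm (Fin n)) = 1 := by
    intro t
    have h1 : (MulAction.toPerm t : Perm (Fin n)) = ((t : alternatingGroup (Fin n)) : Perm (Fin n)) := by
      ext x; rfl
    rw [h1]
    exact Equiv.Perm.mem_alternatingGroup.mp (t : alternatingGroup (Fin n)).2
  have h1 := card_le_G'_of_even n (Fin n) (Fintype.card_fin n) N hN heven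
  by_cases hn2 : 2 ≤ n
  · have hexc : ¬ Exc n := by
      unfold Exc; omega
    have h2 := two_mul_G' hexc
    have h3 := two_mul_card_sylow_alt n hn2 P
    rw [G_of_mod hn] at h2
    omega
  · have hG1 : G' n = 1 := by
      have : n = 0 ∨ n = 1 := by omega
      rcases this with rfl | rfl
      · exact G'_0
      · exact G'_1
    have : 0 < Nat.card P := Nat.card_pos
    omega

end Cfsg.Agent.Lib.Helper98.NilpAlt
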