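import Mathlib
import Cfsg.Agent.Lib.Helper98.NilpAlt

set_option autoImplicit false

namespace Cfsg.Agent.Lib.Helper98.NilpAltExtremal

open Nat Cfsg.Agent.Lib.Helper98.NilpArith Cfsg.Agent.Lib.Helper98.NilpBound
  Cfsg.Agent.Lib.Helper98.NilpAltArith Cfsg.Agent.Lib.Helper98.NilpExtremal
  Cfsg.Agent.Lib.Helper98.NilpAlt
open Equiv

theorem four_mul_B_pred_le (m : ℕ) (hm : m % 4 = 0) (hm4 : 4 ≤ m) : 4 * B (m - 1) ≤ B m := by
  obtain ⟨j, rfl⟩ : ∃ j, m = 4 * (j + 1) := ⟨m / 4 - 1, by omega⟩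
  have h1 : 4 * (j + 1) - 1 = 2 * (2 * j + 1) + 1 := by omega
  have h2 : 4 * (j + 1) = 2 * (2 * (j + 1)) := by ring
  have h3 : 2 * j + 1 = 2 * j + 1 := rfl
  rw [h1, B_two_mul_add_one, B_two_mul_add_one, h2, B_two_mul, B_two_mul]
  have h4 := B_mono (Nat.le_succ j)
  calc 4 * (2 ^ (2 * j + 1) * (2 ^ j * B j))
      ≤ 4 * (2 ^ (2 * j + 1) * (2 ^ j * B (j + 1))) := by gcongr
    _ = 2 ^ (2 * (j + 1)) * (2 ^ (j + 1) * B (j + 1)) := by ring

/-- generalized three-cycle criterion -/
theorem isThreeCycle_of_centralizer' {n : ℕ} (hn : n % 4 = 3) (σ : Perm (Fin n))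
    (hσ : orderOf σ = 3) (K : Subgroup (Perm (Fin n))) (hK : K ≤ Subgroup.centralizer {σ})
    (j : ℕ) (hKj : Nat.card K = 2 ^ j) (hcard : B (n - 3) ≤ 2 * Nat.card K) :
    σ.IsThreeCycle := by
  obtain ⟨k, hk⟩ := Equiv.Perm.cycleType_prime_order (σ := σ) (by rw [hσ]; norm_num)
  rw [hσ] at hk
  by_cases hk0 : k = 0
  · subst hk0
    show σ.cycleType = {3}
    rw [hk]; rfl
  exfalso
  have hsum : σ.cycleType.sum ≤ n := by
    rw [Equiv.Perm.sum_cycleType]
    exact (Finset.card_le_univ _).trans (by simp)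
  have hsum' : σ.cycleType.sum = (k + 1) * 3 := by
    rw [hk, Multiset.sum_replicate, smul_eq_mul]
  have hcent := Equiv.Perm.nat_card_centralizer σ
  have hfin : (Multiset.replicate (k + 1) 3).toFinset = {3} := by
    rw [Multiset.toFinset_replicate, if_neg (Nat.succ_ne_zero k)]
  rw [hsum', hk, hfin, Finset.prod_singleton, Multiset.count_replicate_self, Multiset.prod_replicate,
    Fintype.card_fin] at hcent
  have hdvd := Subgroup.card_dvd_of_le hK
  rw [hcent, hKj] at hdvd
  set X := (n - (k + 1) * 3)! * (k + 1)! with hX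
  have hX0 : X ≠ 0 := by positivity
  have hdvd2 : 2 ^ j ∣ X := by
    have h1 : (n - (k + 1) * 3)! * 3 ^ (k + 1) * (k + 1)! = 3 ^ (k + 1) * X := by rw [hX]; ring
    rw [h1] at hdvd
    refine Nat.Coprime.dvd_of_dvd_mul_left ?_ hdvd
    exact Nat.Coprime.pow _ _ (by norm_num)
  have hle : 2 ^ j ≤ B (n - (k + 1) * 3) * B (k + 1) := by
    rw [B_eq_ordProj, B_eq_ordProj,
      ← Nat.ordProj_mul 2 (Nat.factorial_ne_zero _) (Nat.factorial_ne_zero _)]
    exact Nat.pow_le_pow_right (by norm_num)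
      ((Nat.prime_two.pow_dvd_iff_le_factorization hX0).mp hdvd2)
  have h2 := B_mul_le (n - (k + 1) * 3) (k + 1)
  have h3 : B (n - (k + 1) * 3 + (k + 1)) ≤ B (n - 3 - 1) := B_mono (by omega)
  have h4 := four_mul_B_pred_le (n - 3) (by omega) (by omega)
  have h5 := B_pos (n - 3 - 1)
  rw [hKj] at hcard
  omega

theorem structure_of_extremal_alt {n : ℕ} (hn : n % 4 = 3) (h7 : 7 ≤ n)
    (N : Subgroup (Perm (Fin n))) (hNA : N ≤ alternatingGroup (Fin n))
    (hN : Group.IsNilpotent N) (hcard : 2 * Nat.card N = 3 * B (n - 3)) :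
    ∃ (c : Perm (Fin n)) (K : Subgroup (Perm (Fin n))), c.IsThreeCycle ∧
      2 * Nat.card K = B (n - 3) ∧ K ≤ alternatingGroup (Fin n) ∧
      (∀ g ∈ K, ∀ x ∈ c.support, g x = x) ∧ N = K ⊔ Subgroup.zpowers c := by
  obtain ⟨a, hBa0⟩ : ∃ a, B (n - 3) = 2 ^ a := ⟨padicValNat 2 (n - 3)!, rfl⟩
  have ha1 : 1 ≤ a := by
    have h := B_even (n := n - 3) (by omega)
    rw [hBa0] at h
    by_contra h0
    have : a = 0 := by omega
    rw [this] at h
    norm_num at h
  obtain ⟨a', rfl⟩ : ∃ a', a = a' + 1 := ⟨a - 1, by omega⟩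
  have hBa : B (n - 3) = 2 ^ (a' + 1) := hBa0
  have hcardN : Nat.card N = 3 * 2 ^ a' := by
    rw [hBa, pow_succ] at hcard; omega
  have : Fact (Nat.Prime 3) := ⟨by norm_num⟩
  obtain ⟨c₀, hc₀⟩ := exists_prime_orderOf_dvd_card' (G := N) 3
    (by rw [hcardN]; exact dvd_mul_right _ _)
  let S : Sylow 2 N := default
  have hScard : Nat.card S = 2 ^ a' := by
    rw [S.card_eq_multiplicity, hcardN,
      Nat.factorization_mul (by norm_num) (by positivity), Nat.prime_two.factorization_pow]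
    have : (Nat.factorization 3) 2 = 0 :=
      Nat.factorization_eq_zero_of_not_dvd (by norm_num)
    simp [this]
  set K : Subgroup (Perm (Fin n)) := (S : Subgroup N).map N.subtype with hKdef
  have hKcard : Nat.card K = 2 ^ a' := by
    rw [hKdef, Subgroup.card_map_of_injective N.subtype_injective, hScard]
  have hKN : K ≤ N := by rw [hKdef]; exact Subgroup.map_subtype_le _
  set c : Perm (Fin n) := (c₀ : Perm (Fin n)) with hcdef
  have hc3 : orderOf c = 3 := by rw [hcdef, Subgroup.orderOf_coe, hc₀]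
  have hcomm : ∀ g ∈ K, Commute g c := by
    rintro g ⟨s, hs, rfl⟩
    have h1 : Commute s c₀ := by
      refine commute_of_coprime_nilp N s c₀ (2 ^ a') 3 ?_ ?_ (Nat.Coprime.pow_left _ (by norm_num))
      · have := pow_card_eq_one' (x := (⟨s, hs⟩ : (S : Subgroup N)))
        rw [hScard] at this
        exact congrArg Subtype.val this
      · rw [← hc₀]; exact pow_orderOf_eq_one c₀
    have := congrArg Subtype.val h1.eq
    exact this
  have hpow : ∀ g ∈ K, g ^ (2 ^ a') = 1 := by
    intro g hg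
    have := pow_card_eq_one' (x := (⟨g, hg⟩ : K))
    rw [hKcard] at this
    exact congrArg Subtype.val this
  have hKcent : K ≤ Subgroup.centralizer {c} := by
    intro g hg
    rw [Subgroup.mem_centralizer_iff]
    intro h hh
    rw [Set.mem_singleton_iff] at hh
    subst hh
    exact ((hcomm g hg).eq).symm
  have h3c : c.IsThreeCycle := by
    refine isThreeCycle_of_centralizer' hn c hc3 K hKcent a' hKcard ?_
    rw [hKcard, hBa, pow_succ]; omega
  refine ⟨c, K, h3c, ?_, hKN.trans hNA, ?_, ?_⟩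
  · rw [hKcard, hBa, pow_succ]; ring
  · intro g hg
    exact fixes_support_of_commute c g h3c (hcomm g hg) a' (hpow g hg)
  · symm
    have hle : K ⊔ Subgroup.zpowers c ≤ N := by
      refine sup_le hKN ?_
      rw [Subgroup.zpowers_le]; exact c₀.2
    refine Subgroup.eq_of_le_of_card_ge hle ?_
    have h1 : Nat.card K ∣ Nat.card (K ⊔ Subgroup.zpowers c : Subgroup (Perm (Fin n))) :=
      Subgroup.card_dvd_of_le le_sup_left
    have h2 : Nat.card (Subgroup.zpowers c) ∣
        Nat.card (K ⊔ Subgroup.zpowers c : Subgroup (Perm (Fin n))) :=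
      Subgroup.card_dvd_of_le le_sup_right
    rw [Nat.card_zpowers, hc3] at h2
    rw [hKcard] at h1
    have h3 : 3 * 2 ^ a' ∣ Nat.card (K ⊔ Subgroup.zpowers c : Subgroup (Perm (Fin n))) :=
      Nat.Coprime.mul_dvd_of_dvd_of_dvd (Nat.Coprime.pow_right _ (by norm_num)) h2 h1
    rw [hcardN]
    exact Nat.le_of_dvd Nat.card_pos h3


theorem conj_same_cycle_alt {n : ℕ} (hn : 5 ≤ n) (c : Perm (Fin n))
    (K K' : Subgroup (Perm (Fin n)))
    (hc : c.IsThreeCycle) (hK : 2 * Nat.card K = B (n - 3)) (hK' : 2 * Nat.card K' = B (n - 3))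
    (hKA : K ≤ alternatingGroup (Fin n)) (hK'A : K' ≤ alternatingGroup (Fin n))
    (hfix : ∀ g ∈ K, ∀ x ∈ c.support, g x = x) (hfix' : ∀ g ∈ K', ∀ x ∈ c.support, g x = x) :
    ∃ h : Perm (Fin n), h ∈ alternatingGroup (Fin n) ∧ h * c * h⁻¹ = c ∧
      K.map (MulAut.conj h).toMonoidHom = K' := by
  classical
  let ofS : Perm {x : Fin n // x ∉ c.support} →* Perm (Fin n) := Equiv.Perm.ofSubtype
  let ofA : alternatingGroup {x : Fin n // x ∉ c.support} →* Perm (Fin n) :=
    ofS.comp (alternatingGroup {x : Fin n // x ∉ c.support}).subtype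
  have hofA_inj : Function.Injective ofA := by
    intro u v huv
    exact Subtype.ext (Equiv.Perm.ofSubtype_injective huv)
  have hrange : ∀ (L : Subgroup (Perm (Fin n))), L ≤ alternatingGroup (Fin n) →
      (∀ g ∈ L, ∀ x ∈ c.support, g x = x) → L ≤ ofA.range := by
    intro L hLA hL g hg
    have h₁ : ∀ x, (g x ∉ c.support) ↔ (x ∉ c.support) := by
      intro x
      rw [not_iff_not]
      constructor
      · intro hx
        have h1 := hL g hg (g x) hx
        have h2 : g x = x := g.injective h1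
        rwa [h2] at hx
      · intro hx
        rw [hL g hg x hx]; exact hx
    have h₂ : ∀ x, g x ≠ x → x ∉ c.support := by
      intro x hx hxs
      exact hx (hL g hg x hxs)
    have hg' : Equiv.Perm.ofSubtype (g.subtypePerm (p := fun x => x ∉ c.support) h₁) = g :=
      Equiv.Perm.ofSubtype_subtypePerm h₁ h₂
    have hsign : Perm.sign (g.subtypePerm (p := fun x => x ∉ c.support) h₁) = 1 := by
      rw [← Equiv.Perm.sign_ofSubtype, hg']
      exact Equiv.Perm.mem_alternatingGroup.mp (hLA hg)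
    exact ⟨⟨g.subtypePerm (p := fun x => x ∉ c.support) h₁,
      Equiv.Perm.mem_alternatingGroup.mpr hsign⟩, hg'⟩
  have hcardΩ : Nat.card {x : Fin n // x ∉ c.support} = n - 3 := by
    rw [Nat.card_eq_fintype_card, Fintype.card_subtype_compl, Fintype.card_fin,
      Fintype.card_coe, hc.card_support]
  have hnt : Nontrivial {x : Fin n // x ∉ c.support} := by
    rw [← Fintype.one_lt_card_iff_nontrivial, ← Nat.card_eq_fintype_card, hcardΩ]
    omega
  have hAcard : 2 * 2 ^ (Nat.card (alternatingGroup {x : Fin n // x ∉ c.support})).factorization 2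
      = B (n - 3) := by
    rw [nat_card_alternatingGroup, hcardΩ, B_eq_ordProj]
    have h2n : 2 ∣ (n - 3)! := Nat.prime_two.dvd_factorial.mpr (by omega)
    have hpos : (n - 3)! / 2 ≠ 0 := by
      have := Nat.div_mul_cancel h2n
      have := Nat.factorial_pos (n - 3)
      omega
    have h1 : ((n - 3)!).factorization 2 = ((n - 3)! / 2).factorization 2 + 1 := by
      conv_lhs => rw [← Nat.mul_div_cancel' h2n]
      rw [Nat.factorization_mul (by norm_num) hpos, Finsupp.add_apply,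
        Nat.prime_two.factorization_self, add_comm]
    rw [h1, pow_succ, mul_comm]
  have hsyl : ∀ (L : Subgroup (Perm (Fin n))), 2 * Nat.card L = B (n - 3) →
      L ≤ alternatingGroup (Fin n) → (∀ g ∈ L, ∀ x ∈ c.support, g x = x) →
      Nat.card (L.comap ofA) =
        2 ^ (Nat.card (alternatingGroup {x : Fin n // x ∉ c.support})).factorization 2 := by
    intro L hLc hLA hL
    have h1 : Nat.card (L.comap ofA) = Nat.card L := by
      conv_rhs => rw [← Subgroup.map_comap_eq_self (hrange L hLA hL)]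
      exact (Subgroup.card_map_of_injective hofA_inj).symm
    omega
  let S₁ : Sylow 2 (alternatingGroup {x : Fin n // x ∉ c.support}) :=
    Sylow.ofCard (K.comap ofA) (hsyl K hK hKA hfix)
  let S₂ : Sylow 2 (alternatingGroup {x : Fin n // x ∉ c.support}) :=
    Sylow.ofCard (K'.comap ofA) (hsyl K' hK' hK'A hfix')
  obtain ⟨hbar, hh⟩ :=
    MulAction.exists_smul_eq (alternatingGroup {x : Fin n // x ∉ c.support}) S₁ S₂
  have hh' : (K.comap ofA).map (MulAut.conj hbar).toMonoidHom = K'.comap ofA := by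
    have := congrArg (fun S : Sylow 2 (alternatingGroup {x : Fin n // x ∉ c.support}) =>
      (S : Subgroup (alternatingGroup {x : Fin n // x ∉ c.support}))) hh
    simp only [Sylow.coe_subgroup_smul] at this
    exact this
  refine ⟨ofA hbar, ?_, ?_, ?_⟩
  · rw [Equiv.Perm.mem_alternatingGroup]
    show Perm.sign (Equiv.Perm.ofSubtype (hbar : Perm {x : Fin n // x ∉ c.support})) = 1
    rw [Equiv.Perm.sign_ofSubtype]
    exact Equiv.Perm.mem_alternatingGroup.mp hbar.2
  · have hdis : Equiv.Perm.Disjoint (ofA hbar) c := by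
      intro x
      by_cases hx : x ∈ c.support
      · left
        exact Equiv.Perm.ofSubtype_apply_of_not_mem (hbar : Perm {x : Fin n // x ∉ c.support})
          (not_not.mpr hx)
      · right
        exact Equiv.Perm.notMem_support.mp hx
    rw [hdis.commute.eq, mul_inv_cancel_right]
  · have hcompat : ofA.comp (MulAut.conj hbar).toMonoidHom =
        (MulAut.conj (ofA hbar)).toMonoidHom.comp ofA := by
      ext1 y
      simp [map_mul, map_inv]
    rw [← Subgroup.map_comap_eq_self (hrange K hKA hfix), Subgroup.map_map, ← hcompat,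
      ← Subgroup.map_map, hh', Subgroup.map_comap_eq_self (hrange K' hK'A hfix')]

theorem conj_of_data_alt {n : ℕ} (hn : 5 ≤ n) (c c' : Perm (Fin n))
    (K K' : Subgroup (Perm (Fin n)))
    (hc : c.IsThreeCycle) (hc' : c'.IsThreeCycle)
    (hK : 2 * Nat.card K = B (n - 3)) (hK' : 2 * Nat.card K' = B (n - 3))
    (hKA : K ≤ alternatingGroup (Fin n)) (hK'A : K' ≤ alternatingGroup (Fin n))
    (hfix : ∀ g ∈ K, ∀ x ∈ c.support, g x = x) (hfix' : ∀ g ∈ K', ∀ x ∈ c'.support, g x = x) :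
    ∃ g : Perm (Fin n), g ∈ alternatingGroup (Fin n) ∧ g * c * g⁻¹ = c' ∧
      K.map (MulAut.conj g).toMonoidHom = K' := by
  have hconj : IsConj (⟨c, hc.mem_alternatingGroup⟩ : alternatingGroup (Fin n))
      ⟨c', hc'.mem_alternatingGroup⟩ :=
    alternatingGroup.isThreeCycle_isConj (by rw [Nat.card_fin]; exact hn) hc hc'
  obtain ⟨g₀', hg₀'⟩ := isConj_iff.mp hconj
  set g₀ : Perm (Fin n) := (g₀' : Perm (Fin n)) with hg₀def
  have hg₀A : g₀ ∈ alternatingGroup (Fin n) := g₀'.2
  have hg₀ : g₀ * c * g₀⁻¹ = c' := congrArg Subtype.val hg₀'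
  set K₀ := K.map (MulAut.conj g₀).toMonoidHom with hK₀
  have hK₀card : 2 * Nat.card K₀ = B (n - 3) := by
    rw [hK₀, Subgroup.card_map_of_injective (MulAut.conj g₀).injective, hK]
  have hK₀A : K₀ ≤ alternatingGroup (Fin n) := by
    rintro g ⟨k, hk, rfl⟩
    have := (alternatingGroup.normal (α := Fin n)).conj_mem k (hKA hk) g₀
    simpa [MulAut.conj_apply] using this
  have hfix₀ : ∀ g ∈ K₀, ∀ x ∈ c'.support, g x = x := by
    rintro g ⟨k, hk, rfl⟩ x hx
    rw [← hg₀, Equiv.Perm.support_conj, Finset.mem_map] at hx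
    obtain ⟨y, hy, rfl⟩ := hx
    have := hfix k hk y hy
    simp [MulAut.conj_apply, this]
  obtain ⟨h, hhA, hh1, hh2⟩ :=
    conj_same_cycle_alt hn c' K₀ K' hc' hK₀card hK' hK₀A hK'A hfix₀ hfix'
  refine ⟨h * g₀, (alternatingGroup (Fin n)).mul_mem hhA hg₀A, ?_, ?_⟩
  · rw [mul_inv_rev, ← hh1, ← hg₀]; group
  · rw [← hh2, hK₀, Subgroup.map_map]
    congr 1

theorem conj_of_extremal_alt {n : ℕ} (hn : n % 4 = 3) (h7 : 7 ≤ n)
    (N₁ N₂ : Subgroup (Perm (Fin n)))
    (hA₁ : N₁ ≤ alternatingGroup (Fin n)) (hA₂ : N₂ ≤ alternatingGroup (Fin n))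
    (h₁ : Group.IsNilpotent N₁) (h₂ : Group.IsNilpotent N₂)
    (hc₁ : 2 * Nat.card N₁ = 3 * B (n - 3)) (hc₂ : 2 * Nat.card N₂ = 3 * B (n - 3)) :
    ∃ g : Perm (Fin n), g ∈ alternatingGroup (Fin n) ∧
      N₂ = N₁.map (MulAut.conj g).toMonoidHom := by
  obtain ⟨c₁, K₁, h3₁, hK₁, hKA₁, hf₁, hN₁⟩ := structure_of_extremal_alt hn h7 N₁ hA₁ h₁ hc₁
  obtain ⟨c₂, K₂, h3₂, hK₂, hKA₂, hf₂, hN₂⟩ := structure_of_extremal_alt hn h7 N₂ hA₂ h₂ hc₂
  obtain ⟨g, hgA, hg1, hg2⟩ :=
    conj_of_data_alt (by omega) c₁ c₂ K₁ K₂ h3₁ h3₂ hK₁ hK₂ hKA₁ hKA₂ hf₁ hf₂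
  refine ⟨g, hgA, ?_⟩
  rw [hN₁, hN₂, Subgroup.map_sup, MonoidHom.map_zpowers, hg2]
  congr 2
  rw [← hg1]
  rfl


theorem sign_emb (n : ℕ) (hn : 3 ≤ n) (a : Perm (Fin (n - 3))) (b : Perm (ZMod 3)) :
    Perm.sign (emb n hn (a, b)) = Perm.sign a * Perm.sign b := by
  unfold emb
  rw [MonoidHom.comp_apply, Equiv.Perm.sumCongrHom_apply]
  show Perm.sign (Equiv.permCongr _ (Equiv.Perm.sumCongr a b)) = _
  rw [Equiv.Perm.sign_permCongr, Equiv.Perm.sign_sumCongr]

theorem sign_tau (z : Multiplicative (ZMod 3)) : Perm.sign (tau z) = 1 := by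
  have h1 : z ^ 3 = 1 := by
    have := pow_card_eq_one' (x := z)
    have hc : Nat.card (Multiplicative (ZMod 3)) = 3 := by
      rw [Nat.card_eq_fintype_card]; rfl
    rwa [hc] at this
  have h2 : (Perm.sign (tau z)) ^ 3 = 1 := by
    rw [← map_pow, ← map_pow, h1, map_one, map_one]
  rcases Int.units_eq_one_or (Perm.sign (tau z)) with h | h
  · exact h
  · rw [h] at h2
    exact absurd h2 (by decide)

theorem exists_extremal_alt (n : ℕ) (hn : 3 ≤ n)
    (P : Sylow 2 (alternatingGroup (Fin (n - 3)))) :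
    ∃ M : Subgroup (alternatingGroup (Fin n)), Group.IsNilpotent M ∧
      Nat.card M = 3 * Nat.card P ∧
      Nonempty (M ≃* (↥(P : Subgroup (alternatingGroup (Fin (n - 3)))) ×
        Multiplicative (ZMod 3))) := by
  set ι : ↥(P : Subgroup (alternatingGroup (Fin (n - 3)))) →* Perm (Fin (n - 3)) :=
    (alternatingGroup (Fin (n - 3))).subtype.comp
      (P : Subgroup (alternatingGroup (Fin (n - 3)))).subtype with hι
  have hι_inj : Function.Injective ι := by
    intro u v huv
    exact Subtype.ext (Subtype.ext huv)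
  set ψ₀ : ↥(P : Subgroup (alternatingGroup (Fin (n - 3)))) × Multiplicative (ZMod 3) →*
      Perm (Fin n) := (emb n hn).comp (MonoidHom.prodMap ι tau) with hψ₀
  have hinj₀ : Function.Injective ψ₀ := by
    rw [hψ₀]
    refine (emb_injective n hn).comp ?_
    intro ⟨a, b⟩ ⟨a', b'⟩ h
    simp only [MonoidHom.prodMap] at h
    have h1 := (Prod.mk.injEq _ _ _ _).mp h
    simp only [MonoidHom.coe_comp, Function.comp, MonoidHom.coe_fst, MonoidHom.coe_snd] at h1
    exact Prod.ext (hι_inj h1.1) (tau_injective h1.2)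
  have hmem : ∀ u, ψ₀ u ∈ alternatingGroup (Fin n) := by
    rintro ⟨a, b⟩
    rw [Equiv.Perm.mem_alternatingGroup]
    show Perm.sign (emb n hn (ι a, tau b)) = 1
    rw [sign_emb, sign_tau, mul_one]
    exact Equiv.Perm.mem_alternatingGroup.mp (a : alternatingGroup (Fin (n - 3))).2
  set ψ : ↥(P : Subgroup (alternatingGroup (Fin (n - 3)))) × Multiplicative (ZMod 3) →*
      alternatingGroup (Fin n) := ψ₀.codRestrict (alternatingGroup (Fin n)) hmem with hψ
  have hinj : Function.Injective ψ := by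
    intro u v huv
    exact hinj₀ (congrArg Subtype.val huv)
  have e : ↥(P : Subgroup (alternatingGroup (Fin (n - 3)))) × Multiplicative (ZMod 3) ≃*
      ψ.range := MonoidHom.ofInjective hinj
  have : Group.IsNilpotent ↥(P : Subgroup (alternatingGroup (Fin (n - 3)))) := P.2.isNilpotent
  refine ⟨ψ.range, Group.nilpotent_of_mulEquiv e, ?_, ⟨e.symm⟩⟩
  rw [← Nat.card_congr e.toEquiv, Nat.card_prod]
  have : Nat.card (Multiplicative (ZMod 3)) = 3 := by
    rw [Nat.card_eq_fintype_card]; rfl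
  rw [this, mul_comm]

theorem main_alt (n : ℕ) (hn : n % 4 = 3) (h7 : 7 ≤ n)
    (P : Sylow 2 (alternatingGroup (Fin (n - 3)))) :
    (∀ N : Subgroup (alternatingGroup (Fin n)), Group.IsNilpotent N →
      Nat.card N ≤ 3 * Nat.card P) ∧
    (∃ M : Subgroup (alternatingGroup (Fin n)), Group.IsNilpotent M ∧
      Nat.card M = 3 * Nat.card P ∧
      Nonempty (M ≃* (↥(P : Subgroup (alternatingGroup (Fin (n - 3)))) ×
        Multiplicative (ZMod 3)))) ∧
    (∀ N₁ N₂ : Subgroup (alternatingGroup (Fin n)), Group.IsNilpotent N₁ →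
      Group.IsNilpotent N₂ → Nat.card N₁ = 3 * Nat.card P → Nat.card N₂ = 3 * Nat.card P →
      ∃ g : alternatingGroup (Fin n), N₂ = N₁.map (MulAut.conj g).toMonoidHom) := by
  have hP : 2 * Nat.card P = B (n - 3) := two_mul_card_sylow_alt (n - 3) (by omega) P
  have hexc : ¬ Exc n := by unfold Exc; omega
  have hG' : 2 * G' n = 3 * B (n - 3) := by
    rw [two_mul_G' hexc]
    unfold G; rw [if_pos hn]
  refine ⟨?_, exists_extremal_alt n (by omega) P, ?_⟩
  · intro N hN
    have heven : ∀ t : N, Perm.sign (MulAction.toPerm t : Perm (Fin n)) = 1 := by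
      intro t
      have h1 : (MulAction.toPerm t : Perm (Fin n)) =
          ((t : alternatingGroup (Fin n)) : Perm (Fin n)) := by
        ext x; rfl
      rw [h1]
      exact Equiv.Perm.mem_alternatingGroup.mp (t : alternatingGroup (Fin n)).2
    have h1 := card_le_G'_of_even n (Fin n) (Fintype.card_fin n) N hN heven
    omega
  · intro N₁ N₂ h₁ h₂ hc₁ hc₂
    have hmapcard : ∀ N : Subgroup (alternatingGroup (Fin n)),
        Nat.card (N.map (alternatingGroup (Fin n)).subtype) = Nat.card N := fun N =>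
      Subgroup.card_map_of_injective (alternatingGroup (Fin n)).subtype_injective
    have hnil : ∀ N : Subgroup (alternatingGroup (Fin n)), Group.IsNilpotent N →
        Group.IsNilpotent (N.map (alternatingGroup (Fin n)).subtype) :=
      fun N hN => Group.nilpotent_of_mulEquiv
        (N.equivMapOfInjective (alternatingGroup (Fin n)).subtype
          (alternatingGroup (Fin n)).subtype_injective)
    obtain ⟨g, hgA, hg⟩ := conj_of_extremal_alt hn h7
      (N₁.map (alternatingGroup (Fin n)).subtype) (N₂.map (alternatingGroup (Fin n)).subtype)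
      (Subgroup.map_subtype_le _) (Subgroup.map_subtype_le _) (hnil N₁ h₁) (hnil N₂ h₂)
      (by rw [hmapcard, hc₁]; omega) (by rw [hmapcard, hc₂]; omega)
    refine ⟨⟨g, hgA⟩, ?_⟩
    apply Subgroup.map_injective (alternatingGroup (Fin n)).subtype_injective
    rw [hg, Subgroup.map_map, Subgroup.map_map]
    congr 1

end Cfsg.Agent.Lib.Helper98.NilpAltExtremal
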