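import Mathlib
import Cfsg.Prelude.Def_SporCoxeter

/-!
# A presentation of `O₇(3)` on eight involutions

The Coxeter tree with the paths `b –3– c –3– d –3– e –3– f –3– g` and `d –3– h –3– i`, with the relations
`(d c b d e f d h i)^10 = 1` and `(b c d e f g h)^9 = 1`; these are the relations of the presented
Fischer group `Fi₂₂` which only involve `b, …, i`.
-/

set_option autoImplicit false

namespace Cfsg.Agent.Lib.Helper98.O73Def

/-- the generators -/
inductive Gen
  | b
  | c
  | d
  | e
  | f
  | g
  | h
  | i
  deriving DecidableEq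

/-- the generator b as a word -/ abbrev b : FreeGroup Gen := FreeGroup.of Gen.b
/-- the generator c as a word -/ abbrev c : FreeGroup Gen := FreeGroup.of Gen.c
/-- the generator d as a word -/ abbrev d : FreeGroup Gen := FreeGroup.of Gen.d
/-- the generator e as a word -/ abbrev e : FreeGroup Gen := FreeGroup.of Gen.e
/-- the generator f as a word -/ abbrev f : FreeGroup Gen := FreeGroup.of Gen.f
/-- the generator g as a word -/ abbrev g : FreeGroup Gen := FreeGroup.of Gen.g
/-- the generator h as a word -/ abbrev h : FreeGroup Gen := FreeGroup.of Gen.h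
/-- the generator i as a word -/ abbrev i : FreeGroup Gen := FreeGroup.of Gen.i

/-- the Coxeter tree -/
def edges : List (Gen × ℕ × Gen) :=
  [(.b, 3, .c), (.c, 3, .d), (.d, 3, .e), (.d, 3, .h), (.e, 3, .f), (.f, 3, .g), (.h, 3, .i)]

/-- the further relators -/
def extra : List (FreeGroup Gen) := [
  (d * c * b * d * e * f * d * h * i) ^ 10,
  (b * c * d * e * f * g * h) ^ 9 ]

/-- the presented group -/
abbrev O73 : Type := Cfsg.Spor.CoxPresented Gen edges extra

end Cfsg.Agent.Lib.Helper98.O73Def
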