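import Mathlib

/-! chunk literals of the coset enumeration certificate O73TC1 -/

namespace Cfsg.Agent.Lib.Helper98.O73TC1D

def entC0 : ℕ := 0x10000000000000001000000000000100002000000000000000000000001100000

def lgeC0 : ℕ := 0x2000020000

def repC0 : ℕ := 0x100000

end Cfsg.Agent.Lib.Helper98.O73TC1D
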