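import Mathlib
import Cfsg.Agent.Lib.Helper98.O73TC2D

/-! Coset enumeration certificate O73TC2: checks, part 0. -/

set_option autoImplicit false
set_option maxRecDepth 1000000

namespace Cfsg.Agent.Lib.Helper98.O73TC2S0

open Cfsg.Agent.Lib.Helper98.CosetCert Cfsg.Agent.Lib.Helper98.CosetCert2

open Cfsg.Agent.Lib.Helper98.O73TC2D

theorem seg0 : rangeOKF cert 0 4 = true := by decide +kernel

theorem nseg0 : nameRangeOKF cert 0 7 = true := by decide +kernel

end Cfsg.Agent.Lib.Helper98.O73TC2S0
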