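import Mathlib

/-! chunk literals of the coset enumeration certificate O73TC4 -/

namespace Cfsg.Agent.Lib.Helper98.O73TC4D

def entC0 : ℕ := 0x19000160000030001c000000180001c0000020001c000000170001c0000010001c000000160001c0000000001c00000000000070001d300016000000140001600000200016000000150000f00000100016000000130001600000000016000000110000f0000030000f00000012000090000020000f00000000000060001910000f000000100000b0000000000f0000000d0000b0000030000b0000000f000060000020000b0000000c0000b0000010000b0000000e0000f0000000000b0000000a00009000003000090000000000005000152000090000000900009000001000090000000b000060000000000900000007000060000030000600000000000040001120000600000008000040000010000600000000000030000d000006000000060000000000300004000000050000400000200004000000000000200009100004000000040000400000000004000000000000100005300000000000030000000000200000000000020000000000100000000000010000000000000000000000000000000001400000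

def lgeC0 : ℕ := 0x20000200006000001f0001c000e000001e0001c000b000001d0001c0006000001a0001a0002000001b0001600080000019000160002000001700017000400000180000f000500000150000b0004000001300013000400000110000f000400000140000b000d00000120000b0009000000d0000d00000000010000090005000000e000090001000000a0000a0007000000c00006000a0000008000080006000000700004000e0000005000040006000000300000001200000020000000110000001000000010

def repC0 : ℕ := 0x1c000160000f0000b00009000060000400000

end Cfsg.Agent.Lib.Helper98.O73TC4D
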