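import Mathlib
import Cfsg.Agent.Lib.Helper98.O73TC7D
import Cfsg.Agent.Lib.Helper98.O73TC7S0

/-! Coset enumeration certificate, level 7: index at most 243. -/

set_option autoImplicit false
set_option maxRecDepth 1000000

namespace Cfsg.Agent.Lib.Helper98.O73TC7

open Cfsg.Agent.Lib.Helper98.CosetCert Cfsg.Agent.Lib.Helper98.CosetCert2

open Cfsg.Agent.Lib.Helper98.O73TC7D

theorem log_ok : LogUpTo cert cert.nlog :=
  ((((logUpTo_zero cert).addF O73TC7S0.seg0 (by decide : 4774 = 0 + 4774)).addF O73TC7S0.seg1 (by decide : 8992 = 4774 + 4218)).addF O73TC7S0.seg2 (by decide : 9621 = 8992 + 629)).addF O73TC7S0.seg3 (by decide : 10111 = 9621 + 490)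

theorem names_ok : NamesUpTo cert cert.M :=
  (namesUpTo_zero cert).addF O73TC7S0.nseg0 (by decide : 10354 = 0 + 10354)

end Cfsg.Agent.Lib.Helper98.O73TC7
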