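import Mathlib
import Cfsg.Agent.Lib.Helper98.O73TC8C0
import Cfsg.Agent.Lib.Helper98.CosetCert2
import Cfsg.Agent.Lib.Helper98.O73Pres

/-! Coset enumeration certificate, level 8: index at most 364; data. -/

set_option autoImplicit false
set_option maxRecDepth 1000000

namespace Cfsg.Agent.Lib.Helper98.O73TC8D

open Cfsg.Agent.Lib.Helper98.CosetCert Cfsg.Agent.Lib.Helper98.CosetCert2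

open Cfsg.Agent.Lib.Helper98.O73Pres

def entN0 (c : ℕ) : ℕ := (Bool.rec (motive := fun _ => ℕ) (Bool.rec (motive := fun _ => ℕ) entC0 entC1 (Nat.ble 1 c)) (Bool.rec (motive := fun _ => ℕ) entC2 entC3 (Nat.ble 3 c)) (Nat.ble 2 c))

def entN1 (c : ℕ) : ℕ := (Bool.rec (motive := fun _ => ℕ) (Bool.rec (motive := fun _ => ℕ) entC4 entC5 (Nat.ble 5 c)) (Bool.rec (motive := fun _ => ℕ) entC6 entC7 (Nat.ble 7 c)) (Nat.ble 6 c))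

def entN2 (c : ℕ) : ℕ := (Bool.rec (motive := fun _ => ℕ) (Bool.rec (motive := fun _ => ℕ) entC8 entC9 (Nat.ble 9 c)) (Bool.rec (motive := fun _ => ℕ) entC10 entC11 (Nat.ble 11 c)) (Nat.ble 10 c))

def entN3 (c : ℕ) : ℕ := (Bool.rec (motive := fun _ => ℕ) (Bool.rec (motive := fun _ => ℕ) (entN0 c) (entN1 c) (Nat.ble 4 c)) (Bool.rec (motive := fun _ => ℕ) (entN2 c) entC12 (Nat.ble 12 c)) (Nat.ble 8 c))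

def entSel (c : ℕ) : ℕ := (entN3 c)

def entRaw (u : ℕ) : ℕ :=
  Nat.land (Nat.shiftRight (strict entSel (Nat.shiftRight u 10)) (Nat.mul 96 (Nat.land u 1023))) 79228162514264337593543950335

def ent (u : ℕ) : ℕ := strict entRaw u

def lgeN0 (c : ℕ) : ℕ := (Bool.rec (motive := fun _ => ℕ) (Bool.rec (motive := fun _ => ℕ) lgeC0 lgeC1 (Nat.ble 1 c)) (Bool.rec (motive := fun _ => ℕ) lgeC2 lgeC3 (Nat.ble 3 c)) (Nat.ble 2 c))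

def lgeN1 (c : ℕ) : ℕ := (Bool.rec (motive := fun _ => ℕ) (Bool.rec (motive := fun _ => ℕ) lgeC4 lgeC5 (Nat.ble 5 c)) (Bool.rec (motive := fun _ => ℕ) lgeC6 lgeC7 (Nat.ble 7 c)) (Nat.ble 6 c))

def lgeN2 (c : ℕ) : ℕ := (Bool.rec (motive := fun _ => ℕ) (Bool.rec (motive := fun _ => ℕ) lgeC8 lgeC9 (Nat.ble 9 c)) (Bool.rec (motive := fun _ => ℕ) lgeC10 lgeC11 (Nat.ble 11 c)) (Nat.ble 10 c))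

def lgeN3 (c : ℕ) : ℕ := (Bool.rec (motive := fun _ => ℕ) (Bool.rec (motive := fun _ => ℕ) (lgeN0 c) (lgeN1 c) (Nat.ble 4 c)) (Bool.rec (motive := fun _ => ℕ) (lgeN2 c) lgeC12 (Nat.ble 12 c)) (Nat.ble 8 c))

def lgeSel (c : ℕ) : ℕ := (lgeN3 c)

def lgeRaw (u : ℕ) : ℕ :=
  Nat.land (Nat.shiftRight (strict lgeSel (Nat.shiftRight u 10)) (Nat.mul 64 (Nat.land u 1023))) 18446744073709551615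

def lge (u : ℕ) : ℕ := strict lgeRaw u

def repSel (c : ℕ) : ℕ := repC0

def repRaw (u : ℕ) : ℕ :=
  Nat.land (Nat.shiftRight (strict repSel (Nat.shiftRight u 10)) (Nat.mul 20 (Nat.land u 1023))) 1048575

def rep (u : ℕ) : ℕ := strict repRaw u

def par (v : ℕ) : ℕ := Nat.land (ent v) 1048575

def lab (v : ℕ) : ℕ := Nat.land (Nat.shiftRight (ent v) 20) 15

def cb (v : ℕ) : ℕ := Nat.land (Nat.shiftRight (ent v) 24) 1048575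

def link (v : ℕ) : ℕ := Nat.land (Nat.shiftRight (ent v) 44) 1048575

def lt1 (v : ℕ) : ℕ := Nat.shiftRight (ent v) 64

def logw (i : ℕ) : ℕ := Nat.land (lge i) 65535

def logc (i : ℕ) : ℕ := Nat.land (Nat.shiftRight (lge i) 16) 1048575

def logb (i : ℕ) : ℕ := Nat.shiftRight (lge i) 36

def rwords : List (List (List ℕ)) := [
  [[0, 0], [0, 1, 0, 1, 0, 1], [1, 0, 1, 0, 1, 0], [0, 2, 0, 2], [2, 0, 2, 0], [0, 3, 0, 3], [3, 0, 3, 0], [0, 4, 0, 4], [4, 0, 4, 0], [0, 5, 0, 5], [5, 0, 5, 0], [0, 6, 0, 6, 0, 6], [6, 0, 6, 0, 6, 0], [0, 7, 0, 7], [7, 0, 7, 0], [1, 1]],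
  [[1, 2, 1, 2, 1, 2], [2, 1, 2, 1, 2, 1], [1, 3, 1, 3, 1, 3], [3, 1, 3, 1, 3, 1], [1, 4, 1, 4], [4, 1, 4, 1], [1, 5, 1, 5], [5, 1, 5, 1], [1, 6, 1, 6], [6, 1, 6, 1], [1, 7, 1, 7], [7, 1, 7, 1], [2, 2], [2, 3, 2, 3], [3, 2, 3, 2], [2, 4, 2, 4, 2, 4]],
  [[4, 2, 4, 2, 4, 2], [2, 5, 2, 5], [5, 2, 5, 2], [2, 6, 2, 6], [6, 2, 6, 2], [2, 7, 2, 7], [7, 2, 7, 2], [3, 3], [3, 4, 3, 4], [4, 3, 4, 3], [3, 5, 3, 5, 3, 5], [5, 3, 5, 3, 5, 3], [3, 6, 3, 6], [6, 3, 6, 3], [3, 7, 3, 7], [7, 3, 7, 3]],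
  [[4, 4], [4, 5, 4, 5], [5, 4, 5, 4], [4, 6, 4, 6], [6, 4, 6, 4], [4, 7, 4, 7], [7, 4, 7, 4], [5, 5], [5, 6, 5, 6], [6, 5, 6, 5], [5, 7, 5, 7, 5, 7], [7, 5, 7, 5, 7, 5], [6, 6], [6, 7, 6, 7], [7, 6, 7, 6], [7, 7]],
  [[1, 2, 4, 1, 3, 5, 1, 0, 6, 1, 2, 4, 1, 3, 5, 1, 0, 6, 1, 2, 4, 1, 3, 5, 1, 0, 6, 1, 2, 4, 1, 3, 5, 1, 0, 6, 1, 2, 4, 1, 3, 5, 1, 0, 6, 1, 2, 4, 1, 3, 5, 1, 0, 6, 1, 2, 4, 1, 3, 5, 1, 0, 6, 1, 2, 4, 1, 3, 5, 1, 0, 6, 1, 2, 4, 1, 3, 5, 1, 0, 6, 1, 2, 4, 1, 3, 5, 1, 0, 6], [2, 4, 1, 3, 5, 1, 0, 6, 1, 2, 4, 1, 3, 5, 1, 0, 6, 1, 2, 4, 1, 3, 5, 1, 0, 6, 1, 2, 4, 1, 3, 5, 1, 0, 6, 1, 2, 4, 1, 3, 5, 1, 0, 6, 1, 2, 4, 1, 3, 5, 1, 0, 6, 1, 2, 4, 1, 3, 5, 1, 0, 6, 1, 2, 4, 1, 3, 5, 1, 0, 6, 1, 2, 4, 1,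 3, 5, 1, 0, 6, 1, 2, 4, 1, 3, 5, 1, 0, 6, 1], [4, 1, 3, 5, 1, 0, 6, 1, 2, 4, 1, 3, 5, 1, 0, 6, 1, 2, 4, 1, 3, 5, 1, 0, 6, 1, 2, 4, 1, 3, 5, 1, 0, 6, 1, 2, 4, 1, 3, 5, 1, 0, 6, 1, 2, 4, 1, 3, 5, 1, 0, 6, 1, 2, 4, 1, 3, 5, 1, 0, 6, 1, 2, 4, 1, 3, 5, 1, 0, 6, 1, 2, 4, 1, 3, 5, 1, 0, 6, 1, 2, 4, 1, 3, 5, 1, 0, 6, 1, 2], [1, 3, 5, 1, 0, 6, 1, 2, 4, 1, 3, 5, 1, 0, 6, 1, 2, 4, 1, 3, 5, 1, 0, 6, 1, 2, 4, 1, 3, 5, 1, 0, 6, 1, 2, 4, 1, 3, 5, 1, 0, 6, 1, 2, 4, 1, 3, 5, 1, 0, 6, 1, 2, 4, 1, 3, 5, 1, 0, 6, 1, 2, 4, 1, 3, 5, 1, 0, 6, 1, 2, 4, 1, 3, 5, 1, 0, 6, 1, 2, 4, 1, 3, 5, 1, 0, 6, 1, 2, 4], [3, 5, 1, 0, 6, 1, 2, 4, 1, 3, 5, 1, 0, 6, 1, 2, 4, 1, 3, 5, 1, 0, 6, 1, 2, 4, 1, 3, 5, 1, 0, 6, 1, 2, 4, 1, 3, 5, 1, 0, 6, 1,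 2, 4, 1, 3, 5, 1, 0, 6, 1, 2, 4, 1, 3, 5, 1, 0, 6, 1, 2, 4, 1, 3, 5, 1, 0, 6, 1, 2, 4, 1, 3, 5, 1, 0, 6, 1, 2, 4, 1, 3, 5, 1, 0, 6, 1, 2, 4, 1], [5, 1, 0, 6, 1, 2, 4, 1, 3, 5, 1, 0, 6, 1, 2, 4, 1, 3, 5, 1, 0, 6, 1, 2, 4, 1, 3, 5, 1, 0, 6, 1, 2, 4, 1, 3, 5, 1, 0, 6, 1, 2, 4, 1, 3, 5, 1, 0, 6, 1, 2, 4, 1, 3, 5, 1, 0, 6, 1, 2, 4, 1, 3, 5, 1, 0, 6, 1, 2, 4, 1, 3, 5, 1, 0, 6, 1, 2, 4, 1, 3, 5, 1, 0, 6, 1, 2, 4, 1, 3], [1, 0, 6, 1, 2, 4, 1, 3, 5, 1, 0, 6, 1, 2, 4, 1, 3, 5, 1, 0, 6, 1, 2, 4, 1, 3, 5, 1, 0, 6, 1, 2, 4, 1, 3, 5, 1, 0, 6, 1, 2, 4, 1, 3, 5, 1, 0, 6, 1, 2, 4, 1, 3, 5, 1, 0, 6, 1, 2, 4, 1, 3, 5, 1, 0, 6, 1, 2, 4, 1, 3, 5, 1, 0, 6, 1, 2, 4, 1, 3, 5, 1, 0, 6, 1, 2, 4, 1, 3, 5], [0, 6, 1, 2, 4, 1, 3, 5, 1,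 0, 6, 1, 2, 4, 1, 3, 5, 1, 0, 6, 1, 2, 4, 1, 3, 5, 1, 0, 6, 1, 2, 4, 1, 3, 5, 1, 0, 6, 1, 2, 4, 1, 3, 5, 1, 0, 6, 1, 2, 4, 1, 3, 5, 1, 0, 6, 1, 2, 4, 1, 3, 5, 1, 0, 6, 1, 2, 4, 1, 3, 5, 1, 0, 6, 1, 2, 4, 1, 3, 5, 1, 0, 6, 1, 2, 4, 1, 3, 5, 1], [6, 1, 2, 4, 1, 3, 5, 1, 0, 6, 1, 2, 4, 1, 3, 5, 1, 0, 6, 1, 2, 4, 1, 3, 5, 1, 0, 6, 1, 2, 4, 1, 3, 5, 1, 0, 6, 1, 2, 4, 1, 3, 5, 1, 0, 6, 1, 2, 4, 1, 3, 5, 1, 0, 6, 1, 2, 4, 1, 3, 5, 1, 0, 6, 1, 2, 4, 1, 3, 5, 1, 0, 6, 1, 2, 4, 1, 3, 5, 1, 0, 6, 1, 2, 4, 1, 3, 5, 1, 0], [6, 0, 1, 5, 3, 1, 4, 2, 1, 6, 0, 1, 5, 3, 1, 4, 2, 1, 6, 0, 1, 5, 3, 1, 4, 2, 1, 6, 0, 1, 5, 3, 1, 4, 2, 1, 6, 0, 1, 5, 3, 1, 4, 2, 1, 6, 0, 1, 5, 3, 1, 4, 2, 1, 6, 0, 1, 5, 3, 1, 4, 2, 1, 6, 0, 1, 5,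 3, 1, 4, 2, 1, 6, 0, 1, 5, 3, 1, 4, 2, 1, 6, 0, 1, 5, 3, 1, 4, 2, 1], [0, 1, 5, 3, 1, 4, 2, 1, 6, 0, 1, 5, 3, 1, 4, 2, 1, 6, 0, 1, 5, 3, 1, 4, 2, 1, 6, 0, 1, 5, 3, 1, 4, 2, 1, 6, 0, 1, 5, 3, 1, 4, 2, 1, 6, 0, 1, 5, 3, 1, 4, 2, 1, 6, 0, 1, 5, 3, 1, 4, 2, 1, 6, 0, 1, 5, 3, 1, 4, 2, 1, 6, 0, 1, 5, 3, 1, 4, 2, 1, 6, 0, 1, 5, 3, 1, 4, 2, 1, 6], [1, 5, 3, 1, 4, 2, 1, 6, 0, 1, 5, 3, 1, 4, 2, 1, 6, 0, 1, 5, 3, 1, 4, 2, 1, 6, 0, 1, 5, 3, 1, 4, 2, 1, 6, 0, 1, 5, 3, 1, 4, 2, 1, 6, 0, 1, 5, 3, 1, 4, 2, 1, 6, 0, 1, 5, 3, 1, 4, 2, 1, 6, 0, 1, 5, 3, 1, 4, 2, 1, 6, 0, 1, 5, 3, 1, 4, 2, 1, 6, 0, 1, 5, 3, 1, 4, 2, 1, 6, 0], [5, 3, 1, 4, 2, 1, 6, 0, 1, 5, 3, 1, 4, 2, 1, 6, 0, 1, 5, 3, 1, 4, 2, 1, 6, 0, 1, 5, 3, 1, 4, 2, 1, 6,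 0, 1, 5, 3, 1, 4, 2, 1, 6, 0, 1, 5, 3, 1, 4, 2, 1, 6, 0, 1, 5, 3, 1, 4, 2, 1, 6, 0, 1, 5, 3, 1, 4, 2, 1, 6, 0, 1, 5, 3, 1, 4, 2, 1, 6, 0, 1, 5, 3, 1, 4, 2, 1, 6, 0, 1], [3, 1, 4, 2, 1, 6, 0, 1, 5, 3, 1, 4, 2, 1, 6, 0, 1, 5, 3, 1, 4, 2, 1, 6, 0, 1, 5, 3, 1, 4, 2, 1, 6, 0, 1, 5, 3, 1, 4, 2, 1, 6, 0, 1, 5, 3, 1, 4, 2, 1, 6, 0, 1, 5, 3, 1, 4, 2, 1, 6, 0, 1, 5, 3, 1, 4, 2, 1, 6, 0, 1, 5, 3, 1, 4, 2, 1, 6, 0, 1, 5, 3, 1, 4, 2, 1, 6, 0, 1, 5], [1, 4, 2, 1, 6, 0, 1, 5, 3, 1, 4, 2, 1, 6, 0, 1, 5, 3, 1, 4, 2, 1, 6, 0, 1, 5, 3, 1, 4, 2, 1, 6, 0, 1, 5, 3, 1, 4, 2, 1, 6, 0, 1, 5, 3, 1, 4, 2, 1, 6, 0, 1, 5, 3, 1, 4, 2, 1, 6, 0, 1, 5, 3, 1, 4, 2, 1, 6, 0, 1, 5, 3, 1, 4, 2, 1, 6, 0, 1, 5, 3, 1, 4, 2, 1, 6, 0, 1, 5, 3], [4,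 2, 1, 6, 0, 1, 5, 3, 1, 4, 2, 1, 6, 0, 1, 5, 3, 1, 4, 2, 1, 6, 0, 1, 5, 3, 1, 4, 2, 1, 6, 0, 1, 5, 3, 1, 4, 2, 1, 6, 0, 1, 5, 3, 1, 4, 2, 1, 6, 0, 1, 5, 3, 1, 4, 2, 1, 6, 0, 1, 5, 3, 1, 4, 2, 1, 6, 0, 1, 5, 3, 1, 4, 2, 1, 6, 0, 1, 5, 3, 1, 4, 2, 1, 6, 0, 1, 5, 3, 1]],
  [[2, 1, 6, 0, 1, 5, 3, 1, 4, 2, 1, 6, 0, 1, 5, 3, 1, 4, 2, 1, 6, 0, 1, 5, 3, 1, 4, 2, 1, 6, 0, 1, 5, 3, 1, 4, 2, 1, 6, 0, 1, 5, 3, 1, 4, 2, 1, 6, 0, 1, 5, 3, 1, 4, 2, 1, 6, 0, 1, 5, 3, 1, 4, 2, 1, 6, 0, 1, 5, 3, 1, 4, 2, 1, 6, 0, 1, 5, 3, 1, 4, 2, 1, 6, 0, 1, 5, 3, 1, 4], [1, 6, 0, 1, 5, 3, 1, 4, 2, 1, 6, 0, 1, 5, 3, 1, 4, 2, 1, 6, 0, 1, 5, 3, 1, 4, 2, 1, 6, 0, 1, 5, 3, 1, 4, 2, 1, 6, 0, 1, 5, 3, 1, 4, 2, 1, 6, 0, 1, 5, 3, 1, 4, 2, 1, 6, 0, 1,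 5, 3, 1, 4, 2, 1, 6, 0, 1, 5, 3, 1, 4, 2, 1, 6, 0, 1, 5, 3, 1, 4, 2, 1, 6, 0, 1, 5, 3, 1, 4, 2], [4, 2, 1, 3, 5, 7, 0, 4, 2, 1, 3, 5, 7, 0, 4, 2, 1, 3, 5, 7, 0, 4, 2, 1, 3, 5, 7, 0, 4, 2, 1, 3, 5, 7, 0, 4, 2, 1, 3, 5, 7, 0, 4, 2, 1, 3, 5, 7, 0, 4, 2, 1, 3, 5, 7, 0, 4, 2, 1, 3, 5, 7, 0], [2, 1, 3, 5, 7, 0, 4, 2, 1, 3, 5, 7, 0, 4, 2, 1, 3, 5, 7, 0, 4, 2, 1, 3, 5, 7, 0, 4, 2, 1, 3, 5, 7, 0, 4, 2, 1, 3, 5, 7, 0, 4, 2, 1, 3, 5, 7, 0, 4, 2, 1, 3, 5, 7, 0, 4, 2, 1, 3, 5, 7, 0, 4], [1, 3, 5, 7, 0, 4, 2, 1, 3, 5, 7, 0, 4, 2, 1, 3, 5, 7, 0, 4, 2, 1, 3, 5, 7, 0, 4, 2, 1, 3, 5, 7, 0, 4, 2, 1, 3, 5, 7, 0, 4, 2, 1, 3, 5, 7, 0, 4, 2, 1, 3, 5, 7, 0, 4, 2, 1, 3, 5, 7, 0, 4, 2], [3, 5, 7, 0, 4, 2, 1, 3, 5, 7, 0, 4, 2, 1, 3, 5,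 7, 0, 4, 2, 1, 3, 5, 7, 0, 4, 2, 1, 3, 5, 7, 0, 4, 2, 1, 3, 5, 7, 0, 4, 2, 1, 3, 5, 7, 0, 4, 2, 1, 3, 5, 7, 0, 4, 2, 1, 3, 5, 7, 0, 4, 2, 1], [5, 7, 0, 4, 2, 1, 3, 5, 7, 0, 4, 2, 1, 3, 5, 7, 0, 4, 2, 1, 3, 5, 7, 0, 4, 2, 1, 3, 5, 7, 0, 4, 2, 1, 3, 5, 7, 0, 4, 2, 1, 3, 5, 7, 0, 4, 2, 1, 3, 5, 7, 0, 4, 2, 1, 3, 5, 7, 0, 4, 2, 1, 3], [7, 0, 4, 2, 1, 3, 5, 7, 0, 4, 2, 1, 3, 5, 7, 0, 4, 2, 1, 3, 5, 7, 0, 4, 2, 1, 3, 5, 7, 0, 4, 2, 1, 3, 5, 7, 0, 4, 2, 1, 3, 5, 7, 0, 4, 2, 1, 3, 5, 7, 0, 4, 2, 1, 3, 5, 7, 0, 4, 2, 1, 3, 5], [0, 4, 2, 1, 3, 5, 7, 0, 4, 2, 1, 3, 5, 7, 0, 4, 2, 1, 3, 5, 7, 0, 4, 2, 1, 3, 5, 7, 0, 4, 2, 1, 3, 5, 7, 0, 4, 2, 1, 3, 5, 7, 0, 4, 2, 1, 3, 5, 7, 0, 4, 2, 1, 3, 5, 7, 0, 4, 2, 1, 3, 5, 7], [0,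 7, 5, 3, 1, 2, 4, 0, 7, 5, 3, 1, 2, 4, 0, 7, 5, 3, 1, 2, 4, 0, 7, 5, 3, 1, 2, 4, 0, 7, 5, 3, 1, 2, 4, 0, 7, 5, 3, 1, 2, 4, 0, 7, 5, 3, 1, 2, 4, 0, 7, 5, 3, 1, 2, 4, 0, 7, 5, 3, 1, 2, 4], [7, 5, 3, 1, 2, 4, 0, 7, 5, 3, 1, 2, 4, 0, 7, 5, 3, 1, 2, 4, 0, 7, 5, 3, 1, 2, 4, 0, 7, 5, 3, 1, 2, 4, 0, 7, 5, 3, 1, 2, 4, 0, 7, 5, 3, 1, 2, 4, 0, 7, 5, 3, 1, 2, 4, 0, 7, 5, 3, 1, 2, 4, 0], [5, 3, 1, 2, 4, 0, 7, 5, 3, 1, 2, 4, 0, 7, 5, 3, 1, 2, 4, 0, 7, 5, 3, 1, 2, 4, 0, 7, 5, 3, 1, 2, 4, 0, 7, 5, 3, 1, 2, 4, 0, 7, 5, 3, 1, 2, 4, 0, 7, 5, 3, 1, 2, 4, 0, 7, 5, 3, 1, 2, 4, 0, 7], [3, 1, 2, 4, 0, 7, 5, 3, 1, 2, 4, 0, 7, 5, 3, 1, 2, 4, 0, 7, 5, 3, 1, 2, 4, 0, 7, 5, 3, 1, 2, 4, 0, 7, 5, 3, 1, 2, 4, 0, 7, 5, 3, 1, 2, 4, 0, 7, 5,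 3, 1, 2, 4, 0, 7, 5, 3, 1, 2, 4, 0, 7, 5], [1, 2, 4, 0, 7, 5, 3, 1, 2, 4, 0, 7, 5, 3, 1, 2, 4, 0, 7, 5, 3, 1, 2, 4, 0, 7, 5, 3, 1, 2, 4, 0, 7, 5, 3, 1, 2, 4, 0, 7, 5, 3, 1, 2, 4, 0, 7, 5, 3, 1, 2, 4, 0, 7, 5, 3, 1, 2, 4, 0, 7, 5, 3], [2, 4, 0, 7, 5, 3, 1, 2, 4, 0, 7, 5, 3, 1, 2, 4, 0, 7, 5, 3, 1, 2, 4, 0, 7, 5, 3, 1, 2, 4, 0, 7, 5, 3, 1, 2, 4, 0, 7, 5, 3, 1, 2, 4, 0, 7, 5, 3, 1, 2, 4, 0, 7, 5, 3, 1, 2, 4, 0, 7, 5, 3, 1], [4, 0, 7, 5, 3, 1, 2, 4, 0, 7, 5, 3, 1, 2, 4, 0, 7, 5, 3, 1, 2, 4, 0, 7, 5, 3, 1, 2, 4, 0, 7, 5, 3, 1, 2, 4, 0, 7, 5, 3, 1, 2, 4, 0, 7, 5, 3, 1, 2, 4, 0, 7, 5, 3, 1, 2, 4, 0, 7, 5, 3, 1, 2]]]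

def swords : List (List ℕ) := [[0], [1], [2], [3], [4], [5], [6]]

def srcs : List (ℕ × ℕ × Bool) := [(0, 0, false), (1, 0, false), (1, 1, false), (2, 0, false), (2, 1, false), (3, 0, false), (3, 1, false), (4, 0, false), (4, 1, false), (5, 0, false), (5, 1, false), (6, 0, false), (6, 1, false), (7, 0, false), (7, 1, false), (9, 0, false), (10, 0, false), (10, 1, false), (11, 0, false), (11, 1, false), (12, 0, false), (12, 1, false), (13, 0, false), (13, 1, false), (14, 0, false), (14, 1, false), (15, 0, false), (15, 1, false), (18, 0, false), (19, 0, false), (19, 1, false), (20, 0, false), (20, 1, false), (21, 0, false), (21, 1, false), (22, 0, false), (22, 1, false), (23, 0, false), (23, 1, false), (27, 0,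 false), (28, 0, false), (28, 1, false), (29, 0, false), (29, 1, false), (30, 0, false), (30, 1, false), (31, 0, false), (31, 1, false), (36, 0, false), (37, 0, false), (37, 1, false), (38, 0, false), (38, 1, false), (39, 0, false), (39, 1, false), (45, 0, false), (46, 0, false), (46, 1, false), (47, 0, false), (47, 1, false), (54, 0, false), (55, 0, false), (55, 1, false), (63, 0, false), (64, 0, false), (64, 1, false), (64, 2, false), (64, 3, false), (64, 4, false), (64, 5, false), (64, 6, false), (64, 7, false), (64, 8, false), (64, 0, true), (64, 1, true), (64, 2, true), (64, 3, true), (64, 4, true), (64, 5, true), (64, 6, true), (64, 7, true), (64, 8, true), (65, 0, false), (65, 1, false), (65, 2, false),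 (65, 3, false), (65, 4, false), (65, 5, false), (65, 6, false), (65, 0, true), (65, 1, true), (65, 2, true), (65, 3, true), (65, 4, true), (65, 5, true), (65, 6, true)]

def cert : TCert where
  k := 8
  M := 12745
  n := 364
  par := par
  lab := lab
  cb := cb
  link := link
  idx := link
  rep := rep
  rwords := rwords
  swords := swords
  nrw := 96
  nlog := 12381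
  logw := logw
  logc := logc
  logb := logb
  lt1 := lt1

theorem rwords_src : rwords.flatten = srcs.map pres.srcWord := by decide +kernel

theorem wok : wordsOK cert.toCert = true := by decide +kernel

theorem head_ok : headOK cert = true := by decide +kernel

end Cfsg.Agent.Lib.Helper98.O73TC8D
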