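import Mathlib
import Cfsg.Agent.Lib.Helper98.O73TC8D

/-! Coset enumeration certificate O73TC8: checks, part 0. -/

set_option autoImplicit false
set_option maxRecDepth 1000000

namespace Cfsg.Agent.Lib.Helper98.O73TC8S0

open Cfsg.Agent.Lib.Helper98.CosetCert Cfsg.Agent.Lib.Helper98.CosetCert2

open Cfsg.Agent.Lib.Helper98.O73TC8D

theorem seg0 : rangeOKF cert 0 4804 = true := by decide +kernel

theorem seg1 : rangeOKF cert 4804 4754 = true := by decide +kernel

theorem seg2 : rangeOKF cert 9558 2090 = true := by decide +kernel

theorem seg3 : rangeOKF cert 11648 733 = true := by decide +kernel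

theorem nseg0 : nameRangeOKF cert 0 12242 = true := by decide +kernel

theorem nseg1 : nameRangeOKF cert 12242 503 = true := by decide +kernel

end Cfsg.Agent.Lib.Helper98.O73TC8S0
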