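import Mathlib
import Cfsg.Agent.Lib.Helper98.O73TC8D
import Cfsg.Agent.Lib.Helper98.O73TC8S0

/-! Coset enumeration certificate, level 8: index at most 364. -/

set_option autoImplicit false
set_option maxRecDepth 1000000

namespace Cfsg.Agent.Lib.Helper98.O73TC8

open Cfsg.Agent.Lib.Helper98.CosetCert Cfsg.Agent.Lib.Helper98.CosetCert2

open Cfsg.Agent.Lib.Helper98.O73TC8D

theorem log_ok : LogUpTo cert cert.nlog :=
  ((((logUpTo_zero cert).addF O73TC8S0.seg0 (by decide : 4804 = 0 + 4804)).addF O73TC8S0.seg1 (by decide : 9558 = 4804 + 4754)).addF O73TC8S0.seg2 (by decide : 11648 = 9558 + 2090)).addF O73TC8S0.seg3 (by decide : 12381 = 11648 + 733)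

theorem names_ok : NamesUpTo cert cert.M :=
  ((namesUpTo_zero cert).addF O73TC8S0.nseg0 (by decide : 12242 = 0 + 12242)).addF O73TC8S0.nseg1 (by decide : 12745 = 12242 + 503)

end Cfsg.Agent.Lib.Helper98.O73TC8
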