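import Mathlib
import Cfsg.Agent.Lib.Helper98.O73TC1
import Cfsg.Agent.Lib.Helper98.O73TC2
import Cfsg.Agent.Lib.Helper98.O73TC3
import Cfsg.Agent.Lib.Helper98.O73TC4
import Cfsg.Agent.Lib.Helper98.O73TC5
import Cfsg.Agent.Lib.Helper98.O73TC6
import Cfsg.Agent.Lib.Helper98.O73TC7
import Cfsg.Agent.Lib.Helper98.O73TC8
import Cfsg.Agent.Lib.Helper98.O73Model
import Cfsg.Agent.Lib.Helper98.CoxMain
import Cfsg.Agent.Lib.Helper98.CoxIso

/-!
# The presented group `O73` is simple of order `4585351680`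
-/

set_option autoImplicit false

namespace Cfsg.Agent.Lib.Helper98.O73Main

open Cfsg Cfsg.Spor MulAction
open Cfsg.Agent.Lib.Helper89 Cfsg.Agent.Lib.Helper89.TableChain2
open Cfsg.Agent.Lib.Helper98.CosetCert Cfsg.Agent.Lib.Helper98.CoxPres Cfsg.Agent.Lib.Helper98.CoxMain
open Cfsg.Agent.Lib.Helper98.PermChain Cfsg.Agent.Lib.Helper98.OrbitLower
open Cfsg.Agent.Lib.Helper98.PermCert Cfsg.Agent.Lib.Helper98.PermModel
open Cfsg.Agent.Lib.Helper98.O73Pres Cfsg.Agent.Lib.Helper98.O73Model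

/-! ### The upper bound -/

theorem b0 : Finite (Hk gP 0) ∧ Nat.card (Hk gP 0) ≤ 1 := by
  rw [Hk_zero]
  exact ⟨inferInstance, by simp⟩

theorem lvl1 (h0 : Finite (Hk gP 0)) :
    Finite (Hk gP 1) ∧ Nat.card (Hk gP 1) ≤ 2 * Nat.card (Hk gP 0) :=
  level_bound2 link wf O73TC1D.cert 0 O73TC1D.srcs (by decide) (by decide)
    O73TC1D.rwords_src (by decide) O73TC1D.wok O73TC1.log_ok O73TC1.names_ok
    O73TC1D.head_ok h0

theorem b1 : Finite (Hk gP 1) ∧ Nat.card (Hk gP 1) ≤ 2 := by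
  obtain ⟨h0, c0⟩ := b0
  obtain ⟨h, c⟩ := lvl1 h0
  exact ⟨h, le_trans c (Nat.mul_le_mul_left 2 c0)⟩

theorem lvl2 (h0 : Finite (Hk gP 1)) :
    Finite (Hk gP 2) ∧ Nat.card (Hk gP 2) ≤ 3 * Nat.card (Hk gP 1) :=
  level_bound2 link wf O73TC2D.cert 1 O73TC2D.srcs (by decide) (by decide)
    O73TC2D.rwords_src (by decide) O73TC2D.wok O73TC2.log_ok O73TC2.names_ok
    O73TC2D.head_ok h0

theorem b2 : Finite (Hk gP 2) ∧ Nat.card (Hk gP 2) ≤ 6 := by
  obtain ⟨h0, c0⟩ := b1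
  obtain ⟨h, c⟩ := lvl2 h0
  exact ⟨h, le_trans c (Nat.mul_le_mul_left 3 c0)⟩

theorem lvl3 (h0 : Finite (Hk gP 2)) :
    Finite (Hk gP 3) ∧ Nat.card (Hk gP 3) ≤ 4 * Nat.card (Hk gP 2) :=
  level_bound2 link wf O73TC3D.cert 2 O73TC3D.srcs (by decide) (by decide)
    O73TC3D.rwords_src (by decide) O73TC3D.wok O73TC3.log_ok O73TC3.names_ok
    O73TC3D.head_ok h0

theorem b3 : Finite (Hk gP 3) ∧ Nat.card (Hk gP 3) ≤ 24 := by
  obtain ⟨h0, c0⟩ := b2
  obtain ⟨h, c⟩ := lvl3 h0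
  exact ⟨h, le_trans c (Nat.mul_le_mul_left 4 c0)⟩

theorem lvl4 (h0 : Finite (Hk gP 3)) :
    Finite (Hk gP 4) ∧ Nat.card (Hk gP 4) ≤ 8 * Nat.card (Hk gP 3) :=
  level_bound2 link wf O73TC4D.cert 3 O73TC4D.srcs (by decide) (by decide)
    O73TC4D.rwords_src (by decide) O73TC4D.wok O73TC4.log_ok O73TC4.names_ok
    O73TC4D.head_ok h0

theorem b4 : Finite (Hk gP 4) ∧ Nat.card (Hk gP 4) ≤ 192 := by
  obtain ⟨h0, c0⟩ := b3
  obtain ⟨h, c⟩ := lvl4 h0
  exact ⟨h, le_trans c (Nat.mul_le_mul_left 8 c0)⟩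

theorem lvl5 (h0 : Finite (Hk gP 4)) :
    Finite (Hk gP 5) ∧ Nat.card (Hk gP 5) ≤ 10 * Nat.card (Hk gP 4) :=
  level_bound2 link wf O73TC5D.cert 4 O73TC5D.srcs (by decide) (by decide)
    O73TC5D.rwords_src (by decide) O73TC5D.wok O73TC5.log_ok O73TC5.names_ok
    O73TC5D.head_ok h0

theorem b5 : Finite (Hk gP 5) ∧ Nat.card (Hk gP 5) ≤ 1920 := by
  obtain ⟨h0, c0⟩ := b4
  obtain ⟨h, c⟩ := lvl5 h0
  exact ⟨h, le_trans c (Nat.mul_le_mul_left 10 c0)⟩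

theorem lvl6 (h0 : Finite (Hk gP 5)) :
    Finite (Hk gP 6) ∧ Nat.card (Hk gP 6) ≤ 27 * Nat.card (Hk gP 5) :=
  level_bound2 link wf O73TC6D.cert 5 O73TC6D.srcs (by decide) (by decide)
    O73TC6D.rwords_src (by decide) O73TC6D.wok O73TC6.log_ok O73TC6.names_ok
    O73TC6D.head_ok h0

theorem b6 : Finite (Hk gP 6) ∧ Nat.card (Hk gP 6) ≤ 51840 := by
  obtain ⟨h0, c0⟩ := b5
  obtain ⟨h, c⟩ := lvl6 h0
  exact ⟨h, le_trans c (Nat.mul_le_mul_left 27 c0)⟩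

theorem lvl7 (h0 : Finite (Hk gP 6)) :
    Finite (Hk gP 7) ∧ Nat.card (Hk gP 7) ≤ 243 * Nat.card (Hk gP 6) :=
  level_bound2 link wf O73TC7D.cert 6 O73TC7D.srcs (by decide) (by decide)
    O73TC7D.rwords_src (by decide) O73TC7D.wok O73TC7.log_ok O73TC7.names_ok
    O73TC7D.head_ok h0

theorem b7 : Finite (Hk gP 7) ∧ Nat.card (Hk gP 7) ≤ 12597120 := by
  obtain ⟨h0, c0⟩ := b6
  obtain ⟨h, c⟩ := lvl7 h0
  exact ⟨h, le_trans c (Nat.mul_le_mul_left 243 c0)⟩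

theorem lvl8 (h0 : Finite (Hk gP 7)) :
    Finite (Hk gP 8) ∧ Nat.card (Hk gP 8) ≤ 364 * Nat.card (Hk gP 7) :=
  level_bound2 link wf O73TC8D.cert 7 O73TC8D.srcs (by decide) (by decide)
    O73TC8D.rwords_src (by decide) O73TC8D.wok O73TC8.log_ok O73TC8.names_ok
    O73TC8D.head_ok h0

theorem b8 : Finite (Hk gP 8) ∧ Nat.card (Hk gP 8) ≤ 4585351680 := by
  obtain ⟨h0, c0⟩ := b7
  obtain ⟨h, c⟩ := lvl8 h0
  exact ⟨h, le_trans c (Nat.mul_le_mul_left 364 c0)⟩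

theorem finite_X : Finite Cfsg.Agent.Lib.Helper98.O73Def.O73 := finite_of_top link b8.1

theorem card_X_le : Nat.card Cfsg.Agent.Lib.Helper98.O73Def.O73 ≤ 4585351680 := card_le_of_top link b8.2

/-! ### The model -/

theorem htab : TabOK 364 8 tab tab := tabOK_of_invOK tab_ok

/-- the chain data of the model -/
noncomputable abbrev D : Data (Equiv.Perm (Fin 364)) (Fin 364) := data htab

theorem base_genM : ∀ w ∈ pres.baseWords, (w.map D.gen).prod = 1 := by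
  intro w hw
  have hlt := Pres.baseWords_lt wf w hw
  rw [relWords_eq] at hw
  exact ev_eq_one_of_fixUpTo htab hlt (rel_all w hw)

theorem rel_genM : pres.Rel D.gen := Pres.rel_of_base wf base_genM

theorem card_KS_ge : 4585351680 ≤ Nat.card (KS D SG 9) := by
  have h5 : 3 * Nat.card (KS D SG 0) ≤ Nat.card (KS D SG 1) :=
    level htab SG sg_lt 1 0 4 3 (by decide) (by decide) orb5 cnt5 fix5
  have h4 : 12 * Nat.card (KS D SG 1) ≤ Nat.card (KS D SG 5) :=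
    level htab SG sg_lt 5 1 158 12 (by decide) (by decide) orb4 cnt4 fix4
  have h3 : 20 * Nat.card (KS D SG 5) ≤ Nat.card (KS D SG 6) :=
    level htab SG sg_lt 6 5 3 20 (by decide) (by decide) orb3 cnt3 fix3
  have h2 : 72 * Nat.card (KS D SG 6) ≤ Nat.card (KS D SG 7) :=
    level htab SG sg_lt 7 6 2 72 (by decide) (by decide) orb2 cnt2 fix2
  have h1 : 243 * Nat.card (KS D SG 7) ≤ Nat.card (KS D SG 8) :=
    level htab SG sg_lt 8 7 1 243 (by decide) (by decide) orb1 cnt1 fix1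
  have h0 : 364 * Nat.card (KS D SG 8) ≤ Nat.card (KS D SG 9) :=
    level htab SG sg_lt 9 8 0 364 (by decide) (by decide) orb0 cnt0 fix0
  have hz : Nat.card (KS D SG 0) = 1 := by
    rw [KS_zero]; simp
  rw [hz] at h5
  omega

theorem card_M_ge : 4585351680 ≤ Nat.card (D.H 8) :=
  le_trans card_KS_ge (Subgroup.card_le_of_le (KS_le_M htab SG sg_lt 9))

instance pretransM : IsPretransitive (D.H 8) (Fin 364) :=
  pretrans htab SG sg_lt 9 orb0 lab0_ok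

instance primM : IsPreprimitive (D.H 8) (Fin 364) :=
  prim_rank_three htab SG sg_lt 8 (by decide) orb1 fix0 1 103 243 120
    cover1 cnt1 cnt1b (by rw [lab1_zero]; decide) (by decide) (by decide)

theorem ev_y_pow : D.ev yw ^ 13 = 1 :=
  ev_pow_eq_one_of_table htab (by decide) yT 13 y_pow

theorem ev_ay_pow : D.ev (0 :: yw) ^ 13 = 1 :=
  ev_pow_eq_one_of_table htab (by decide) ayT 13 ay_pow

/-- the presented group is simple of the expected order -/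
theorem main : IsSimpleGroup Cfsg.Agent.Lib.Helper98.O73Def.O73 ∧ Nat.card Cfsg.Agent.Lib.Helper98.O73Def.O73 = 4585351680 :=
  simple_and_card (hprim := primM) link wf D rfl rel_genM 4585351680 12597120 13 (by norm_num) (by norm_num)
    finite_X card_X_le card_M_ge (by norm_num) yw (by decide) (by decide) ev_y_pow ev_ay_pow
    [(0, 1), (0, 6), (1, 2), (1, 3), (3, 5), (5, 7), (2, 4)] (by decide)

end Cfsg.Agent.Lib.Helper98.O73Main
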