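import Mathlib
import Cfsg.Prelude.Def_Classical
import Cfsg.Prelude.Def_ClassicalGeometry
import Cfsg.Agent.Lib.Helper37.SpinorNorm
import Cfsg.Agent.Lib.Helper43.OrthCardForms
import Cfsg.Agent.Lib.Helper98.O73Model

/-!
# Eight negated reflections of the orthogonal space of dimension seven over the field with three elements

They satisfy the relations of the presentation `O73Pres.pres`.
-/

set_option autoImplicit false
set_option maxRecDepth 100000

namespace Cfsg.Agent.Lib.Helper98.O73Mat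

open Matrix Cfsg.Agent.Lib.Helper37 Cfsg.Agent.Lib.Helper98.CoxPres
open Cfsg.Agent.Lib.Helper98.O73Pres

abbrev F3 := ZMod 3
abbrev I7 := Unit ⊕ (Fin 3 ⊕ Fin 3)
abbrev M7 := Matrix I7 I7 F3

/-- the quadratic form -/
abbrev Q7 : (I7 → F3) → F3 := Cfsg.quadFormOdd 3 F3

/-- the isometry group -/
abbrev OG := ↥(Cfsg.isometryGroup F3 Q7)

theorem two_ne : (2 : F3) ≠ 0 := by decide

/-- the Gram matrix of the polar form -/
abbrev Gm : M7 := Matrix.of (fun i j : I7 => QuadraticMap.polar Q7 (Pi.single i 1) (Pi.single j 1))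

theorem hG : IsGram Q7 Gm := by
  have h := isGram_of_quadraticForm two_ne (Cfsg.Agent.Lib.Helper43.oddForm 3 F3)
  rw [← Cfsg.Agent.Lib.Helper43.oddForm_coe] at h
  exact h

/-- the index of a coordinate -/
def idx : I7 → ℕ
  | .inl () => 0
  | .inr (.inl i) => 1 + i.val
  | .inr (.inr i) => 4 + i.val

/-- the vectors, in the order `h, d, c, e, b, f, i, g` -/
def vtab : List (List ℕ) := [[0, 1, 0, 1, 1, 1, 1], [0, 0, 1, 0, 0, 2, 0], [0, 0, 0, 1, 0, 1, 2], [0, 1, 0, 0, 2, 1, 0], [0, 0, 0, 1, 0, 0, 2], [1, 0, 0, 1, 1, 0, 1], [0, 1, 0, 1, 1, 0, 1], [0, 1, 0, 2, 1, 0, 2]]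

/-- the matrices of the negated reflections -/
def mtab : List (List (List ℕ)) := [
  [[2, 0, 0, 0, 0, 0, 0], [0, 1, 2, 2, 2, 0, 2], [0, 0, 2, 0, 0, 0, 0], [0, 2, 2, 1, 2, 0, 2], [0, 2, 2, 2, 1, 0, 2], [0, 2, 2, 2, 2, 2, 2], [0, 2, 2, 2, 2, 0, 1]],
  [[2, 0, 0, 0, 0, 0, 0], [0, 2, 0, 0, 0, 0, 0], [0, 0, 0, 0, 0, 2, 0], [0, 0, 0, 2, 0, 0, 0], [0, 0, 0, 0, 2, 0, 0], [0, 0, 2, 0, 0, 0, 0], [0, 0, 0, 0, 0, 0, 2]],
  [[2, 0, 0, 0, 0, 0, 0], [0, 2, 0, 0, 0, 0, 0], [0, 0, 2, 0, 0, 0, 0], [0, 0, 2, 0, 0, 0, 2], [0, 0, 0, 0, 2, 0, 0], [0, 0, 2, 1, 0, 2, 2], [0, 0, 1, 2, 0, 0, 0]],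
  [[2, 0, 0, 0, 0, 0, 0], [0, 0, 2, 0, 2, 0, 0], [0, 0, 2, 0, 0, 0, 0], [0, 0, 0, 2, 0, 0, 0], [0, 2, 1, 0, 0, 0, 0], [0, 1, 2, 0, 2, 2, 0], [0, 0, 0, 0, 0, 0, 2]],
  [[2, 0, 0, 0, 0, 0, 0], [0, 2, 0, 0, 0, 0, 0], [0, 0, 2, 0, 0, 0, 0], [0, 0, 0, 0, 0, 0, 2], [0, 0, 0, 0, 2, 0, 0], [0, 0, 0, 0, 0, 2, 0], [0, 0, 0, 2, 0, 0, 0]],
  [[0, 2, 0, 2, 0, 0, 2], [0, 2, 0, 0, 0, 0, 0], [0, 0, 2, 0, 0, 0, 0], [1, 2, 0, 1, 0, 0, 2], [1, 2, 0, 2, 2, 0, 2], [0, 0, 0, 0, 0, 2, 0], [1, 2, 0, 2, 0, 0, 1]],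
  [[2, 0, 0, 0, 0, 0, 0], [0, 1, 0, 2, 2, 0, 2], [0, 0, 2, 0, 0, 0, 0], [0, 2, 0, 1, 2, 0, 2], [0, 2, 0, 2, 1, 0, 2], [0, 0, 0, 0, 0, 2, 0], [0, 2, 0, 2, 2, 0, 1]],
  [[2, 0, 0, 0, 0, 0, 0], [0, 1, 0, 1, 2, 0, 1], [0, 0, 2, 0, 0, 0, 0], [0, 1, 0, 1, 1, 0, 2], [0, 2, 0, 1, 1, 0, 1], [0, 0, 0, 0, 0, 2, 0], [0, 1, 0, 2, 1, 0, 1]]]

/-- the vectors -/
def vec (j : ℕ) : I7 → F3 := fun a => (((vtab.getD j []).getD (idx a) 0 : ℕ) : F3)

/-- an entry of a matrix -/
def Mt (j a b : ℕ) : ℕ := ((mtab.getD j []).getD a []).getD b 0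

/-- the matrices -/
def M (j : ℕ) : M7 := Matrix.of fun a b => ((Mt j (idx a) (idx b) : ℕ) : F3)

theorem Q_vec : ∀ j < 8, Q7 (vec j) = 2 := by decide

theorem inv_two : (2 : F3)⁻¹ = 2 := inv_eq_of_mul_eq_one_right (by decide)

theorem M_eq_aux : ∀ j < 8,
    -(1 - (2 : F3) • Matrix.vecMulVec (vec j) (Cfsg.polarVec Q7 (vec j))) = M j := by decide

theorem M_eq (j : ℕ) (hj : j < 8) : -(Cfsg.reflectionMatrix Q7 (vec j)) = M j := by
  unfold Cfsg.reflectionMatrix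
  rw [Q_vec j hj, inv_two]
  exact M_eq_aux j hj

theorem Q_vec_ne (j : ℕ) (hj : j < 8) : Q7 (vec j) ≠ 0 := by
  rw [Q_vec j hj]
  exact two_ne

/-! ### the action on lists of coordinates -/

/-- the coordinates of a vector -/
def toL (v : I7 → F3) : List F3 :=
  [v (.inl ()), v (.inr (.inl 0)), v (.inr (.inl 1)), v (.inr (.inl 2)),
    v (.inr (.inr 0)), v (.inr (.inr 1)), v (.inr (.inr 2))]

theorem toL_injective : Function.Injective toL := by
  intro u v h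
  simp only [toL, List.cons.injEq, and_true] at h
  obtain ⟨h0, h1, h2, h3, h4, h5, h6⟩ := h
  funext a
  rcases a with u | a | a
  · cases u; exact h0
  · fin_cases a
    · exact h1
    · exact h2
    · exact h3
  · fin_cases a
    · exact h4
    · exact h5
    · exact h6

/-- the rows of a matrix -/
def rowsF (j : ℕ) : List (List F3) := (mtab.getD j []).map fun r => r.map fun (x : ℕ) => (x : F3)

/-- the action of a matrix on a list of coordinates -/
def mulVecL (j : ℕ) (l : List F3) : List F3 :=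
  (rowsF j).map fun row => (List.zipWith (· * ·) row l).sum

theorem toL_mulVec (j : ℕ) (hj : j < 8) (v : I7 → F3) : toL (M j *ᵥ v) = mulVecL j (toL v) := by
  interval_cases j <;>
  simp [toL, mulVecL, rowsF, mtab, M, Mt, idx, Matrix.mulVec, dotProduct, Fintype.sum_sum_type,
    Fin.sum_univ_three] <;>
  (repeat' constructor) <;> ring

/-- the action of a word -/
def wordL (w : List ℕ) (l : List F3) : List F3 := w.foldr (fun j acc => mulVecL j acc) l

theorem toL_prod (w : List ℕ) (hw : ∀ j ∈ w, j < 8) (v : I7 → F3) :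
    toL ((w.map M).prod *ᵥ v) = wordL w (toL v) := by
  induction w with
  | nil => simp [wordL]
  | cons j t ih =>
    have hj : j < 8 := hw j (List.mem_cons_self)
    have ht : ∀ i ∈ t, i < 8 := fun i hi => hw i (List.mem_cons_of_mem _ hi)
    rw [List.map_cons, List.prod_cons, ← Matrix.mulVec_mulVec, toL_mulVec j hj, ih ht]
    rfl

/-- the coordinates of a basis vector -/
def basisL (b : ℕ) : List F3 := (List.range 7).map fun a => if a = b then (1 : F3) else 0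

theorem toL_single (a : I7) : toL (Pi.single a (1 : F3)) = basisL (idx a) := by
  rcases a with u | a | a
  · cases u; decide
  · fin_cases a <;> decide
  · fin_cases a <;> decide

theorem word_ok : O73Model.relWords.all (fun w => (List.range 7).all fun b =>
    decide (wordL w (basisL b) = basisL b)) = true := by decide +kernel

theorem idx_lt (a : I7) : idx a < 7 := by
  rcases a with u | a | a
  · cases u; decide
  · fin_cases a <;> decide
  · fin_cases a <;> decide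

theorem prod_M_eq_one (w : List ℕ) (hw : w ∈ pres.baseWords) : (w.map M).prod = 1 := by
  have hlt : ∀ j ∈ w, j < 8 := Pres.baseWords_lt wf w hw
  rw [O73Model.relWords_eq] at hw
  have h1 := List.all_eq_true.1 word_ok w hw
  apply Matrix.mulVec_injective
  funext v
  -- it suffices to check basis vectors; use linearity through `Pi.single`
  rw [Matrix.one_mulVec]
  have key : ∀ a : I7, (w.map M).prod *ᵥ Pi.single a (1 : F3) = Pi.single a 1 := by
    intro a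
    apply toL_injective
    rw [toL_prod w hlt, toL_single]
    have h2 := List.all_eq_true.1 h1 (idx a) (List.mem_range.2 (idx_lt a))
    exact of_decide_eq_true h2
  have hv : v = ∑ a : I7, v a • Pi.single a (1 : F3) := by
    funext b
    simp [Finset.sum_apply, Pi.single_apply]
  rw [hv, Matrix.mulVec_sum]
  apply Finset.sum_congr rfl
  intro a _
  rw [Matrix.mulVec_smul, key a]

theorem not_comm : M 0 * M 1 ≠ M 1 * M 0 := by decide

end Cfsg.Agent.Lib.Helper98.O73Mat
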