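import Mathlib
import Cfsg.Prelude.Def_Spor_Fi22
import Cfsg.Agent.Lib.Helper98.O73Mat
import Cfsg.Agent.Lib.Helper98.O73Main
import Cfsg.Agent.Lib.Helper98.Fi22Main
import Cfsg.Agent.Lib.Helper99.POmega73Card

/-!
# The subgroup `⟨b, …, i⟩` of the presented group `Fi₂₂` is isomorphic to `PΩ₇(3)`
-/

set_option autoImplicit false
set_option maxRecDepth 100000

namespace Cfsg.Agent.Lib.Helper98.O73Iso

open Matrix Cfsg Cfsg.Spor Cfsg.Agent.Lib.Helper37 Cfsg.Agent.Lib.Helper98.CoxPres
open Cfsg.Agent.Lib.Helper98.O73Pres Cfsg.Agent.Lib.Helper98.O73Mat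
open Cfsg.Agent.Lib.Helper98.O73Def
open scoped commutatorElement

/-! ### the presented group -/

instance simple_O73 : IsSimpleGroup O73 := O73Main.main.1

theorem card_O73 : Nat.card O73 = 4585351680 := O73Main.main.2

instance finite_O73 : Finite O73 := Nat.finite_of_card_ne_zero (by rw [card_O73]; norm_num)

theorem commutator_O73 : commutator O73 = ⊤ := by
  rcases (inferInstance : (commutator O73).Normal).eq_bot_or_eq_top with h | h
  · exfalso
    have hcomm : ∀ a b : O73, a * b = b * a := by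
      intro a b
      have hm : ⁅a, b⁆ ∈ commutator O73 :=
        Subgroup.commutator_mem_commutator (Subgroup.mem_top a) (Subgroup.mem_top b)
      rw [h, Subgroup.mem_bot, commutatorElement_eq_one_iff_mul_comm] at hm
      exact hm
    letI : CommGroup O73 := { (inferInstance : Group O73) with mul_comm := hcomm }
    have hp : (Nat.card O73).Prime := IsSimpleGroup.prime_card
    rw [card_O73] at hp
    norm_num at hp
  · exact h

/-! ### the orthogonal side -/

/-- minus the identity, as an isometry -/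
def negOne : OG :=
  ⟨-1, (mem_isometryGroup_iff' Q7 _).mpr (fun u => by
    show Q7 (((-1 : GL I7 F3) : M7) *ᵥ u) = Q7 u
    rw [Units.val_neg, Units.val_one, Matrix.neg_mulVec, Matrix.one_mulVec]
    simp [Cfsg.quadFormOdd])⟩

theorem toMat_negOne : toMat Q7 negOne = -1 := rfl

/-- the images of the generators -/
noncomputable def gen (j : ℕ) : OG :=
  if hj : j < 8 then negOne * hG.reflG (vec j) (Q_vec_ne j hj) else 1

theorem toMat_gen (j : ℕ) (hj : j < 8) : toMat Q7 (gen j) = M j := by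
  rw [gen, dif_pos hj, map_mul, toMat_negOne, ← M_eq j hj, neg_one_mul]
  rfl

theorem toMat_prod (w : List ℕ) (hw : ∀ j ∈ w, j < 8) :
    toMat Q7 ((w.map gen).prod) = (w.map M).prod := by
  rw [map_list_prod, List.map_map]
  congr 1
  apply List.map_congr_left
  intro j hj
  exact toMat_gen j (hw j hj)

theorem rel_gen : pres.Rel gen := by
  apply Pres.rel_of_base wf
  intro w hw
  apply toMat_injective Q7
  rw [toMat_prod w (Pres.baseWords_lt wf w hw), prod_M_eq_one w hw, map_one]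

/-- the homomorphism to the isometry group -/
noncomputable def theta0 : O73 →* OG :=
  PresentedGroup.toGroup (f := fun s => gen (natOfGen s)) (link.lift_rel wf rel_gen)

theorem theta0_gP (x : ℕ) (hx : x < 8) : theta0 (gP x) = gen x := by
  show PresentedGroup.toGroup _ (PresentedGroup.of (genOfNat x)) = _
  rw [PresentedGroup.toGroup.of, link.ng x hx]

theorem theta0_mem (x : O73) : theta0 x ∈ Cfsg.Omega F3 Q7 := by
  have hx : x ∈ commutator O73 := by rw [commutator_O73]; trivial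
  have h1 : theta0 x ∈ (commutator O73).map theta0 := ⟨x, hx, rfl⟩
  have h2 : (commutator O73).map theta0 ≤ commutator OG := by
    rw [commutator_def, Subgroup.map_commutator, commutator_def]
    exact Subgroup.commutator_mono le_top le_top
  exact h2 h1

/-- the homomorphism to `Ω₇(3)` -/
noncomputable def theta1 : O73 →* ↥(Cfsg.Omega F3 Q7) :=
  theta0.codRestrict (Cfsg.Omega F3 Q7) theta0_mem

/-- the homomorphism to `PΩ₇(3)` -/
noncomputable def theta2 : O73 →* Cfsg.POmega F3 Q7 :=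
  (QuotientGroup.mk' (Subgroup.center ↥(Cfsg.Omega F3 Q7))).comp theta1

theorem theta2_injective : Function.Injective theta2 := by
  rw [← MonoidHom.ker_eq_bot_iff]
  rcases (MonoidHom.normal_ker theta2).eq_bot_or_eq_top with h | h
  · exact h
  · exfalso
    have hc : ∀ x : O73, theta1 x ∈ Subgroup.center ↥(Cfsg.Omega F3 Q7) := by
      intro x
      have hx : x ∈ theta2.ker := by rw [h]; trivial
      rw [MonoidHom.mem_ker] at hx
      have : (QuotientGroup.mk' (Subgroup.center ↥(Cfsg.Omega F3 Q7))) (theta1 x) = 1 := hx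
      rwa [QuotientGroup.mk'_apply, QuotientGroup.eq_one_iff] at this
    have h01 := Subgroup.mem_center_iff.1 (hc (gP 0)) (theta1 (gP 1))
    have h01' : theta0 (gP 1) * theta0 (gP 0) = theta0 (gP 0) * theta0 (gP 1) :=
      congrArg Subtype.val h01
    rw [theta0_gP 0 (by decide), theta0_gP 1 (by decide)] at h01'
    have := congrArg (toMat Q7) h01'
    rw [map_mul, map_mul, toMat_gen 0 (by decide), toMat_gen 1 (by decide)] at this
    exact not_comm this.symm

theorem theta2_bijective : Function.Bijective theta2 := by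
  apply theta2_injective.bijective_of_nat_card_le
  rw [card_O73]
  exact Cfsg.Agent.Lib.Helper99.card_POmega_7_3_le

/-! ### the subgroup of the presented group `Fi₂₂` -/

/-- the generators of `Fi₂₂` with the indices of `O73Pres` -/
def genFi : ℕ → Fi22.Gen
  | 0 => .h
  | 1 => .d
  | 2 => .c
  | 3 => .e
  | 4 => .b
  | 5 => .f
  | 6 => .i
  | _ => .g

/-- their images in the presented group -/
noncomputable def gFi (x : ℕ) : Cfsg.Spor.Fi22 := PresentedGroup.of (genFi x)

theorem lab_eq : ∀ x < 8, ∀ y < 8, coxLabel Fi22.edges (genFi x) (genFi y) = pres.lab x y := by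
  decide

theorem node_mem : ∀ x < 8, genFi x ∈ coxNodes Fi22.edges := by decide

theorem mk_eq_one (r : FreeGroup Fi22.Gen)
    (hr : r ∈ (coxRelators Fi22.edges ∪ {r | r ∈ Fi22.extra})) :
    PresentedGroup.mk (coxRelators Fi22.edges ∪ {r | r ∈ Fi22.extra}) r = 1 :=
  PresentedGroup.one_of_mem hr

theorem rel_gFi : pres.Rel gFi := by
  refine ⟨?_, ?_⟩
  · intro x hx y hy
    have := mk_eq_one ((FreeGroup.of (genFi x) * FreeGroup.of (genFi y)) ^ pres.lab x y)
      (Or.inl ⟨genFi x, node_mem x hx, genFi y, node_mem y hy, by rw [lab_eq x hx y hy]⟩)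
    simpa [gFi, PresentedGroup.of] using this
  · intro e he
    have he' : e = (.pow (.mul (.mul (.mul (.mul (.mul (.mul (.mul (.mul (.gen 1) (.gen 2)) (.gen 4)) (.gen 1)) (.gen 3)) (.gen 5)) (.gen 1)) (.gen 0)) (.gen 6)) 10) ∨
        e = (.pow (.mul (.mul (.mul (.mul (.mul (.mul (.gen 4) (.gen 2)) (.gen 1)) (.gen 3)) (.gen 5)) (.gen 7)) (.gen 0)) 9) := by
      simpa [pres] using he
    rcases he' with rfl | rfl
    · have hmem : (Fi22.d * Fi22.c * Fi22.b * Fi22.d * Fi22.e * Fi22.f * Fi22.d * Fi22.h * Fi22.i) ^ 10 ∈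
          (coxRelators Fi22.edges ∪ {r | r ∈ Fi22.extra}) := Or.inr (by simp [Fi22.extra])
      have := mk_eq_one _ hmem
      simpa [WExp.eval, gFi, PresentedGroup.of, genFi] using this
    · have hmem : (Fi22.b * Fi22.c * Fi22.d * Fi22.e * Fi22.f * Fi22.g * Fi22.h) ^ 9 ∈
          (coxRelators Fi22.edges ∪ {r | r ∈ Fi22.extra}) := Or.inr (by simp [Fi22.extra])
      have := mk_eq_one _ hmem
      simpa [WExp.eval, gFi, PresentedGroup.of, genFi] using this

/-- the homomorphism from the presented group `O73` -/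
noncomputable def pi : O73 →* Cfsg.Spor.Fi22 :=
  PresentedGroup.toGroup (f := fun s => gFi (natOfGen s)) (link.lift_rel wf rel_gFi)

theorem pi_of (s : O73Def.Gen) : pi (PresentedGroup.of s) = gFi (natOfGen s) :=
  PresentedGroup.toGroup.of _

/-- the subgroup `⟨b, …, i⟩` -/
noncomputable abbrev H : Subgroup Cfsg.Spor.Fi22 :=
  (Subgroup.closure ({Fi22.b, Fi22.c, Fi22.d, Fi22.e, Fi22.f, Fi22.g, Fi22.h, Fi22.i} :
    Set (FreeGroup Fi22.Gen))).map
    (PresentedGroup.mk (coxRelators Fi22.edges ∪ {r | r ∈ Fi22.extra}))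

theorem range_pi : pi.range = H := by
  rw [MonoidHom.range_eq_map, ← PresentedGroup.closure_range_of, MonoidHom.map_closure]
  show _ = (Subgroup.closure _).map _
  rw [MonoidHom.map_closure]
  congr 1
  ext x
  constructor
  · rintro ⟨_, ⟨s, rfl⟩, rfl⟩
    rw [pi_of]
    cases s
    · exact ⟨Fi22.b, by simp, rfl⟩
    · exact ⟨Fi22.c, by simp, rfl⟩
    · exact ⟨Fi22.d, by simp, rfl⟩
    · exact ⟨Fi22.e, by simp, rfl⟩
    · exact ⟨Fi22.f, by simp, rfl⟩
    · exact ⟨Fi22.g, by simp, rfl⟩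
    · exact ⟨Fi22.h, by simp, rfl⟩
    · exact ⟨Fi22.i, by simp, rfl⟩
  · rintro ⟨_, hs, rfl⟩
    simp only [Set.mem_insert_iff, Set.mem_singleton_iff] at hs
    rcases hs with rfl | rfl | rfl | rfl | rfl | rfl | rfl | rfl
    · exact ⟨_, ⟨O73Def.Gen.b, rfl⟩, by rw [pi_of]; rfl⟩
    · exact ⟨_, ⟨O73Def.Gen.c, rfl⟩, by rw [pi_of]; rfl⟩
    · exact ⟨_, ⟨O73Def.Gen.d, rfl⟩, by rw [pi_of]; rfl⟩
    · exact ⟨_, ⟨O73Def.Gen.e, rfl⟩, by rw [pi_of]; rfl⟩
    · exact ⟨_, ⟨O73Def.Gen.f, rfl⟩, by rw [pi_of]; rfl⟩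
    · exact ⟨_, ⟨O73Def.Gen.g, rfl⟩, by rw [pi_of]; rfl⟩
    · exact ⟨_, ⟨O73Def.Gen.h, rfl⟩, by rw [pi_of]; rfl⟩
    · exact ⟨_, ⟨O73Def.Gen.i, rfl⟩, by rw [pi_of]; rfl⟩

theorem card_Fi22 : Nat.card Cfsg.Spor.Fi22 = 64561751654400 := Fi22Main.main.2

/-- if the generators `b, …, i` were trivial, so would be the whole group -/
theorem pi_ne_one : ∃ x : O73, pi x ≠ 1 := by
  by_contra hcon
  push Not at hcon
  have hof : ∀ s : O73Def.Gen, gFi (natOfGen s) = 1 := fun s => by rw [← pi_of]; exact hcon _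
  have hb : (PresentedGroup.of Fi22.Gen.b : Cfsg.Spor.Fi22) = 1 := hof O73Def.Gen.b
  have ha : (PresentedGroup.of Fi22.Gen.a : Cfsg.Spor.Fi22) = 1 := by
    have h1 := mk_eq_one ((FreeGroup.of Fi22.Gen.a * FreeGroup.of Fi22.Gen.b) ^ 3)
      (Or.inl ⟨Fi22.Gen.a, by decide, Fi22.Gen.b, by decide, by decide⟩)
    have h2 := mk_eq_one ((FreeGroup.of Fi22.Gen.a * FreeGroup.of Fi22.Gen.a) ^ 1)
      (Or.inl ⟨Fi22.Gen.a, by decide, Fi22.Gen.a, by decide, by decide⟩)
    have h1' : ((PresentedGroup.of Fi22.Gen.a : Cfsg.Spor.Fi22) *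
        PresentedGroup.of Fi22.Gen.b) ^ 3 = 1 := by simpa [PresentedGroup.of] using h1
    have h2' : ((PresentedGroup.of Fi22.Gen.a : Cfsg.Spor.Fi22) *
        PresentedGroup.of Fi22.Gen.a) = 1 := by simpa [PresentedGroup.of] using h2
    rw [hb, mul_one] at h1'
    calc (PresentedGroup.of Fi22.Gen.a : Cfsg.Spor.Fi22)
        = (PresentedGroup.of Fi22.Gen.a) ^ 3 *
          ((PresentedGroup.of Fi22.Gen.a * PresentedGroup.of Fi22.Gen.a))⁻¹ := by group
      _ = 1 := by rw [h1', h2']; simp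
  have hall : ∀ s : Fi22.Gen, (PresentedGroup.of s : Cfsg.Spor.Fi22) = 1 := by
    intro s
    cases s
    · exact ha
    · exact hof O73Def.Gen.b
    · exact hof O73Def.Gen.c
    · exact hof O73Def.Gen.d
    · exact hof O73Def.Gen.e
    · exact hof O73Def.Gen.f
    · exact hof O73Def.Gen.g
    · exact hof O73Def.Gen.h
    · exact hof O73Def.Gen.i
  have htop : (⊤ : Subgroup Cfsg.Spor.Fi22) = ⊥ := by
    rw [← PresentedGroup.closure_range_of, Subgroup.closure_eq_bot_iff]
    rintro _ ⟨s, rfl⟩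
    exact hall s
  have hcard : Nat.card Cfsg.Spor.Fi22 = 1 := by
    rw [← Subgroup.card_top, htop, Subgroup.card_bot]
  rw [card_Fi22] at hcard
  norm_num at hcard

theorem pi_injective : Function.Injective pi := by
  rw [← MonoidHom.ker_eq_bot_iff]
  rcases (MonoidHom.normal_ker pi).eq_bot_or_eq_top with h | h
  · exact h
  · exfalso
    obtain ⟨x, hx⟩ := pi_ne_one
    apply hx
    have : x ∈ pi.ker := by rw [h]; trivial
    exact this

/-- the subgroup `⟨b, …, i⟩` is isomorphic to `PΩ₇(3)` -/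
theorem main : Nonempty (H ≃* Cfsg.POmega (ZMod 3) (Cfsg.quadFormOdd 3 (ZMod 3))) := by
  let e1 : O73 ≃* pi.range := MonoidHom.ofInjective pi_injective
  let e2 : pi.range ≃* H := MulEquiv.subgroupCongr range_pi
  let e3 : O73 ≃* Cfsg.POmega F3 Q7 := MulEquiv.ofBijective theta2 theta2_bijective
  exact ⟨(e2.symm.trans e1.symm).trans e3⟩

end Cfsg.Agent.Lib.Helper98.O73Iso
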