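import Mathlib
import Cfsg.Agent.Lib.Helper98.Basic

set_option autoImplicit false

namespace Cfsg.Agent.Lib.Helper98

open MulAction Equiv
open scoped Pointwise

/-- Inside the stabilizer of a point `a₀` of the symmetric group, the stabilizer of a set `A ∋ a₀`
is a maximal subgroup (when `A ∖ {a₀}` is not half of the remaining points). -/
theorem isCoatom_pointStab_inf_setStab {α : Type*} [Fintype α] [DecidableEq α] (a₀ : α)
    (A : Set α) (ha₀ : a₀ ∈ A) (hA1 : ∃ x ∈ A, x ≠ a₀) (hA2 : ∃ y, y ∉ A)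
    (hcard : Fintype.card α + 1 ≠ 2 * A.ncard) :
    IsCoatom ((stabilizer (Perm α) a₀ ⊓ stabilizer (Perm α) A).subgroupOf
      (stabilizer (Perm α) a₀)) := by
  classical
  obtain ⟨x₁, hx₁A, hx₁⟩ := hA1
  obtain ⟨y₁, hy₁A⟩ := hA2
  have hy₁ : y₁ ≠ a₀ := fun h => hy₁A (h ▸ ha₀)
  set s : Set {x : α // x ≠ a₀} := {x | x.1 ∈ A} with hs
  have hsne : s.Nonempty := ⟨⟨x₁, hx₁⟩, hx₁A⟩
  have hscne : sᶜ.Nonempty := ⟨⟨y₁, hy₁⟩, hy₁A⟩
  have hcardβ : Nat.card {x : α // x ≠ a₀} ≠ 2 * s.ncard := by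
    have h1 : Nat.card {x : α // x ≠ a₀} = Fintype.card α - 1 := by
      rw [Nat.card_eq_fintype_card, Fintype.card_subtype_compl, Fintype.card_subtype_eq]
    have h2 : s.ncard = A.ncard - 1 := by
      have himg : Subtype.val '' s = A \ {a₀} := by
        ext z
        simp only [Set.mem_image, Set.mem_sdiff, Set.mem_singleton_iff]
        constructor
        · rintro ⟨w, hw, rfl⟩
          exact ⟨hw, w.2⟩
        · rintro ⟨hz, hza⟩
          exact ⟨⟨z, hza⟩, hz, rfl⟩
      rw [← Set.ncard_image_of_injective s Subtype.val_injective, himg,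
        Set.ncard_sdiff_singleton_of_mem ha₀]
    have hpos : 0 < Fintype.card α := Fintype.card_pos_iff.mpr ⟨a₀⟩
    have hApos : 0 < A.ncard := (Set.ncard_pos (Set.toFinite A)).mpr ⟨a₀, ha₀⟩
    rw [h1, h2]
    omega
  have hco : IsCoatom (stabilizer (Perm {x : α // x ≠ a₀}) s) :=
    Equiv.Perm.isCoatom_stabilizer hsne hscne hcardβ
  -- facts about `ofSubtype`
  have F1 : ∀ g : Perm α, g a₀ = a₀ → ∃ σ : Perm {x : α // x ≠ a₀}, Perm.ofSubtype σ = g := by
    intro g hg
    have : g ∈ (Perm.ofSubtype : Perm {x : α // x ≠ a₀} →* Perm α).range := by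
      rw [Perm.mem_range_ofSubtype_iff]
      intro x hx
      simp only [Finset.mem_coe, Perm.mem_support] at hx
      intro hxa
      exact hx (hxa ▸ hg)
    exact this
  have F2 : ∀ σ : Perm {x : α // x ≠ a₀}, Perm.ofSubtype σ a₀ = a₀ := fun σ =>
    Perm.ofSubtype_apply_of_not_mem σ (by simp)
  have F3 : ∀ σ : Perm {x : α // x ≠ a₀},
      Perm.ofSubtype σ ∈ stabilizer (Perm α) A ↔ σ ∈ stabilizer (Perm _) s := by
    intro σ
    rw [mem_stabilizer_set' (Set.toFinite A), mem_stabilizer_set' (Set.toFinite s)]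
    constructor
    · intro h x hx
      have := h hx
      rw [Perm.smul_def, Perm.ofSubtype_apply_coe] at this
      exact this
    · intro h y hy
      by_cases hya : y = a₀
      · rw [hya, Perm.smul_def, F2]
        exact ha₀
      · have := h (b := ⟨y, hya⟩) hy
        rw [Perm.smul_def, Perm.ofSubtype_apply_of_mem σ hya]
        exact this
  apply isCoatom_subgroupOf_of _ _ inf_le_left
  · intro hle
    have hmem : swap x₁ y₁ ∈ stabilizer (Perm α) a₀ := by
      rw [mem_stabilizer_iff, Perm.smul_def, swap_apply_of_ne_of_ne hx₁.symm hy₁.symm]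
    have := (Subgroup.mem_inf.mp (hle hmem)).2
    rw [mem_stabilizer_set' (Set.toFinite A)] at this
    have h2 := this hx₁A
    rw [Perm.smul_def, swap_apply_left] at h2
    exact hy₁A h2
  · intro L hHL hLM hLH
    have hle : stabilizer (Perm _) s ≤ L.comap (Perm.ofSubtype : Perm {x : α // x ≠ a₀} →* Perm α) := by
      intro σ hσ
      apply hHL
      refine Subgroup.mem_inf.mpr ⟨?_, (F3 σ).mpr hσ⟩
      rw [mem_stabilizer_iff, Perm.smul_def, F2]
    have hne : stabilizer (Perm _) s ≠ L.comap (Perm.ofSubtype : Perm {x : α // x ≠ a₀} →* Perm α) := by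
      intro heq
      apply hLH
      apply le_antisymm _ hHL
      intro g hg
      have hga : g a₀ = a₀ := hLM hg
      obtain ⟨σ, rfl⟩ := F1 g hga
      have : σ ∈ L.comap (Perm.ofSubtype : Perm {x : α // x ≠ a₀} →* Perm α) := hg
      rw [← heq] at this
      exact Subgroup.mem_inf.mpr ⟨hLM hg, (F3 σ).mpr this⟩
    have htop := hco.2 _ (lt_of_le_of_ne hle hne)
    intro g hg
    obtain ⟨σ, rfl⟩ := F1 g hg
    have : σ ∈ L.comap (Perm.ofSubtype : Perm {x : α // x ≠ a₀} →* Perm α) := htop ▸ Subgroup.mem_top σ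
    exact this

end Cfsg.Agent.Lib.Helper98
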