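import Mathlib
import Cfsg.Agent.Lib.Helper12.MultTrans

set_option autoImplicit false

namespace Cfsg.Agent.Lib.Helper98.Sharp

open MulAction Subgroup

section
variable {G : Type*} {α : Type*} [Group G] [MulAction G α]

/-- the order of a sharply `k`-transitive group -/
theorem card_eq_of_sharp [Fintype α] (k : ℕ) [IsMultiplyPretransitive G α k]
    (hsharp : ∀ x : Fin k ↪ α, stabilizer G x = ⊥) (hk : k ≤ Fintype.card α) :
    Nat.card G = (Fintype.card α).descFactorial k := by
  have hne : Nonempty (Fin k ↪ α) := by
    apply Function.Embedding.nonempty_of_card_le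
    simpa using hk
  obtain ⟨x⟩ := hne
  have hbij : Function.Bijective (fun g : G => g • x) := by
    constructor
    · intro g h hgh
      have hmem : h⁻¹ * g ∈ stabilizer G x := by
        rw [mem_stabilizer_iff, mul_smul]
        change h⁻¹ • (g • x) = x
        rw [show g • x = h • x from hgh, inv_smul_smul]
      rw [hsharp x, Subgroup.mem_bot] at hmem
      exact (inv_mul_eq_one.mp hmem).symm
    · intro y
      exact exists_smul_eq G x y
  rw [Nat.card_congr (Equiv.ofBijective _ hbij), Nat.card_eq_fintype_card,
    Fintype.card_embedding_eq, Fintype.card_fin]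

end

section M11
variable {G : Type*} {α : Type*} [Group G] [MulAction G α] [FaithfulSMul G α] [Fintype α]

/-- a permutation of order `11` on `11` points has a centralizer of order `11` -/
theorem card_centralizer_perm [DecidableEq α] (hα : Fintype.card α = 11) (σ : Equiv.Perm α)
    (hσ : orderOf σ = 11) : Nat.card (centralizer {σ}) = 11 := by
  have hp : (orderOf σ).Prime := by rw [hσ]; norm_num
  obtain ⟨n, hn⟩ := Equiv.Perm.cycleType_prime_order hp
  have hsum : σ.cycleType.sum ≤ 11 := by
    rw [Equiv.Perm.sum_cycleType, ← hα]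
    exact Finset.card_le_univ _
  rw [hn, hσ, Multiset.sum_replicate, smul_eq_mul] at hsum
  have hn0 : n = 0 := by omega
  subst hn0
  rw [Equiv.Perm.nat_card_centralizer, hn, hσ, hα]
  simp

/-- in a faithful action on `11` points a subgroup of order `11` is self-centralizing -/
theorem card_centralizer_eq (hα : Fintype.card α = 11) (P : Subgroup G) (hP : Nat.card P = 11) :
    Nat.card (centralizer (P : Set G)) = 11 := by
  classical
  have : Fact (Nat.Prime 11) := ⟨by norm_num⟩
  have : Finite P := Nat.finite_of_card_ne_zero (by rw [hP]; norm_num)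
  obtain ⟨g, hg⟩ := exists_prime_orderOf_dvd_card' (G := P) 11 (by rw [hP])
  have hg' : orderOf (g : G) = 11 := by rw [Subgroup.orderOf_coe]; exact hg
  set σ : Equiv.Perm α := MulAction.toPermHom G α g with hσdef
  have hinj : Function.Injective (MulAction.toPermHom G α) := MulAction.toPerm_injective
  have hσ : orderOf σ = 11 := by
    rw [hσdef, orderOf_injective _ hinj]; exact hg'
  have hc := card_centralizer_perm hα σ hσ
  -- the centralizer of P maps into the centralizer of σ
  have hle : Nat.card (centralizer (P : Set G)) ≤ 11 := by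
    rw [← hc]
    refine Nat.card_le_card_of_injective
      (fun c : centralizer (P : Set G) => (⟨MulAction.toPermHom G α c.1, ?_⟩ :
        centralizer ({σ} : Set (Equiv.Perm α)))) ?_
    · rw [Subgroup.mem_centralizer_singleton_iff]
      have h1 := c.2
      rw [Subgroup.mem_centralizer_iff] at h1
      have h2 := h1 g g.2
      rw [hσdef, ← map_mul, ← map_mul, h2]
    · intro c d hcd
      apply Subtype.ext
      apply hinj
      exact congrArg Subtype.val hcd
  have hcomm : IsMulCommutative P := by
    have := isCyclic_of_prime_card hP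
    exact IsCyclic.isMulCommutative
  have hPle : P ≤ centralizer (P : Set G) := Subgroup.le_centralizer_iff_isMulCommutative.mpr hcomm
  have hfin : Finite (centralizer (P : Set G)) := by
    have hinj2 : Function.Injective (fun c : centralizer (P : Set G) =>
        MulAction.toPermHom G α c.1) := fun c d hcd => Subtype.ext (hinj hcd)
    exact Finite.of_injective _ hinj2
  have hdvd : Nat.card P ∣ Nat.card (centralizer (P : Set G)) := Subgroup.card_dvd_of_le hPle
  rw [hP] at hdvd
  have hpos : 0 < Nat.card (centralizer (P : Set G)) := Nat.card_pos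
  obtain ⟨k, hk⟩ := hdvd
  have : k = 1 := by nlinarith
  omega

/-- in a faithful action on `11` points, `|N(P) : P|` divides `10` for `P` of order `11` -/
theorem relIndex_normalizer_dvd (hα : Fintype.card α = 11) (P : Subgroup G)
    (hP : Nat.card P = 11) : P.relIndex (normalizer (P : Set G)) ∣ 10 := by
  have hcyc : IsCyclic P := isCyclic_of_prime_card (p := 11) (hp := ⟨by norm_num⟩) hP
  have hfinP : Finite P := Nat.finite_of_card_ne_zero (by rw [hP]; norm_num)
  have hcomm : IsMulCommutative P := IsCyclic.isMulCommutative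
  have hPle : P ≤ centralizer (P : Set G) := Subgroup.le_centralizer_iff_isMulCommutative.mpr hcomm
  have hc := card_centralizer_eq hα P hP
  have hfinC : Finite (centralizer (P : Set G)) := Nat.finite_of_card_ne_zero (by rw [hc]; norm_num)
  have hPC : P = centralizer (P : Set G) :=
    Subgroup.eq_of_le_of_card_ge hPle (by rw [hc, hP])
  have key := Subgroup.card_dvd_of_injective _
    (QuotientGroup.kerLift_injective P.normalizerMonoidHom)
  rw [Subgroup.normalizerMonoidHom_ker, ← Subgroup.index, ← Subgroup.relIndex, hcyc.card_mulAut,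
    hP, ← hPC] at key
  have h10 : Nat.totient 11 = 10 := by
    rw [Nat.totient_prime (by norm_num)]
  rwa [h10] at key

/-- a group acting faithfully and sharply `4`-transitively on `11` points is simple of
order `7920` -/
theorem simple_of_sharp4 (hα : Fintype.card α = 11) [h4 : IsMultiplyPretransitive G α 4]
    (hsharp : ∀ x : Fin 4 ↪ α, stabilizer G x = ⊥) : IsSimpleGroup G ∧ Nat.card G = 7920 := by
  classical
  have hcard : Nat.card G = 7920 := by
    rw [card_eq_of_sharp 4 hsharp (by rw [hα]; norm_num), hα]; rfl
  have hfin : Finite G := Nat.finite_of_card_ne_zero (by rw [hcard]; norm_num)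
  have hnt : Nontrivial G := Finite.one_lt_card_iff_nontrivial.mp (by rw [hcard]; norm_num)
  have hcα : Nat.card α = 11 := by rw [Nat.card_eq_fintype_card, hα]
  have h2 : IsMultiplyPretransitive G α 2 :=
    isMultiplyPretransitive_of_le (n := 4) (by norm_num) (by rw [hcα]; norm_num)
  have hprim : IsPreprimitive G α := isPreprimitive_of_is_two_pretransitive h2
  have p11 : Fact (Nat.Prime 11) := ⟨by norm_num⟩
  refine ⟨@IsSimpleGroup.mk G _ hnt (fun N hN => ?_), hcard⟩
  by_cases hbot : N = ⊥
  · exact Or.inl hbot
  right
  have hNtr : IsPretransitive N α := Cfsg.Agent.Lib.Helper12.MultTrans.normal_trans N hbot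
  have hJ := Cfsg.Agent.Lib.Helper12.MultTrans.jordan_normal 4 (by norm_num) G α
    (by rw [hcα]; norm_num) h4 N hbot
  have h3 : IsPretransitive N (Fin 3 ↪ α) := by
    rcases hJ with h | ⟨h, -⟩
    · exact h
    · omega
  have hx : Nonempty (Fin 3 ↪ α) := Function.Embedding.nonempty_of_card_le (by simp [hα])
  obtain ⟨x⟩ := hx
  have h990 : 990 ∣ Nat.card N := by
    have h := @index_stabilizer_of_transitive N (Fin 3 ↪ α) _ _ x h3
    have hc3 : Nat.card (Fin 3 ↪ α) = 990 := by
      rw [Nat.card_eq_fintype_card, Fintype.card_embedding_eq, Fintype.card_fin, hα]; rfl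
    rw [hc3] at h
    rw [← h]; exact Subgroup.index_dvd_card _
  have hNcard := N.card_mul_index
  rw [hcard] at hNcard
  have hidx8 : N.index ∣ 8 := by
    obtain ⟨k, hk⟩ := h990
    rw [hk] at hNcard
    exact ⟨k, by nlinarith⟩
  -- the Sylow `11`-subgroup
  let P : Sylow 11 G := default
  have hPcard : Nat.card P = 11 := by
    obtain ⟨k, hk⟩ := P.2.exists_card_eq
    have hmul := (P : Subgroup G).card_mul_index
    rw [hcard, hk] at hmul
    have hnd := P.not_dvd_index
    have hk1 : k ≤ 1 := by
      by_contra hk2
      push Not at hk2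
      have h121 : 11 ^ 2 ∣ 7920 := by
        rw [← hmul]
        exact Dvd.dvd.mul_right (Nat.pow_dvd_pow 11 hk2) _
      norm_num at h121
    interval_cases k
    · exfalso
      apply hnd
      rw [pow_zero, one_mul] at hmul
      rw [hmul]; norm_num
    · rw [hk]; norm_num
  have hPN : (P : Subgroup G) ≤ N := by
    intro y hy
    obtain ⟨k, hk⟩ := P.2 ⟨y, hy⟩
    have hk' : y ^ 11 ^ k = 1 := by
      have := congrArg Subtype.val hk
      simpa using this
    have ho1 : orderOf (QuotientGroup.mk' N y) ∣ 11 ^ k := by
      apply orderOf_dvd_of_pow_eq_one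
      rw [← map_pow, hk', map_one]
    have ho2 : orderOf (QuotientGroup.mk' N y) ∣ 8 := by
      refine dvd_trans (orderOf_dvd_natCard _) ?_
      rw [← Subgroup.index_eq_card]; exact hidx8
    have hcop : Nat.Coprime (11 ^ k) 8 := by
      apply Nat.Coprime.pow_left; norm_num
    have ho : orderOf (QuotientGroup.mk' N y) = 1 :=
      Nat.eq_one_of_dvd_coprimes hcop ho1 ho2
    rw [orderOf_eq_one_iff] at ho
    exact (QuotientGroup.eq_one_iff y).mp ho
  have hfrat : normalizer ((P : Subgroup G) : Set G) ⊔ N = ⊤ :=
    Sylow.normalizer_sup_eq_top' P hPN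
  have hrel : N.relIndex (normalizer ((P : Subgroup G) : Set G)) = N.index := by
    rw [← Subgroup.relIndex_sup_right, hfrat, Subgroup.relIndex_top_right]
  have hdvd1 : N.index ∣ (P : Subgroup G).relIndex (normalizer ((P : Subgroup G) : Set G)) := by
    rw [← hrel]
    exact Subgroup.relIndex_dvd_of_le_left _ hPN
  have hm10 := relIndex_normalizer_dvd hα (P : Subgroup G) hPcard
  have hn11 : Nat.card (Sylow 11 G) = (normalizer ((P : Subgroup G) : Set G)).index :=
    Sylow.card_eq_index_normalizer P
  have hmod : Nat.card (Sylow 11 G) ≡ 1 [MOD 11] := card_sylow_modEq_one 11 G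
  have hPidx : (P : Subgroup G).index = 720 := by
    have hmul := (P : Subgroup G).card_mul_index
    rw [hcard, hPcard] at hmul
    omega
  have hmn : (P : Subgroup G).relIndex (normalizer ((P : Subgroup G) : Set G)) *
      (normalizer ((P : Subgroup G) : Set G)).index = 720 := by
    rw [Subgroup.relIndex_mul_index Subgroup.le_normalizer, hPidx]
  rw [hn11] at hmod
  set m := (P : Subgroup G).relIndex (normalizer ((P : Subgroup G) : Set G)) with hm
  set n11 := (normalizer ((P : Subgroup G) : Set G)).index with hn
  have hm5 : m = 5 := by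
    have hmle : m ≤ 10 := Nat.le_of_dvd (by norm_num) hm10
    unfold Nat.ModEq at hmod
    interval_cases m <;> omega
  rw [hm5] at hdvd1
  have hidx1 : N.index = 1 := by
    have : N.index ∣ Nat.gcd 5 8 := Nat.dvd_gcd hdvd1 hidx8
    simpa using this
  exact Subgroup.index_eq_one.mp hidx1

end M11

section M12
variable {G : Type*} {α : Type*} [Group G] [MulAction G α] [FaithfulSMul G α] [Fintype α]

open SubMulAction

/-- a group acting faithfully and sharply `5`-transitively on `12` points is simple of
order `95040` -/
theorem simple_of_sharp5 (hα : Fintype.card α = 12) [h5 : IsMultiplyPretransitive G α 5]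
    (hsharp : ∀ x : Fin 5 ↪ α, stabilizer G x = ⊥) : IsSimpleGroup G ∧ Nat.card G = 95040 := by
  classical
  have hcard : Nat.card G = 95040 := by
    rw [card_eq_of_sharp 5 hsharp (by rw [hα]; norm_num), hα]; rfl
  have hfin : Finite G := Nat.finite_of_card_ne_zero (by rw [hcard]; norm_num)
  have hnt : Nontrivial G := Finite.one_lt_card_iff_nontrivial.mp (by rw [hcard]; norm_num)
  have hcα : Nat.card α = 12 := by rw [Nat.card_eq_fintype_card, hα]
  have h2 : IsMultiplyPretransitive G α 2 :=
    isMultiplyPretransitive_of_le (n := 5) (by norm_num) (by rw [hcα]; norm_num)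
  have hprim : IsPreprimitive G α := isPreprimitive_of_is_two_pretransitive h2
  have htr : IsPretransitive G α := hprim.toIsPretransitive
  have hne : Nonempty α := Fintype.card_pos_iff.mp (by rw [hα]; norm_num)
  obtain ⟨a⟩ := hne
  have hfaith : FaithfulSMul (stabilizer G a) (ofStabilizer G a) :=
    Cfsg.Agent.Lib.Helper12.MultTrans.faithful_ofStabilizer a
  let _ : Fintype (ofStabilizer G a) := Fintype.ofFinite _
  have hβ : Fintype.card (ofStabilizer G a) = 11 := by
    rw [← Nat.card_eq_fintype_card, nat_card_ofStabilizer_eq G a, hcα]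
  have h4 : IsMultiplyPretransitive (stabilizer G a) (ofStabilizer G a) 4 :=
    ofStabilizer.isMultiplyPretransitive.mp h5
  have hsharp4 : ∀ y : Fin 4 ↪ ofStabilizer G a, stabilizer (stabilizer G a) y = ⊥ := by
    intro y
    rw [eq_bot_iff]
    intro h hh
    rw [mem_stabilizer_iff] at hh
    rw [Subgroup.mem_bot]
    have hmem : (h : G) ∈ stabilizer G (ofStabilizer.snoc y) := by
      rw [mem_stabilizer_iff]
      ext i
      rcases Fin.eq_castSucc_or_eq_last i with ⟨i, rfl⟩ | rfl
      · rw [Function.Embedding.smul_apply, ofStabilizer.snoc_castSucc]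
        have h1 : ((h • y) i : ofStabilizer G a) = y i := by rw [hh]
        exact congrArg Subtype.val h1
      · rw [Function.Embedding.smul_apply, ofStabilizer.snoc_last]
        exact h.2
    rw [hsharp, Subgroup.mem_bot] at hmem
    exact Subtype.ext hmem
  obtain ⟨hHsimple, -⟩ :=
    simple_of_sharp4 (G := stabilizer G a) (α := ofStabilizer G a) hβ hsharp4
  refine ⟨@IsSimpleGroup.mk G _ hnt (fun N hN => ?_), hcard⟩
  by_cases hbot : N = ⊥
  · exact Or.inl hbot
  right
  have hNtr : IsPretransitive N α := Cfsg.Agent.Lib.Helper12.MultTrans.normal_trans N hbot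
  have hJ := Cfsg.Agent.Lib.Helper12.MultTrans.jordan_normal 5 (by norm_num) G α
    (by rw [hcα]; norm_num) h5 N hbot
  have h4N : IsMultiplyPretransitive N α 4 := by
    rcases hJ with h | ⟨h, -⟩
    · exact h
    · omega
  have h2N : IsMultiplyPretransitive N α 2 :=
    isMultiplyPretransitive_of_le (G := N) (n := 4) (by norm_num) (by rw [hcα]; norm_num)
  have hnorm : (N.subgroupOf (stabilizer G a)).Normal := inferInstance
  rcases hHsimple.eq_bot_or_eq_top_of_normal _ hnorm with h | h
  · exfalso
    have hnt2 : Nontrivial (ofStabilizer G a) :=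
      Fintype.one_lt_card_iff_nontrivial.mp (by rw [hβ]; norm_num)
    obtain ⟨b, c, hbc⟩ := exists_pair_ne (ofStabilizer G a)
    have hba : (b : α) ≠ a := b.2
    have hca : (c : α) ≠ a := c.2
    have hbc' : (b : α) ≠ c := fun e => hbc (Subtype.ext e)
    have key : ∀ a b c d : α, a ≠ b → c ≠ d → ∃ g : N, g • a = c ∧ g • b = d :=
      fun a b c d h1 h2 => (is_two_pretransitive_iff (G := N) (α := α)).mp h2N h1 h2
    obtain ⟨n, hn1, hn2⟩ := key a (b : α) a (c : α) (Ne.symm hba) (Ne.symm hca)
    have hnH : (n : G) ∈ stabilizer G a := by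
      rw [mem_stabilizer_iff]; exact hn1
    have hmem : (⟨(n : G), hnH⟩ : stabilizer G a) ∈ N.subgroupOf (stabilizer G a) := by
      rw [Subgroup.mem_subgroupOf]; exact n.2
    rw [h, Subgroup.mem_bot] at hmem
    have hn1' : (n : G) = 1 := congrArg Subtype.val hmem
    have hn' : n = 1 := Subtype.ext hn1'
    rw [hn', one_smul] at hn2
    exact hbc' hn2
  · have hHN : stabilizer G a ≤ N := Subgroup.subgroupOf_eq_top.mp h
    rw [eq_top_iff]
    intro g _
    obtain ⟨n, hn⟩ := exists_smul_eq N a (g • a)
    have hn' : (n : G) • a = g • a := hn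
    have hmem : (n : G)⁻¹ * g ∈ stabilizer G a := by
      rw [mem_stabilizer_iff, mul_smul, ← hn', inv_smul_smul]
    have := N.mul_mem n.2 (hHN hmem)
    simpa using this

end M12

end Cfsg.Agent.Lib.Helper98.Sharp
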