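import Mathlib

set_option autoImplicit false

namespace Cfsg.Agent.Lib.Helper98.TwoPrimes

open Nat

/-- An upper bound on the central binomial coefficient when there is at most one prime in
`(n, 2n]`. -/
theorem centralBinom_le_of_at_most_one_prime (n : ℕ) (n_large : 2 < n)
    (huniq : ∀ p q : ℕ, p.Prime → q.Prime → n < p → p ≤ 2 * n → n < q → q ≤ 2 * n → p = q) :
    centralBinom n ≤ (2 * n) ^ sqrt (2 * n) * 4 ^ (2 * n / 3) := by
  have n_pos : 0 < n := (Nat.zero_le _).trans_lt n_large
  have n2_pos : 1 ≤ 2 * n := mul_pos (zero_lt_two' ℕ) n_pos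
  let f : ℕ → ℕ := fun x => x ^ n.centralBinom.factorization x
  have hsplit : (∏ x ∈ Finset.range (2 * n / 3 + 1), f x) *
      (∏ x ∈ Finset.Ico (2 * n / 3 + 1) (2 * n + 1), f x) = centralBinom n := by
    rw [Finset.prod_range_mul_prod_Ico _ (by omega)]
    exact n.prod_pow_factorization_centralBinom
  -- the factors above `2n/3`
  have hfone : ∀ x ∈ Finset.Ico (2 * n / 3 + 1) (2 * n + 1), ¬ (x.Prime ∧ n < x) → f x = 1 := by
    intro x hx hnot
    rw [Finset.mem_Ico] at hx
    show x ^ _ = 1
    by_cases hxp : x.Prime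
    · have hxn : x ≤ n := by
        by_contra h
        exact hnot ⟨hxp, by omega⟩
      rw [factorization_centralBinom_of_two_mul_self_lt_three_mul n_large hxn (by omega),
        Nat.pow_zero]
    · rw [factorization_eq_zero_of_not_prime n.centralBinom hxp, Nat.pow_zero]
  have hbig : ∏ x ∈ Finset.Ico (2 * n / 3 + 1) (2 * n + 1), f x ≤ 2 * n := by
    by_cases hex : ∃ q, q.Prime ∧ n < q ∧ q ≤ 2 * n
    · obtain ⟨q, hq, hnq, hq2⟩ := hex
      rw [Finset.prod_eq_single q]
      · exact pow_factorization_choose_le (mul_pos two_pos n_pos)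
      · intro x hx hxq
        apply hfone x hx
        rintro ⟨hxp, hnx⟩
        rw [Finset.mem_Ico] at hx
        exact hxq (huniq x q hxp hq hnx (by omega) hnq hq2)
      · intro hq'
        exfalso
        apply hq'
        rw [Finset.mem_Ico]
        omega
    · rw [Finset.prod_eq_one]
      · exact n2_pos
      · intro x hx
        apply hfone x hx
        rintro ⟨hxp, hnx⟩
        rw [Finset.mem_Ico] at hx
        exact hex ⟨x, hxp, hnx, by omega⟩
  -- the factors up to `2n/3`
  have hsq1 : 1 ≤ sqrt (2 * n) := by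
    rw [Nat.le_sqrt]; omega
  have hsmall : ∏ x ∈ Finset.range (2 * n / 3 + 1), f x ≤
      (2 * n) ^ (sqrt (2 * n) - 1) * 4 ^ (2 * n / 3) := by
    let S := {p ∈ Finset.range (2 * n / 3 + 1) | Nat.Prime p}
    have : ∏ x ∈ S, f x = ∏ x ∈ Finset.range (2 * n / 3 + 1), f x := by
      refine Finset.prod_filter_of_ne fun p _ h => ?_
      contrapose h; dsimp only [f]
      rw [factorization_eq_zero_of_not_prime n.centralBinom h, _root_.pow_zero]
    rw [← this, ← Finset.prod_filter_mul_prod_filter_not S (· ≤ sqrt (2 * n))]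
    apply mul_le_mul'
    · refine (Finset.prod_le_prod' fun p _ => (?_ : f p ≤ 2 * n)).trans ?_
      · exact pow_factorization_choose_le (mul_pos two_pos n_pos)
      have : (Finset.Icc 2 (sqrt (2 * n))).card = sqrt (2 * n) - 1 := by
        rw [card_Icc]; omega
      rw [Finset.prod_const]
      refine pow_right_mono₀ n2_pos ((Finset.card_le_card fun x hx => ?_).trans this.le)
      obtain ⟨h1, h2⟩ := Finset.mem_filter.1 hx
      exact Finset.mem_Icc.mpr ⟨(Finset.mem_filter.1 h1).2.two_le, h2⟩
    · refine le_trans ?_ (primorial_le_four_pow (2 * n / 3))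
      refine (Finset.prod_le_prod' fun p hp => (?_ : f p ≤ p)).trans ?_
      · obtain ⟨h1, h2⟩ := Finset.mem_filter.1 hp
        refine (pow_right_mono₀ (Finset.mem_filter.1 h1).2.one_lt.le ?_).trans (pow_one p).le
        exact Nat.factorization_choose_le_one (sqrt_lt'.mp <| not_le.1 h2)
      refine Finset.prod_le_prod_of_subset_of_one_le' (Finset.filter_subset _ _) ?_
      exact fun p hp _ => (Finset.mem_filter.1 hp).2.one_lt.le
  rw [← hsplit]
  calc (∏ x ∈ Finset.range (2 * n / 3 + 1), f x) *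
        (∏ x ∈ Finset.Ico (2 * n / 3 + 1) (2 * n + 1), f x)
      ≤ ((2 * n) ^ (sqrt (2 * n) - 1) * 4 ^ (2 * n / 3)) * (2 * n) := Nat.mul_le_mul hsmall hbig
    _ = (2 * n) ^ sqrt (2 * n) * 4 ^ (2 * n / 3) := by
      obtain ⟨s, hs⟩ : ∃ s, sqrt (2 * n) = s + 1 := ⟨sqrt (2 * n) - 1, by omega⟩
      rw [hs, Nat.add_sub_cancel, pow_succ]; ring

/-- Two primes in `(n, 2n]` for large `n`. -/
theorem exists_two_primes_eventually (n : ℕ) (n_large : 512 ≤ n) :
    ∃ p q : ℕ, p.Prime ∧ q.Prime ∧ n < q ∧ q < p ∧ p ≤ 2 * n := by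
  by_contra hno
  have huniq : ∀ p q : ℕ, p.Prime → q.Prime → n < p → p ≤ 2 * n → n < q → q ≤ 2 * n → p = q := by
    intro p q hp hq h1 h2 h3 h4
    by_contra hne
    rcases lt_or_gt_of_ne hne with h | h
    · exact hno ⟨q, p, hq, hp, h1, h, h4⟩
    · exact hno ⟨p, q, hp, hq, h3, h, h2⟩
  have h1 : 4 ^ n < n * n.centralBinom :=
    Nat.four_pow_lt_mul_centralBinom n (le_trans (by norm_num1) n_large)
  have h2 : n.centralBinom ≤ (2 * n) ^ sqrt (2 * n) * 4 ^ (2 * n / 3) :=
    centralBinom_le_of_at_most_one_prime n (lt_of_lt_of_le (by norm_num1) n_large) huniq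
  have h3 := bertrand_main_inequality n_large
  have h4 : n * n.centralBinom ≤ n * ((2 * n) ^ sqrt (2 * n) * 4 ^ (2 * n / 3)) :=
    Nat.mul_le_mul_left _ h2
  rw [← mul_assoc] at h4
  omega

theorem two_primes_of_triple (a b c n : ℕ) (hb : b.Prime) (hc : c.Prime) (hbc : b < c)
    (hc2 : c ≤ 2 * a) (h1 : a ≤ n) (h2 : n < b) :
    ∃ p q : ℕ, p.Prime ∧ q.Prime ∧ n < q ∧ q < p ∧ p ≤ 2 * n :=
  ⟨c, b, hc, hb, h2, hbc, by omega⟩

/-- Two primes in `(n, 2n]` for `6 ≤ n`. -/
theorem exists_two_primes (n : ℕ) (hn : 6 ≤ n) :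
    ∃ p q : ℕ, p.Prime ∧ q.Prime ∧ n < q ∧ q < p ∧ p ≤ 2 * n := by
  rcases le_or_gt 512 n with h | h
  · exact exists_two_primes_eventually n h
  by_cases h6 : n = 6
  · subst h6; exact ⟨11, 7, by norm_num, by norm_num, by norm_num, by norm_num, by norm_num⟩
  have h7 : 7 ≤ n := by omega
  by_cases c1 : n < 11
  · exact two_primes_of_triple 7 11 13 n (by norm_num) (by norm_num) (by norm_num) (by norm_num) h7 c1
  by_cases c2 : n < 13
  · exact two_primes_of_triple 11 13 19 n (by norm_num) (by norm_num) (by norm_num) (by norm_num) (by omega) c2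
  by_cases c3 : n < 19
  · exact two_primes_of_triple 13 19 23 n (by norm_num) (by norm_num) (by norm_num) (by norm_num) (by omega) c3
  by_cases c4 : n < 23
  · exact two_primes_of_triple 19 23 37 n (by norm_num) (by norm_num) (by norm_num) (by norm_num) (by omega) c4
  by_cases c5 : n < 37
  · exact two_primes_of_triple 23 37 43 n (by norm_num) (by norm_num) (by norm_num) (by norm_num) (by omega) c5
  by_cases c6 : n < 43
  · exact two_primes_of_triple 37 43 73 n (by norm_num) (by norm_num) (by norm_num) (by norm_num) (by omega) c6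
  by_cases c7 : n < 73
  · exact two_primes_of_triple 43 73 83 n (by norm_num) (by norm_num) (by norm_num) (by norm_num) (by omega) c7
  by_cases c8 : n < 83
  · exact two_primes_of_triple 73 83 139 n (by norm_num) (by norm_num) (by norm_num) (by norm_num) (by omega) c8
  by_cases c9 : n < 139
  · exact two_primes_of_triple 83 139 163 n (by norm_num) (by norm_num) (by norm_num) (by norm_num) (by omega) c9
  by_cases c10 : n < 163
  · exact two_primes_of_triple 139 163 277 n (by norm_num) (by norm_num) (by norm_num) (by norm_num) (by omega) c10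
  by_cases c11 : n < 277
  · exact two_primes_of_triple 163 277 317 n (by norm_num) (by norm_num) (by norm_num) (by norm_num) (by omega) c11
  by_cases c12 : n < 317
  · exact two_primes_of_triple 277 317 547 n (by norm_num) (by norm_num) (by norm_num) (by norm_num) (by omega) c12
  exact two_primes_of_triple 317 547 631 n (by norm_num) (by norm_num) (by norm_num) (by norm_num) (by omega) (by omega)

/-- Two primes in `(n/2, n]` for `n ≥ 11` and `n = 5, 7, 8, 9`. -/
theorem exists_two_primes_half (n : ℕ) (hn : 11 ≤ n ∨ n = 5 ∨ n = 7 ∨ n = 8 ∨ n = 9) :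
    ∃ p r : ℕ, p.Prime ∧ r.Prime ∧ r < p ∧ p ≤ n ∧ n < 2 * r := by
  rcases hn with h | rfl | rfl | rfl | rfl
  · by_cases h11 : n = 11
    · subst h11
      exact ⟨11, 7, by norm_num, by norm_num, by norm_num, by norm_num, by norm_num⟩
    obtain ⟨p, q, hp, hq, h1, h2, h3⟩ := exists_two_primes (n / 2) (by omega)
    exact ⟨p, q, hp, hq, h2, by omega, by omega⟩
  · exact ⟨5, 3, by norm_num, by norm_num, by norm_num, by norm_num, by norm_num⟩
  · exact ⟨7, 5, by norm_num, by norm_num, by norm_num, by norm_num, by norm_num⟩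
  · exact ⟨7, 5, by norm_num, by norm_num, by norm_num, by norm_num, by norm_num⟩
  · exact ⟨7, 5, by norm_num, by norm_num, by norm_num, by norm_num, by norm_num⟩

end Cfsg.Agent.Lib.Helper98.TwoPrimes
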