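import Mathlib
import Cfsg.Agent.Lib.Helper98.TwoPrimes
import Cfsg.Agent.Lib.Helper1.HallDom

set_option autoImplicit false

namespace Cfsg.Agent.Lib.Helper98.SpecAlt

open Nat

/-- Lemma U: a group of order `p * q` whose Sylow `p`-subgroup is forced to be normal and
central contains an element of order `p * r` for each prime `r ∣ q`. -/
theorem exists_orderOf_eq_mul {H : Type*} [Group H] [Finite H] (p q r : ℕ) (hp : p.Prime)
    (hr : r.Prime) (hcard : Nat.card H = p * q) (hpq : ¬ p ∣ q) (hrq : r ∣ q)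
    (hdiv : ∀ d, d ∣ q → d % p = 1 → d = 1) (hgcd : Nat.Coprime q (p - 1)) :
    ∃ h : H, orderOf h = p * r := by
  have : Fact p.Prime := ⟨hp⟩
  have : Fact r.Prime := ⟨hr⟩
  have hpr : p ≠ r := by
    rintro rfl; exact hpq hrq
  let P : Sylow p H := default
  have hq0 : q ≠ 0 := by
    rintro rfl; exact hpq (dvd_zero p)
  have hPcard : Nat.card P = p := by
    rw [P.card_eq_multiplicity, hcard, Nat.factorization_mul hp.ne_zero hq0,
      Finsupp.add_apply, hp.factorization_self, Nat.factorization_eq_zero_of_not_dvd hpq]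
    simp
  have hPidx : (P : Subgroup H).index = q := by
    have h1 := (P : Subgroup H).card_mul_index
    rw [hPcard, hcard] at h1
    exact Nat.eq_of_mul_eq_mul_left hp.pos h1
  have hsyl1 : Nat.card (Sylow p H) = 1 := by
    apply hdiv
    · rw [← hPidx]; exact P.card_dvd_index
    · have := card_sylow_modEq_one p H
      rw [Nat.ModEq, Nat.mod_eq_of_lt hp.one_lt] at this
      exact this
  have hPn : (P : Subgroup H).Normal := by
    rw [← Subgroup.normalizer_eq_top_iff, ← Subgroup.index_eq_one]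
    have := Sylow.card_eq_index_normalizer P
    rw [hsyl1] at this
    exact this.symm
  have : IsCyclic (P : Subgroup H) := isCyclic_of_prime_card hPcard
  have hautcard : Nat.card (MulAut (P : Subgroup H)) = p - 1 := by
    rw [IsCyclic.card_mulAut, hPcard, Nat.totient_prime hp]
  have hcentral : ∀ (h : H) (y : (P : Subgroup H)), h * (y : H) * h⁻¹ = y := by
    intro h y
    have h1 : orderOf (MulAut.conjNormal (H := (P : Subgroup H)) h) ∣ p * q := by
      rw [← hcard]
      exact (orderOf_map_dvd _ h).trans (orderOf_dvd_natCard h)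
    have h2 : orderOf (MulAut.conjNormal (H := (P : Subgroup H)) h) ∣ p - 1 := by
      rw [← hautcard]; exact orderOf_dvd_natCard _
    have h3 : orderOf (MulAut.conjNormal (H := (P : Subgroup H)) h) ∣ q := by
      have hcop : Nat.Coprime (orderOf (MulAut.conjNormal (H := (P : Subgroup H)) h)) p := by
        have : Nat.Coprime (p - 1) p := by
          have h1 : p - 1 + 1 = p := Nat.sub_add_cancel hp.pos
          have := Nat.coprime_self_add_right (m := p - 1) (n := 1) |>.mpr (Nat.coprime_one_right _)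
          rwa [h1] at this
        exact Nat.Coprime.coprime_dvd_left h2 this
      exact hcop.dvd_of_dvd_mul_left h1
    have h4 : orderOf (MulAut.conjNormal (H := (P : Subgroup H)) h) = 1 :=
      Nat.eq_one_of_dvd_coprimes hgcd h3 h2
    rw [orderOf_eq_one_iff] at h4
    have := MulAut.conjNormal_apply h y
    rw [h4] at this
    exact this.symm
  obtain ⟨y, hy⟩ := exists_prime_orderOf_dvd_card' (G := (P : Subgroup H)) p (by rw [hPcard])
  obtain ⟨x, hx⟩ := exists_prime_orderOf_dvd_card' (G := H) r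
    (by rw [hcard]; exact dvd_mul_of_dvd_right hrq p)
  have hyo : orderOf (y : H) = p := by rw [Subgroup.orderOf_coe, hy]
  have hcomm : Commute x (y : H) := by
    have := hcentral x y
    show x * (y : H) = y * x
    calc x * (y : H) = (x * y * x⁻¹) * x := by group
      _ = y * x := by rw [this]
  refine ⟨x * y, ?_⟩
  rw [hcomm.orderOf_mul_eq_mul_orderOf_of_coprime, hx, hyo, mul_comm]
  rw [hx, hyo]
  exact (Nat.coprime_primes hr hp).mpr hpr.symm

theorem exists_mem_dvd_of_prime_dvd_lcm (s : Multiset ℕ) (p : ℕ) (hp : p.Prime)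
    (h : p ∣ s.lcm) : ∃ a ∈ s, p ∣ a := by
  induction s using Multiset.induction_on with
  | empty =>
    simp only [Multiset.lcm_zero, Nat.dvd_one] at h
    exact absurd h hp.one_lt.ne'
  | cons a s ih =>
    rw [Multiset.lcm_cons] at h
    have h1 : GCDMonoid.lcm a s.lcm ∣ a * s.lcm := by
      show Nat.lcm a s.lcm ∣ a * s.lcm
      exact Nat.lcm_dvd_mul a s.lcm
    rcases (hp.dvd_mul).mp (h.trans h1) with h2 | h2
    · exact ⟨a, Multiset.mem_cons_self a s, h2⟩
    · obtain ⟨b, hb, hpb⟩ := ih h2
      exact ⟨b, Multiset.mem_cons_of_mem hb, hpb⟩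

/-- Lemma V: no permutation of `n` points has order `p * r` when `p + r > n`. -/
theorem orderOf_ne_mul {n : ℕ} (σ : Equiv.Perm (Fin n)) (p r : ℕ) (hp : p.Prime) (hr : r.Prime)
    (hpr : p ≠ r) (hn : n < p + r) : orderOf σ ≠ p * r := by
  intro ho
  have hlcm := Equiv.Perm.lcm_cycleType σ
  rw [ho] at hlcm
  obtain ⟨a, ha, hpa⟩ := exists_mem_dvd_of_prime_dvd_lcm σ.cycleType p hp
    (by rw [hlcm]; exact dvd_mul_right _ _)
  obtain ⟨b, hb, hrb⟩ := exists_mem_dvd_of_prime_dvd_lcm σ.cycleType r hr
    (by rw [hlcm]; exact dvd_mul_left _ _)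
  have hsum : σ.cycleType.sum ≤ n := by
    rw [Equiv.Perm.sum_cycleType]
    exact (Finset.card_le_univ _).trans (by simp)
  have ha2 := Equiv.Perm.two_le_of_mem_cycleType ha
  have hb2 := Equiv.Perm.two_le_of_mem_cycleType hb
  have hpa' : p ≤ a := Nat.le_of_dvd (by omega) hpa
  have hrb' : r ≤ b := Nat.le_of_dvd (by omega) hrb
  by_cases hab : a = b
  · subst hab
    have h1 : p * r ∣ a :=
      Nat.Coprime.mul_dvd_of_dvd_of_dvd ((Nat.coprime_primes hp hr).mpr hpr) hpa hrb
    have h2 : p * r ≤ a := Nat.le_of_dvd (by omega) h1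
    have h3 : a ≤ σ.cycleType.sum := Multiset.le_sum_of_mem ha
    have hp2 := hp.two_le
    have hr2 := hr.two_le
    nlinarith
  · obtain ⟨t, ht⟩ := Multiset.exists_cons_of_mem ha
    rw [ht] at hb
    rcases Multiset.mem_cons.mp hb with h | h
    · exact hab h.symm
    · obtain ⟨u, hu⟩ := Multiset.exists_cons_of_mem h
      rw [ht, hu, Multiset.sum_cons, Multiset.sum_cons] at hsum
      omega


theorem factorization_factorial_eq_one {n p : ℕ} (hp : p.Prime) (h1 : p ≤ n) (h2 : n < 2 * p) :
    (n !).factorization p = 1 := by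
  have : Fact p.Prime := ⟨hp⟩
  rw [Nat.factorization_def _ hp]
  obtain ⟨k, rfl⟩ : ∃ k, n = p * 1 + k := ⟨n - p, by omega⟩
  rw [padicValNat_factorial_mul_add 1 (by omega : k < p), padicValNat_factorial_mul]
  simp

/-- the core contradiction -/
theorem core {G : Type*} [Group G] [Finite G] (n : ℕ)
    (hspec : Set.range (orderOf : G → ℕ) =
      Set.range (orderOf : ↥(alternatingGroup (Fin n)) → ℕ))
    (hs : Group.IsSolvable G) (p q r k : ℕ) (hp : p.Prime) (hr : r.Prime)
    (hG : Nat.card G = (p * q) * k) (hcop : Nat.Coprime (p * q) k)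
    (hpq : ¬ p ∣ q) (hrq : r ∣ q)
    (hdiv : ∀ d, d ∣ q → d % p = 1 → d = 1) (hgcd : Nat.Coprime q (p - 1))
    (hn : n < p + r) : False := by
  obtain ⟨H, hHcard, -⟩ := Cfsg.Agent.Lib.Helper1.hallDom_all G hs (p * q) k hG hcop ⊥
    (by rw [Subgroup.card_bot]; exact Nat.coprime_one_left _)
  obtain ⟨h, hh⟩ := exists_orderOf_eq_mul (H := H) p q r hp hr hHcard hpq hrq hdiv hgcd
  have h1 : p * r ∈ Set.range (orderOf : G → ℕ) := ⟨(h : G), by rw [Subgroup.orderOf_coe, hh]⟩
  rw [hspec] at h1
  obtain ⟨σ, hσ⟩ := h1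
  have hpr : p ≠ r := by
    rintro rfl; exact hpq hrq
  refine orderOf_ne_mul (σ : Equiv.Perm (Fin n)) p r hp hr hpr hn ?_
  rw [Subgroup.orderOf_coe, hσ]

theorem not_solvable_of_spec {G : Type*} [Group G] [Finite G] (n : ℕ) (hn : 5 ≤ n)
    (hcard : Nat.card G = Nat.card ↥(alternatingGroup (Fin n)))
    (hspec : Set.range (orderOf : G → ℕ) =
      Set.range (orderOf : ↥(alternatingGroup (Fin n)) → ℕ)) :
    ¬ Group.IsSolvable G := by
  intro hs
  have : Nontrivial (Fin n) := Fin.nontrivial_iff_two_le.mpr (by omega)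
  have hc : Nat.card G = n ! / 2 := by
    rw [hcard, nat_card_alternatingGroup, Nat.card_fin]
  have h2 : 2 * Nat.card G = n ! := by
    rw [hc]
    exact Nat.mul_div_cancel' (Nat.prime_two.dvd_factorial.mpr (by omega))
  by_cases h6 : n = 6
  · subst h6
    have hG : Nat.card G = (5 * 9) * 8 := by rw [hc]; decide
    refine core 6 hspec hs 5 9 3 8 (by norm_num) (by norm_num) hG (by norm_num) (by norm_num)
      (by norm_num) ?_ (by norm_num) (by norm_num)
    intro d hd hd5
    have := Nat.le_of_dvd (by norm_num) hd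
    interval_cases d <;> simp_all
  by_cases h10 : n = 10
  · subst h10
    have hG : Nat.card G = (7 * 25) * 10368 := by rw [hc]; decide
    refine core 10 hspec hs 7 25 5 10368 (by norm_num) (by norm_num) hG (by norm_num) (by norm_num)
      (by norm_num) ?_ (by norm_num) (by norm_num)
    intro d hd hd7
    have := Nat.le_of_dvd (by norm_num) hd
    interval_cases d <;> simp_all
  obtain ⟨p, r, hp, hr, hrp, hpn, hnr⟩ :=
    Cfsg.Agent.Lib.Helper98.TwoPrimes.exists_two_primes_half n (by omega)
  have hr3 : 3 ≤ r := by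
    have := hr.two_le
    by_contra hlt
    have : r = 2 := by omega
    omega
  have hr_odd : r % 2 = 1 := by
    rcases hr.eq_two_or_odd with h | h
    · omega
    · exact h
  have hp_odd : p % 2 = 1 := by
    rcases hp.eq_two_or_odd with h | h
    · omega
    · exact h
  have hfp : (n !).factorization p = 1 := factorization_factorial_eq_one hp hpn (by omega)
  have hfr : (n !).factorization r = 1 := factorization_factorial_eq_one hr (by omega) hnr
  have hGpos : Nat.card G ≠ 0 := Nat.card_pos.ne'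
  have hfacG : ∀ ℓ : ℕ, ℓ.Prime → ℓ ≠ 2 → (Nat.card G).factorization ℓ = (n !).factorization ℓ := by
    intro ℓ hℓ hℓ2
    rw [← h2, Nat.factorization_mul (by norm_num) hGpos, Finsupp.add_apply,
      Nat.factorization_eq_zero_of_not_dvd (fun h => hℓ2 ((Nat.prime_dvd_prime_iff_eq hℓ
        Nat.prime_two).mp h)), zero_add]
  have hGp : (Nat.card G).factorization p = 1 := by rw [hfacG p hp (by omega), hfp]
  have hGr : (Nat.card G).factorization r = 1 := by rw [hfacG r hr (by omega), hfr]
  have hpG : p ∣ Nat.card G := by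
    rw [hp.dvd_iff_one_le_factorization hGpos, hGp]
  have hrG : r ∣ Nat.card G := by
    rw [hr.dvd_iff_one_le_factorization hGpos, hGr]
  have hprne : p ≠ r := by omega
  have hprG : p * r ∣ Nat.card G :=
    Nat.Coprime.mul_dvd_of_dvd_of_dvd ((Nat.coprime_primes hp hr).mpr hprne) hpG hrG
  obtain ⟨k, hk⟩ := hprG
  have hpk : ¬ p ∣ k := by
    intro h
    have : p ^ 2 ∣ Nat.card G := by
      rw [hk, pow_two]
      obtain ⟨j, rfl⟩ := h
      exact ⟨r * j, by ring⟩
    rw [hp.pow_dvd_iff_le_factorization hGpos, hGp] at this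
    omega
  have hrk : ¬ r ∣ k := by
    intro h
    have : r ^ 2 ∣ Nat.card G := by
      rw [hk, pow_two]
      obtain ⟨j, rfl⟩ := h
      exact ⟨p * j, by ring⟩
    rw [hr.pow_dvd_iff_le_factorization hGpos, hGr] at this
    omega
  refine core n hspec hs p r r k hp hr hk ?_ ?_ (dvd_refl r) ?_ ?_ (by omega)
  · exact Nat.Coprime.mul_left ((Nat.Prime.coprime_iff_not_dvd hp).mpr hpk)
      ((Nat.Prime.coprime_iff_not_dvd hr).mpr hrk)
  · intro h
    have := Nat.le_of_dvd hr.pos h
    omega
  · intro d hd hd1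
    rcases (Nat.dvd_prime hr).mp hd with h | h
    · exact h
    · subst h
      rw [Nat.mod_eq_of_lt hrp] at hd1
      omega
  · rw [Nat.Prime.coprime_iff_not_dvd hr]
    rintro ⟨j, hj⟩
    have hj0 : j ≠ 0 := by
      rintro rfl
      omega
    have hj1 : j ≠ 1 := by
      rintro rfl
      omega
    have : 2 ≤ j := by omega
    have : 2 * r ≤ r * j := by nlinarith
    omega

end Cfsg.Agent.Lib.Helper98.SpecAlt
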