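import Mathlib
import Cfsg.Agent.Lib.Helper98.SpecAlt
import Cfsg.Agent.Lib.Helper30.PPrimeCore

set_option autoImplicit false

namespace Cfsg.Agent.Lib.Helper98.SpecAlt2

open Nat Cfsg.Agent.Lib.Helper98.SpecAlt
open scoped Pointwise

/-- Lemma X: an element of prime order `a` normalizing a subgroup of prime order `b`, with
`a ∤ b - 1`, gives an element of order `a * b`. -/
theorem exists_orderOf_mul_of_normalizer {G : Type*} [Group G] [Finite G] (C : Subgroup G)
    (a b : ℕ) (ha : a.Prime) (hb : b.Prime) (hab : a ≠ b) (hnd : ¬ a ∣ b - 1)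
    (hC : Nat.card C = b) (x : G) (hx : x ∈ Subgroup.normalizer (C : Set G))
    (hxo : orderOf x = a) : ∃ g : G, orderOf g = a * b := by
  have : Fact b.Prime := ⟨hb⟩
  have : IsCyclic C := isCyclic_of_prime_card hC
  have hautcard : Nat.card (MulAut C) = b - 1 := by
    rw [IsCyclic.card_mulAut, hC, Nat.totient_prime hb]
  set ψ := C.normalizerMonoidHom with hψ
  have h1 : orderOf (ψ ⟨x, hx⟩) ∣ a := by
    have := orderOf_map_dvd ψ ⟨x, hx⟩
    rwa [Subgroup.orderOf_mk, hxo] at this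
  have h2 : orderOf (ψ ⟨x, hx⟩) ∣ b - 1 := by
    rw [← hautcard]; exact orderOf_dvd_natCard _
  have h3 : orderOf (ψ ⟨x, hx⟩) = 1 := by
    rcases (Nat.dvd_prime ha).mp h1 with h | h
    · exact h
    · rw [h] at h2; exact absurd h2 hnd
  rw [orderOf_eq_one_iff] at h3
  obtain ⟨c, hc⟩ := exists_prime_orderOf_dvd_card' (G := C) b (by rw [hC])
  have hco : orderOf (c : G) = b := by rw [Subgroup.orderOf_coe, hc]
  have hcomm : Commute x (c : G) := by
    have h4 := congrArg (fun f : MulAut C => ((f c : C) : G)) h3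
    simp only [hψ, Subgroup.normalizerMonoidHom_apply_apply_coe, MulAut.one_apply] at h4
    show x * (c : G) = c * x
    calc x * (c : G) = (x * c * x⁻¹) * x := by group
      _ = c * x := by rw [h4]
  refine ⟨x * c, ?_⟩
  rw [hcomm.orderOf_mul_eq_mul_orderOf_of_coprime, hxo, hco]
  rw [hxo, hco]
  exact (Nat.coprime_primes ha hb).mpr hab

/-- Lemma Z: element orders of a quotient are element orders of the group. -/
theorem exists_orderOf_of_quotient {G : Type*} [Group G] [Finite G] (N : Subgroup G) [N.Normal]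
    (y : G ⧸ N) : ∃ g : G, orderOf g = orderOf y := by
  obtain ⟨g, rfl⟩ := QuotientGroup.mk'_surjective N y
  have hdvd : orderOf (QuotientGroup.mk' N g) ∣ orderOf g := orderOf_map_dvd _ g
  obtain ⟨t, ht⟩ := hdvd
  have hpos : 0 < orderOf g := orderOf_pos g
  have ht0 : t ≠ 0 := by
    rintro rfl; omega
  refine ⟨g ^ t, ?_⟩
  rw [orderOf_pow_of_dvd ht0 ⟨_, by rw [ht, mul_comm]⟩, ht, Nat.mul_div_cancel _ (Nat.pos_of_ne_zero ht0)]

/-- In a group whose order is divisible by `p` exactly once, a normal subgroup of order divisible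
by `p` contains every element of order `p`. -/
theorem mem_of_orderOf_eq_prime_of_normal {S : Type*} [Group S] [Finite S] (p : ℕ)
    [hp : Fact p.Prime] (hS : (Nat.card S).factorization p = 1) (M : Subgroup S) [hM : M.Normal]
    (hpM : p ∣ Nat.card M) (w : S) (hw : orderOf w = p) : w ∈ M := by
  obtain ⟨m, hm⟩ := exists_prime_orderOf_dvd_card' (G := M) p hpM
  have hmo : orderOf (m : S) = p := by rw [Subgroup.orderOf_coe, hm]
  have hc1 : Nat.card (Subgroup.zpowers (m : S)) = p ^ (Nat.card S).factorization p := by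
    rw [Nat.card_zpowers, hmo, hS, pow_one]
  have hc2 : Nat.card (Subgroup.zpowers w) = p ^ (Nat.card S).factorization p := by
    rw [Nat.card_zpowers, hw, hS, pow_one]
  let Q₁ : Sylow p S := Sylow.ofCard _ hc1
  let Q₂ : Sylow p S := Sylow.ofCard _ hc2
  obtain ⟨k, hk⟩ := MulAction.exists_smul_eq S Q₁ Q₂
  have hw2 : w ∈ (Q₂ : Subgroup S) := by
    show w ∈ Subgroup.zpowers w
    exact Subgroup.mem_zpowers w
  rw [← hk, Sylow.smul_def] at hw2
  have hw3 : w ∈ MulAut.conj k • (Q₁ : Subgroup S) := hw2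
  rw [Subgroup.mem_pointwise_smul_iff_inv_smul_mem] at hw3
  have hw4 : (MulAut.conj k)⁻¹ • w ∈ Subgroup.zpowers (m : S) := hw3
  have hle : Subgroup.zpowers (m : S) ≤ M := by
    rw [Subgroup.zpowers_le]; exact m.2
  have hw5 := hle hw4
  have hw6 : k * ((MulAut.conj k)⁻¹ • w) * k⁻¹ ∈ M := hM.conj_mem _ hw5 k
  have : k * ((MulAut.conj k)⁻¹ • w) * k⁻¹ = w := by
    simp [MulAut.smul_def, mul_assoc]
  rwa [this] at hw6


theorem factorization_eq_one_of_dvd {A B ℓ : ℕ} (hℓ : ℓ.Prime) (hAB : A ∣ B) (hB : B ≠ 0)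
    (hBℓ : B.factorization ℓ = 1) (hA : ℓ ∣ A) : A.factorization ℓ = 1 := by
  have hA0 : A ≠ 0 := fun h => hB (by rw [h] at hAB; exact Nat.eq_zero_of_zero_dvd hAB)
  have h1 : 1 ≤ A.factorization ℓ := (hℓ.dvd_iff_one_le_factorization hA0).mp hA
  have h2 : A.factorization ℓ ≤ B.factorization ℓ :=
    (Nat.factorization_le_iff_dvd hA0 hB).mpr hAB ℓ
  omega

theorem exists_simple_section {G : Type*} [Group G] [Finite G] (n : ℕ) (hn : 11 ≤ n)
    (hcard : Nat.card G = Nat.card ↥(alternatingGroup (Fin n)))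
    (hspec : Set.range (orderOf : G → ℕ) =
      Set.range (orderOf : ↥(alternatingGroup (Fin n)) → ℕ)) :
    ∃ (N H : Subgroup G) (_ : N.Normal), H.Normal ∧ N < H ∧
      IsSimpleGroup (↥H ⧸ N.subgroupOf H) ∧ ¬ IsMulCommutative (↥H ⧸ N.subgroupOf H) ∧
      ∀ p : ℕ, p.Prime → n < 2 * p → p ≤ n → p ∣ Nat.card (↥H ⧸ N.subgroupOf H) := by
  classical
  have : Nontrivial (Fin n) := Fin.nontrivial_iff_two_le.mpr (by omega)
  have hc : Nat.card G = n ! / 2 := by
    rw [hcard, nat_card_alternatingGroup, Nat.card_fin]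
  have h2 : 2 * Nat.card G = n ! := by
    rw [hc]
    exact Nat.mul_div_cancel' (Nat.prime_two.dvd_factorial.mpr (by omega))
  have hGpos : Nat.card G ≠ 0 := Nat.card_pos.ne'
  -- facts about the primes in `(n/2, n]`
  have hfac : ∀ ℓ : ℕ, ℓ.Prime → n < 2 * ℓ → ℓ ≤ n → (Nat.card G).factorization ℓ = 1 := by
    intro ℓ hℓ h1 h3
    have hℓ2 : ℓ ≠ 2 := by omega
    rw [← factorization_factorial_eq_one hℓ h3 h1, ← h2,
      Nat.factorization_mul (by norm_num) hGpos, Finsupp.add_apply,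
      Nat.factorization_eq_zero_of_not_dvd (fun h => hℓ2 ((Nat.prime_dvd_prime_iff_eq hℓ
        Nat.prime_two).mp h)), zero_add]
  have hodd : ∀ ℓ : ℕ, ℓ.Prime → n < 2 * ℓ → ℓ % 2 = 1 := by
    intro ℓ hℓ h1
    rcases hℓ.eq_two_or_odd with h | h
    · omega
    · exact h
  have hnd : ∀ ℓ ℓ' : ℕ, ℓ.Prime → ℓ'.Prime → n < 2 * ℓ → ℓ ≤ n → n < 2 * ℓ' → ℓ' ≤ n →
      ¬ ℓ ∣ ℓ' - 1 := by
    intro ℓ ℓ' hℓ hℓ' h1 h3 h1' h3'
    rintro ⟨j, hj⟩
    have ho := hodd ℓ hℓ h1
    have ho' := hodd ℓ' hℓ' h1'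
    have hj0 : j ≠ 0 := by
      rintro rfl
      have := hℓ'.two_le
      omega
    have hj1 : j ≠ 1 := by
      rintro rfl
      omega
    have : 2 ≤ j := by omega
    have : 2 * ℓ ≤ ℓ * j := by nlinarith
    omega
  have hno : ∀ ℓ ℓ' : ℕ, ℓ.Prime → ℓ'.Prime → n < 2 * ℓ → n < 2 * ℓ' → ℓ ≠ ℓ' →
      ∀ g : G, orderOf g ≠ ℓ * ℓ' := by
    intro ℓ ℓ' hℓ hℓ' h1 h1' hne g hg
    have h4 : ℓ * ℓ' ∈ Set.range (orderOf : G → ℕ) := ⟨g, hg⟩
    rw [hspec] at h4
    obtain ⟨σ, hσ⟩ := h4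
    refine orderOf_ne_mul (σ : Equiv.Perm (Fin n)) ℓ ℓ' hℓ hℓ' hne (by omega) ?_
    rw [Subgroup.orderOf_coe, hσ]
  obtain ⟨p, r₀, hp, hr₀, hr₀p, hpn, hnr₀⟩ :=
    Cfsg.Agent.Lib.Helper98.TwoPrimes.exists_two_primes_half n (Or.inl hn)
  have hp1 : n < 2 * p := by omega
  have hr₀n : r₀ ≤ n := by omega
  have : Fact p.Prime := ⟨hp⟩
  set N := Cfsg.pPrimeCore p G with hNdef
  have hNcop : (Nat.card N).Coprime p := Cfsg.Agent.Lib.Helper30.pPrimeCore_card_coprime p
  have hQcore : Cfsg.pPrimeCore p (G ⧸ N) = ⊥ :=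
    Cfsg.Agent.Lib.Helper30.pPrimeCore_quotient_eq_bot p
  have hcardQ : Nat.card N * Nat.card (G ⧸ N) = Nat.card G := Subgroup.card_mul_index N
  have hpG : p ∣ Nat.card G := by
    rw [hp.dvd_iff_one_le_factorization hGpos, hfac p hp hp1 hpn]
  have hpN : ¬ p ∣ Nat.card N := by
    intro h
    have := Nat.Coprime.eq_one_of_dvd hNcop.symm h
    exact hp.one_lt.ne' this
  have hpQ : p ∣ Nat.card (G ⧸ N) := by
    rw [← hcardQ] at hpG
    exact (hp.dvd_mul.mp hpG).resolve_left hpN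
  -- a minimal normal subgroup of the quotient
  set S : Set (Subgroup (G ⧸ N)) := {L | L.Normal ∧ L ≠ ⊥} with hS
  have hne : S.Nonempty := by
    refine ⟨⊤, inferInstance, ?_⟩
    intro h
    have h1 : Nat.card (⊤ : Subgroup (G ⧸ N)) = 1 := by rw [h, Subgroup.card_bot]
    rw [Subgroup.card_top] at h1
    rw [h1] at hpQ
    exact hp.one_lt.ne' (Nat.dvd_one.mp hpQ)
  obtain ⟨K, hK⟩ := (Set.toFinite S).exists_minimal hne
  have hKn : K.Normal := hK.prop.1
  have hKbot : K ≠ ⊥ := hK.prop.2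
  have hKmin : ∀ L : Subgroup (G ⧸ N), L.Normal → L ≤ K → L = ⊥ ∨ L = K := by
    intro L hL hLK
    by_cases hLb : L = ⊥
    · exact Or.inl hLb
    · exact Or.inr (le_antisymm hLK (hK.le_of_le ⟨hL, hLb⟩ hLK))
  have hpK : p ∣ Nat.card K := by
    by_contra h
    have hcop : (Nat.card K).Coprime p := (Nat.Coprime.symm ((Nat.Prime.coprime_iff_not_dvd hp).mpr h))
    have := Cfsg.Agent.Lib.Helper30.le_pPrimeCore p K hcop
    rw [hQcore] at this
    exact hKbot (le_bot_iff.mp this)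
  have hQdvd : Nat.card (G ⧸ N) ∣ Nat.card G := ⟨Nat.card N, by rw [← hcardQ, mul_comm]⟩
  have hKdvdG : Nat.card K ∣ Nat.card G := (Subgroup.card_subgroup_dvd_card K).trans hQdvd
  have hfacK : (Nat.card K).factorization p = 1 :=
    factorization_eq_one_of_dvd hp hKdvdG hGpos (hfac p hp hp1 hpn) hpK
  -- every prime in `(n/2, n]` divides `|K|`
  have hall : ∀ ℓ : ℕ, ℓ.Prime → n < 2 * ℓ → ℓ ≤ n → ℓ ∣ Nat.card K := by
    intro ℓ hℓ h1 h3
    by_cases hℓp : ℓ = p
    · rw [hℓp]; exact hpK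
    by_contra hℓK
    have : Fact ℓ.Prime := ⟨hℓ⟩
    have hℓG : ℓ ∣ Nat.card G := by
      rw [hℓ.dvd_iff_one_le_factorization hGpos, hfac ℓ hℓ h1 h3]
    by_cases hℓQ : ℓ ∣ Nat.card (G ⧸ N)
    · -- Frattini argument in the quotient
      let P : Sylow p K := default
      set P' : Subgroup (G ⧸ N) := (P : Subgroup K).map K.subtype with hP'
      have hP'card : Nat.card P' = p := by
        rw [hP', Subgroup.card_map_of_injective K.subtype_injective, P.card_eq_multiplicity,
          hfacK, pow_one]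
      have hfr : Subgroup.normalizer (P' : Set (G ⧸ N)) ⊔ K = ⊤ := Sylow.normalizer_sup_eq_top P
      have hdvd := Cfsg.Agent.Lib.Helper30.card_sup_dvd_mul
        (Subgroup.normalizer (P' : Set (G ⧸ N))) K
      rw [hfr, Subgroup.card_top] at hdvd
      have hℓn : ℓ ∣ Nat.card (Subgroup.normalizer (P' : Set (G ⧸ N))) :=
        (hℓ.dvd_mul.mp (hℓQ.trans hdvd)).resolve_right hℓK
      obtain ⟨x, hx⟩ := exists_prime_orderOf_dvd_card'
        (G := Subgroup.normalizer (P' : Set (G ⧸ N))) ℓ hℓn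
      have hxo : orderOf (x : G ⧸ N) = ℓ := by rw [Subgroup.orderOf_coe, hx]
      obtain ⟨y, hy⟩ := exists_orderOf_mul_of_normalizer P' ℓ p hℓ hp hℓp
        (hnd ℓ p hℓ hp h1 h3 hp1 hpn) hP'card (x : G ⧸ N) x.2 hxo
      obtain ⟨g, hg⟩ := exists_orderOf_of_quotient N y
      exact hno ℓ p hℓ hp h1 hp1 hℓp g (by rw [hg, hy])
    · -- Frattini argument in `G`
      have hℓN : ℓ ∣ Nat.card N := by
        rw [← hcardQ] at hℓG
        exact (hℓ.dvd_mul.mp hℓG).resolve_right hℓQ
      let R : Sylow ℓ N := default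
      set R' : Subgroup G := (R : Subgroup N).map N.subtype with hR'
      have hNdvd : Nat.card N ∣ Nat.card G := Subgroup.card_subgroup_dvd_card N
      have hR'card : Nat.card R' = ℓ := by
        rw [hR', Subgroup.card_map_of_injective N.subtype_injective, R.card_eq_multiplicity,
          factorization_eq_one_of_dvd hℓ hNdvd hGpos (hfac ℓ hℓ h1 h3) hℓN, pow_one]
      have hfr : Subgroup.normalizer (R' : Set G) ⊔ N = ⊤ := Sylow.normalizer_sup_eq_top R
      have hdvd := Cfsg.Agent.Lib.Helper30.card_sup_dvd_mul (Subgroup.normalizer (R' : Set G)) N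
      rw [hfr, Subgroup.card_top] at hdvd
      have hpn' : p ∣ Nat.card (Subgroup.normalizer (R' : Set G)) :=
        (hp.dvd_mul.mp (hpG.trans hdvd)).resolve_right hpN
      obtain ⟨x, hx⟩ := exists_prime_orderOf_dvd_card'
        (G := Subgroup.normalizer (R' : Set G)) p hpn'
      have hxo : orderOf (x : G) = p := by rw [Subgroup.orderOf_coe, hx]
      obtain ⟨g, hg⟩ := exists_orderOf_mul_of_normalizer R' p ℓ hp hℓ (Ne.symm hℓp)
        (hnd p ℓ hp hℓ hp1 hpn h1 h3) hR'card (x : G) x.2 hxo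
      exact hno p ℓ hp hℓ hp1 h1 (Ne.symm hℓp) g hg
  -- an element of order `p` in `K`
  obtain ⟨z, hz⟩ := exists_prime_orderOf_dvd_card' (G := K) p hpK
  have hzo : orderOf (z : G ⧸ N) = p := by rw [Subgroup.orderOf_coe, hz]
  have hz1 : (z : G ⧸ N) ≠ 1 := by
    intro h
    rw [h, orderOf_one] at hzo
    exact hp.one_lt.ne hzo
  -- `K` is simple
  have hKnt : Nontrivial K := (Subgroup.nontrivial_iff_ne_bot K).mpr hKbot
  have hKsimple : IsSimpleGroup K := by
    refine @IsSimpleGroup.mk K _ hKnt (fun M hM => ?_)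
    by_contra hcon
    push Not at hcon
    obtain ⟨hMbot, hMtop⟩ := hcon
    by_cases hpM : p ∣ Nat.card M
    · set M' : Subgroup (G ⧸ N) := M.map K.subtype with hM'
      have hM'K : M' ≤ K := by
        rw [hM']; exact Subgroup.map_subtype_le M
      have hzC : (z : G ⧸ N) ∈ M'.normalCore := by
        intro b
        have hwK : b * (z : G ⧸ N) * b⁻¹ ∈ K := hKn.conj_mem _ z.2 b
        have hwo : orderOf (⟨b * (z : G ⧸ N) * b⁻¹, hwK⟩ : K) = p := by
          rw [Subgroup.orderOf_mk]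
          have := MulEquiv.orderOf_eq (MulAut.conj b) (z : G ⧸ N)
          rw [hzo, MulAut.conj_apply] at this
          exact this
        have := mem_of_orderOf_eq_prime_of_normal p hfacK M hpM _ hwo
        exact ⟨_, this, rfl⟩
      rcases hKmin M'.normalCore inferInstance ((Subgroup.normalCore_le M').trans hM'K) with h | h
      · rw [h, Subgroup.mem_bot] at hzC
        exact hz1 hzC
      · apply hMtop
        rw [eq_top_iff]
        intro k _
        have hk : (k : G ⧸ N) ∈ M' := by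
          have : (k : G ⧸ N) ∈ M'.normalCore := by rw [h]; exact k.2
          exact Subgroup.normalCore_le M' this
        obtain ⟨m, hm, hmk⟩ := hk
        have : m = k := Subtype.ext hmk
        rwa [this] at hm
    · have hcop : (Nat.card M).Coprime p :=
        (Nat.Coprime.symm ((Nat.Prime.coprime_iff_not_dvd hp).mpr hpM))
      have h1 := Cfsg.Agent.Lib.Helper30.le_pPrimeCore p M hcop
      have h2 := Cfsg.Agent.Lib.Helper30.pPrimeCore_normal_le p K
      rw [hQcore] at h2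
      apply hMbot
      rw [eq_bot_iff]
      intro m hm
      have : (m : G ⧸ N) ∈ (⊥ : Subgroup (G ⧸ N)) := h2 ⟨m, h1 hm, rfl⟩
      rw [Subgroup.mem_bot] at this
      rw [Subgroup.mem_bot]
      exact Subtype.ext this
  -- `K` is not commutative
  have hKnc : ¬ (∀ a b : K, a * b = b * a) := by
    intro hcomm
    have hcomm' : ∀ a ∈ K, ∀ b ∈ K, a * b = b * a := fun a ha b hb =>
      congrArg Subtype.val (hcomm ⟨a, ha⟩ ⟨b, hb⟩)
    let T : Subgroup (G ⧸ N) :=
      { carrier := {k | k ∈ K ∧ k ^ p = 1}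
        mul_mem' := by
          rintro a b ⟨ha, ha'⟩ ⟨hb, hb'⟩
          refine ⟨K.mul_mem ha hb, ?_⟩
          have : Commute a b := hcomm' a ha b hb
          rw [this.mul_pow, ha', hb', one_mul]
        one_mem' := ⟨K.one_mem, one_pow _⟩
        inv_mem' := by
          rintro a ⟨ha, ha'⟩
          exact ⟨K.inv_mem ha, by rw [inv_pow, ha', inv_one]⟩ }
    have hTn : T.Normal := by
      constructor
      rintro k ⟨hk, hk'⟩ g
      refine ⟨hKn.conj_mem k hk g, ?_⟩
      rw [conj_pow, hk', mul_one, mul_inv_cancel]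
    have hTK : T ≤ K := fun k hk => hk.1
    have hzT : (z : G ⧸ N) ∈ T := by
      refine ⟨z.2, ?_⟩
      have := pow_orderOf_eq_one (z : G ⧸ N)
      rw [hzo] at this
      exact this
    rcases hKmin T hTn hTK with h | h
    · rw [h, Subgroup.mem_bot] at hzT
      exact hz1 hzT
    · have : Fact r₀.Prime := ⟨hr₀⟩
      obtain ⟨x, hx⟩ := exists_prime_orderOf_dvd_card' (G := K) r₀ (hall r₀ hr₀ hnr₀ hr₀n)
      have hxo : orderOf (x : G ⧸ N) = r₀ := by rw [Subgroup.orderOf_coe, hx]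
      have hxT : (x : G ⧸ N) ∈ T := by rw [h]; exact x.2
      have := orderOf_dvd_of_pow_eq_one hxT.2
      rw [hxo] at this
      have := (Nat.prime_dvd_prime_iff_eq hr₀ hp).mp this
      omega
  -- assemble
  set H : Subgroup G := K.comap (QuotientGroup.mk' N) with hH
  have hHn : H.Normal := hKn.comap _
  have hNH : N ≤ H := Cfsg.Agent.Lib.Helper30.le_comap_mk' N K
  have hNneH : N ≠ H := by
    intro h
    apply hKbot
    rw [eq_bot_iff]
    intro k hk
    obtain ⟨g, rfl⟩ := QuotientGroup.mk'_surjective N k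
    have hgH : g ∈ H := hk
    rw [← h] at hgH
    rw [Subgroup.mem_bot]
    exact (QuotientGroup.eq_one_iff g).mpr hgH
  set ψ : ↥H →* ↥K := (QuotientGroup.mk' N).subgroupComap K with hψ
  have hψs : Function.Surjective ψ :=
    MonoidHom.subgroupComap_surjective_of_surjective _ _ (QuotientGroup.mk'_surjective N)
  have hker : ψ.ker = N.subgroupOf H := by
    ext h
    rw [MonoidHom.mem_ker, Subgroup.mem_subgroupOf]
    constructor
    · intro h1
      have := congrArg Subtype.val h1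
      exact (QuotientGroup.eq_one_iff (h : G)).mp this
    · intro h1
      apply Subtype.ext
      exact (QuotientGroup.eq_one_iff (h : G)).mpr h1
  have hNn : N.Normal := inferInstance
  let e : ↥H ⧸ N.subgroupOf H ≃* ↥K :=
    (QuotientGroup.quotientMulEquivOfEq hker.symm).trans
      (QuotientGroup.quotientKerEquivOfSurjective ψ hψs)
  refine ⟨N, H, hNn, hHn, lt_of_le_of_ne hNH hNneH, e.isSimpleGroup, ?_, ?_⟩
  · intro hc
    apply hKnc
    intro a b
    have := hc.is_comm.comm (e.symm a) (e.symm b)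
    have h3 := congrArg e this
    simpa using h3
  · intro ℓ hℓ h1 h3
    rw [Nat.card_congr e.toEquiv]
    exact hall ℓ hℓ h1 h3

end Cfsg.Agent.Lib.Helper98.SpecAlt2
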