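import Mathlib
import Cfsg.Agent.Lib.Helper98.Basic

set_option autoImplicit false

namespace Cfsg.Agent.Lib.Helper98

open MulAction Equiv
open scoped Pointwise

variable {Ω : Type*} {b : ℕ}

/-- Permutations preserving the partition of `Ω` into the fibres of `f`. -/
def partStab (f : Ω → Fin b) : Subgroup (Perm Ω) where
  carrier := {g | ∀ x y, f x = f y ↔ f (g x) = f (g y)}
  one_mem' := by
    intro x y
    simp
  mul_mem' := by
    intro g h hg hh x y
    rw [hh x y, hg (h x) (h y)]
    rfl
  inv_mem' := by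
    intro g hg x y
    have := hg (g⁻¹ x) (g⁻¹ y)
    simp only [Equiv.Perm.coe_inv, Equiv.apply_symm_apply] at this
    exact this.symm

theorem mem_partStab (f : Ω → Fin b) (g : Perm Ω) :
    g ∈ partStab f ↔ ∀ x y, f x = f y ↔ f (g x) = f (g y) := Iff.rfl

theorem closure_partStab (f : Ω → Fin b) :
    Subgroup.closure {g : Perm Ω | ∀ x y, f x = f y ↔ f (g x) = f (g y)} = partStab f :=
  Subgroup.closure_eq (partStab f)

theorem mem_partStab_of_perm (f : Ω → Fin b) (g : Perm Ω) (σ : Perm (Fin b))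
    (h : ∀ x, f (g x) = σ (f x)) : g ∈ partStab f := by
  intro x y
  rw [h, h]
  exact σ.injective.eq_iff.symm

theorem swap_mem_partStab [DecidableEq Ω] (f : Ω → Fin b) {x y : Ω} (h : f x = f y) :
    swap x y ∈ partStab f := by
  apply mem_partStab_of_perm f _ 1
  intro z
  simp only [Perm.coe_one, id_eq]
  by_cases hzx : z = x
  · rw [hzx, swap_apply_left, h]
  by_cases hzy : z = y
  · rw [hzy, swap_apply_right, h]
  rw [swap_apply_of_ne_of_ne hzx hzy]

/-- A permutation interchanging two fibres of the same size and fixing everything else. -/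
theorem exists_fibreSwap [Finite Ω] (f : Ω → Fin b) (i j : Fin b) (hij : i ≠ j)
    (hcard : Nat.card {x // f x = i} = Nat.card {x // f x = j}) :
    ∃ τ ∈ partStab f, (∀ x, f (τ x) = swap i j (f x)) ∧ (∀ x, f x ≠ i → f x ≠ j → τ x = x) := by
  classical
  obtain ⟨e⟩ := Finite.card_eq.mp hcard
  let t : Ω → Ω := fun x =>
    if h : f x = i then (e ⟨x, h⟩).1 else if h' : f x = j then (e.symm ⟨x, h'⟩).1 else x
  have ht1 : ∀ x (h : f x = i), t x = (e ⟨x, h⟩).1 := by
    intro x h
    simp only [t, dif_pos h]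
  have ht2 : ∀ x (h : f x = j), t x = (e.symm ⟨x, h⟩).1 := by
    intro x h
    have hne : f x ≠ i := fun h' => hij (h'.symm.trans h)
    simp only [t, dif_neg hne, dif_pos h]
  have ht3 : ∀ x, f x ≠ i → f x ≠ j → t x = x := by
    intro x h1 h2
    simp only [t, dif_neg h1, dif_neg h2]
  have hft : ∀ x, f (t x) = swap i j (f x) := by
    intro x
    by_cases h1 : f x = i
    · rw [ht1 x h1, h1, swap_apply_left]
      exact (e ⟨x, h1⟩).2
    by_cases h2 : f x = j
    · rw [ht2 x h2, h2, swap_apply_right]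
      exact (e.symm ⟨x, h2⟩).2
    rw [ht3 x h1 h2, swap_apply_of_ne_of_ne h1 h2]
  have hinv : Function.Involutive t := by
    intro x
    by_cases h1 : f x = i
    · have h3 : f (t x) = j := by rw [hft, h1, swap_apply_left]
      rw [ht2 (t x) h3]
      have : (⟨t x, h3⟩ : {x // f x = j}) = e ⟨x, h1⟩ := Subtype.ext (ht1 x h1)
      rw [this, Equiv.symm_apply_apply]
    by_cases h2 : f x = j
    · have h3 : f (t x) = i := by rw [hft, h2, swap_apply_right]
      rw [ht1 (t x) h3]
      have : (⟨t x, h3⟩ : {x // f x = i}) = e.symm ⟨x, h2⟩ := Subtype.ext (ht2 x h2)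
      rw [this, Equiv.apply_symm_apply]
    rw [ht3 x h1 h2, ht3 x h1 h2]
  refine ⟨hinv.toPerm t, ?_, ?_, ?_⟩
  · apply mem_partStab_of_perm f _ (swap i j)
    intro x
    exact hft x
  · intro x
    exact hft x
  · intro x h1 h2
    exact ht3 x h1 h2

/-- The partition stabilizer is transitive when all fibres have the same size. -/
theorem partStab_transitive [Finite Ω] (f : Ω → Fin b) (a : ℕ)
    (hf : ∀ i : Fin b, Nat.card {x : Ω // f x = i} = a) (x y : Ω) :
    ∃ w ∈ partStab f, w x = y := by
  classical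
  by_cases hxy : f x = f y
  · exact ⟨swap x y, swap_mem_partStab f hxy, swap_apply_left x y⟩
  · obtain ⟨τ, hτ, hτ1, -⟩ := exists_fibreSwap f (f x) (f y) hxy ((hf _).trans (hf _).symm)
    have h1 : f (τ x) = f y := by rw [hτ1, swap_apply_left]
    refine ⟨swap (τ x) y * τ, (partStab f).mul_mem (swap_mem_partStab f h1) hτ, ?_⟩
    rw [Perm.mul_apply, swap_apply_left]

end Cfsg.Agent.Lib.Helper98
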